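import Mathlib
import Cfsg.Prelude.Def_Solvable

/-!
Basic facts about `Cfsg.pPrimeCore p G = O_{p'}(G)` for a finite group (helper22's shared library).
-/

set_option autoImplicit false

namespace Cfsg.Agent.Lib.H22

variable {G : Type*} [Group G]

theorem pPrimeCore_normal (p : ℕ) : (Cfsg.pPrimeCore p G).Normal :=
  Subgroup.sSup_normal _ (fun _ h => h.1)

theorem le_pPrimeCore (p : ℕ) (N : Subgroup G) (hN : N.Normal) (h : (Nat.card N).Coprime p) :
    N ≤ Cfsg.pPrimeCore p G :=
  le_sSup ⟨hN, h⟩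

/-- the order of a join of two subgroups, one of them normal, divides the product of the orders -/
theorem card_sup_dvd_mul (A B : Subgroup G) [B.Normal] :
    Nat.card (A ⊔ B : Subgroup G) ∣ Nat.card A * Nat.card B := by
  have h1 : Nat.card B * B.relIndex (A ⊔ B) = Nat.card (A ⊔ B : Subgroup G) := by
    have := Subgroup.relIndex_mul_relIndex ⊥ B (A ⊔ B) bot_le le_sup_right
    rwa [Subgroup.relIndex_bot_left, Subgroup.relIndex_bot_left] at this
  rw [← h1, Subgroup.relIndex_sup_right, mul_comm]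
  exact Nat.mul_dvd_mul_right (Subgroup.relIndex_dvd_card B A) _

theorem card_pPrimeCore_coprime [Finite G] (p : ℕ) :
    (Nat.card (Cfsg.pPrimeCore p G)).Coprime p := by
  classical
  unfold Cfsg.pPrimeCore
  have hfin : {N : Subgroup G | N.Normal ∧ (Nat.card N).Coprime p}.Finite := Set.toFinite _
  have h : sSup {N : Subgroup G | N.Normal ∧ (Nat.card N).Coprime p} = hfin.toFinset.sup id := by
    rw [Finset.sup_id_eq_sSup]; simp
  rw [h]
  have key : (hfin.toFinset.sup id).Normal ∧ (Nat.card (hfin.toFinset.sup id : Subgroup G)).Coprime p := by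
    apply Finset.sup_induction (p := fun N : Subgroup G => N.Normal ∧ (Nat.card N).Coprime p)
    · refine ⟨inferInstance, ?_⟩
      rw [Subgroup.card_bot]; exact Nat.coprime_one_left p
    · rintro A ⟨hA, hAc⟩ B ⟨hB, hBc⟩
      refine ⟨inferInstance, ?_⟩
      exact Nat.Coprime.coprime_dvd_left (card_sup_dvd_mul A B) (Nat.Coprime.mul_left hAc hBc)
    · intro N hN
      exact (Set.Finite.mem_toFinset hfin).1 hN
  exact key.2

theorem not_dvd_card_pPrimeCore [Finite G] {p : ℕ} (hp : p.Prime) :
    ¬ p ∣ Nat.card (Cfsg.pPrimeCore p G) := by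
  intro h
  have := card_pPrimeCore_coprime (G := G) p
  have h1 : p ∣ Nat.gcd (Nat.card (Cfsg.pPrimeCore p G)) p := Nat.dvd_gcd h dvd_rfl
  rw [this] at h1
  exact hp.one_lt.ne' (Nat.dvd_one.1 h1)

/-- `O_{p'}` is invariant under automorphisms -/
theorem pPrimeCore_map_le [Finite G] (p : ℕ) (φ : G ≃* G) :
    (Cfsg.pPrimeCore p G).map φ.toMonoidHom ≤ Cfsg.pPrimeCore p G := by
  apply le_pPrimeCore
  · haveI := pPrimeCore_normal (G := G) p
    exact Subgroup.Normal.map inferInstance _ φ.surjective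
  · have : Nat.card ((Cfsg.pPrimeCore p G).map φ.toMonoidHom) = Nat.card (Cfsg.pPrimeCore p G) :=
      Nat.card_congr ((Cfsg.pPrimeCore p G).equivMapOfInjective φ.toMonoidHom φ.injective).toEquiv.symm
    rw [this]
    exact card_pPrimeCore_coprime p

end Cfsg.Agent.Lib.H22
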