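import Mathlib

set_option autoImplicit false

/-!
# Groups `G = M ⟨y⟩` with `M` abelian normal

`commutator G = { y b y⁻¹ b⁻¹ | b ∈ M }` and `|G'| * |C_M(y)| = |M|`.
-/

namespace Cfsg.Agent.Lib.H22

open scoped commutatorElement

/-- If generators of `Γ` commute modulo the normal subgroup `N`, then `Γ' ≤ N`. -/
theorem commutator_le_of_gens_comm {Γ : Type*} [Group Γ] (N : Subgroup Γ) [N.Normal] (S : Set Γ)
    (hS : Subgroup.closure S = ⊤) (h : ∀ s ∈ S, ∀ t ∈ S, s * t * s⁻¹ * t⁻¹ ∈ N) :
    commutator Γ ≤ N := by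
  let π := QuotientGroup.mk' N
  have hgen : Subgroup.closure (π '' S) = ⊤ := by
    rw [← MonoidHom.map_closure, hS, ← MonoidHom.range_eq_map,
      MonoidHom.range_eq_top.mpr (QuotientGroup.mk'_surjective N)]
  have hcomm : ∀ s ∈ S, ∀ t ∈ S, π s * π t = π t * π s := by
    intro s hs t ht
    have h1 : π (s * t * s⁻¹ * t⁻¹) = 1 := (QuotientGroup.eq_one_iff _).mpr (h s hs t ht)
    simp only [map_mul, map_inv] at h1
    calc π s * π t = (π s * π t * (π s)⁻¹ * (π t)⁻¹) * π t * π s := by group
      _ = π t * π s := by rw [h1, one_mul]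
  have hcen : π '' S ⊆ (Subgroup.center (Γ ⧸ N) : Set (Γ ⧸ N)) := by
    rintro _ ⟨s, hs, rfl⟩
    rw [SetLike.mem_coe, Subgroup.mem_center_iff]
    have hle : Subgroup.closure (π '' S) ≤ Subgroup.centralizer {π s} := by
      rw [Subgroup.closure_le]
      rintro _ ⟨t, ht, rfl⟩
      rw [SetLike.mem_coe, Subgroup.mem_centralizer_iff]
      intro y hy
      rw [Set.mem_singleton_iff] at hy
      subst hy
      exact hcomm s hs t ht
    intro g
    have hg : g ∈ Subgroup.centralizer {π s} := hle (hgen ▸ Subgroup.mem_top g)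
    rw [Subgroup.mem_centralizer_iff] at hg
    exact (hg (π s) rfl).symm
  have hcenter : Subgroup.center (Γ ⧸ N) = ⊤ := by
    rw [eq_top_iff, ← hgen, Subgroup.closure_le]
    exact hcen
  rw [commutator_def, Subgroup.commutator_le]
  intro g₁ _ g₂ _
  rw [← QuotientGroup.eq_one_iff, commutatorElement_def]
  simp only [QuotientGroup.mk_mul, QuotientGroup.mk_inv]
  have hc : (g₁ : Γ ⧸ N) ∈ Subgroup.center (Γ ⧸ N) := hcenter ▸ Subgroup.mem_top _
  rw [Subgroup.mem_center_iff] at hc
  rw [← hc (g₂ : Γ ⧸ N)]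
  group

section

variable {G : Type*} [Group G] (M : Subgroup G) [hMn : M.Normal]
  (hM : ∀ b ∈ M, ∀ c ∈ M, b * c = c * b) (y : G)

/-- The homomorphism `b ↦ y b y⁻¹ b⁻¹` on an abelian normal subgroup. -/
noncomputable def commHom : M →* G :=
  MonoidHom.mk' (fun b => y * (b : G) * y⁻¹ * (b : G)⁻¹) (by
    intro b c
    have hB : y * (b : G) * y⁻¹ ∈ M := hMn.conj_mem _ b.2 y
    have hC : y * (c : G) * y⁻¹ * (c : G)⁻¹ ∈ M := M.mul_mem (hMn.conj_mem _ c.2 y) (M.inv_mem c.2)
    have h1 := hM _ hC _ (M.inv_mem b.2)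
    calc y * ((b * c : M) : G) * y⁻¹ * ((b * c : M) : G)⁻¹
        = (y * (b : G) * y⁻¹) * ((y * (c : G) * y⁻¹ * (c : G)⁻¹) * (b : G)⁻¹) := by
          simp only [Subgroup.coe_mul]; group
      _ = (y * (b : G) * y⁻¹) * ((b : G)⁻¹ * (y * (c : G) * y⁻¹ * (c : G)⁻¹)) := by rw [h1]
      _ = _ := by group)

theorem commHom_apply (b : M) : commHom M hM y b = y * (b : G) * y⁻¹ * (b : G)⁻¹ := rfl

theorem commHom_mem (b : M) : commHom M hM y b ∈ M :=
  M.mul_mem (hMn.conj_mem _ b.2 y) (M.inv_mem b.2)

theorem range_commHom_le : (commHom M hM y).range ≤ M := by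
  rintro _ ⟨b, rfl⟩
  exact commHom_mem M hM y b

theorem range_commHom_le_commutator : (commHom M hM y).range ≤ commutator G := by
  rintro _ ⟨b, rfl⟩
  rw [commHom_apply, commutator_def]
  exact Subgroup.commutator_mem_commutator (Subgroup.mem_top y) (Subgroup.mem_top (b : G))

theorem conj_commHom (b : M) :
    y * commHom M hM y b * y⁻¹ = commHom M hM y ⟨y * b * y⁻¹, hMn.conj_mem _ b.2 y⟩ := by
  simp only [commHom_apply]; group

theorem conj_inv_commHom (b : M) :
    y⁻¹ * commHom M hM y b * y =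
      commHom M hM y ⟨y⁻¹ * b * y, by simpa using hMn.conj_mem _ b.2 y⁻¹⟩ := by
  simp only [commHom_apply]; group

theorem mem_ker_commHom (b : M) : b ∈ (commHom M hM y).ker ↔ y * (b : G) = b * y := by
  rw [MonoidHom.mem_ker, commHom_apply]
  constructor
  · intro h
    calc y * (b : G) = (y * b * y⁻¹ * (b : G)⁻¹) * b * y := by group
      _ = b * y := by rw [h, one_mul]
  · intro h
    calc y * (b : G) * y⁻¹ * (b : G)⁻¹ = (y * b) * y⁻¹ * (b : G)⁻¹ := by group
      _ = 1 := by rw [h]; group

theorem range_commHom_normal (hgen : M ⊔ Subgroup.zpowers y = ⊤) :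
    (commHom M hM y).range.Normal := by
  have hK : (commHom M hM y).range ≤ M := range_commHom_le M hM y
  have h1 : M ≤ Subgroup.normalizer ((commHom M hM y).range : Set G) := by
    intro m hm
    rw [Subgroup.mem_normalizer_iff]
    intro k
    constructor
    · intro hk
      have : m * k * m⁻¹ = k := by
        rw [hM m hm k (hK hk)]; group
      rw [this]; exact hk
    · intro hk
      have hk' : m * k * m⁻¹ ∈ M := hK hk
      have hkM : k ∈ M := by
        have := M.mul_mem (M.mul_mem (M.inv_mem hm) hk') hm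
        have e : m⁻¹ * (m * k * m⁻¹) * m = k := by group
        rwa [e] at this
      have : m * k * m⁻¹ = k := by
        rw [hM m hm k hkM]; group
      rwa [this] at hk
  have h2 : y ∈ Subgroup.normalizer ((commHom M hM y).range : Set G) := by
    rw [Subgroup.mem_normalizer_iff]
    intro k
    constructor
    · rintro ⟨b, rfl⟩
      rw [conj_commHom]
      exact ⟨_, rfl⟩
    · rintro ⟨b, hb⟩
      have e : k = y⁻¹ * (y * k * y⁻¹) * y := by group
      rw [e, ← hb, conj_inv_commHom]
      exact ⟨_, rfl⟩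
  have h3 : Subgroup.normalizer ((commHom M hM y).range : Set G) = ⊤ := by
    rw [eq_top_iff, ← hgen, sup_le_iff]
    refine ⟨h1, ?_⟩
    rw [Subgroup.zpowers_le]
    exact h2
  exact Subgroup.normalizer_eq_top_iff.mp h3

/-- `G' = { y b y⁻¹ b⁻¹ | b ∈ M }` when `G = M ⟨y⟩`, `M` abelian normal. -/
theorem commutator_eq_range_commHom (hgen : M ⊔ Subgroup.zpowers y = ⊤) :
    commutator G = (commHom M hM y).range := by
  apply le_antisymm _ (range_commHom_le_commutator M hM y)
  have := range_commHom_normal M hM y hgen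
  apply commutator_le_of_gens_comm _ ((M : Set G) ∪ {y})
  · rw [eq_top_iff, ← hgen, sup_le_iff]
    refine ⟨?_, ?_⟩
    · intro m hm
      exact Subgroup.subset_closure (Or.inl hm)
    · rw [Subgroup.zpowers_le]
      exact Subgroup.subset_closure (Or.inr rfl)
  · have hone : (1 : G) ∈ (commHom M hM y).range := Subgroup.one_mem _
    rintro s (hs | hs) t (ht | ht)
    · have : s * t * s⁻¹ * t⁻¹ = 1 := by
        rw [hM s hs t ht]; group
      rw [this]; exact hone
    · rw [Set.mem_singleton_iff] at ht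
      rw [ht]
      have : s * y * s⁻¹ * y⁻¹ = (commHom M hM y ⟨s, hs⟩)⁻¹ := by
        rw [commHom_apply]; group
      rw [this]
      exact Subgroup.inv_mem _ ⟨_, rfl⟩
    · rw [Set.mem_singleton_iff] at hs
      rw [hs]
      exact ⟨⟨t, ht⟩, rfl⟩
    · rw [Set.mem_singleton_iff] at hs ht
      rw [hs, ht]
      have : y * y * y⁻¹ * y⁻¹ = 1 := by group
      rw [this]; exact hone

include hM in
/-- `|G'| * |C_M(y)| = |M|`. -/
theorem card_commutator_mul_card_centralizer [Finite G] (hgen : M ⊔ Subgroup.zpowers y = ⊤) :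
    Nat.card (commutator G) * Nat.card ↥(M ⊓ Subgroup.centralizer {y}) = Nat.card M := by
  rw [commutator_eq_range_commHom M hM y hgen]
  have h1 := Subgroup.card_mul_index (commHom M hM y).ker
  rw [Subgroup.index_ker] at h1
  have h2 : Nat.card (commHom M hM y).ker = Nat.card ↥(M ⊓ Subgroup.centralizer {y}) := by
    have e : (commHom M hM y).ker = (M ⊓ Subgroup.centralizer {y}).subgroupOf M := by
      ext b
      rw [mem_ker_commHom, Subgroup.mem_subgroupOf, Subgroup.mem_inf, Subgroup.mem_centralizer_iff]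
      constructor
      · intro h
        refine ⟨b.2, ?_⟩
        intro x hx
        rw [Set.mem_singleton_iff] at hx
        subst hx
        exact h
      · intro h
        exact h.2 y rfl
    rw [e]
    exact Nat.card_congr (Subgroup.subgroupOfEquivOfLe inf_le_left).toEquiv
  rw [h2] at h1
  rw [mul_comm]
  exact h1

end

end Cfsg.Agent.Lib.H22
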