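import Mathlib
import Cfsg.Agent.Lib.H1.TwoInvolutions

set_option autoImplicit false

/-!
# Recognition of dihedral and generalized quaternion groups from generators and relations
-/

namespace Cfsg.Agent.Lib.H22

open Cfsg.Agent.Lib.H1

variable {G : Type*} [Group G]

/-- The universal map out of the generalized quaternion group `QuaternionGroup n`. -/
noncomputable def quaternionLift (n : ℕ) [NeZero n] (r x : G) (hr : r ^ (2 * n) = 1)
    (hx : x * x = r ^ n) (hxr : x * r * x⁻¹ = r⁻¹) : QuaternionGroup n →* G :=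
  have hconj : ∀ i : Multiplicative (ZMod (2 * n)),
      zmodPowHom (2 * n) r hr i * x = x * (zmodPowHom (2 * n) r hr i)⁻¹ := by
    intro i
    show r ^ _ * x = x * (r ^ _)⁻¹
    have h1 : x * r ^ (Multiplicative.toAdd i).val * x⁻¹ = (r ^ (Multiplicative.toAdd i).val)⁻¹ := by
      rw [← conj_pow, hxr, inv_pow]
    calc r ^ (Multiplicative.toAdd i).val * x
        = (x * r ^ (Multiplicative.toAdd i).val * x⁻¹)⁻¹ * x := by rw [h1, inv_inv]
      _ = x * (r ^ (Multiplicative.toAdd i).val)⁻¹ := by group
  have hn : zmodPowHom (2 * n) r hr (Multiplicative.ofAdd ((n : ℕ) : ZMod (2 * n))) = r ^ n := by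
    rw [zmodPowHom_apply, ZMod.val_natCast_of_lt]
    have := NeZero.pos n
    omega
  { toFun := fun d => match d with
      | QuaternionGroup.a i => zmodPowHom (2 * n) r hr (Multiplicative.ofAdd i)
      | QuaternionGroup.xa i => x * zmodPowHom (2 * n) r hr (Multiplicative.ofAdd i)
    map_one' := by
      show zmodPowHom (2 * n) r hr (Multiplicative.ofAdd 0) = 1
      simp
    map_mul' := by
      rintro (i | i) (j | j)
      · show zmodPowHom (2 * n) r hr (Multiplicative.ofAdd (i + j)) = _
        rw [ofAdd_add, map_mul]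
      · show x * zmodPowHom (2 * n) r hr (Multiplicative.ofAdd (j - i)) =
          zmodPowHom (2 * n) r hr (Multiplicative.ofAdd i) *
            (x * zmodPowHom (2 * n) r hr (Multiplicative.ofAdd j))
        rw [ofAdd_sub, map_div, div_eq_mul_inv, ← mul_assoc _ x, hconj, mul_assoc]
        congr 1
        have hc : Commute (zmodPowHom (2 * n) r hr (Multiplicative.ofAdd j))
            (zmodPowHom (2 * n) r hr (Multiplicative.ofAdd i))⁻¹ := by
          rw [← map_inv]
          exact (Commute.all (Multiplicative.ofAdd j) (Multiplicative.ofAdd i)⁻¹).map _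
        exact hc.eq
      · show x * zmodPowHom (2 * n) r hr (Multiplicative.ofAdd (i + j)) = _
        rw [ofAdd_add, map_mul, mul_assoc]
      · show zmodPowHom (2 * n) r hr (Multiplicative.ofAdd (((n : ℕ) : ZMod (2 * n)) + j - i)) =
          (x * zmodPowHom (2 * n) r hr (Multiplicative.ofAdd i)) *
            (x * zmodPowHom (2 * n) r hr (Multiplicative.ofAdd j))
        rw [ofAdd_sub, map_div, div_eq_mul_inv, ofAdd_add, map_mul, hn]
        have e : (x * zmodPowHom (2 * n) r hr (Multiplicative.ofAdd i)) *
            (x * zmodPowHom (2 * n) r hr (Multiplicative.ofAdd j))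
            = x * (zmodPowHom (2 * n) r hr (Multiplicative.ofAdd i) * x) *
              zmodPowHom (2 * n) r hr (Multiplicative.ofAdd j) := by group
        rw [e, hconj, ← mul_assoc, hx, mul_assoc, mul_assoc]
        congr 1
        have hc : Commute (zmodPowHom (2 * n) r hr (Multiplicative.ofAdd j))
            (zmodPowHom (2 * n) r hr (Multiplicative.ofAdd i))⁻¹ := by
          rw [← map_inv]
          exact (Commute.all (Multiplicative.ofAdd j) (Multiplicative.ofAdd i)⁻¹).map _
        exact hc.eq }

theorem quaternionLift_a (n : ℕ) [NeZero n] (r x : G) (hr : r ^ (2 * n) = 1)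
    (hx : x * x = r ^ n) (hxr : x * r * x⁻¹ = r⁻¹) (i : ZMod (2 * n)) :
    quaternionLift n r x hr hx hxr (QuaternionGroup.a i) = r ^ i.val := rfl

theorem quaternionLift_xa (n : ℕ) [NeZero n] (r x : G) (hr : r ^ (2 * n) = 1)
    (hx : x * x = r ^ n) (hxr : x * r * x⁻¹ = r⁻¹) (i : ZMod (2 * n)) :
    quaternionLift n r x hr hx hxr (QuaternionGroup.xa i) = x * r ^ i.val := rfl

/-- Recognition of generalized quaternion groups. -/
theorem quaternion_equiv_of_gens [Finite G] (n : ℕ) [NeZero n] (r x : G) (hr : r ^ (2 * n) = 1)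
    (hx : x * x = r ^ n) (hxr : x * r * x⁻¹ = r⁻¹)
    (hgen : Subgroup.closure ({r, x} : Set G) = ⊤) (hcard : Nat.card G = 4 * n) :
    Nonempty (G ≃* QuaternionGroup n) := by
  set f := quaternionLift n r x hr hx hxr with hf
  have hsurj : Function.Surjective f := by
    rw [← MonoidHom.range_eq_top, eq_top_iff, ← hgen, Subgroup.closure_le]
    rintro g (rfl | rfl)
    · refine ⟨QuaternionGroup.a 1, ?_⟩
      rw [hf, quaternionLift_a, ZMod.val_one_eq_one_mod, Nat.mod_eq_of_lt, pow_one]
      have := NeZero.pos n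
      omega
    · refine ⟨QuaternionGroup.xa 0, ?_⟩
      rw [hf, quaternionLift_xa, ZMod.val_zero, pow_zero, mul_one]
  have hbij : Function.Bijective f := by
    apply hsurj.bijective_of_nat_card_le
    rw [hcard, Nat.card_eq_fintype_card, QuaternionGroup.card]
  exact ⟨(MulEquiv.ofBijective f hbij).symm⟩

/-- Recognition of dihedral groups. -/
theorem dihedral_equiv_of_gens [Finite G] (n : ℕ) [NeZero n] (r s : G) (hr : r ^ n = 1)
    (hs : s * s = 1) (hsr : s * r * s⁻¹ = r⁻¹)
    (hgen : Subgroup.closure ({r, s} : Set G) = ⊤) (hcard : Nat.card G = 2 * n) :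
    Nonempty (G ≃* DihedralGroup n) := by
  set f := dihedralLift n r s hr hs hsr with hf
  have hsurj : Function.Surjective f := by
    rw [← MonoidHom.range_eq_top, eq_top_iff, ← hgen, Subgroup.closure_le]
    rintro g (rfl | rfl)
    · by_cases h1 : n = 1
      · subst h1
        refine ⟨1, ?_⟩
        rw [map_one]
        simpa using hr.symm
      · refine ⟨DihedralGroup.r 1, ?_⟩
        rw [hf, dihedralLift_r, ZMod.val_one_eq_one_mod, Nat.mod_eq_of_lt, pow_one]
        have := NeZero.pos n
        omega
    · refine ⟨DihedralGroup.sr 0, ?_⟩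
      rw [hf, dihedralLift_sr, ZMod.val_zero, pow_zero, mul_one]
  have hbij : Function.Bijective f := by
    apply hsurj.bijective_of_nat_card_le
    rw [hcard, DihedralGroup.nat_card]
  exact ⟨(MulEquiv.ofBijective f hbij).symm⟩

end Cfsg.Agent.Lib.H22
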