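import Mathlib
import Cfsg.Agent.Lib.H22.AbelianCyclicExt
import Cfsg.Agent.Lib.H8.PGroup

set_option autoImplicit false

/-!
# 2-groups with `|G : G'| = 4` have a cyclic subgroup of index 2
-/

namespace Cfsg.Agent.Lib.H22

open scoped commutatorElement

universe u

/-- Passing to a quotient by a subgroup of `G'` does not change `|G : G'|`. -/
theorem index_commutator_quotient {G : Type*} [Group G] (Z : Subgroup G) [Z.Normal]
    (hZ : Z ≤ commutator G) : (commutator (G ⧸ Z)).index = (commutator G).index := by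
  have h1 : commutator (G ⧸ Z) = (commutator G).map (QuotientGroup.mk' Z) := by
    rw [commutator_def, commutator_def, Subgroup.map_commutator,
      Subgroup.map_top_of_surjective _ (QuotientGroup.mk'_surjective Z)]
  rw [h1]
  apply Subgroup.index_map_eq _ (QuotientGroup.mk'_surjective Z)
  rw [QuotientGroup.ker_mk']
  exact hZ

/-- A nontrivial normal subgroup of a finite `p`-group contains a central element of order `p`. -/
theorem exists_central_orderOf_eq_prime {p : ℕ} [hp : Fact p.Prime] {G : Type*} [Group G] [Finite G]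
    (hG : IsPGroup p G) (N : Subgroup G) [N.Normal] (hN : N ≠ ⊥) :
    ∃ z ∈ N, z ∈ Subgroup.center G ∧ orderOf z = p := by
  obtain ⟨z₀, hz₀N, hz₀c, hz₀1⟩ := Cfsg.Agent.Lib.H8.exists_central_mem_of_normal hG N hN
  obtain ⟨k, hk⟩ := hG z₀
  -- order of z₀ is p^j with j ≥ 1
  obtain ⟨j, hj⟩ : ∃ j, orderOf z₀ = p ^ j := by
    have := orderOf_dvd_of_pow_eq_one hk
    obtain ⟨j, _, hj⟩ := (Nat.dvd_prime_pow hp.out).mp this
    exact ⟨j, hj⟩
  have hj0 : j ≠ 0 := by
    intro h
    rw [h, pow_zero, orderOf_eq_one_iff] at hj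
    exact hz₀1 hj
  obtain ⟨i, rfl⟩ := Nat.exists_eq_succ_of_ne_zero hj0
  refine ⟨z₀ ^ (p ^ i), N.pow_mem hz₀N _, Subgroup.pow_mem _ hz₀c _, ?_⟩
  rw [orderOf_pow' _ (pow_ne_zero _ hp.out.ne_zero), hj, Nat.gcd_eq_right (pow_dvd_pow p (Nat.le_succ i)),
    pow_succ, Nat.mul_div_cancel_left _ (pow_pos hp.out.pos i)]

/-- A subgroup of index two together with any outside element generates everything. -/
theorem sup_zpowers_eq_top_of_index_two {G : Type*} [Group G] (M : Subgroup G) (hM : M.index = 2)
    (y : G) (hy : y ∉ M) : M ⊔ Subgroup.zpowers y = ⊤ := by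
  rw [eq_top_iff]
  intro g _
  by_cases hg : g ∈ M
  · exact (le_sup_left : M ≤ M ⊔ Subgroup.zpowers y) hg
  · have hy' : y⁻¹ ∉ M := fun h => hy (by simpa using M.inv_mem h)
    have h1 : g * y⁻¹ ∈ M := (Subgroup.mul_mem_iff_of_index_two hM).mpr (by simp [hg, hy'])
    have : g = (g * y⁻¹) * y := by group
    rw [this]
    exact Subgroup.mul_mem _ ((le_sup_left : M ≤ M ⊔ Subgroup.zpowers y) h1)
      ((le_sup_right : Subgroup.zpowers y ≤ M ⊔ Subgroup.zpowers y) (Subgroup.mem_zpowers y))

/-- In a group where every square is trivial, multiplication is commutative. -/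
theorem mul_comm_of_sq_eq_one {G : Type*} [Group G] (h : ∀ x : G, x ^ 2 = 1) (a b : G) :
    a * b = b * a := by
  have ha : a⁻¹ = a := by
    rw [inv_eq_iff_mul_eq_one, ← pow_two]; exact h a
  have hb : b⁻¹ = b := by
    rw [inv_eq_iff_mul_eq_one, ← pow_two]; exact h b
  have hab : (a * b)⁻¹ = a * b := by
    rw [inv_eq_iff_mul_eq_one, ← pow_two]; exact h (a * b)
  calc a * b = (a * b)⁻¹ := hab.symm
    _ = b⁻¹ * a⁻¹ := mul_inv_rev a b
    _ = b * a := by rw [ha, hb]

theorem commutator_eq_bot_of_comm {G : Type*} [Group G] (h : ∀ a b : G, a * b = b * a) :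
    commutator G = ⊥ := by
  rw [commutator_def, Subgroup.commutator_eq_bot_iff_le_centralizer]
  intro x _
  rw [Subgroup.mem_centralizer_iff]
  intro y _
  exact h y x

theorem eq_one_or_eq_of_mem_zpowers_of_orderOf_two {G : Type*} [Group G] {z : G} (hz : orderOf z = 2)
    {c : G} (hc : c ∈ Subgroup.zpowers z) : c = 1 ∨ c = z := by
  obtain ⟨k, rfl⟩ := Subgroup.mem_zpowers_iff.mp hc
  have h := zpow_mod_orderOf z k
  rw [hz] at h
  rcases Int.emod_two_eq_zero_or_one k with h0 | h1
  · left
    rw [← h]
    have : k % ((2 : ℕ) : ℤ) = 0 := by exact_mod_cast h0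
    rw [this, zpow_zero]
  · right
    rw [← h]
    have : k % ((2 : ℕ) : ℤ) = 1 := by exact_mod_cast h1
    rw [this, zpow_one]

theorem zpow_eq_one_or_self_of_sq_eq_one {G : Type*} [Group G] {u : G} (hu : u ^ 2 = 1) (k : ℤ) :
    u ^ k = 1 ∨ u ^ k = u := by
  rcases Int.emod_two_eq_zero_or_one k with h0 | h1
  · left
    have : k = 2 * (k / 2) := by omega
    rw [this, zpow_mul, zpow_ofNat, hu, one_zpow]
  · right
    have : k = 2 * (k / 2) + 1 := by omega
    rw [this, zpow_add, zpow_mul, zpow_ofNat, hu, one_zpow, one_mul, zpow_one]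

/-- **Key lemma**: a group of order `2 ^ (n+3)` with `|G : G'| = 4` has an element of order
`2 ^ (n+2)`, i.e. a cyclic subgroup of index two. -/
theorem exists_orderOf_of_index_commutator_eq_four :
    ∀ (n : ℕ) (G : Type u) [Group G] [Finite G], Nat.card G = 2 ^ (n + 3) →
      (commutator G).index = 4 → ∃ a : G, orderOf a = 2 ^ (n + 2) := by
  intro n
  induction n with
  | zero =>
    intro G _ _ hcard hidx
    have hex : ∃ x : G, x ^ 2 ≠ 1 := by
      by_contra hne
      push Not at hne
      have hc := commutator_eq_bot_of_comm (mul_comm_of_sq_eq_one hne)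
      rw [hc, Subgroup.index_bot, hcard] at hidx
      norm_num at hidx
    obtain ⟨x, hx⟩ := hex
    have hdvd : orderOf x ∣ 2 ^ (0 + 3) := hcard ▸ orderOf_dvd_natCard x
    obtain ⟨k, hk3, hk⟩ := (Nat.dvd_prime_pow Nat.prime_two).mp hdvd
    have hk2 : 2 ≤ k := by
      by_contra h
      have : k = 0 ∨ k = 1 := by omega
      rcases this with rfl | rfl
      · rw [pow_zero, orderOf_eq_one_iff] at hk
        rw [hk] at hx
        simp at hx
      · apply hx
        have := pow_orderOf_eq_one x
        rwa [hk, pow_one] at this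
    refine ⟨x ^ (2 ^ (k - 2)), ?_⟩
    rw [orderOf_pow' _ (pow_ne_zero _ two_ne_zero), hk,
      Nat.gcd_eq_right (pow_dvd_pow 2 (Nat.sub_le k 2)), Nat.pow_div (Nat.sub_le k 2) two_pos]
    congr 1
    omega
  | succ n ih =>
    intro G _ _ hcard hidx
    have hG : IsPGroup 2 G := IsPGroup.of_card hcard
    have hcG' : Nat.card (commutator G) = 2 ^ (n + 2) := by
      have := Subgroup.card_mul_index (commutator G)
      rw [hidx, hcard] at this
      have e : (2 : ℕ) ^ (n + 1 + 3) = 2 ^ (n + 2) * 4 := by ring
      rw [e] at this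
      exact Nat.eq_of_mul_eq_mul_right (by norm_num) this
    have hG'ne : commutator G ≠ ⊥ := by
      intro h
      rw [h, Subgroup.card_bot] at hcG'
      have : 2 ≤ 2 ^ (n + 2) := by
        calc 2 = 2 ^ 1 := by norm_num
          _ ≤ 2 ^ (n + 2) := Nat.pow_le_pow_right two_pos (by omega)
      omega
    obtain ⟨z, hzG', hzc, hz2⟩ := exists_central_orderOf_eq_prime hG (commutator G) hG'ne
    have hz1 : z ≠ 1 := by
      intro h
      rw [h, orderOf_one] at hz2
      omega
    have hzz : z ^ 2 = 1 := by
      rw [← hz2]; exact pow_orderOf_eq_one z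
    have hZc : Subgroup.zpowers z ≤ Subgroup.center G := by
      rw [Subgroup.zpowers_le]; exact hzc
    have hcomm : ∀ c ∈ Subgroup.zpowers z, ∀ g : G, Commute c g := by
      intro c hc g
      have := hZc hc
      rw [Subgroup.mem_center_iff] at this
      exact (this g).symm
    have hZn : (Subgroup.zpowers z).Normal := ⟨fun x hx g => by
      have e : g * x * g⁻¹ = x := by
        rw [← (hcomm x hx g).eq]; group
      rwa [e]⟩
    have hZG' : Subgroup.zpowers z ≤ commutator G := by
      rw [Subgroup.zpowers_le]; exact hzG'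
    have hcZ : Nat.card (Subgroup.zpowers z) = 2 := by rw [Nat.card_zpowers, hz2]
    have hcQ : Nat.card (G ⧸ Subgroup.zpowers z) = 2 ^ (n + 3) := by
      have := Subgroup.card_eq_card_quotient_mul_card_subgroup (Subgroup.zpowers z)
      rw [hcard, hcZ] at this
      have e : (2 : ℕ) ^ (n + 1 + 3) = 2 ^ (n + 3) * 2 := by ring
      rw [e] at this
      exact (Nat.eq_of_mul_eq_mul_right (by norm_num) this).symm
    have hiQ := index_commutator_quotient (Subgroup.zpowers z) hZG'
    obtain ⟨abar, habar⟩ := ih (G ⧸ Subgroup.zpowers z) hcQ (hiQ.trans hidx)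
    obtain ⟨a, rfl⟩ := QuotientGroup.mk_surjective abar
    have ham : a ^ (2 ^ (n + 2)) ∈ Subgroup.zpowers z := by
      rw [← QuotientGroup.eq_one_iff, QuotientGroup.mk_pow, ← habar]
      exact pow_orderOf_eq_one _
    have hdvd : orderOf a ∣ 2 ^ (n + 1 + 3) := hcard ▸ orderOf_dvd_natCard a
    obtain ⟨i, hi, hoi⟩ := (Nat.dvd_prime_pow Nat.prime_two).mp hdvd
    rcases eq_one_or_eq_of_mem_zpowers_of_orderOf_two hz2 ham with h1 | hz
    · -- bad case: leads to a contradiction
      exfalso
      have hoa : orderOf a = 2 ^ (n + 2) := by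
        apply Nat.dvd_antisymm (orderOf_dvd_of_pow_eq_one h1)
        rw [← habar]
        apply orderOf_dvd_of_pow_eq_one
        rw [← QuotientGroup.mk_pow, pow_orderOf_eq_one]
        rfl
      set M : Subgroup G := (Subgroup.zpowers (QuotientGroup.mk a : G ⧸ Subgroup.zpowers z)).comap
        (QuotientGroup.mk' (Subgroup.zpowers z)) with hMdef
      have hMidx : M.index = 2 := by
        rw [hMdef, Subgroup.index_comap_of_surjective _ (QuotientGroup.mk'_surjective _)]
        have := Subgroup.card_mul_index (Subgroup.zpowers (QuotientGroup.mk a : G ⧸ Subgroup.zpowers z))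
        rw [Nat.card_zpowers, habar, hcQ] at this
        have e : (2 : ℕ) ^ (n + 3) = 2 ^ (n + 2) * 2 := by ring
        rw [e] at this
        exact Nat.eq_of_mul_eq_mul_left (pow_pos two_pos _) this
      have hMel : ∀ g ∈ M, ∃ k : ℤ, ∃ c ∈ Subgroup.zpowers z, g = a ^ k * c := by
        intro g hg
        rw [hMdef, Subgroup.mem_comap, Subgroup.mem_zpowers_iff] at hg
        obtain ⟨k, hk⟩ := hg
        refine ⟨k, (a ^ k)⁻¹ * g, ?_, by group⟩
        rw [← QuotientGroup.eq_one_iff]
        rw [QuotientGroup.mk'_apply] at hk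
        rw [QuotientGroup.mk_mul, QuotientGroup.mk_inv, QuotientGroup.mk_zpow, hk]
        group
      have hMab : ∀ b ∈ M, ∀ c ∈ M, b * c = c * b := by
        intro b hb c hc
        obtain ⟨k, c₁, hc₁, rfl⟩ := hMel b hb
        obtain ⟨l, c₂, hc₂, rfl⟩ := hMel c hc
        have h1 : Commute (a ^ k) (a ^ l * c₂) :=
          Commute.mul_right (Commute.zpow_zpow_self a k l) ((hcomm c₂ hc₂ (a ^ k)).symm)
        exact (Commute.mul_left h1 (hcomm c₁ hc₁ _)).eq
      have hMn : M.Normal := Subgroup.normal_of_index_eq_two hMidx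
      have hex : ∃ y : G, y ∉ M := by
        by_contra hne
        push Not at hne
        have : M = ⊤ := eq_top_iff.mpr (fun g _ => hne g)
        rw [this, Subgroup.index_top] at hMidx
        omega
      obtain ⟨y, hy⟩ := hex
      have hgen := sup_zpowers_eq_top_of_index_two M hMidx y hy
      have hform := card_commutator_mul_card_centralizer M hMab y hgen
      have hcM : Nat.card M = 2 ^ (n + 3) := by
        have := Subgroup.card_mul_index M
        rw [hMidx, hcard] at this
        have e : (2 : ℕ) ^ (n + 1 + 3) = 2 ^ (n + 3) * 2 := by ring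
        rw [e] at this
        exact Nat.eq_of_mul_eq_mul_right (by norm_num) this
      have hcC : Nat.card ↥(M ⊓ Subgroup.centralizer {y}) = 2 := by
        rw [hcG', hcM] at hform
        have e : (2 : ℕ) ^ (n + 3) = 2 ^ (n + 2) * 2 := by ring
        rw [e] at hform
        exact Nat.eq_of_mul_eq_mul_left (pow_pos two_pos _) hform
      have haM : a ∈ M := by
        rw [hMdef, Subgroup.mem_comap]
        exact Subgroup.mem_zpowers _
      have hzM : z ∈ M := by
        rw [hMdef, Subgroup.mem_comap]
        have : (QuotientGroup.mk' (Subgroup.zpowers z)) z = 1 :=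
          (QuotientGroup.eq_one_iff z).mpr (Subgroup.mem_zpowers z)
        rw [this]
        exact Subgroup.one_mem _
      set u := a ^ (2 ^ (n + 1)) with hu
      have huM : u ∈ M := M.pow_mem haM _
      have hu1 : u ≠ 1 := by
        apply pow_ne_one_of_lt_orderOf (pow_ne_zero _ two_ne_zero)
        rw [hoa]
        exact Nat.pow_lt_pow_right (by norm_num) (by omega)
      have hu2 : u ^ 2 = 1 := by
        rw [hu, ← pow_mul, ← pow_succ]
        exact h1
      have hconj : y * u * y⁻¹ = u := by
        obtain ⟨k, c, hc, hk⟩ := hMel (y * a * y⁻¹) (hMn.conj_mem a haM y)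
        have hc2 : c ^ 2 = 1 := by
          rcases eq_one_or_eq_of_mem_zpowers_of_orderOf_two hz2 hc with rfl | rfl
          · exact one_pow 2
          · exact hzz
        have e1 : y * u * y⁻¹ = u ^ k := by
          rw [hu, ← conj_pow, hk, (hcomm c hc (a ^ k)).symm.mul_pow]
          have : c ^ (2 ^ (n + 1)) = 1 := by
            rw [pow_succ, mul_comm, pow_mul, hc2, one_pow]
          rw [this, mul_one, ← zpow_natCast, ← zpow_natCast, ← zpow_mul, ← zpow_mul, mul_comm]
        rcases zpow_eq_one_or_self_of_sq_eq_one hu2 k with h | h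
        · exfalso
          rw [h] at e1
          apply hu1
          have : u = y⁻¹ * (y * u * y⁻¹) * y := by group
          rw [this, e1]; group
        · rw [e1, h]
      have huC : u ∈ M ⊓ Subgroup.centralizer {y} := by
        refine Subgroup.mem_inf.mpr ⟨huM, ?_⟩
        rw [Subgroup.mem_centralizer_iff]
        intro h hh
        rw [Set.mem_singleton_iff] at hh
        rw [hh]
        calc y * u = (y * u * y⁻¹) * y := by group
          _ = u * y := by rw [hconj]
      have hzC : z ∈ M ⊓ Subgroup.centralizer {y} := by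
        refine Subgroup.mem_inf.mpr ⟨hzM, ?_⟩
        rw [Subgroup.mem_centralizer_iff]
        intro h hh
        rw [Set.mem_singleton_iff] at hh
        rw [hh]
        exact ((hcomm z (Subgroup.mem_zpowers z) y).eq).symm
      have huz : u ≠ z := by
        intro h
        have : ((QuotientGroup.mk a : G ⧸ Subgroup.zpowers z)) ^ (2 ^ (n + 1)) = 1 := by
          rw [← QuotientGroup.mk_pow, ← hu, h]
          exact (QuotientGroup.eq_one_iff z).mpr (Subgroup.mem_zpowers z)
        have h2 := orderOf_dvd_of_pow_eq_one this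
        rw [habar] at h2
        have := Nat.le_of_dvd (pow_pos two_pos _) h2
        have : n + 2 ≤ n + 1 := (Nat.pow_le_pow_iff_right (by norm_num)).mp this
        omega
      obtain ⟨w, hw, hwu⟩ := (Nat.card_eq_two_iff' (1 : ↥(M ⊓ Subgroup.centralizer {y}))).mp hcC
      have e1 : (⟨u, huC⟩ : ↥(M ⊓ Subgroup.centralizer {y})) = w := hwu _ (by
        intro h; apply hu1; exact congrArg Subtype.val h)
      have e2 : (⟨z, hzC⟩ : ↥(M ⊓ Subgroup.centralizer {y})) = w := hwu _ (by
        intro h; apply hz1; exact congrArg Subtype.val h)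
      exact huz (congrArg Subtype.val (e1.trans e2.symm))
    · -- good case: a has order 2 ^ (n+3)
      refine ⟨a, ?_⟩
      have h2 : a ^ (2 ^ (n + 3)) = 1 := by
        rw [pow_succ, pow_mul, hz, hzz]
      have hi3 : orderOf a ∣ 2 ^ (n + 3) := orderOf_dvd_of_pow_eq_one h2
      rw [hoi] at hi3
      have hi3' : i ≤ n + 3 := (Nat.pow_dvd_pow_iff_le_right (by norm_num)).mp hi3
      have hi2 : ¬ i ≤ n + 2 := by
        intro hle
        have : orderOf a ∣ 2 ^ (n + 2) := by
          rw [hoi]; exact pow_dvd_pow 2 hle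
        have := orderOf_dvd_iff_pow_eq_one.mp this
        rw [hz] at this
        exact hz1 this
      rw [hoi]
      congr 1
      omega

end Cfsg.Agent.Lib.H22
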