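import Mathlib

set_option autoImplicit false

/-!
# `p`-groups with at most one subgroup of order `p`: the abelian case and the odd case
-/

namespace Cfsg.Agent.Lib.H22

universe u

/-- at most one subgroup of order `p` -/
def AtMostOneOrderP (p : ℕ) (G : Type*) [Group G] : Prop :=
  ∀ H K : Subgroup G, Nat.card H = p → Nat.card K = p → H = K

namespace AtMostOneOrderP

variable {p : ℕ} [hp : Fact p.Prime] {G : Type*} [Group G]

theorem subgroup (h : AtMostOneOrderP p G) (L : Subgroup G) : AtMostOneOrderP p L := by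
  intro H K hH hK
  have h1 : Nat.card (H.map L.subtype) = p := by
    rw [Subgroup.card_map_of_injective L.subtype_injective, hH]
  have h2 : Nat.card (K.map L.subtype) = p := by
    rw [Subgroup.card_map_of_injective L.subtype_injective, hK]
  exact Subgroup.map_injective L.subtype_injective (h _ _ h1 h2)

theorem mem_zpowers (h : AtMostOneOrderP p G) {x y : G} (hx : x ^ p = 1) (hx1 : x ≠ 1)
    (hy : y ^ p = 1) : y ∈ Subgroup.zpowers x := by
  by_cases hy1 : y = 1
  · rw [hy1]; exact Subgroup.one_mem _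
  · have h1 : Nat.card (Subgroup.zpowers x) = p := by
      rw [Nat.card_zpowers, orderOf_eq_prime hx hx1]
    have h2 : Nat.card (Subgroup.zpowers y) = p := by
      rw [Nat.card_zpowers, orderOf_eq_prime hy hy1]
    rw [h _ _ h1 h2]
    exact Subgroup.mem_zpowers y

theorem card_le_of_forall_pow_eq_one (h : AtMostOneOrderP p G) (K : Subgroup G)
    (hK : ∀ x ∈ K, x ^ p = 1) : Nat.card K ≤ p := by
  by_cases hbot : K = ⊥
  · rw [hbot, Subgroup.card_bot]; exact hp.out.one_lt.le
  · obtain ⟨x, hxK, hx1⟩ := (Subgroup.ne_bot_iff_exists_ne_one.mp hbot : ∃ x : K, x ≠ 1)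
      |> fun ⟨x, hx⟩ => (⟨(x : G), x.2, fun h' => hx (Subtype.ext h')⟩ : ∃ x : G, x ∈ K ∧ x ≠ 1)
    have hle : K ≤ Subgroup.zpowers x := fun y hy => h.mem_zpowers (hK x hxK) hx1 (hK y hy)
    have hfin : Finite (Subgroup.zpowers x) := by
      apply Nat.finite_of_card_ne_zero
      rw [Nat.card_zpowers, orderOf_eq_prime (hK x hxK) hx1]
      exact hp.out.ne_zero
    calc Nat.card K ≤ Nat.card (Subgroup.zpowers x) := Subgroup.card_le_of_le hle
      _ = p := by rw [Nat.card_zpowers, orderOf_eq_prime (hK x hxK) hx1]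

end AtMostOneOrderP

section

variable {p : ℕ} [hp : Fact p.Prime] {G : Type*} [Group G] [Finite G]

/-- A subgroup strictly containing a subgroup of prime index is everything. -/
theorem eq_top_of_index_prime_of_lt {M K : Subgroup G} (hM : M.index = p) (hlt : M < K) : K = ⊤ := by
  have h1 := Subgroup.relIndex_mul_index hlt.le
  rw [hM] at h1
  have h2 : K.index ∣ p := Dvd.intro_left _ h1
  rcases (Nat.dvd_prime hp.out).mp h2 with h | h
  · exact Subgroup.index_eq_one.mp h
  · exfalso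
    rw [h] at h1
    have : M.relIndex K = 1 := by
      have := Nat.eq_of_mul_eq_mul_right hp.out.pos (h1.trans (one_mul p).symm)
      exact this
    exact (not_le_of_gt hlt) (Subgroup.relIndex_eq_one.mp this)

/-- A noncyclic finite `p`-group has two distinct subgroups of index `p`. -/
theorem exists_two_index_p (hG : IsPGroup p G) (hnc : ¬ IsCyclic G) :
    ∃ M₁ M₂ : Subgroup G, M₁ ≠ M₂ ∧ M₁.index = p ∧ M₂.index = p := by
  obtain ⟨n, hn⟩ := (IsPGroup.iff_card).mp hG
  have hn0 : n ≠ 0 := by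
    intro h0
    rw [h0, pow_zero] at hn
    have : Subsingleton G := (Nat.card_eq_one_iff_unique.mp hn).1
    exact hnc isCyclic_of_subsingleton
  obtain ⟨m, rfl⟩ := Nat.exists_eq_succ_of_ne_zero hn0
  have hdvd : p ^ m ∣ Nat.card G := by rw [hn]; exact pow_dvd_pow p (Nat.le_succ m)
  have hidx : ∀ M : Subgroup G, Nat.card M = p ^ m → M.index = p := by
    intro M hM
    have := Subgroup.card_mul_index M
    rw [hM, hn, pow_succ] at this
    exact Nat.eq_of_mul_eq_mul_left (pow_pos hp.out.pos m) this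
  obtain ⟨M₁, hM₁⟩ := Sylow.exists_subgroup_card_pow_prime p hdvd
  have hM₁top : M₁ ≠ ⊤ := by
    intro h
    have := hidx M₁ hM₁
    rw [h, Subgroup.index_top] at this
    exact hp.out.one_lt.ne this
  obtain ⟨g, hg⟩ : ∃ g : G, g ∉ M₁ := by
    by_contra hne
    push Not at hne
    exact hM₁top (eq_top_iff.mpr fun g _ => hne g)
  obtain ⟨i, hi⟩ := (IsPGroup.iff_card).mp (hG.to_subgroup (Subgroup.zpowers g))
  have hile : i ≤ m := by
    have h1 : p ^ i ∣ p ^ (m + 1) := by
      rw [← hi, ← hn]; exact Subgroup.card_subgroup_dvd_card _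
    have h2 : i ≤ m + 1 := (Nat.pow_dvd_pow_iff_le_right hp.out.one_lt).mp h1
    by_contra hlt
    have him : i = m + 1 := by omega
    apply hnc
    rw [isCyclic_iff_exists_zpowers_eq_top]
    refine ⟨g, ?_⟩
    rw [← Subgroup.card_eq_iff_eq_top, hi, him, hn]
  obtain ⟨M₂, hM₂, hgM₂⟩ := Sylow.exists_subgroup_card_pow_prime_le p hdvd (Subgroup.zpowers g) hi hile
  refine ⟨M₁, M₂, ?_, hidx M₁ hM₁, hidx M₂ hM₂⟩
  intro h
  apply hg
  rw [h]
  exact hgM₂ (Subgroup.mem_zpowers g)

/-- In a finite `p`-group, `p`-th powers lie in every subgroup of index `p`. -/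
theorem pow_mem_of_index_eq_prime (hG : IsPGroup p G) (M : Subgroup G) (hM : M.index = p) (v : G) :
    v ^ p ∈ M := by
  obtain ⟨n, hn⟩ := (IsPGroup.iff_card).mp hG
  have hn0 : n ≠ 0 := by
    intro h0
    rw [h0, pow_zero] at hn
    have := Subgroup.index_dvd_card M
    rw [hM, hn] at this
    exact hp.out.one_lt.ne' (Nat.dvd_one.mp this)
  have hMn : M.Normal := by
    apply Subgroup.normal_of_index_eq_minFac_card
    rw [hM, hn, hp.out.pow_minFac hn0]
  rw [← QuotientGroup.eq_one_iff, QuotientGroup.mk_pow]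
  have : Nat.card (G ⧸ M) = p := by rw [← Subgroup.index_eq_card, hM]
  rw [← this]
  exact pow_card_eq_one'

theorem commutator_le_of_index_eq_prime (hG : IsPGroup p G) (M : Subgroup G) (hM : M.index = p) :
    commutator G ≤ M := by
  obtain ⟨n, hn⟩ := (IsPGroup.iff_card).mp hG
  have hn0 : n ≠ 0 := by
    intro h0
    rw [h0, pow_zero] at hn
    have := Subgroup.index_dvd_card M
    rw [hM, hn] at this
    exact hp.out.one_lt.ne' (Nat.dvd_one.mp this)
  have hMn : M.Normal := by
    apply Subgroup.normal_of_index_eq_minFac_card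
    rw [hM, hn, hp.out.pow_minFac hn0]
  have hc : Nat.card (G ⧸ M) = p := by rw [← Subgroup.index_eq_card, hM]
  have hcyc : IsCyclic (G ⧸ M) := isCyclic_of_prime_card hc
  rw [commutator_def, Subgroup.commutator_le]
  intro a _ b _
  rw [← QuotientGroup.eq_one_iff, commutatorElement_def]
  simp only [QuotientGroup.mk_mul, QuotientGroup.mk_inv]
  let _ := IsCyclic.commGroup (α := G ⧸ M)
  have := mul_comm (a : G ⧸ M) (b : G ⧸ M)
  rw [this]
  group

/-- If the `p`-power map is multiplicative on a finite `p`-group with at most one subgroup of order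
`p`, the group is cyclic. -/
theorem isCyclic_of_pow_hom (hG : IsPGroup p G) (huniq : AtMostOneOrderP p G)
    (hP : ∀ u v : G, (u * v) ^ p = u ^ p * v ^ p) : IsCyclic G := by
  by_contra hnc
  obtain ⟨M₁, M₂, hne, hM₁, hM₂⟩ := exists_two_index_p hG hnc
  let P : G →* G := MonoidHom.mk' (fun g => g ^ p) hP
  have hrange : P.range ≤ M₁ ⊓ M₂ := by
    rintro _ ⟨v, rfl⟩
    exact Subgroup.mem_inf.mpr ⟨pow_mem_of_index_eq_prime hG M₁ hM₁ v,
      pow_mem_of_index_eq_prime hG M₂ hM₂ v⟩
  have hker : Nat.card P.ker ≤ p := by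
    apply huniq.card_le_of_forall_pow_eq_one
    intro x hx
    exact hx
  -- cardinalities
  have hcM₁ := Subgroup.card_mul_index M₁
  have hcM₂ := Subgroup.card_mul_index M₂
  rw [hM₁] at hcM₁
  rw [hM₂] at hcM₂
  have hDM₁ : M₁ ⊓ M₂ ≠ M₁ := by
    intro h
    have hle : M₁ ≤ M₂ := inf_eq_left.mp h
    apply hne
    apply Subgroup.eq_of_le_of_card_ge hle
    have : Nat.card M₁ * p = Nat.card M₂ * p := by rw [hcM₁, hcM₂]
    exact (Nat.eq_of_mul_eq_mul_right hp.out.pos this).symm.le
  obtain ⟨i, hi⟩ := (IsPGroup.iff_card).mp (hG.to_subgroup (M₁ ⊓ M₂))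
  obtain ⟨j, hj⟩ := (IsPGroup.iff_card).mp (hG.to_subgroup M₁)
  have hij : i < j := by
    have h1 : Nat.card ↥(M₁ ⊓ M₂) ≤ Nat.card M₁ := Subgroup.card_le_of_le inf_le_left
    have h2 : Nat.card ↥(M₁ ⊓ M₂) ≠ Nat.card M₁ := by
      intro h
      exact hDM₁ (Subgroup.eq_of_le_of_card_ge inf_le_left h.ge)
    rw [hi, hj] at h1 h2
    have h3 : i ≤ j := (Nat.pow_le_pow_iff_right hp.out.one_lt).mp h1
    have h4 : i ≠ j := fun h => h2 (by rw [h])
    omega
  have hcr : Nat.card P.range ≤ p ^ i := by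
    rw [← hi]; exact Subgroup.card_le_of_le hrange
  have hmul := Subgroup.card_mul_index P.ker
  rw [Subgroup.index_ker] at hmul
  -- card G = p^j * p
  rw [hj] at hcM₁
  have h5 : Nat.card G ≤ p * p ^ i := by
    rw [← hmul]
    exact Nat.mul_le_mul hker hcr
  rw [← hcM₁] at h5
  have h6 : p ^ (i + 1) ≤ p ^ j := Nat.pow_le_pow_right hp.out.pos hij
  have h7 : p ^ j * p ≤ p ^ j := by
    calc p ^ j * p ≤ p * p ^ i := h5
      _ = p ^ (i + 1) := by rw [pow_succ, mul_comm]
      _ ≤ p ^ j := h6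
  have h8 : p ^ j * 2 ≤ p ^ j * p := Nat.mul_le_mul_left _ hp.out.two_le
  have h9 : 0 < p ^ j := pow_pos hp.out.pos j
  omega

/-- A finite abelian `p`-group with at most one subgroup of order `p` is cyclic. -/
theorem isCyclic_of_comm_of_atMostOne (hG : IsPGroup p G) (huniq : AtMostOneOrderP p G)
    (hc : ∀ a b : G, a * b = b * a) : IsCyclic G :=
  isCyclic_of_pow_hom hG huniq (fun u v => (show Commute u v from hc u v).mul_pow p)

end

section ClassTwo

variable {G : Type*} [Group G]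

/-- `v^n u = c^n u v^n` when `c = v u v⁻¹ u⁻¹` is central. -/
theorem pow_mul_comm_of_central {u v : G} (hc : ∀ g : G, g * (v * u * v⁻¹ * u⁻¹) = (v * u * v⁻¹ * u⁻¹) * g)
    (n : ℕ) : v ^ n * u = (v * u * v⁻¹ * u⁻¹) ^ n * u * v ^ n := by
  induction n with
  | zero => simp
  | succ n ih =>
    set c := v * u * v⁻¹ * u⁻¹ with hcdef
    have hvu : v * u = c * u * v := by rw [hcdef]; group
    have hcn : ∀ g : G, g * c ^ n = c ^ n * g := by
      intro g
      exact ((show Commute g c from hc g).pow_right n).eq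
    calc v ^ (n + 1) * u = v ^ n * (v * u) := by rw [pow_succ, mul_assoc]
      _ = v ^ n * (c * u * v) := by rw [hvu]
      _ = (v ^ n * c) * u * v := by simp only [mul_assoc]
      _ = c * (v ^ n * u) * v := by rw [hc (v ^ n)]; simp only [mul_assoc]
      _ = c * (c ^ n * u * v ^ n) * v := by rw [ih]
      _ = c ^ (n + 1) * u * v ^ (n + 1) := by
        rw [pow_succ' c, pow_succ v]; simp only [mul_assoc]

/-- `(u v)^n = u^n v^n c^(n(n-1)/2)` when `c = v u v⁻¹ u⁻¹` is central. -/
theorem mul_pow_of_central {u v : G} (hc : ∀ g : G, g * (v * u * v⁻¹ * u⁻¹) = (v * u * v⁻¹ * u⁻¹) * g)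
    (n : ℕ) : (u * v) ^ n = u ^ n * v ^ n * (v * u * v⁻¹ * u⁻¹) ^ (n * (n - 1) / 2) := by
  induction n with
  | zero => simp
  | succ n ih =>
    set c := v * u * v⁻¹ * u⁻¹ with hcdef
    have hck : ∀ (k : ℕ) (g : G), g * c ^ k = c ^ k * g := by
      intro k g
      exact ((show Commute g c from hc g).pow_right k).eq
    have h1 := pow_mul_comm_of_central hc n
    rw [← hcdef] at h1
    rw [Nat.triangle_succ, pow_succ, ih]
    calc u ^ n * v ^ n * c ^ (n * (n - 1) / 2) * (u * v)
        = u ^ n * (v ^ n * u) * v * c ^ (n * (n - 1) / 2) := by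
          rw [mul_assoc (u ^ n * v ^ n), ← hck _ (u * v)]; simp only [mul_assoc]
      _ = u ^ n * (c ^ n * u * v ^ n) * v * c ^ (n * (n - 1) / 2) := by rw [h1]
      _ = (u ^ n * c ^ n) * u * v ^ n * v * c ^ (n * (n - 1) / 2) := by simp only [mul_assoc]
      _ = (c ^ n * u ^ n) * u * v ^ n * v * c ^ (n * (n - 1) / 2) := by rw [hck n (u ^ n)]
      _ = c ^ n * (u ^ n * u * v ^ n * v * c ^ (n * (n - 1) / 2)) := by simp only [mul_assoc]
      _ = (u ^ n * u * v ^ n * v * c ^ (n * (n - 1) / 2)) * c ^ n := (hck n _).symm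
      _ = u ^ n * u * v ^ n * v * (c ^ (n * (n - 1) / 2) * c ^ n) := by simp only [mul_assoc]
      _ = u ^ (n + 1) * v ^ (n + 1) * c ^ (n * (n - 1) / 2 + n) := by
          rw [← pow_add, pow_succ, pow_succ]
          simp only [mul_assoc]

end ClassTwo

section Odd

variable {p : ℕ} [hp : Fact p.Prime] {G : Type*} [Group G] [Finite G]

theorem comm_of_isCyclic_subgroup (M : Subgroup G) (hM : IsCyclic M) :
    ∀ a ∈ M, ∀ b ∈ M, a * b = b * a := by
  intro a ha b hb
  let _ := IsCyclic.commGroup (α := M)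
  have := mul_comm (⟨a, ha⟩ : M) ⟨b, hb⟩
  exact congrArg Subtype.val this

/-- two distinct abelian subgroups of index `p` in a `p`-group, `p` odd: the `p`-power map is
multiplicative. -/
theorem mul_pow_prime_of_two_abelian_index_p (hp2 : p ≠ 2) (hG : IsPGroup p G) {M₁ M₂ : Subgroup G}
    (hne : M₁ ≠ M₂) (hM₁ : M₁.index = p) (hM₂ : M₂.index = p)
    (hab₁ : ∀ a ∈ M₁, ∀ b ∈ M₁, a * b = b * a) (hab₂ : ∀ a ∈ M₂, ∀ b ∈ M₂, a * b = b * a)
    (u v : G) : (u * v) ^ p = u ^ p * v ^ p := by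
  have hsup : M₁ ⊔ M₂ = ⊤ := by
    apply eq_top_of_index_prime_of_lt hM₁
    apply lt_of_le_of_ne le_sup_left
    intro h
    have hle : M₂ ≤ M₁ := by rw [h]; exact le_sup_right
    apply hne
    symm
    apply Subgroup.eq_of_le_of_card_ge hle
    have h1 := Subgroup.card_mul_index M₁
    have h2 := Subgroup.card_mul_index M₂
    rw [hM₁] at h1
    rw [hM₂] at h2
    have : Nat.card M₁ * p = Nat.card M₂ * p := by rw [h1, h2]
    exact (Nat.eq_of_mul_eq_mul_right hp.out.pos this).le
  have hDc : ∀ d ∈ M₁ ⊓ M₂, ∀ g : G, g * d = d * g := by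
    intro d hd g
    obtain ⟨hd1, hd2⟩ := Subgroup.mem_inf.mp hd
    have hle : M₁ ⊔ M₂ ≤ Subgroup.centralizer {d} := by
      apply sup_le
      · intro a ha
        rw [Subgroup.mem_centralizer_iff]
        intro h hh
        rw [Set.mem_singleton_iff] at hh
        rw [hh]
        exact hab₁ d hd1 a ha
      · intro a ha
        rw [Subgroup.mem_centralizer_iff]
        intro h hh
        rw [Set.mem_singleton_iff] at hh
        rw [hh]
        exact hab₂ d hd2 a ha
    have := hle (hsup ▸ Subgroup.mem_top g)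
    rw [Subgroup.mem_centralizer_iff] at this
    exact (this d rfl).symm
  have hcomm : v * u * v⁻¹ * u⁻¹ ∈ commutator G := by
    rw [commutator_def]
    exact Subgroup.commutator_mem_commutator (Subgroup.mem_top v) (Subgroup.mem_top u)
  have hcD : v * u * v⁻¹ * u⁻¹ ∈ M₁ ⊓ M₂ :=
    Subgroup.mem_inf.mpr ⟨commutator_le_of_index_eq_prime hG M₁ hM₁ hcomm,
      commutator_le_of_index_eq_prime hG M₂ hM₂ hcomm⟩
  have hc : ∀ g : G, g * (v * u * v⁻¹ * u⁻¹) = (v * u * v⁻¹ * u⁻¹) * g := hDc _ hcD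
  have hvp : v ^ p ∈ M₁ ⊓ M₂ :=
    Subgroup.mem_inf.mpr ⟨pow_mem_of_index_eq_prime hG M₁ hM₁ v, pow_mem_of_index_eq_prime hG M₂ hM₂ v⟩
  have h1 := pow_mul_comm_of_central hc p
  have h2 : v ^ p * u = u * v ^ p := (hDc _ hvp u).symm
  have hcp : (v * u * v⁻¹ * u⁻¹) ^ p = 1 := by
    have : (v * u * v⁻¹ * u⁻¹) ^ p * (u * v ^ p) = 1 * (u * v ^ p) := by
      rw [one_mul, ← mul_assoc, ← h1, h2]
    exact mul_right_cancel this
  rw [mul_pow_of_central hc p]
  have hodd : Odd p := hp.out.eq_two_or_odd'.resolve_left hp2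
  obtain ⟨k, hk⟩ := hodd
  have : p * (p - 1) / 2 = p * k := by
    have : p - 1 = 2 * k := by omega
    rw [this, ← mul_assoc, mul_comm p 2, mul_assoc, Nat.mul_div_cancel_left _ two_pos]
  rw [this, pow_mul, hcp, one_pow, mul_one]

/-- **Odd case**: a finite `p`-group (`p` odd) with at most one subgroup of order `p` is cyclic. -/
theorem isCyclic_of_atMostOne_of_odd (hp2 : p ≠ 2) :
    ∀ (m : ℕ) (G : Type u) [Group G] [Finite G], Nat.card G = m → IsPGroup p G →
      AtMostOneOrderP p G → IsCyclic G := by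
  intro m
  induction m using Nat.strong_induction_on with
  | _ m ih =>
    intro G _ _ hm hG huniq
    by_contra hnc
    obtain ⟨M₁, M₂, hne, hM₁, hM₂⟩ := exists_two_index_p hG hnc
    have hlt : ∀ M : Subgroup G, M.index = p → Nat.card M < m := by
      intro M hM
      have h1 := Subgroup.card_mul_index M
      rw [hM, hm] at h1
      have h2 : 0 < Nat.card M := Nat.card_pos
      have h3 := hp.out.two_le
      nlinarith
    have hc₁ : IsCyclic M₁ :=
      ih (Nat.card M₁) (hlt M₁ hM₁) M₁ rfl (hG.to_subgroup M₁) (huniq.subgroup M₁)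
    have hc₂ : IsCyclic M₂ :=
      ih (Nat.card M₂) (hlt M₂ hM₂) M₂ rfl (hG.to_subgroup M₂) (huniq.subgroup M₂)
    exact hnc (isCyclic_of_pow_hom hG huniq (mul_pow_prime_of_two_abelian_index_p hp2 hG hne hM₁ hM₂
      (comm_of_isCyclic_subgroup M₁ hc₁) (comm_of_isCyclic_subgroup M₂ hc₂)))

end Odd

end Cfsg.Agent.Lib.H22
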