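import Mathlib
import Cfsg.Agent.Lib.H22.UniqueOrderP
import Cfsg.Agent.Lib.H22.AbelianCyclicExt
import Cfsg.Agent.Lib.H22.TwoGroupAb4
import Cfsg.Agent.Lib.H22.DihQuatRecog
import Cfsg.Agent.Lib.H8.PGroup
import Cfsg.Agent.Lib.H20.CyclicAut

set_option autoImplicit false

/-!
# 2-groups with a unique involution are cyclic or generalized quaternion
-/

namespace Cfsg.Agent.Lib.H22

universe u

section NormHom

variable {G : Type*} [Group G] (M : Subgroup G) [hMn : M.Normal]
  (hM : ∀ b ∈ M, ∀ c ∈ M, b * c = c * b) (y : G)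

/-- The homomorphism `b ↦ y b y⁻¹ b` on an abelian normal subgroup. -/
noncomputable def normHom : M →* G :=
  MonoidHom.mk' (fun b => y * (b : G) * y⁻¹ * (b : G)) (by
    intro b c
    have hC : y * (c : G) * y⁻¹ ∈ M := hMn.conj_mem _ c.2 y
    have h1 := hM _ hC _ b.2
    calc y * ((b * c : M) : G) * y⁻¹ * ((b * c : M) : G)
        = (y * (b : G) * y⁻¹) * ((y * (c : G) * y⁻¹) * (b : G)) * (c : G) := by
          simp only [Subgroup.coe_mul]; group
      _ = (y * (b : G) * y⁻¹) * ((b : G) * (y * (c : G) * y⁻¹)) * (c : G) := by rw [h1]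
      _ = _ := by group)

theorem normHom_apply (b : M) : normHom M hM y b = y * (b : G) * y⁻¹ * (b : G) := rfl

theorem normHom_mem (b : M) : normHom M hM y b ∈ M :=
  M.mul_mem (hMn.conj_mem _ b.2 y) b.2

include hM in
/-- `(y b)² = ν(b) y²` when `y² ∈ M`. -/
theorem mul_sq_eq_normHom (hyy : y * y ∈ M) (b : M) :
    (y * (b : G)) * (y * (b : G)) = normHom M hM y b * (y * y) := by
  rw [normHom_apply]
  have h1 := hM _ hyy _ b.2
  calc y * (b : G) * (y * (b : G)) = (y * (b : G) * y⁻¹) * ((y * y) * (b : G)) := by group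
    _ = (y * (b : G) * y⁻¹) * ((b : G) * (y * y)) := by rw [h1]
    _ = _ := by group

include hM in
/-- `ν(b)` commutes with `y` when `y² ∈ M`. -/
theorem normHom_comm (hyy : y * y ∈ M) (b : M) :
    y * normHom M hM y b = normHom M hM y b * y := by
  rw [normHom_apply]
  have e1 : (y * y) * (b : G) * (y * y)⁻¹ = b := by
    rw [hM _ hyy _ b.2]; group
  have e2 : (b : G) * (y * (b : G) * y⁻¹) = (y * (b : G) * y⁻¹) * b :=
    hM _ b.2 _ (hMn.conj_mem _ b.2 y)
  calc y * (y * (b : G) * y⁻¹ * (b : G))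
      = ((y * y) * (b : G) * (y * y)⁻¹) * (y * (b : G) * y⁻¹) * y := by group
    _ = (b : G) * (y * (b : G) * y⁻¹) * y := by rw [e1]
    _ = _ := by rw [e2]

theorem mem_ker_normHom (b : M) : b ∈ (normHom M hM y).ker ↔ y * (b : G) * y⁻¹ = (b : G)⁻¹ := by
  rw [MonoidHom.mem_ker, normHom_apply]
  exact mul_eq_one_iff_eq_inv

theorem card_ker_commHom [Finite G] :
    Nat.card (commHom M hM y).ker = Nat.card ↥(M ⊓ Subgroup.centralizer {y}) := by
  have e : (commHom M hM y).ker = (M ⊓ Subgroup.centralizer {y}).subgroupOf M := by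
    ext b
    rw [mem_ker_commHom, Subgroup.mem_subgroupOf, Subgroup.mem_inf, Subgroup.mem_centralizer_iff]
    constructor
    · intro h
      refine ⟨b.2, ?_⟩
      intro x hx
      rw [Set.mem_singleton_iff] at hx
      subst hx
      exact h
    · intro h
      exact h.2 y rfl
  rw [e]
  exact Nat.card_congr (Subgroup.subgroupOfEquivOfLe inf_le_left).toEquiv

end NormHom

/-- Subgroups of a cyclic subgroup of a finite `p`-group are totally ordered. -/
theorem le_total_of_le_zpowers {p : ℕ} [Fact p.Prime] {G : Type*} [Group G] [Finite G]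
    (hG : IsPGroup p G) (a : G) {K₁ K₂ : Subgroup G} (h₁ : K₁ ≤ Subgroup.zpowers a)
    (h₂ : K₂ ≤ Subgroup.zpowers a) : K₁ ≤ K₂ ∨ K₂ ≤ K₁ := by
  by_contra hcon
  push Not at hcon
  obtain ⟨hn1, hn2⟩ := hcon
  obtain ⟨u, hu1, hu2⟩ := SetLike.not_le_iff_exists.mp hn1
  obtain ⟨w, hw2, hw1⟩ := SetLike.not_le_iff_exists.mp hn2
  have hA : IsPGroup p (Subgroup.zpowers a) := hG.to_subgroup _
  rcases Cfsg.Agent.Lib.H20.mem_zpowers_or_mem_zpowers_of_cyclic_pGroup hA
    (⟨u, h₁ hu1⟩ : Subgroup.zpowers a) ⟨w, h₂ hw2⟩ with h | h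
  · obtain ⟨k, hk⟩ := Subgroup.mem_zpowers_iff.mp h
    apply hu2
    have : w ^ k = u := by
      have := congrArg Subtype.val hk
      simpa using this
    rw [← this]
    exact K₂.zpow_mem hw2 k
  · obtain ⟨k, hk⟩ := Subgroup.mem_zpowers_iff.mp h
    apply hw1
    have : u ^ k = w := by
      have := congrArg Subtype.val hk
      simpa using this
    rw [← this]
    exact K₁.zpow_mem hu1 k

theorem two_mul_card_le_of_lt {G : Type*} [Group G] [Finite G] {R K : Subgroup G} (hle : R ≤ K)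
    (hne : R ≠ K) : 2 * Nat.card R ≤ Nat.card K := by
  obtain ⟨d, hd⟩ := Subgroup.card_dvd_of_le hle
  have hK : 0 < Nat.card K := Nat.card_pos
  have hR : 0 < Nat.card R := Nat.card_pos
  have hd1 : d ≠ 1 := by
    intro h
    rw [h, mul_one] at hd
    exact hne (Subgroup.eq_of_le_of_card_ge hle hd.le)
  have hd0 : d ≠ 0 := by
    intro h
    rw [h, mul_zero] at hd
    omega
  rw [hd, mul_comm]
  exact Nat.mul_le_mul_left _ (by omega)

/-- **Key lemma for `p = 2`**: if `⟨a⟩` is normal in a finite 2-group with at most one involution,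
`x ∉ ⟨a⟩`, `x² ∈ ⟨a⟩` and `x` does not centralize `a`, then `x` inverts `a` and `x²` is the
involution of `⟨a⟩`. -/
theorem inverts_of_atMostOne {G : Type*} [Group G] [Finite G] (hG : IsPGroup 2 G)
    (huniq : AtMostOneOrderP 2 G) (a x : G) (hAn : (Subgroup.zpowers a).Normal)
    (hx : x ∉ Subgroup.zpowers a) (hxx : x * x ∈ Subgroup.zpowers a) (hxa : x * a ≠ a * x) :
    x * a * x⁻¹ = a⁻¹ ∧ (x * x) ^ 2 = 1 ∧ x * x ≠ 1 := by
  have : Fact (Nat.Prime 2) := ⟨Nat.prime_two⟩
  set M := Subgroup.zpowers a with hMdef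
  have haM : a ∈ M := Subgroup.mem_zpowers a
  have hMab : ∀ b ∈ M, ∀ c ∈ M, b * c = c * b := by
    intro b hb c hc
    obtain ⟨k, rfl⟩ := Subgroup.mem_zpowers_iff.mp hb
    obtain ⟨l, rfl⟩ := Subgroup.mem_zpowers_iff.mp hc
    exact (Commute.zpow_zpow_self a k l).eq
  -- an involution in M
  have ha1 : a ≠ 1 := by
    intro h
    apply hxa
    rw [h, mul_one, one_mul]
  obtain ⟨z, hzM, hz2, hz1⟩ : ∃ z ∈ M, z ^ 2 = 1 ∧ z ≠ 1 := by
    obtain ⟨k, hk⟩ := (IsPGroup.iff_orderOf).mp hG a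
    have hk0 : k ≠ 0 := by
      intro h
      rw [h, pow_zero, orderOf_eq_one_iff] at hk
      exact ha1 hk
    obtain ⟨j, rfl⟩ := Nat.exists_eq_succ_of_ne_zero hk0
    refine ⟨a ^ (2 ^ j), M.pow_mem haM _, ?_, ?_⟩
    · rw [← pow_mul, ← pow_succ, ← hk]; exact pow_orderOf_eq_one a
    · apply pow_ne_one_of_lt_orderOf (pow_ne_zero _ two_ne_zero)
      rw [hk]
      exact Nat.pow_lt_pow_right (by norm_num) (Nat.lt_succ_self j)
  -- no involution outside M
  have hnoinv : ∀ b : M, (x * (b : G)) * (x * (b : G)) ≠ 1 := by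
    intro b hb
    have hb2 : (x * (b : G)) ^ 2 = 1 := by rw [pow_two]; exact hb
    have := huniq.mem_zpowers hz2 hz1 hb2
    have h2 : x * (b : G) ∈ M := (Subgroup.zpowers_le.mpr hzM) this
    apply hx
    have e : x = (x * (b : G)) * (b : G)⁻¹ := by group
    rw [e]
    exact M.mul_mem h2 (M.inv_mem b.2)
  set ν := normHom M hMab x with hν
  set φ := commHom M hMab x with hφ
  set Kφ := M ⊓ Subgroup.centralizer {x} with hKφ
  have hmemK : ∀ g ∈ M, x * g = g * x → g ∈ Kφ := by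
    intro g hg hc
    refine Subgroup.mem_inf.mpr ⟨hg, ?_⟩
    rw [Subgroup.mem_centralizer_iff]
    intro h hh
    rw [Set.mem_singleton_iff] at hh
    rw [hh]
    exact hc
  have hKcomm : ∀ g ∈ Kφ, x * g = g * x := by
    intro g hg
    have := (Subgroup.mem_inf.mp hg).2
    rw [Subgroup.mem_centralizer_iff] at this
    exact this x rfl
  have hRK : ν.range ≤ Kφ := by
    rintro _ ⟨b, rfl⟩
    exact hmemK _ (normHom_mem M hMab x b) (normHom_comm M hMab x hxx b)
  have hw : (x * x)⁻¹ ∈ Kφ := by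
    apply hmemK _ (M.inv_mem hxx)
    group
  have hwR : (x * x)⁻¹ ∉ ν.range := by
    rintro ⟨b, hb⟩
    apply hnoinv b
    rw [mul_sq_eq_normHom M hMab x hxx b, ← hν, hb]
    group
  have hRneK : ν.range ≠ Kφ := fun h => hwR (h ▸ hw)
  have h2R := two_mul_card_le_of_lt hRK hRneK
  set Kν := ν.ker.map M.subtype with hKν
  have hKνM : Kν ≤ M := by
    rintro _ ⟨b, -, rfl⟩
    exact b.2
  have hKνmem : ∀ g ∈ Kν, x * g * x⁻¹ = g⁻¹ := by
    rintro _ ⟨b, hb, rfl⟩
    exact (mem_ker_normHom M hMab x b).mp hb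
  have hcKν : Nat.card Kν = Nat.card ν.ker := Subgroup.card_map_of_injective M.subtype_injective
  have hmulν := Subgroup.card_mul_index ν.ker
  rw [Subgroup.index_ker] at hmulν
  -- elements in both kernels are involutions
  have hboth : ∀ g, x * g * x⁻¹ = g⁻¹ → x * g = g * x → g ^ 2 = 1 := by
    intro g h1 h2
    have : g = g⁻¹ := by
      calc g = (g * x) * x⁻¹ := by group
        _ = (x * g) * x⁻¹ := by rw [h2]
        _ = g⁻¹ := h1
    rw [pow_two]
    calc g * g = g * g⁻¹ := by rw [← this]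
      _ = 1 := mul_inv_cancel g
  rcases le_total_of_le_zpowers hG a hKνM (inf_le_left : Kφ ≤ M) with hle | hle
  · -- Kν ≤ Kφ : impossible
    exfalso
    have h1 : Nat.card Kν ≤ 2 := by
      apply huniq.card_le_of_forall_pow_eq_one
      intro g hg
      exact hboth g (hKνmem g hg) (hKcomm g (hle hg))
    have h3 : Nat.card M ≤ Nat.card Kφ := by
      rw [← hmulν, ← hcKν]
      calc Nat.card Kν * Nat.card ν.range ≤ 2 * Nat.card ν.range := Nat.mul_le_mul_right _ h1
        _ ≤ Nat.card Kφ := h2R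
    have h4 : Kφ = M := Subgroup.eq_of_le_of_card_ge inf_le_left h3
    apply hxa
    exact hKcomm a (h4 ▸ haM)
  · -- Kφ ≤ Kν
    have h1 : Nat.card Kφ ≤ 2 := by
      apply huniq.card_le_of_forall_pow_eq_one
      intro g hg
      exact hboth g (hKνmem g (hle hg)) (hKcomm g hg)
    have hR1 : Nat.card ν.range = 1 := by
      have : 0 < Nat.card ν.range := Nat.card_pos
      omega
    have hRbot : ν.range = ⊥ := Subgroup.card_eq_one.mp hR1
    refine ⟨?_, ?_, ?_⟩
    · have : ν ⟨a, haM⟩ ∈ ν.range := ⟨_, rfl⟩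
      rw [hRbot, Subgroup.mem_bot, hν, normHom_apply] at this
      exact mul_eq_one_iff_eq_inv.mp this
    · have h5 := hboth _ (hKνmem _ (hle hw)) (hKcomm _ hw)
      rw [inv_pow, inv_eq_one] at h5
      exact h5
    · intro h
      apply hwR
      rw [h, inv_one]
      exact Subgroup.one_mem _

theorem not_four_dvd_sq_add_one (s : ℤ) : ¬ (4 : ℤ) ∣ s * s + 1 := by
  rintro ⟨c, hc⟩
  rcases Int.even_or_odd' s with ⟨t, rfl | rfl⟩
  · have : (2 * t) * (2 * t) + 1 = 4 * (t * t) + 1 := by ring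
    rw [this] at hc
    omega
  · have : (2 * t + 1) * (2 * t + 1) + 1 = 4 * (t * t + t) + 2 := by ring
    rw [this] at hc
    omega

/-- **2-groups with at most one involution** are cyclic or generalized quaternion. -/
theorem cyclic_or_quaternion_of_atMostOne {G : Type u} [Group G] [Finite G] (hG : IsPGroup 2 G)
    (huniq : AtMostOneOrderP 2 G) :
    IsCyclic G ∨ ∃ n : ℕ, 1 ≤ n ∧ Nonempty (G ≃* QuaternionGroup (2 ^ n)) := by
  have : Fact (Nat.Prime 2) := ⟨Nat.prime_two⟩
  have hbotc : IsMulCommutative (⊥ : Subgroup G) := ⟨⟨fun a b => Subsingleton.elim _ _⟩⟩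
  obtain ⟨A, -, hAn, hAc, hCA⟩ := Cfsg.Agent.Lib.H8.exists_normal_selfCentralizing hG ⊥
  have hAab : ∀ b c : A, b * c = c * b := fun b c => hAc.is_comm.comm b c
  have hAcyc : IsCyclic A :=
    isCyclic_of_comm_of_atMostOne (hG.to_subgroup A) (huniq.subgroup A) hAab
  obtain ⟨g, hg⟩ := IsCyclic.exists_generator (α := A)
  set a : G := (g : G) with ha
  have hAeq : A = Subgroup.zpowers a := by
    apply le_antisymm
    · intro x hx
      obtain ⟨k, hk⟩ := Subgroup.mem_zpowers_iff.mp (hg ⟨x, hx⟩)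
      refine Subgroup.mem_zpowers_iff.mpr ⟨k, ?_⟩
      have := congrArg Subtype.val hk
      simpa using this
    · rw [Subgroup.zpowers_le]; exact g.2
  by_cases htop : A = ⊤
  · left
    rw [isCyclic_iff_exists_zpowers_eq_top]
    exact ⟨a, by rw [← hAeq, htop]⟩
  right
  have hAn' : (Subgroup.zpowers a).Normal := hAeq ▸ hAn
  -- elements outside A with square in A invert a
  have hnc : ∀ x : G, x ∉ Subgroup.zpowers a → x * a ≠ a * x := by
    intro x hx hc
    apply hx
    rw [← hAeq, ← hCA, Subgroup.mem_centralizer_iff]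
    intro h hh
    rw [SetLike.mem_coe, hAeq] at hh
    obtain ⟨k, rfl⟩ := Subgroup.mem_zpowers_iff.mp hh
    exact ((show Commute x a from hc).zpow_right k).eq.symm
  have hinv : ∀ x : G, x ∉ Subgroup.zpowers a → x * x ∈ Subgroup.zpowers a →
      x * a * x⁻¹ = a⁻¹ ∧ (x * x) ^ 2 = 1 ∧ x * x ≠ 1 :=
    fun x hx hxx => inverts_of_atMostOne hG huniq a x hAn' hx hxx (hnc x hx)
  obtain ⟨x₀, hx₀⟩ : ∃ x : G, x ∉ Subgroup.zpowers a := by
    by_contra hne
    push Not at hne
    apply htop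
    rw [hAeq]
    exact eq_top_iff.mpr fun g _ => hne g
  -- order of a
  obtain ⟨k, hk⟩ := (IsPGroup.iff_orderOf).mp hG a
  -- no element of order 4 modulo A
  have hno4 : ∀ w : G, (w * w) * (w * w) ∈ Subgroup.zpowers a → w * w ∈ Subgroup.zpowers a := by
    intro w hw
    by_contra hww
    obtain ⟨h1, -, -⟩ := hinv (w * w) hww hw
    have hne := hnc (w * w) hww
    -- 4 ∣ orderOf a
    have hk2 : 2 ≤ k := by
      by_contra hlt
      have hk1 : k ≤ 1 := by omega
      have ha2 : a ^ 2 = 1 := by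
        apply orderOf_dvd_iff_pow_eq_one.mp
        rw [hk]
        calc 2 ^ k ∣ 2 ^ 1 := pow_dvd_pow 2 hk1
          _ = 2 := pow_one 2
      apply hne
      have hai : a⁻¹ = a := by
        rw [inv_eq_iff_mul_eq_one, ← pow_two]; exact ha2
      rw [hai] at h1
      calc w * w * a = (w * w * a * (w * w)⁻¹) * (w * w) := by group
        _ = a * (w * w) := by rw [h1]
    obtain ⟨s, hs⟩ := Subgroup.mem_zpowers_iff.mp (hAn'.conj_mem a (Subgroup.mem_zpowers a) w)
    have h2 : (w * w) * a * (w * w)⁻¹ = a ^ (s * s) := by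
      calc (w * w) * a * (w * w)⁻¹ = w * (w * a * w⁻¹) * w⁻¹ := by group
        _ = w * a ^ s * w⁻¹ := by rw [hs]
        _ = (w * a * w⁻¹) ^ s := by rw [conj_zpow]
        _ = a ^ (s * s) := by rw [← hs, ← zpow_mul]
    have h3 : a ^ (s * s + 1) = 1 := by
      rw [zpow_add, zpow_one, ← h2, h1, inv_mul_cancel]
    have h4 : ((orderOf a : ℕ) : ℤ) ∣ s * s + 1 := orderOf_dvd_iff_zpow_eq_one.mpr h3
    have h5 : (4 : ℤ) ∣ ((orderOf a : ℕ) : ℤ) := by
      rw [hk]
      have : (4 : ℕ) ∣ 2 ^ k := by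
        calc (4 : ℕ) = 2 ^ 2 := by norm_num
          _ ∣ 2 ^ k := pow_dvd_pow 2 hk2
      exact_mod_cast this
    exact not_four_dvd_sq_add_one s (h5.trans h4)
  -- every square lies in A
  have hsq : ∀ w : G, w * w ∈ Subgroup.zpowers a := by
    intro w
    -- order of w modulo A
    let q : G ⧸ Subgroup.zpowers a := QuotientGroup.mk w
    obtain ⟨j, hj⟩ := (IsPGroup.iff_orderOf).mp (hG.to_quotient (Subgroup.zpowers a)) q
    have hmem : ∀ v : G, v ∈ Subgroup.zpowers a ↔ (QuotientGroup.mk v : G ⧸ Subgroup.zpowers a) = 1 :=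
      fun v => (QuotientGroup.eq_one_iff v).symm
    by_contra hww
    have hj2 : 2 ≤ j := by
      by_contra hlt
      have hj1 : j ≤ 1 := by omega
      apply hww
      rw [hmem, QuotientGroup.mk_mul, ← pow_two]
      apply orderOf_dvd_iff_pow_eq_one.mp
      rw [hj]
      calc 2 ^ j ∣ 2 ^ 1 := pow_dvd_pow 2 hj1
        _ = 2 := pow_one 2
    -- v = w^(2^(j-2)) has order 4 mod A
    set v := w ^ (2 ^ (j - 2)) with hv
    have hv4 : (v * v) * (v * v) ∈ Subgroup.zpowers a := by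
      rw [hmem]
      have : (v * v) * (v * v) = w ^ (2 ^ j) := by
        rw [hv, ← pow_add, ← pow_add, ← two_mul, ← two_mul, ← mul_assoc]
        congr 1
        have : j = (j - 2) + 2 := by omega
        conv_rhs => rw [this, pow_add]
        ring
      rw [this, QuotientGroup.mk_pow, ← hj]
      exact pow_orderOf_eq_one q
    have hv2 := hno4 v hv4
    rw [hmem] at hv2
    have : v * v = w ^ (2 ^ (j - 1)) := by
      rw [hv, ← pow_add, ← two_mul]
      congr 1
      have : j - 1 = (j - 2) + 1 := by omega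
      rw [this, pow_succ, mul_comm]
    rw [this, QuotientGroup.mk_pow] at hv2
    have h6 := orderOf_dvd_of_pow_eq_one hv2
    rw [hj] at h6
    have := (Nat.pow_dvd_pow_iff_le_right (by norm_num : 1 < 2)).mp h6
    omega
  -- any two elements outside A differ by an element of A
  have hcoset : ∀ x₁ x₂ : G, x₁ ∉ Subgroup.zpowers a → x₂ ∉ Subgroup.zpowers a →
      x₁⁻¹ * x₂ ∈ Subgroup.zpowers a := by
    intro x₁ x₂ h1 h2
    obtain ⟨e1, -, -⟩ := hinv x₁ h1 (hsq x₁)
    obtain ⟨e2, -, -⟩ := hinv x₂ h2 (hsq x₂)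
    by_contra hcon
    apply hnc _ hcon
    have e1' : x₁⁻¹ * a⁻¹ * x₁ = a := by rw [← e1]; group
    calc x₁⁻¹ * x₂ * a = x₁⁻¹ * (x₂ * a * x₂⁻¹) * x₂ := by group
      _ = (x₁⁻¹ * a⁻¹ * x₁) * (x₁⁻¹ * x₂) := by rw [e2]; group
      _ = a * (x₁⁻¹ * x₂) := by rw [e1']
  have hidx : (Subgroup.zpowers a).index = 2 := by
    rw [Subgroup.index_eq_two_iff]
    refine ⟨x₀, fun b => ?_⟩
    by_cases hb : b ∈ Subgroup.zpowers a
    · right
      refine ⟨hb, ?_⟩
      intro h
      apply hx₀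
      have : x₀ = b⁻¹ * (b * x₀) := by group
      rw [this]
      exact Subgroup.mul_mem _ (Subgroup.inv_mem _ hb) h
    · left
      refine ⟨?_, hb⟩
      have hb' : b⁻¹ ∉ Subgroup.zpowers a := fun h => hb (by simpa using Subgroup.inv_mem _ h)
      have := hcoset b⁻¹ x₀ hb' hx₀
      rwa [inv_inv] at this
  obtain ⟨e1, e2, e3⟩ := hinv x₀ hx₀ (hsq x₀)
  have hk2 : 2 ≤ k := by
    by_contra hlt
    have hk1 : k ≤ 1 := by omega
    have ha2 : a ^ 2 = 1 := by
      apply orderOf_dvd_iff_pow_eq_one.mp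
      rw [hk]
      calc 2 ^ k ∣ 2 ^ 1 := pow_dvd_pow 2 hk1
        _ = 2 := pow_one 2
    apply hnc x₀ hx₀
    have hai : a⁻¹ = a := by
      rw [inv_eq_iff_mul_eq_one, ← pow_two]; exact ha2
    rw [hai] at e1
    calc x₀ * a = (x₀ * a * x₀⁻¹) * x₀ := by group
      _ = a * x₀ := by rw [e1]
  obtain ⟨m, rfl⟩ : ∃ m, k = m + 1 := ⟨k - 1, by omega⟩
  have hz2 : (a ^ (2 ^ m)) ^ 2 = 1 := by
    rw [← pow_mul, ← pow_succ, ← hk]; exact pow_orderOf_eq_one a
  have hz1 : a ^ (2 ^ m) ≠ 1 := by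
    apply pow_ne_one_of_lt_orderOf (pow_ne_zero _ two_ne_zero)
    rw [hk]
    exact Nat.pow_lt_pow_right (by norm_num) (Nat.lt_succ_self m)
  have hxx : x₀ * x₀ = a ^ (2 ^ m) := by
    have h1 := huniq.mem_zpowers e2 e3 hz2
    have h2 : orderOf (x₀ * x₀) = 2 := orderOf_eq_prime e2 e3
    rcases eq_one_or_eq_of_mem_zpowers_of_orderOf_two h2 h1 with h | h
    · exact absurd h hz1
    · exact h.symm
  refine ⟨m, by omega, ?_⟩
  have : NeZero (2 ^ m) := ⟨pow_ne_zero _ two_ne_zero⟩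
  apply quaternion_equiv_of_gens (2 ^ m) a x₀ _ hxx e1
  · have h1 := sup_zpowers_eq_top_of_index_two _ hidx x₀ hx₀
    rw [eq_top_iff, ← h1, sup_le_iff, Subgroup.zpowers_le, Subgroup.zpowers_le]
    exact ⟨Subgroup.subset_closure (by simp), Subgroup.subset_closure (by simp)⟩
  · have := Subgroup.card_mul_index (Subgroup.zpowers a)
    rw [hidx, Nat.card_zpowers, hk] at this
    rw [← this, pow_succ]
    ring
  · rw [← pow_succ', ← hk]
    exact pow_orderOf_eq_one a

end Cfsg.Agent.Lib.H22
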