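import Mathlib
import Cfsg.Agent.Lib.H22.UniqueOrderP
import Cfsg.Agent.Lib.H22.TwoGroupAb4

set_option autoImplicit false

/-!
# Finite nilpotent groups: coprime elements commute; groups all of whose abelian subgroups are cyclic
-/

namespace Cfsg.Agent.Lib.H22

universe u

/-- In a finite nilpotent group, elements of coprime orders commute. -/
theorem commute_of_coprime_orderOf :
    ∀ (n : ℕ) (G : Type u) [Group G] [Finite G] [Group.IsNilpotent G], Nat.card G = n →
      ∀ x y : G, (orderOf x).Coprime (orderOf y) → x * y = y * x := by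
  intro n
  induction n using Nat.strong_induction_on with
  | _ n ih =>
    intro G _ _ _ hn x y hxy
    by_cases htriv : Subsingleton G
    · rw [Subsingleton.elim x 1, Subsingleton.elim y 1]
    rw [not_subsingleton_iff_nontrivial] at htriv
    have hcne : Subgroup.center G ≠ ⊥ := Group.IsNilpotent.center_ne_bot G
    have hclt : Nat.card (G ⧸ Subgroup.center G) < n := by
      have h1 := Subgroup.card_eq_card_quotient_mul_card_subgroup (Subgroup.center G)
      have h2 : 1 < Nat.card (Subgroup.center G) := by
        rw [Subgroup.one_lt_card_iff_ne_bot]; exact hcne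
      have h3 : 0 < Nat.card (G ⧸ Subgroup.center G) := Nat.card_pos
      rw [← hn, h1]
      nlinarith
    have hdx : orderOf (x : G ⧸ Subgroup.center G) ∣ orderOf x := by
      apply orderOf_dvd_of_pow_eq_one
      rw [← QuotientGroup.mk_pow, pow_orderOf_eq_one]; rfl
    have hdy : orderOf (y : G ⧸ Subgroup.center G) ∣ orderOf y := by
      apply orderOf_dvd_of_pow_eq_one
      rw [← QuotientGroup.mk_pow, pow_orderOf_eq_one]; rfl
    have hq := ih _ hclt (G ⧸ Subgroup.center G) rfl (x : G ⧸ Subgroup.center G) y
      (Nat.Coprime.of_dvd hdx hdy hxy)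
    -- z = x y x⁻¹ y⁻¹ is central
    have hz : x * y * x⁻¹ * y⁻¹ ∈ Subgroup.center G := by
      rw [← QuotientGroup.eq_one_iff]
      simp only [QuotientGroup.mk_mul, QuotientGroup.mk_inv]
      rw [hq]; group
    set z := x * y * x⁻¹ * y⁻¹ with hzdef
    have hzc : ∀ g : G, g * z = z * g := fun g => (Subgroup.mem_center_iff.mp hz) g
    have h1 : z ^ orderOf y = 1 := by
      have e1 : x * y * x⁻¹ = z * y := by rw [hzdef]; group
      have e2 : (x * y * x⁻¹) ^ orderOf y = 1 := by
        rw [conj_pow, pow_orderOf_eq_one]; group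
      rw [e1, (show Commute z y from (hzc y).symm).mul_pow, pow_orderOf_eq_one, mul_one] at e2
      exact e2
    have h2 : z ^ orderOf x = 1 := by
      have e1 : y * x⁻¹ * y⁻¹ = x⁻¹ * z := by rw [hzdef]; group
      have e2 : (y * x⁻¹ * y⁻¹) ^ orderOf x = 1 := by
        rw [conj_pow, inv_pow, pow_orderOf_eq_one]; group
      rw [e1, (show Commute x⁻¹ z from hzc x⁻¹).mul_pow, inv_pow, pow_orderOf_eq_one, inv_one,
        one_mul] at e2
      exact e2
    have h3 : orderOf z ∣ Nat.gcd (orderOf x) (orderOf y) :=
      Nat.dvd_gcd (orderOf_dvd_of_pow_eq_one h2) (orderOf_dvd_of_pow_eq_one h1)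
    rw [hxy, Nat.dvd_one, orderOf_eq_one_iff] at h3
    calc x * y = (x * y * x⁻¹ * y⁻¹) * y * x := by group
      _ = y * x := by rw [← hzdef, h3, one_mul]

/-- A finite nilpotent group all of whose Sylow subgroups are commutative is commutative. -/
theorem comm_of_sylow_comm {G : Type*} [Group G] [Finite G] [hG : Group.IsNilpotent G]
    (h : ∀ (p : ℕ) [Fact p.Prime] (P : Sylow p G) (a b : P), a * b = b * a) (x y : G) :
    x * y = y * x := by
  obtain ⟨e⟩ := (Group.isNilpotent_of_finite_tfae (G := G)).out 0 4 |>.mp hG
  have hx := e.apply_symm_apply x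
  have hy := e.apply_symm_apply y
  have hcomm : e.symm x * e.symm y = e.symm y * e.symm x := by
    funext p P
    have : Fact (Nat.Prime (p : ℕ)) := ⟨Nat.prime_of_mem_primeFactors p.2⟩
    exact h (p : ℕ) P _ _
  calc x * y = e (e.symm x) * e (e.symm y) := by rw [hx, hy]
    _ = e (e.symm x * e.symm y) := (map_mul e _ _).symm
    _ = e (e.symm y * e.symm x) := by rw [hcomm]
    _ = y * x := by rw [map_mul, hx, hy]

/-- element-level uniqueness of involutions gives `AtMostOneOrderP 2`. -/
theorem atMostOne_two_of_unique_involution {G : Type*} [Group G]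
    (h : ∀ x y : G, x ^ 2 = 1 → x ≠ 1 → y ^ 2 = 1 → y ≠ 1 → x = y) : AtMostOneOrderP 2 G := by
  intro H K hH hK
  have key : ∀ L : Subgroup G, Nat.card L = 2 → ∃ l : G, l ^ 2 = 1 ∧ l ≠ 1 ∧
      ∀ x : G, x ∈ L ↔ x = 1 ∨ x = l := by
    intro L hL
    obtain ⟨w, hw, hwu⟩ := (Nat.card_eq_two_iff' (1 : L)).mp hL
    have hfin : Finite L := Nat.finite_of_card_ne_zero (by rw [hL]; norm_num)
    refine ⟨(w : G), ?_, fun h' => hw (Subtype.ext h'), ?_⟩
    · have : w ^ Nat.card L = 1 := pow_card_eq_one'
      rw [hL] at this
      exact_mod_cast congrArg Subtype.val this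
    · intro x
      constructor
      · intro hx
        by_cases hx1 : x = 1
        · left; exact hx1
        · right
          have := hwu ⟨x, hx⟩ (fun h' => hx1 (congrArg Subtype.val h'))
          exact congrArg Subtype.val this
      · rintro (rfl | rfl)
        · exact L.one_mem
        · exact w.2
  obtain ⟨l, hl2, hl1, hlH⟩ := key H hH
  obtain ⟨k, hk2, hk1, hkK⟩ := key K hK
  have hlk : l = k := h l k hl2 hl1 hk2 hk1
  ext x
  rw [hlH, hkK, hlk]

/-- A finite cyclic group has at most one subgroup of order `p`. -/
theorem atMostOne_of_isCyclic (p : ℕ) (hp : 0 < p) {G : Type*} [Group G] [Finite G] [IsCyclic G] :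
    AtMostOneOrderP p G := by
  classical
  have := Fintype.ofFinite G
  intro H K hH hK
  have hle := IsCyclic.card_pow_eq_one_le (α := G) hp
  have key : ∀ L : Subgroup G, Nat.card L = p →
      (L : Set G) = ((Finset.univ.filter (fun a : G => a ^ p = 1) : Finset G) : Set G) := by
    intro L hL
    have hsub : (L : Set G).toFinset ⊆ Finset.univ.filter (fun a : G => a ^ p = 1) := by
      intro a ha
      rw [Set.mem_toFinset] at ha
      rw [Finset.mem_filter]
      refine ⟨Finset.mem_univ _, ?_⟩
      have : (⟨a, ha⟩ : L) ^ Nat.card L = 1 := pow_card_eq_one'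
      rw [hL] at this
      simpa using congrArg Subtype.val this
    have hcard : (Finset.univ.filter (fun a : G => a ^ p = 1)).card ≤ (L : Set G).toFinset.card := by
      rw [Set.toFinset_card, ← Nat.card_eq_fintype_card]
      exact hle.trans hL.ge
    have := Finset.eq_of_subset_of_card_le hsub hcard
    rw [← this]
    simp
  apply SetLike.coe_injective
  rw [key H hH, key K hK]

/-- A finite `p`-group all of whose abelian subgroups are cyclic has at most one subgroup of
order `p`. -/
theorem atMostOne_of_abelian_cyclic {p : ℕ} [hp : Fact p.Prime] {R : Type*} [Group R] [Finite R]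
    (hR : IsPGroup p R)
    (hab : ∀ B : Subgroup R, (∀ a ∈ B, ∀ b ∈ B, a * b = b * a) → IsCyclic B) :
    AtMostOneOrderP p R := by
  by_cases htriv : Subsingleton R
  · intro H K hH hK
    exfalso
    have : Nat.card H = 1 := by
      have : Subsingleton H := inferInstance
      exact Nat.card_eq_one_iff_unique.mpr ⟨this, ⟨1⟩⟩
    rw [hH] at this
    exact hp.out.one_lt.ne' this
  rw [not_subsingleton_iff_nontrivial] at htriv
  have htop : (⊤ : Subgroup R) ≠ ⊥ := by
    obtain ⟨g, hg⟩ := exists_ne (1 : R)
    intro h
    have : g ∈ (⊤ : Subgroup R) := Subgroup.mem_top g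
    rw [h, Subgroup.mem_bot] at this
    exact hg this
  obtain ⟨w, -, hwc, hwo⟩ := exists_central_orderOf_eq_prime hR ⊤ htop
  have hWcard : Nat.card (Subgroup.zpowers w) = p := by rw [Nat.card_zpowers, hwo]
  have key : ∀ U : Subgroup R, Nat.card U = p → U = Subgroup.zpowers w := by
    intro U hU
    have hUcyc : IsCyclic U := isCyclic_of_prime_card hU
    have hUab := comm_of_isCyclic_subgroup U hUcyc
    have hwcomm : ∀ g : R, g * w = w * g := fun g => Subgroup.mem_center_iff.mp hwc g
    -- U ⊔ zpowers w is abelian
    have hsupab : ∀ a ∈ U ⊔ Subgroup.zpowers w, ∀ b ∈ U ⊔ Subgroup.zpowers w, a * b = b * a := by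
      have hcent : ∀ a ∈ U ⊔ Subgroup.zpowers w, U ⊔ Subgroup.zpowers w ≤ Subgroup.centralizer {a} → True :=
        fun _ _ _ => trivial
      -- centralizer trick: every element of U centralizes U ⊔ ⟨w⟩
      have h1 : ∀ u ∈ U, U ⊔ Subgroup.zpowers w ≤ Subgroup.centralizer {u} := by
        intro u hu
        apply sup_le
        · intro v hv
          rw [Subgroup.mem_centralizer_iff]
          intro h hh
          rw [Set.mem_singleton_iff] at hh
          rw [hh]; exact hUab u hu v hv
        · rw [Subgroup.zpowers_le, Subgroup.mem_centralizer_iff]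
          intro h hh
          rw [Set.mem_singleton_iff] at hh
          rw [hh]; exact hwcomm u
      intro a ha b hb
      -- b centralizes U and w
      have h2 : U ⊔ Subgroup.zpowers w ≤ Subgroup.centralizer {b} := by
        apply sup_le
        · intro u hu
          have := h1 u hu hb
          rw [Subgroup.mem_centralizer_iff] at this ⊢
          intro h hh
          rw [Set.mem_singleton_iff] at hh
          rw [hh]
          exact (this u rfl).symm
        · rw [Subgroup.zpowers_le, Subgroup.mem_centralizer_iff]
          intro h hh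
          rw [Set.mem_singleton_iff] at hh
          rw [hh]; exact hwcomm b
      have := h2 ha
      rw [Subgroup.mem_centralizer_iff] at this
      exact (this b rfl).symm
    have hcyc : IsCyclic ↥(U ⊔ Subgroup.zpowers w) := hab _ hsupab
    have hamo := atMostOne_of_isCyclic p hp.out.pos (G := ↥(U ⊔ Subgroup.zpowers w))
    have hU' : Nat.card (U.subgroupOf (U ⊔ Subgroup.zpowers w)) = p := by
      rw [← hU]
      exact Nat.card_congr (Subgroup.subgroupOfEquivOfLe le_sup_left).toEquiv
    have hW' : Nat.card ((Subgroup.zpowers w).subgroupOf (U ⊔ Subgroup.zpowers w)) = p := by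
      rw [← hWcard]
      exact Nat.card_congr (Subgroup.subgroupOfEquivOfLe le_sup_right).toEquiv
    have heq := hamo _ _ hU' hW'
    have := congrArg (Subgroup.map (U ⊔ Subgroup.zpowers w).subtype) heq
    rwa [Subgroup.map_subgroupOf_eq_of_le le_sup_left,
      Subgroup.map_subgroupOf_eq_of_le le_sup_right] at this
  intro H K hH hK
  rw [key H hH, key K hK]

end Cfsg.Agent.Lib.H22
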