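import Mathlib
import Cfsg.Agent.Lib.H22.DihQuatRecog
import Cfsg.Agent.Lib.H16.ClassTwo

/-!
# Hamiltonian (Dedekind) groups: the Dedekind-Baer theorem, ingredients   (helper22)

minimal non-commuting pair => quaternion generators; `G = Q * C_G(Q)`; the centralizer has no
elements of order 4; splitting of an abelian group without elements of order 4.
-/

set_option autoImplicit false

namespace Cfsg.Agent.Lib.H22

open Cfsg.Agent.Lib.H16

variable {G : Type*} [Group G]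

/-- In a cyclic group `⟨x⟩` of order `p ^ (a+1)`, every element of order dividing `p` is a power of
`x ^ (p ^ a)`. -/
theorem mem_zpowers_pow_of_pow_prime_eq_one {p : ℕ} (hp : p.Prime) {x w : G} {a : ℕ}
    (hx : orderOf x = p ^ (a + 1)) (hw : w ∈ Subgroup.zpowers x) (hwp : w ^ p = 1) :
    w ∈ Subgroup.zpowers (x ^ (p ^ a)) := by
  obtain ⟨k, rfl⟩ := Subgroup.mem_zpowers_iff.mp hw
  rw [← zpow_natCast, ← zpow_mul] at hwp
  have h1 : (orderOf x : ℤ) ∣ k * p := orderOf_dvd_iff_zpow_eq_one.mpr hwp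
  rw [hx, pow_succ] at h1
  push_cast at h1
  have hp0 : (p : ℤ) ≠ 0 := by exact_mod_cast hp.ne_zero
  have h2 : ((p : ℤ) ^ a) ∣ k := (mul_dvd_mul_iff_right hp0).mp h1
  obtain ⟨l, rfl⟩ := h2
  rw [zpow_mul]
  exact Subgroup.zpow_mem _ (by
    rw [← zpow_natCast]; push_cast; exact Subgroup.mem_zpowers _) l

/-- two elements of order `p` one of which is a power of the other generate the same subgroup -/
theorem zpowers_eq_of_mem_of_orderOf_eq [Finite G] {p : ℕ} {c z : G} (hc : orderOf c = p)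
    (hz : orderOf z = p) (hcz : c ∈ Subgroup.zpowers z) : Subgroup.zpowers c = Subgroup.zpowers z := by
  apply Subgroup.eq_of_le_of_card_ge
  · rwa [Subgroup.zpowers_le]
  · rw [Nat.card_zpowers, Nat.card_zpowers, hc, hz]

theorem orderOf_pow_prime_pow {p : ℕ} (hp : p.Prime) {x : G} {a : ℕ}
    (hx : orderOf x = p ^ (a + 1)) : orderOf (x ^ (p ^ a)) = p := by
  rw [orderOf_pow_of_dvd (pow_ne_zero _ hp.ne_zero) (by rw [hx]; exact pow_dvd_pow _ (Nat.le_succ a)),
    hx, pow_succ, Nat.mul_div_cancel_left _ (pow_pos hp.pos a)]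

/-- the arithmetic fact behind the minimal pair argument -/
theorem prime_dvd_mul_choose_two {p a b j' : ℕ} (hp : p.Prime) (hb : 1 ≤ b) (hba : b ≤ a)
    (hex : ¬ (p = 2 ∧ a = 1)) :
    p ∣ (j' * p ^ (a - b)) * (p ^ b * (p ^ b - 1) / 2) := by
  rcases Nat.lt_or_ge b a with hlt | hge
  · apply Dvd.dvd.mul_right
    apply Dvd.dvd.mul_left
    exact dvd_pow_self p (by omega)
  · have hab : a = b := le_antisymm hge hba
    subst hab
    apply Dvd.dvd.mul_left
    rcases hp.eq_two_or_odd' with h2 | hodd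
    · subst h2
      have ha2 : 2 ≤ a := by
        rcases Nat.lt_or_ge a 2 with h | h
        · exact absurd ⟨rfl, by omega⟩ hex
        · exact h
      obtain ⟨k, rfl⟩ : ∃ k, a = k + 2 := ⟨a - 2, by omega⟩
      have : 2 ^ (k + 2) * (2 ^ (k + 2) - 1) = 2 * (2 * (2 ^ k * (2 ^ (k + 2) - 1))) := by
        rw [pow_succ, pow_succ]; ring
      rw [this, Nat.mul_div_cancel_left _ (by norm_num : 0 < 2)]
      exact dvd_mul_right _ _
    · have hodd' : Odd (p ^ a) := hodd.pow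
      obtain ⟨k, hk⟩ := hodd'
      have : p ^ a * (p ^ a - 1) = 2 * (p ^ a * k) := by
        have : p ^ a - 1 = 2 * k := by omega
        rw [this]; ring
      rw [this, Nat.mul_div_cancel_left _ (by norm_num : 0 < 2)]
      apply Dvd.dvd.mul_right
      exact dvd_pow_self p (by omega)

theorem exists_smaller_noncommuting [Finite G] {p : ℕ} (hp : p.Prime) {x y c : G} {a b : ℕ}
    (h : y * x = x * y * c) (hcx : Commute c x) (hcy : Commute c y)
    (hc : orderOf c = p) (hx : orderOf x = p ^ (a + 1)) (hy : orderOf y = p ^ (b + 1))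
    (hb : 1 ≤ b) (hba : b ≤ a) (hcx' : c ∈ Subgroup.zpowers x) (hcy' : c ∈ Subgroup.zpowers y)
    (hex : ¬ (p = 2 ∧ a = 1)) :
    ∃ y₁ : G, ¬ Commute x y₁ ∧ orderOf y₁ < orderOf y := by
  have hcp : c ^ p = 1 := by rw [← hc]; exact pow_orderOf_eq_one c
  have hc1 : c ≠ 1 := by
    intro h1
    rw [h1, orderOf_one] at hc
    exact hp.one_lt.ne hc
  have hnc : ¬ Commute x y := by
    intro hxy
    apply hc1
    have : x * y * c = x * y * 1 := by rw [← h, mul_one, hxy.eq]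
    exact mul_left_cancel this
  have hz : orderOf (x ^ (p ^ a)) = p := orderOf_pow_prime_pow hp hx
  have hw : orderOf (y ^ (p ^ b)) = p := orderOf_pow_prime_pow hp hy
  have hcz := zpowers_eq_of_mem_of_orderOf_eq hc hz (mem_zpowers_pow_of_pow_prime_eq_one hp hx hcx' hcp)
  have hcw := zpowers_eq_of_mem_of_orderOf_eq hc hw (mem_zpowers_pow_of_pow_prime_eq_one hp hy hcy' hcp)
  have hmem : (y ^ (p ^ b))⁻¹ ∈ Subgroup.zpowers (x ^ (p ^ a)) := by
    rw [← hcz, hcw]
    exact Subgroup.inv_mem _ (Subgroup.mem_zpowers _)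
  rw [← (isOfFinOrder_of_finite _).mem_powers_iff_mem_zpowers, Submonoid.mem_powers_iff] at hmem
  obtain ⟨j', hj'⟩ := hmem
  -- the new element
  have h' : x * y = y * x * c⁻¹ := by rw [h]; group
  have hX0 := pow_mul_comm_of_central h' hcx.inv_left (j' * p ^ (a - b))
  have hcj : Commute (c ^ (j' * p ^ (a - b))) y := hcy.pow_left _
  have hcjX : Commute (c ^ (j' * p ^ (a - b))) (x ^ (j' * p ^ (a - b))) :=
    (hcx.pow_left _).pow_right _
  have hX : y * x ^ (j' * p ^ (a - b)) = x ^ (j' * p ^ (a - b)) * y * c ^ (j' * p ^ (a - b)) := by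
    have e : y * x ^ (j' * p ^ (a - b)) = x ^ (j' * p ^ (a - b)) * y * ((c⁻¹) ^ (j' * p ^ (a - b)))⁻¹ := by
      rw [hX0]; group
    rw [e, inv_pow, inv_inv]
  refine ⟨x ^ (j' * p ^ (a - b)) * y, ?_, ?_⟩
  · intro hcomm
    apply hnc
    have h1 : Commute x (x ^ (j' * p ^ (a - b))) := Commute.self_pow _ _
    have h2 : x * (x ^ (j' * p ^ (a - b)) * y) = x ^ (j' * p ^ (a - b)) * y * x := hcomm.eq
    have h3 : x ^ (j' * p ^ (a - b)) * (x * y) = x ^ (j' * p ^ (a - b)) * (y * x) := by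
      rw [← mul_assoc, ← h1.eq, mul_assoc, h2, mul_assoc]
    exact mul_left_cancel h3
  · have hpow : (x ^ (j' * p ^ (a - b)) * y) ^ (p ^ b) = 1 := by
      rw [mul_pow_of_central hX hcjX hcj (p ^ b)]
      have e1 : (x ^ (j' * p ^ (a - b))) ^ (p ^ b) = (y ^ (p ^ b))⁻¹ := by
        rw [← hj', ← pow_mul, ← pow_mul]
        congr 1
        rw [mul_assoc, ← pow_add, Nat.sub_add_cancel hba, mul_comm]
      rw [e1, inv_mul_cancel, one_mul, ← pow_mul]
      obtain ⟨t, ht⟩ := prime_dvd_mul_choose_two (j' := j') hp hb hba hex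
      rw [ht, pow_mul, hcp, one_pow]
    have hdvd : orderOf (x ^ (j' * p ^ (a - b)) * y) ∣ p ^ b := orderOf_dvd_of_pow_eq_one hpow
    have hle : orderOf (x ^ (j' * p ^ (a - b)) * y) ≤ p ^ b := Nat.le_of_dvd (pow_pos hp.pos b) hdvd
    rw [hy]
    calc orderOf (x ^ (j' * p ^ (a - b)) * y) ≤ p ^ b := hle
      _ < p ^ (b + 1) := Nat.pow_lt_pow_right hp.one_lt (Nat.lt_succ_self b)

theorem eq_of_orderOf_two_of_mem_zpowers {u v : G} (hu : orderOf u = 2) (hv : orderOf v = 2)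
    (h : u ∈ Subgroup.zpowers v) : u = v := by
  obtain ⟨k, rfl⟩ := Subgroup.mem_zpowers_iff.mp h
  have h1 : v ^ k = v ^ (k % 2) := by
    rw [← zpow_mod_orderOf, hv]; rfl
  rw [h1] at hu ⊢
  rcases Int.emod_two_eq_zero_or_one k with h0 | h0
  · rw [h0, zpow_zero, orderOf_one] at hu
    omega
  · rw [h0, zpow_one]

/-- **Minimal non-commuting pair** in a finite group all of whose cyclic subgroups are normal:
it generates a quaternion group of order 8. -/
theorem exists_quaternion_gens_of_dedekind {H : Type*} [Group H] [Finite H]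
    (hn : ∀ x : H, (Subgroup.zpowers x).Normal) (hna : ∃ a b : H, ¬ Commute a b) :
    ∃ x y : H, x ^ 4 = 1 ∧ x ^ 2 ≠ 1 ∧ y * y = x ^ 2 ∧ y * x * y⁻¹ = x⁻¹ := by
  obtain ⟨a₀, b₀, hab₀⟩ := hna
  obtain ⟨⟨x, y⟩, hxy, hmin⟩ := Set.exists_min_image {q : H × H | ¬ Commute q.1 q.2}
    (fun q => orderOf q.1 + orderOf q.2) (Set.toFinite _) ⟨(a₀, b₀), hab₀⟩
  simp only [Set.mem_ofPred_eq] at hxy hmin
  have M1 : ∀ x' : H, ¬ Commute x' y → orderOf x ≤ orderOf x' := by
    intro x' hx'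
    have := hmin (x', y) hx'
    simpa using this
  have M2 : ∀ y' : H, ¬ Commute x y' → orderOf y ≤ orderOf y' := by
    intro y' hy'
    have := hmin (x, y') hy'
    simpa using this
  obtain ⟨c, hcdef⟩ : ∃ c : H, c = y⁻¹ * x⁻¹ * y * x := ⟨_, rfl⟩
  have h : y * x = x * y * c := by rw [hcdef]; group
  have h' : x * y = y * x * c⁻¹ := by rw [h]; group
  have hcx' : c ∈ Subgroup.zpowers x := by
    have h1 : y⁻¹ * x⁻¹ * y⁻¹⁻¹ ∈ Subgroup.zpowers x :=
      (hn x).conj_mem x⁻¹ (Subgroup.inv_mem _ (Subgroup.mem_zpowers x)) y⁻¹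
    have h2 := Subgroup.mul_mem _ h1 (Subgroup.mem_zpowers x)
    rw [inv_inv] at h2
    rw [hcdef]; exact h2
  have hcy' : c ∈ Subgroup.zpowers y := by
    have h1 : x⁻¹ * y * x⁻¹⁻¹ ∈ Subgroup.zpowers y :=
      (hn y).conj_mem y (Subgroup.mem_zpowers y) x⁻¹
    have h2 := Subgroup.mul_mem _ (Subgroup.inv_mem _ (Subgroup.mem_zpowers y)) h1
    rw [inv_inv] at h2
    rw [hcdef]
    have e : y⁻¹ * x⁻¹ * y * x = y⁻¹ * (x⁻¹ * y * x) := by group
    rw [e]; exact h2
  have hcx : Commute c x := by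
    obtain ⟨k, hk⟩ := Subgroup.mem_zpowers_iff.mp hcx'
    rw [← hk]; exact (Commute.refl x).zpow_left k
  have hcy : Commute c y := by
    obtain ⟨k, hk⟩ := Subgroup.mem_zpowers_iff.mp hcy'
    rw [← hk]; exact (Commute.refl y).zpow_left k
  have hc1 : c ≠ 1 := by
    intro h1
    apply hxy
    rw [h1, mul_one] at h
    exact h.symm
  have hx1 : x ≠ 1 := by
    rintro rfl; exact hxy (Commute.one_left y)
  have hy1 : y ≠ 1 := by
    rintro rfl; exact hxy (Commute.one_right x)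
  have hox : 0 < orderOf x := orderOf_pos x
  have hoy : 0 < orderOf y := orderOf_pos y
  -- primes dividing the orders
  have stepBx : ∀ q : ℕ, q.Prime → q ∣ orderOf x → orderOf c = q := by
    intro q hq hdvd
    have h1 : orderOf (x ^ q) < orderOf x := by
      rw [orderOf_pow_of_dvd hq.ne_zero hdvd]
      exact Nat.div_lt_self hox hq.one_lt
    have h2 : Commute (x ^ q) y := by
      by_contra hcon
      exact absurd (M1 _ hcon) (not_le.mpr h1)
    have h3 := pow_eq_one_of_pow_commute h' hcx.inv_left h2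
    rw [inv_pow, inv_eq_one] at h3
    have : Fact q.Prime := ⟨hq⟩
    exact orderOf_eq_prime h3 hc1
  have stepBy : ∀ q : ℕ, q.Prime → q ∣ orderOf y → orderOf c = q := by
    intro q hq hdvd
    have h1 : orderOf (y ^ q) < orderOf y := by
      rw [orderOf_pow_of_dvd hq.ne_zero hdvd]
      exact Nat.div_lt_self hoy hq.one_lt
    have h2 : Commute (y ^ q) x := by
      by_contra hcon
      exact absurd (M2 _ (fun hh => hcon hh.symm)) (not_le.mpr h1)
    have h3 := pow_eq_one_of_pow_commute h hcy h2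
    have : Fact q.Prime := ⟨hq⟩
    exact orderOf_eq_prime h3 hc1
  obtain ⟨p, hc⟩ : ∃ p, orderOf c = p := ⟨_, rfl⟩
  have hp : p.Prime := by
    have : orderOf x ≠ 1 := fun h1 => hx1 (orderOf_eq_one_iff.mp h1)
    obtain ⟨q, hq, hqd⟩ := Nat.exists_prime_and_dvd this
    rw [← hc, stepBx q hq hqd]; exact hq
  obtain ⟨α, hα⟩ : ∃ α, orderOf x = p ^ α :=
    ⟨_, Nat.eq_prime_pow_of_unique_prime_dvd hox.ne' (fun {d} hd hdd => by
      rw [← hc, stepBx d hd hdd])⟩
  obtain ⟨β, hβ⟩ : ∃ β, orderOf y = p ^ β :=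
    ⟨_, Nat.eq_prime_pow_of_unique_prime_dvd hoy.ne' (fun {d} hd hdd => by
      rw [← hc, stepBy d hd hdd])⟩
  have hα2 : 2 ≤ α := by
    rcases Nat.lt_or_ge α 2 with hlt | hge
    · exfalso
      interval_cases α
      · rw [pow_zero] at hα; exact hx1 (orderOf_eq_one_iff.mp hα)
      · rw [pow_one] at hα
        have := zpowers_eq_of_mem_of_orderOf_eq hc hα hcx'
        have hxm : x ∈ Subgroup.zpowers c := by rw [this]; exact Subgroup.mem_zpowers x
        obtain ⟨k, hk⟩ := Subgroup.mem_zpowers_iff.mp hxm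
        apply hxy
        rw [← hk]; exact hcy.zpow_left k
    · exact hge
  have hβ2 : 2 ≤ β := by
    rcases Nat.lt_or_ge β 2 with hlt | hge
    · exfalso
      interval_cases β
      · rw [pow_zero] at hβ; exact hy1 (orderOf_eq_one_iff.mp hβ)
      · rw [pow_one] at hβ
        have := zpowers_eq_of_mem_of_orderOf_eq hc hβ hcy'
        have hym : y ∈ Subgroup.zpowers c := by rw [this]; exact Subgroup.mem_zpowers y
        obtain ⟨k, hk⟩ := Subgroup.mem_zpowers_iff.mp hym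
        apply hxy
        rw [← hk]; exact (hcx.zpow_left k).symm
    · exact hge
  obtain ⟨a, rfl⟩ : ∃ a, α = a + 1 := ⟨α - 1, by omega⟩
  obtain ⟨b, rfl⟩ : ∃ b, β = b + 1 := ⟨β - 1, by omega⟩
  have ha1 : 1 ≤ a := by omega
  have hb1 : 1 ≤ b := by omega
  have hfin : p = 2 ∧ a = 1 ∧ b = 1 := by
    rcases le_total b a with hba | hab
    · have : p = 2 ∧ a = 1 := by
        by_contra hex
        obtain ⟨y₁, hy₁, hlt⟩ := exists_smaller_noncommuting hp h hcx hcy hc hα hβ hb1 hba hcx' hcy' hex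
        exact absurd (M2 _ hy₁) (not_le.mpr hlt)
      exact ⟨this.1, this.2, by omega⟩
    · have : p = 2 ∧ b = 1 := by
        by_contra hex
        obtain ⟨x₁, hx₁, hlt⟩ := exists_smaller_noncommuting hp h' hcy.inv_left hcx.inv_left
          (by rw [orderOf_inv]; exact hc) hβ hα ha1 hab (Subgroup.inv_mem _ hcy')
          (Subgroup.inv_mem _ hcx') hex
        exact absurd (M1 _ (fun hh => hx₁ hh.symm)) (not_le.mpr hlt)
      exact ⟨this.1, by omega, this.2⟩
  obtain ⟨rfl, rfl, rfl⟩ := hfin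
  have hcp : c ^ 2 = 1 := by rw [← hc]; exact pow_orderOf_eq_one c
  have hx2 : orderOf (x ^ 2) = 2 := by
    have := orderOf_pow_prime_pow hp hα
    simpa using this
  have hy2 : orderOf (y ^ 2) = 2 := by
    have := orderOf_pow_prime_pow hp hβ
    simpa using this
  have hcx2 : c = x ^ 2 := by
    apply eq_of_orderOf_two_of_mem_zpowers hc hx2
    have := mem_zpowers_pow_of_pow_prime_eq_one hp hα hcx' hcp
    simpa using this
  have hcy2 : c = y ^ 2 := by
    apply eq_of_orderOf_two_of_mem_zpowers hc hy2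
    have := mem_zpowers_pow_of_pow_prime_eq_one hp hβ hcy' hcp
    simpa using this
  have hx4 : x ^ 4 = 1 := by
    have := pow_orderOf_eq_one x
    rw [hα] at this
    simpa using this
  refine ⟨x, y, hx4, ?_, ?_, ?_⟩
  · rw [← hcx2]; exact hc1
  · rw [← pow_two, ← hcy2, hcx2]
  · have e : y * x * y⁻¹ = x * (y * c * y⁻¹) := by rw [h]; group
    rw [e, ← hcy.eq, mul_inv_cancel_right, hcx2]
    have : x * x ^ 2 * x = 1 := by
      rw [← hx4]; group
    exact eq_inv_of_mul_eq_one_left this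

section Q8



/-- conjugates of an element `x` of order 4 generating a normal subgroup are `x` or `x⁻¹` -/
theorem conj_eq_or_inv_of_order_four (x : G) (hnx : (Subgroup.zpowers x).Normal)
    (hx4 : x ^ 4 = 1) (hx2 : x ^ 2 ≠ 1) (g : G) : g * x * g⁻¹ = x ∨ g * x * g⁻¹ = x⁻¹ := by
  have hmem : g * x * g⁻¹ ∈ Subgroup.zpowers x := hnx.conj_mem x (Subgroup.mem_zpowers x) g
  obtain ⟨k, hk⟩ := Subgroup.mem_zpowers_iff.mp hmem
  have hx1 : x ≠ 1 := by
    rintro rfl; exact hx2 (one_pow 2)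
  have h4 : (x : G) ^ (4 : ℤ) = 1 := by exact_mod_cast hx4
  have hk' : x ^ k = x ^ (k % 4) := by
    conv_lhs => rw [← Int.emod_add_mul_ediv k 4, zpow_add, zpow_mul, h4, one_zpow, mul_one]
  have hcases : k % 4 = 0 ∨ k % 4 = 1 ∨ k % 4 = 2 ∨ k % 4 = 3 := by omega
  rcases hcases with h0 | h0 | h0 | h0
  · exfalso
    rw [hk', h0, zpow_zero] at hk
    apply hx1
    have : g * x * g⁻¹ = g * 1 * g⁻¹ := by rw [← hk]; group
    exact mul_left_cancel (mul_right_cancel this)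
  · left
    rw [← hk, hk', h0, zpow_one]
  · exfalso
    rw [hk', h0] at hk
    have hk2 : g * x * g⁻¹ = x ^ 2 := by rw [← hk]; exact zpow_ofNat x 2
    apply hx2
    have e1 : g * x ^ 2 * g⁻¹ = (g * x * g⁻¹) ^ 2 := by rw [conj_pow]
    have e2 : g * x ^ 2 * g⁻¹ = 1 := by
      rw [e1, hk2, ← pow_mul]; exact hx4
    have : g * x ^ 2 * g⁻¹ = g * 1 * g⁻¹ := by rw [e2]; group
    exact mul_left_cancel (mul_right_cancel this)
  · right
    rw [← hk, hk', h0]
    have : x ^ (3 : ℤ) * x = 1 := by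
      rw [← h4]
      have : (4 : ℤ) = 3 + 1 := by norm_num
      rw [this, zpow_add, zpow_one]
    exact eq_inv_of_mul_eq_one_left this

/-- in `Q₈ = ⟨x, y⟩` conjugation by `x` inverts `y` -/
theorem q8_conj_y {x y : G} (hyy : y * y = x ^ 2) (hyx : y * x * y⁻¹ = x⁻¹) :
    x * y * x⁻¹ = y⁻¹ := by
  have A : y * x = x⁻¹ * y := by rw [← hyx]; group
  have C : x * y = y * x⁻¹ := by
    calc x * y = x * (y * x) * x⁻¹ := by group
      _ = x * (x⁻¹ * y) * x⁻¹ := by rw [A]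
      _ = y * x⁻¹ := by group
  calc x * y * x⁻¹ = y * x⁻¹ * x⁻¹ := by rw [C]
    _ = y * (x ^ 2)⁻¹ := by group
    _ = y * (y * y)⁻¹ := by rw [hyy]
    _ = y⁻¹ := by group

theorem q8_y_pow_four {x y : G} (hx4 : x ^ 4 = 1) (hyy : y * y = x ^ 2) : y ^ 4 = 1 := by
  have : y ^ 4 = (y * y) ^ 2 := by rw [← pow_two, ← pow_mul]
  rw [this, hyy, ← pow_mul]; exact hx4

theorem q8_y_sq_ne_one {x y : G} (hx2 : x ^ 2 ≠ 1) (hyy : y * y = x ^ 2) : y ^ 2 ≠ 1 := by
  rw [pow_two, hyy]; exact hx2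

/-- **`G = Q · C_G(Q)`** when `⟨x⟩` and `⟨y⟩` are normal. -/
theorem q8_exists_mul_centralizer {x y : G} (hnx : (Subgroup.zpowers x).Normal)
    (hny : (Subgroup.zpowers y).Normal) (hx4 : x ^ 4 = 1) (hx2 : x ^ 2 ≠ 1)
    (hyy : y * y = x ^ 2) (hyx : y * x * y⁻¹ = x⁻¹) (g : G) :
    ∃ q ∈ Subgroup.closure ({x, y} : Set G), (q⁻¹ * g) * x = x * (q⁻¹ * g) ∧
      (q⁻¹ * g) * y = y * (q⁻¹ * g) := by
  have hxy := q8_conj_y hyy hyx
  have hxm : x ∈ Subgroup.closure ({x, y} : Set G) := Subgroup.subset_closure (by simp)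
  have hym : y ∈ Subgroup.closure ({x, y} : Set G) := Subgroup.subset_closure (by simp)
  have key : ∀ g' : G, g' * x * g'⁻¹ = x → g' * y * g'⁻¹ = y →
      g' * x = x * g' ∧ g' * y = y * g' := by
    intro g' h1 h2
    exact ⟨by rw [← mul_inv_eq_iff_eq_mul, h1] , by rw [← mul_inv_eq_iff_eq_mul, h2]⟩
  rcases conj_eq_or_inv_of_order_four x hnx hx4 hx2 g with hgx | hgx <;>
  rcases conj_eq_or_inv_of_order_four y hny (q8_y_pow_four hx4 hyy) (q8_y_sq_ne_one hx2 hyy) g
    with hgy | hgy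
  · refine ⟨1, Subgroup.one_mem _, ?_⟩
    rw [inv_one, one_mul]
    exact key g hgx hgy
  · refine ⟨x, hxm, ?_⟩
    apply key
    · calc x⁻¹ * g * x * (x⁻¹ * g)⁻¹ = x⁻¹ * (g * x * g⁻¹) * x := by group
        _ = x := by rw [hgx]; group
    · calc x⁻¹ * g * y * (x⁻¹ * g)⁻¹ = x⁻¹ * (g * y * g⁻¹) * x := by group
        _ = x⁻¹ * (x * y * x⁻¹) * x := by rw [hgy, hxy]
        _ = y := by group
  · refine ⟨y, hym, ?_⟩
    apply key
    · calc y⁻¹ * g * x * (y⁻¹ * g)⁻¹ = y⁻¹ * (g * x * g⁻¹) * y := by group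
        _ = y⁻¹ * (y * x * y⁻¹) * y := by rw [hgx, hyx]
        _ = x := by group
    · calc y⁻¹ * g * y * (y⁻¹ * g)⁻¹ = y⁻¹ * (g * y * g⁻¹) * y := by group
        _ = y := by rw [hgy]; group
  · refine ⟨x * y, Subgroup.mul_mem _ hxm hym, ?_⟩
    apply key
    · calc (x * y)⁻¹ * g * x * ((x * y)⁻¹ * g)⁻¹ = y⁻¹ * x⁻¹ * (g * x * g⁻¹) * x * y := by group
        _ = y⁻¹ * x⁻¹ * x⁻¹ * x * y := by rw [hgx]
        _ = y⁻¹ * x⁻¹ * y := by group
        _ = y⁻¹ * (y * x * y⁻¹) * y := by rw [hyx]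
        _ = x := by group
    · calc (x * y)⁻¹ * g * y * ((x * y)⁻¹ * g)⁻¹ = y⁻¹ * x⁻¹ * (g * y * g⁻¹) * x * y := by group
        _ = y⁻¹ * x⁻¹ * (x * y * x⁻¹) * x * y := by rw [hgy, hxy]
        _ = y := by group

theorem mem_zpowers_of_pow_four {u w : G} (hu4 : u ^ 4 = 1) (hw : w ∈ Subgroup.zpowers u) :
    w = 1 ∨ w = u ∨ w = u ^ 2 ∨ w = u ^ 3 := by
  obtain ⟨k, rfl⟩ := Subgroup.mem_zpowers_iff.mp hw
  have h4 : (u : G) ^ (4 : ℤ) = 1 := by exact_mod_cast hu4
  have hk' : u ^ k = u ^ (k % 4) := by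
    conv_lhs => rw [← Int.emod_add_mul_ediv k 4, zpow_add, zpow_mul, h4, one_zpow, mul_one]
  have hcases : k % 4 = 0 ∨ k % 4 = 1 ∨ k % 4 = 2 ∨ k % 4 = 3 := by omega
  rcases hcases with h0 | h0 | h0 | h0
  · left; rw [hk', h0, zpow_zero]
  · right; left; rw [hk', h0, zpow_one]
  · right; right; left; rw [hk', h0]; exact zpow_ofNat u 2
  · right; right; right; rw [hk', h0]; exact zpow_ofNat u 3

/-- The centralizer of `Q₈ = ⟨x, y⟩` in a Dedekind group has no elements of order 4. -/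
theorem q8_centralizer_no_order_four {x y g : G} (hn : ∀ u : G, (Subgroup.zpowers u).Normal)
    (hx4 : x ^ 4 = 1) (hx2 : x ^ 2 ≠ 1) (hyy : y * y = x ^ 2) (hyx : y * x * y⁻¹ = x⁻¹)
    (hgx : g * x = x * g) (hgy : g * y = y * g) (hg4 : g ^ 4 = 1) : g ^ 2 = 1 := by
  have hxy := q8_conj_y hyy hyx
  have hy4 := q8_y_pow_four hx4 hyy
  have hcomm : Commute g y := hgy
  have hu4 : (g * y) ^ 4 = 1 := by rw [hcomm.mul_pow, hg4, hy4, one_mul]
  have hconj : x * (g * y) * x⁻¹ = g * y⁻¹ := by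
    calc x * (g * y) * x⁻¹ = (x * g) * y * x⁻¹ := by group
      _ = g * x * y * x⁻¹ := by rw [hgx]
      _ = g * (x * y * x⁻¹) := by group
      _ = g * y⁻¹ := by rw [hxy]
  have hmem : g * y⁻¹ ∈ Subgroup.zpowers (g * y) := by
    rw [← hconj]; exact (hn (g * y)).conj_mem _ (Subgroup.mem_zpowers _) x
  -- if `x` and `y` commute we get a contradiction
  have hnc : x * y ≠ y * x := by
    intro hc
    apply hx2
    have : x = x⁻¹ := by
      calc x = x * y * y⁻¹ := by group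
        _ = y * x * y⁻¹ := by rw [hc]
        _ = x⁻¹ := hyx
    calc x ^ 2 = x * x := pow_two x
      _ = x * x⁻¹ := by rw [← this]
      _ = 1 := mul_inv_cancel x
  rcases mem_zpowers_of_pow_four hu4 hmem with h0 | h0 | h0 | h0
  · exfalso
    have : g = y := by
      calc g = g * y⁻¹ * y := by group
        _ = y := by rw [h0, one_mul]
    rw [this] at hgx
    exact hnc hgx.symm
  · exfalso
    apply hx2
    have : y⁻¹ = y := mul_left_cancel h0
    calc x ^ 2 = y * y := hyy.symm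
      _ = y⁻¹ * y := by rw [this]
      _ = 1 := inv_mul_cancel y
  · exfalso
    rw [hcomm.mul_pow] at h0
    have h1 : g = y⁻¹ * (x ^ 2)⁻¹ := by
      have : y⁻¹ = g * (y * y) := by
        have e : g * y⁻¹ = g * (g * y ^ 2) := by rw [h0, pow_two g, mul_assoc]
        rw [← pow_two]
        exact mul_left_cancel e
      rw [← hyy]
      calc g = g * (y * y) * (y * y)⁻¹ := by group
        _ = y⁻¹ * (y * y)⁻¹ := by rw [← this]
    apply hnc
    have h2 : y⁻¹ * (x ^ 2)⁻¹ * x = x * (y⁻¹ * (x ^ 2)⁻¹) := by rw [← h1]; exact hgx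
    have h3 : y⁻¹ * x = x * y⁻¹ := by
      calc y⁻¹ * x = y⁻¹ * (x ^ 2)⁻¹ * x * x ^ 2 := by group
        _ = x * (y⁻¹ * (x ^ 2)⁻¹) * x ^ 2 := by rw [h2]
        _ = x * y⁻¹ := by group
    calc x * y = y * (y⁻¹ * x) * y := by group
      _ = y * (x * y⁻¹) * y := by rw [h3]
      _ = y * x := by group
  · rw [hcomm.mul_pow] at h0
    have h1 : g = g ^ 3 := by
      calc g = g * y⁻¹ * y := by group
        _ = g ^ 3 * y ^ 3 * y := by rw [h0]
        _ = g ^ 3 * y ^ 4 := by group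
        _ = g ^ 3 := by rw [hy4, mul_one]
    have h2 : g * 1 = g * g ^ 2 := by
      rw [mul_one]
      calc g = g ^ 3 := h1
        _ = g * g ^ 2 := by group
    exact (mul_left_cancel h2).symm

open QuaternionGroup in
theorem q8_sq_cases : ∀ g : QuaternionGroup 2, g = 1 ∨ g = a 2 ∨ g * g = a 2 := by decide

open QuaternionGroup in
theorem q8_center_cases : ∀ q : QuaternionGroup 2, q * a 1 = a 1 * q → q * xa 0 = xa 0 * q →
    q = 1 ∨ q = a 2 := by decide

/-- the subgroup generated by quaternion generators is a copy of `Q₈` with centre `⟨x²⟩` -/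
theorem q8_exists_subgroup {x y : G} (hx4 : x ^ 4 = 1) (hx2 : x ^ 2 ≠ 1)
    (hyy : y * y = x ^ 2) (hyx : y * x * y⁻¹ = x⁻¹) :
    ∃ Q : Subgroup G, Nonempty (Q ≃* QuaternionGroup 2) ∧ x ∈ Q ∧ y ∈ Q ∧
      Q ≤ Subgroup.closure {x, y} ∧
      ∀ g ∈ Q, g * x = x * g → g * y = y * g → g = 1 ∨ g = x ^ 2 := by
  have hr : x ^ (2 * 2) = 1 := hx4
  have hfa2 : quaternionLift 2 x y hr hyy hyx (QuaternionGroup.a 2) = x ^ 2 := by
    rw [quaternionLift_a]; rfl
  have hfa1 : quaternionLift 2 x y hr hyy hyx (QuaternionGroup.a 1) = x := by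
    rw [quaternionLift_a]
    have : (1 : ZMod (2 * 2)).val = 1 := rfl
    rw [this, pow_one]
  have hfxa0 : quaternionLift 2 x y hr hyy hyx (QuaternionGroup.xa 0) = y := by
    rw [quaternionLift_xa]
    have : (0 : ZMod (2 * 2)).val = 0 := rfl
    rw [this, pow_zero, mul_one]
  have hinj : Function.Injective (quaternionLift 2 x y hr hyy hyx) := by
    rw [injective_iff_map_eq_one]
    intro q hq
    rcases q8_sq_cases q with h | h | h
    · exact h
    · exfalso; rw [h, hfa2] at hq; exact hx2 hq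
    · exfalso
      have := congrArg (quaternionLift 2 x y hr hyy hyx) h
      rw [map_mul, hq, hfa2, one_mul] at this
      exact hx2 this.symm
  refine ⟨(quaternionLift 2 x y hr hyy hyx).range,
    ⟨(MonoidHom.ofInjective hinj).symm⟩, ⟨_, hfa1⟩, ⟨_, hfxa0⟩, ?_, ?_⟩
  · rintro _ ⟨q, rfl⟩
    have hxm : x ∈ Subgroup.closure ({x, y} : Set G) := Subgroup.subset_closure (by simp)
    have hym : y ∈ Subgroup.closure ({x, y} : Set G) := Subgroup.subset_closure (by simp)
    rcases q with i | i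
    · rw [quaternionLift_a]; exact Subgroup.pow_mem _ hxm _
    · rw [quaternionLift_xa]; exact Subgroup.mul_mem _ hym (Subgroup.pow_mem _ hxm _)
  · rintro _ ⟨q, rfl⟩ h1 h2
    have e1 : q * QuaternionGroup.a 1 = QuaternionGroup.a 1 * q := by
      apply hinj
      rw [map_mul, map_mul, hfa1]; exact h1
    have e2 : q * QuaternionGroup.xa 0 = QuaternionGroup.xa 0 * q := by
      apply hinj
      rw [map_mul, map_mul, hfxa0]; exact h2
    rcases q8_center_cases q e1 e2 with h | h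
    · left; rw [h, map_one]
    · right; rw [h, hfa2]

end Q8

theorem mem_zpowers_of_sq_eq_one {t z : G} (ht : t ^ 2 = 1) (hz : z ∈ Subgroup.zpowers t) :
    z = 1 ∨ z = t := by
  obtain ⟨k, rfl⟩ := Subgroup.mem_zpowers_iff.mp hz
  have h2 : (t : G) ^ (2 : ℤ) = 1 := by exact_mod_cast ht
  have hk' : t ^ k = t ^ (k % 2) := by
    conv_lhs => rw [← Int.emod_add_mul_ediv k 2, zpow_add, zpow_mul, h2, one_zpow, mul_one]
  rcases Int.emod_two_eq_zero_or_one k with h0 | h0
  · left; rw [hk', h0, zpow_zero]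
  · right; rw [hk', h0, zpow_one]

/-- splitting an abelian subgroup with no elements of order 4 in a Dedekind group -/
theorem exists_split_of_no_order_four [Finite G] (hn : ∀ H : Subgroup G, H.Normal) (C : Subgroup G)
    (hCab : ∀ u ∈ C, ∀ v ∈ C, u * v = v * u) (hno4 : ∀ g ∈ C, g ^ 4 = 1 → g ^ 2 = 1)
    {c : G} (hcC : c ∈ C) (hc1 : c ≠ 1) (hc2 : c ^ 2 = 1) :
    ∃ E A : Subgroup G, E ≤ C ∧ A ≤ C ∧ (∀ e ∈ E, e ^ 2 = 1) ∧ (∀ a ∈ A, Odd (orderOf a)) ∧
      c ∉ E ∧ C ≤ (E ⊔ Subgroup.zpowers c) ⊔ A := by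
  -- 2-power elements are involutions
  have h2pow : ∀ k : ℕ, ∀ g ∈ C, g ^ (2 ^ k) = 1 → g ^ 2 = 1 := by
    intro k
    induction k with
    | zero =>
      intro g _ hg
      rw [pow_zero, pow_one] at hg
      rw [hg, one_pow]
    | succ k ih =>
      intro g hgC hg
      rcases Nat.eq_zero_or_pos k with rfl | hk
      · simpa using hg
      · obtain ⟨k', rfl⟩ : ∃ k', k = k' + 1 := ⟨k - 1, by omega⟩
        apply ih g hgC
        have h4 : (g ^ (2 ^ k')) ^ 4 = 1 := by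
          rw [← pow_mul, ← hg]
          congr 1
          rw [pow_succ, pow_succ]; ring
        have := hno4 _ (C.pow_mem hgC _) h4
        rw [← pow_mul] at this
        rw [pow_succ]; exact this
  obtain ⟨T, hT⟩ : ∃ T : Subgroup G, ∀ g, g ∈ T ↔ g ∈ C ∧ g ^ 2 = 1 :=
    ⟨{ carrier := {g | g ∈ C ∧ g ^ 2 = 1}
       mul_mem' := by
         rintro a b ⟨ha, ha2⟩ ⟨hb, hb2⟩
         refine ⟨C.mul_mem ha hb, ?_⟩
         have : Commute a b := hCab a ha b hb
         rw [this.mul_pow, ha2, hb2, one_mul]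
       one_mem' := ⟨C.one_mem, one_pow 2⟩
       inv_mem' := by
         rintro a ⟨ha, ha2⟩
         exact ⟨C.inv_mem ha, by rw [inv_pow, ha2, inv_one]⟩ }, fun g => Iff.rfl⟩
  obtain ⟨A, hA⟩ : ∃ A : Subgroup G, ∀ g, g ∈ A ↔ g ∈ C ∧ Odd (orderOf g) :=
    ⟨{ carrier := {g | g ∈ C ∧ Odd (orderOf g)}
       mul_mem' := by
         rintro a b ⟨ha, ha2⟩ ⟨hb, hb2⟩
         refine ⟨C.mul_mem ha hb, ?_⟩
         have : Commute a b := hCab a ha b hb
         exact Odd.of_dvd_nat (ha2.mul hb2) this.orderOf_mul_dvd_mul_orderOf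
       one_mem' := ⟨C.one_mem, by rw [orderOf_one]; exact odd_one⟩
       inv_mem' := by
         rintro a ⟨ha, ha2⟩
         exact ⟨C.inv_mem ha, by rw [orderOf_inv]; exact ha2⟩ }, fun g => Iff.rfl⟩
  have hTC : T ≤ C := fun g hg => ((hT g).mp hg).1
  have hAC : A ≤ C := fun g hg => ((hA g).mp hg).1
  have hCTA : C ≤ T ⊔ A := by
    intro g hg
    obtain ⟨k, m, hm, hkm⟩ := Nat.exists_eq_two_pow_mul_odd (orderOf_pos g).ne'
    have h1 : g ^ m ∈ T := by
      rw [hT]
      refine ⟨C.pow_mem hg _, h2pow k _ (C.pow_mem hg _) ?_⟩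
      rw [← pow_mul, mul_comm, ← hkm, pow_orderOf_eq_one]
    have h2 : g ^ (2 ^ k) ∈ A := by
      rw [hA]
      refine ⟨C.pow_mem hg _, ?_⟩
      apply Odd.of_dvd_nat hm
      apply orderOf_dvd_of_pow_eq_one
      rw [← pow_mul, ← hkm, pow_orderOf_eq_one]
    have hcop : Nat.Coprime m (2 ^ k) := Nat.Coprime.pow_right k (Nat.coprime_two_right.mpr hm)
    obtain ⟨s, t, hst⟩ := Nat.isCoprime_iff_coprime.mpr hcop
    have hg' : g = (g ^ m) ^ s * (g ^ (2 ^ k)) ^ t := by
      rw [← zpow_natCast, ← zpow_natCast, ← zpow_mul, ← zpow_mul, ← zpow_add]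
      have : ((m : ℕ) : ℤ) * s + ((2 ^ k : ℕ) : ℤ) * t = 1 := by
        rw [← hst]; push_cast; ring
      rw [this, zpow_one]
    rw [hg']
    exact Subgroup.mul_mem _ (Subgroup.mem_sup_left (Subgroup.zpow_mem _ h1 _))
      (Subgroup.mem_sup_right (Subgroup.zpow_mem _ h2 _))
  have hcT : c ∈ T := (hT c).mpr ⟨hcC, hc2⟩
  obtain ⟨E, -, hEmax⟩ := Finite.exists_le_maximal (p := fun E' : Subgroup G => E' ≤ T ∧ c ∉ E')
    (a := ⊥) ⟨bot_le, by rw [Subgroup.mem_bot]; exact hc1⟩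
  have hET : E ≤ T := hEmax.prop.1
  have hcE : c ∉ E := hEmax.prop.2
  have hTE : T ≤ E ⊔ Subgroup.zpowers c := by
    intro t ht
    by_cases htE : t ∈ E
    · exact Subgroup.mem_sup_left htE
    · have ht2 : t ^ 2 = 1 := ((hT t).mp ht).2
      have hc : c ∈ E ⊔ Subgroup.zpowers t := by
        by_contra hcon
        have := hEmax.le_of_ge ⟨sup_le hET ((Subgroup.zpowers_le).mpr ht), hcon⟩ le_sup_left
        exact htE (this (Subgroup.mem_sup_right (Subgroup.mem_zpowers t)))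
      have := hn (Subgroup.zpowers t)
      obtain ⟨e, he, z, hz, hez⟩ := Subgroup.mem_sup_of_normal_right.mp hc
      rcases mem_zpowers_of_sq_eq_one ht2 hz with rfl | rfl
      · exfalso; apply hcE; rw [← hez, mul_one]; exact he
      · have : z = e⁻¹ * c := by rw [← hez]; group
        rw [this]
        exact Subgroup.mul_mem _ (Subgroup.mem_sup_left (E.inv_mem he))
          (Subgroup.mem_sup_right (Subgroup.mem_zpowers c))
  refine ⟨E, A, hET.trans hTC, hAC, fun e he => ((hT e).mp (hET he)).2,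
    fun a ha => ((hA a).mp ha).2, hcE, ?_⟩
  exact hCTA.trans (sup_le_sup_right hTE A)

end Cfsg.Agent.Lib.H22
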