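import Mathlib
import Cfsg.Agent.Lib.H22.Hamiltonian

/-!
# Odd-order automorphisms of `Q₈` (helper22)

If `g` has odd order, normalizes `Q = ⟨x, y⟩ ≅ Q₈` and does not centralize it, then `Q` has standard
generators `i, j` with `g i g⁻¹ = j`, `g j g⁻¹ = i j`.
-/

set_option autoImplicit false

namespace Cfsg.Agent.Lib.H22

variable {G : Type*} [Group G]

/-- elements of the group generated by standard quaternion generators -/
theorem q8_mem_closure_cases {x y : G} (hx4 : x ^ 4 = 1) (hyy : y * y = x ^ 2)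
    (hyx : y * x * y⁻¹ = x⁻¹) {q : G} (hq : q ∈ Subgroup.closure ({x, y} : Set G)) :
    ∃ k : ℕ, q = x ^ k ∨ q = y * x ^ k := by
  have hr : x ^ (2 * 2) = 1 := hx4
  have hle : Subgroup.closure ({x, y} : Set G) ≤ (quaternionLift 2 x y hr hyy hyx).range := by
    rw [Subgroup.closure_le]
    rintro z (rfl | rfl)
    · refine ⟨QuaternionGroup.a 1, ?_⟩
      rw [quaternionLift_a]
      have : (1 : ZMod (2 * 2)).val = 1 := rfl
      rw [this, pow_one]
    · refine ⟨QuaternionGroup.xa 0, ?_⟩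
      rw [quaternionLift_xa]
      have : (0 : ZMod (2 * 2)).val = 0 := rfl
      rw [this, pow_zero, mul_one]
  obtain ⟨u, rfl⟩ := hle hq
  rcases u with i | i
  · exact ⟨i.val, Or.inl (quaternionLift_a 2 x y hr hyy hyx i)⟩
  · exact ⟨i.val, Or.inr (quaternionLift_xa 2 x y hr hyy hyx i)⟩

/-- an element of odd order is a power of its square -/
theorem commute_of_sq_commute_of_odd {g u : G} (hg : Odd (orderOf g)) (h : Commute (g ^ 2) u) :
    Commute g u := by
  obtain ⟨k, hk⟩ := hg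
  have : g = (g ^ 2) ^ (k + 1) := by
    rw [← pow_mul]
    have : 2 * (k + 1) = orderOf g + 1 := by omega
    rw [this, pow_succ, pow_orderOf_eq_one, one_mul]
  rw [this]
  exact h.pow_left _

theorem odd_orderOf_pow {g : G} (hg : Odd (orderOf g)) (n : ℕ) : Odd (orderOf (g ^ n)) :=
  Odd.of_dvd_nat hg (orderOf_pow_dvd n)

theorem conj_eq_or_inv_of_mem_zpowers {x g : G} (hx4 : x ^ 4 = 1) (hx2 : x ^ 2 ≠ 1)
    (hmem : g * x * g⁻¹ ∈ Subgroup.zpowers x) : g * x * g⁻¹ = x ∨ g * x * g⁻¹ = x⁻¹ := by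
  have hx1 : x ≠ 1 := by
    rintro rfl; exact hx2 (one_pow 2)
  rcases mem_zpowers_of_pow_four hx4 hmem with h0 | h0 | h0 | h0
  · exfalso
    apply hx1
    have : g * x * g⁻¹ = g * 1 * g⁻¹ := by rw [h0]; group
    exact mul_left_cancel (mul_right_cancel this)
  · left; exact h0
  · exfalso
    apply hx2
    have e1 : g * x ^ 2 * g⁻¹ = (g * x * g⁻¹) ^ 2 := by rw [conj_pow]
    have e2 : g * x ^ 2 * g⁻¹ = 1 := by
      rw [e1, h0, ← pow_mul]; exact hx4
    have : g * x ^ 2 * g⁻¹ = g * 1 * g⁻¹ := by rw [e2]; group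
    exact mul_left_cancel (mul_right_cancel this)
  · right
    rw [h0]
    have : x ^ 3 * x = 1 := by rw [← pow_succ]; exact hx4
    exact eq_inv_of_mul_eq_one_left this

/-- an odd-order element normalizing `⟨x⟩`, `x` of order 4, centralizes `x` -/
theorem commute_of_conj_mem_zpowers_of_odd {x g : G} (hx4 : x ^ 4 = 1) (hx2 : x ^ 2 ≠ 1)
    (hg : Odd (orderOf g)) (hmem : g * x * g⁻¹ ∈ Subgroup.zpowers x) : Commute g x := by
  rcases conj_eq_or_inv_of_mem_zpowers hx4 hx2 hmem with h | h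
  · show g * x = x * g
    calc g * x = g * x * g⁻¹ * g := by group
      _ = x * g := by rw [h]
  · apply commute_of_sq_commute_of_odd hg
    show g ^ 2 * x = x * g ^ 2
    have h2 : g ^ 2 * x * (g ^ 2)⁻¹ = x := by
      calc g ^ 2 * x * (g ^ 2)⁻¹ = g * (g * x * g⁻¹) * g⁻¹ := by rw [pow_two]; group
        _ = g * x⁻¹ * g⁻¹ := by rw [h]
        _ = (g * x * g⁻¹)⁻¹ := by group
        _ = x := by rw [h, inv_inv]
    calc g ^ 2 * x = g ^ 2 * x * (g ^ 2)⁻¹ * g ^ 2 := by group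
      _ = x * g ^ 2 := by rw [h2]

theorem orderOf_eq_four {x : G} (hx4 : x ^ 4 = 1) (hx2 : x ^ 2 ≠ 1) : orderOf x = 4 := by
  have : Fact (Nat.Prime 2) := ⟨Nat.prime_two⟩
  have := orderOf_eq_prime_pow (p := 2) (n := 1) (x := x) (by simpa using hx2) (by simpa using hx4)
  simpa using this

/-- (C3) an odd-order element normalizing `Q = ⟨x, y⟩` and centralizing `x` centralizes `y` -/
theorem commute_y_of_commute_x {x y g : G} (hx4 : x ^ 4 = 1) (hx2 : x ^ 2 ≠ 1)
    (hyy : y * y = x ^ 2) (hyx : y * x * y⁻¹ = x⁻¹) (hg : Odd (orderOf g))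
    (hgy : g * y * g⁻¹ ∈ Subgroup.closure ({x, y} : Set G)) (hc : Commute g x) : Commute g y := by
  obtain ⟨k, hk | hk⟩ := q8_mem_closure_cases hx4 hyy hyx hgy
  · exfalso
    have hck : Commute g (x ^ k) := hc.pow_right k
    have hy : y = x ^ k := by
      calc y = g⁻¹ * (g * y * g⁻¹) * g := by group
        _ = g⁻¹ * x ^ k * g := by rw [hk]
        _ = g⁻¹ * (x ^ k * g) := by group
        _ = g⁻¹ * (g * x ^ k) := by rw [hck.eq]
        _ = x ^ k := by group
    apply hx2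
    have h1 : x = x⁻¹ := by
      calc x = x ^ k * x * (x ^ k)⁻¹ := by
            rw [← pow_succ, pow_succ', mul_assoc, mul_inv_cancel, mul_one]
        _ = x⁻¹ := by rw [← hy, hyx]
    calc x ^ 2 = x * x := pow_two x
      _ = x * x⁻¹ := by rw [← h1]
      _ = 1 := mul_inv_cancel x
  · have hck : Commute g (x ^ k) := hc.pow_right k
    have hind : ∀ s : ℕ, g ^ s * y * (g ^ s)⁻¹ = y * (x ^ k) ^ s := by
      intro s
      induction s with
      | zero => simp
      | succ s ih =>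
        have hcs : Commute g ((x ^ k) ^ s) := hck.pow_right s
        calc g ^ (s + 1) * y * (g ^ (s + 1))⁻¹ = g * (g ^ s * y * (g ^ s)⁻¹) * g⁻¹ := by
              rw [pow_succ']; group
          _ = g * (y * (x ^ k) ^ s) * g⁻¹ := by rw [ih]
          _ = (g * y * g⁻¹) * (g * (x ^ k) ^ s) * g⁻¹ := by group
          _ = (y * x ^ k) * ((x ^ k) ^ s * g) * g⁻¹ := by rw [hk, hcs.eq]
          _ = y * (x ^ k * (x ^ k) ^ s) := by group
          _ = y * (x ^ k) ^ (s + 1) := by rw [← pow_succ']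
    have h1 := hind (orderOf g)
    rw [pow_orderOf_eq_one, one_mul, inv_one, mul_one] at h1
    have h2 : (x ^ k) ^ orderOf g = 1 := by
      have : y * 1 = y * (x ^ k) ^ orderOf g := by rw [mul_one]; exact h1
      exact (mul_left_cancel this).symm
    rw [← pow_mul] at h2
    have h3 : orderOf x ∣ k * orderOf g := orderOf_dvd_of_pow_eq_one h2
    rw [orderOf_eq_four hx4 hx2] at h3
    have hcop : Nat.Coprime 4 (orderOf g) := by
      have : Nat.Coprime 2 (orderOf g) := Nat.coprime_two_left.mpr hg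
      exact Nat.Coprime.pow_left 2 this
    have h4 : 4 ∣ k := hcop.dvd_of_dvd_mul_right h3
    have h5 : x ^ k = 1 := by
      obtain ⟨c, rfl⟩ := h4
      rw [pow_mul, hx4, one_pow]
    rw [h5, mul_one] at hk
    show g * y = y * g
    calc g * y = g * y * g⁻¹ * g := by group
      _ = y * g := by rw [hk]

/-- (C4) any element of `Q` outside `⟨x⟩` forms a standard pair with `x` -/
theorem q8_gens_of_not_mem {x y j : G} (hx4 : x ^ 4 = 1) (hyy : y * y = x ^ 2)
    (hyx : y * x * y⁻¹ = x⁻¹) (hj : j ∈ Subgroup.closure ({x, y} : Set G))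
    (hjx : j ∉ Subgroup.zpowers x) :
    j * j = x ^ 2 ∧ j * x * j⁻¹ = x⁻¹ ∧ y ∈ Subgroup.closure ({x, j} : Set G) := by
  obtain ⟨k, hk | hk⟩ := q8_mem_closure_cases hx4 hyy hyx hj
  · exfalso; apply hjx; rw [hk]; exact Subgroup.pow_mem _ (Subgroup.mem_zpowers x) k
  · have hconj : y * x ^ k * y⁻¹ = (x⁻¹) ^ k := by rw [← conj_pow, hyx]
    have hyk : y * x ^ k = (x⁻¹) ^ k * y := by rw [← hconj]; group
    refine ⟨?_, ?_, ?_⟩
    · calc j * j = (y * x ^ k) * (y * x ^ k) := by rw [hk]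
        _ = (x⁻¹) ^ k * y * (y * x ^ k) := by rw [hyk]
        _ = (x⁻¹) ^ k * (y * y) * x ^ k := by group
        _ = (x⁻¹) ^ k * x ^ 2 * x ^ k := by rw [hyy]
        _ = x ^ 2 := by group
    · calc j * x * j⁻¹ = y * (x ^ k * x * (x ^ k)⁻¹) * y⁻¹ := by rw [hk]; group
        _ = y * x * y⁻¹ := by
            have : x ^ k * x * (x ^ k)⁻¹ = x := by
              rw [← pow_succ, pow_succ', mul_assoc, mul_inv_cancel, mul_one]
            rw [this]
        _ = x⁻¹ := hyx
    · have : y = j * (x ^ k)⁻¹ := by rw [hk]; group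
      rw [this]
      exact Subgroup.mul_mem _ (Subgroup.subset_closure (by simp))
        (Subgroup.inv_mem _ (Subgroup.pow_mem _ (Subgroup.subset_closure (by simp)) k))

/-- (C5) **odd-order automorphisms of `Q₈`**: standard generators permuted by `g`. -/
theorem exists_sl23_gens {x y g : G} (hx4 : x ^ 4 = 1) (hx2 : x ^ 2 ≠ 1)
    (hyy : y * y = x ^ 2) (hyx : y * x * y⁻¹ = x⁻¹) (hg : Odd (orderOf g))
    (hgx : g * x * g⁻¹ ∈ Subgroup.closure ({x, y} : Set G))
    (hgy : g * y * g⁻¹ ∈ Subgroup.closure ({x, y} : Set G))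
    (hnc : ¬ (Commute g x ∧ Commute g y)) :
    ∃ i j : G, i ∈ Subgroup.closure ({x, y} : Set G) ∧ j ∈ Subgroup.closure ({x, y} : Set G) ∧
      i ^ 4 = 1 ∧ i ^ 2 ≠ 1 ∧ j * j = i ^ 2 ∧ j * i * j⁻¹ = i⁻¹ ∧
      g * i * g⁻¹ = j ∧ g * j * g⁻¹ = i * j := by
  have hxQ : x ∈ Subgroup.closure ({x, y} : Set G) := Subgroup.subset_closure (by simp)
  have hncx : ¬ Commute g x := fun hc =>
    hnc ⟨hc, commute_y_of_commute_x hx4 hx2 hyy hyx hg hgy hc⟩
  obtain ⟨j, hjdef⟩ : ∃ j : G, j = g * x * g⁻¹ := ⟨_, rfl⟩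
  have hjQ : j ∈ Subgroup.closure ({x, y} : Set G) := by rw [hjdef]; exact hgx
  have hjx : j ∉ Subgroup.zpowers x := by
    intro hmem
    rw [hjdef] at hmem
    exact hncx (commute_of_conj_mem_zpowers_of_odd hx4 hx2 hg hmem)
  obtain ⟨hjj, hjxc, hyj⟩ := q8_gens_of_not_mem hx4 hyy hyx hjQ hjx
  have hQeq : Subgroup.closure ({x, y} : Set G) = Subgroup.closure ({x, j} : Set G) := by
    apply le_antisymm
    · rw [Subgroup.closure_le]
      rintro z (rfl | rfl)
      · exact Subgroup.subset_closure (by simp)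
      · exact hyj
    · rw [Subgroup.closure_le]
      rintro z (rfl | rfl)
      · exact hxQ
      · exact hjQ
  have hnorm : ∀ q ∈ Subgroup.closure ({x, y} : Set G),
      g * q * g⁻¹ ∈ Subgroup.closure ({x, y} : Set G) := by
    have hle : Subgroup.closure ({x, y} : Set G) ≤
        (Subgroup.closure ({x, y} : Set G)).comap (MulAut.conj g).toMonoidHom := by
      rw [Subgroup.closure_le]
      rintro z (rfl | rfl)
      · exact hgx
      · exact hgy
    exact fun q hq => hle hq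
  have hj4 : j ^ 4 = 1 := q8_y_pow_four hx4 hjj
  have hj2 : j ^ 2 ≠ 1 := q8_y_sq_ne_one hx2 hjj
  -- `g` does not commute with `j`
  have hncj : ¬ Commute g j := by
    intro hc
    apply hncx
    have h1 : g * j * g⁻¹ = j := by
      calc g * j * g⁻¹ = j * g * g⁻¹ := by rw [hc.eq]
        _ = j := by group
    have h2 : g * (g * x * g⁻¹) * g⁻¹ = g * x * g⁻¹ := by rw [← hjdef]; exact h1
    have h3 : g * x * g⁻¹ = x := by
      calc g * x * g⁻¹ = g⁻¹ * (g * (g * x * g⁻¹) * g⁻¹) * g := by group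
        _ = g⁻¹ * (g * x * g⁻¹) * g := by rw [h2]
        _ = x := by group
    show g * x = x * g
    calc g * x = g * x * g⁻¹ * g := by group
      _ = x * g := by rw [h3]
  have ht : g * j * g⁻¹ ∈ Subgroup.closure ({x, j} : Set G) := by
    rw [← hQeq]; exact hnorm j hjQ
  obtain ⟨k, hk | hk⟩ := q8_mem_closure_cases hx4 hjj hjxc ht
  · exfalso
    apply hncx
    apply commute_of_sq_commute_of_odd hg
    apply commute_of_conj_mem_zpowers_of_odd hx4 hx2 (odd_orderOf_pow hg 2)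
    have : g ^ 2 * x * (g ^ 2)⁻¹ = g * j * g⁻¹ := by rw [hjdef, pow_two]; group
    rw [this, hk]
    exact Subgroup.pow_mem _ (Subgroup.mem_zpowers x) k
  · have hmod : x ^ k = x ^ (k % 4) := by
      rw [← orderOf_eq_four hx4 hx2, pow_mod_orderOf]
    have hlt : k % 4 < 4 := Nat.mod_lt _ (by norm_num)
    rw [hmod] at hk
    interval_cases hr : k % 4
    · exfalso
      apply hncj
      rw [pow_zero, mul_one] at hk
      show g * j = j * g
      calc g * j = g * j * g⁻¹ * g := by group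
        _ = j * g := by rw [hk]
    · -- `g j g⁻¹ = j x`
      rw [pow_one] at hk
      have hjxinv : j⁻¹ * x * j = x⁻¹ := by
        calc j⁻¹ * x * j = j⁻¹ * (j * x * j⁻¹)⁻¹ * j := by rw [hjxc, inv_inv]
          _ = x⁻¹ := by group
      refine ⟨x⁻¹, j⁻¹, Subgroup.inv_mem _ hxQ, Subgroup.inv_mem _ hjQ, ?_, ?_, ?_, ?_, ?_, ?_⟩
      · rw [inv_pow, hx4, inv_one]
      · rw [inv_pow]; intro h; exact hx2 (inv_eq_one.mp h)
      · rw [inv_pow, ← hjj]; group
      · calc j⁻¹ * x⁻¹ * j⁻¹⁻¹ = (j⁻¹ * x * j)⁻¹ := by group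
          _ = x⁻¹⁻¹ := by rw [hjxinv]
      · calc g * x⁻¹ * g⁻¹ = (g * x * g⁻¹)⁻¹ := by group
          _ = j⁻¹ := by rw [← hjdef]
      · calc g * j⁻¹ * g⁻¹ = (g * j * g⁻¹)⁻¹ := by group
          _ = (j * x)⁻¹ := by rw [hk]
          _ = x⁻¹ * j⁻¹ := by group
    · exfalso
      apply hncj
      apply commute_of_conj_mem_zpowers_of_odd hj4 hj2 hg
      rw [hk, ← hjj]
      have : j * (j * j) = j ^ 3 := by rw [pow_succ', pow_two]
      rw [this]
      exact Subgroup.pow_mem _ (Subgroup.mem_zpowers j) 3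
    · -- `g j g⁻¹ = j x³ = x j`
      have hx3 : x ^ 3 = x⁻¹ := by
        have : x ^ 3 * x = 1 := by rw [← pow_succ]; exact hx4
        exact eq_inv_of_mul_eq_one_left this
      rw [hx3] at hk
      refine ⟨x, j, hxQ, hjQ, hx4, hx2, hjj, hjxc, hjdef.symm, ?_⟩
      rw [hk]
      calc j * x⁻¹ = (j * x * j⁻¹)⁻¹ * j := by group
        _ = x * j := by rw [hjxc, inv_inv]

end Cfsg.Agent.Lib.H22
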