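import Mathlib
import Cfsg.Agent.Lib.H22.TwoGroupAb4

set_option autoImplicit false

/-! # Normal series in finite `p`-groups

`exists_normal_step`: between normal subgroups `M < N` of a finite `p`-group there is a normal
subgroup `M'` with `M ≤ M' ≤ N`, `|M'| = p |M|` and `M'/M` central.
`exists_normal_card_pow`: a normal subgroup `N` contains normal subgroups of every order `p^k ∣ |N|`.
-/

namespace Cfsg.Agent.Lib.H22

section

variable {p : ℕ} [hp : Fact p.Prime] {P : Type*} [Group P] [Finite P]

theorem card_comap_mk_eq (N : Subgroup P) [N.Normal] (H : Subgroup (P ⧸ N)) :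
    Nat.card (H.comap (QuotientGroup.mk' N)) = Nat.card H * Nat.card N := by
  have h1 := Subgroup.index_comap_of_surjective H (QuotientGroup.mk'_surjective N)
  have h2 := Subgroup.index_mul_card (H.comap (QuotientGroup.mk' N))
  have h3 := Subgroup.index_mul_card H
  have h4 := Subgroup.card_eq_card_quotient_mul_card_subgroup N
  rw [h1] at h2
  rw [h4, ← h3, mul_assoc] at h2
  have hpos : 0 < H.index := Nat.pos_of_ne_zero Subgroup.index_ne_zero_of_finite
  exact Nat.eq_of_mul_eq_mul_left hpos h2

/-- One step of a chief series inside a normal subgroup of a finite `p`-group. -/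
theorem exists_normal_step (hP : IsPGroup p P) (M N : Subgroup P) [hM : M.Normal] [hN : N.Normal]
    (hlt : M < N) :
    ∃ M' : Subgroup P, M'.Normal ∧ M ≤ M' ∧ M' ≤ N ∧ Nat.card M' = p * Nat.card M ∧
      (∀ g ∈ M', ∀ h : P, g * h * g⁻¹ * h⁻¹ ∈ M) ∧
      ∃ b ∈ M', b ∉ M ∧ b ^ p ∈ M ∧ M' = M ⊔ Subgroup.zpowers b := by
  let π := QuotientGroup.mk' M
  have hπ : Function.Surjective π := QuotientGroup.mk'_surjective M
  have hQ : IsPGroup p (P ⧸ M) := hP.to_quotient M
  have hNbar : (N.map π).Normal := Subgroup.Normal.map hN π hπ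
  have hne : N.map π ≠ ⊥ := by
    intro h
    rw [Subgroup.map_eq_bot_iff, QuotientGroup.ker_mk'] at h
    exact (not_le_of_gt hlt) h
  obtain ⟨z, hzN, hzc, hzo⟩ := exists_central_orderOf_eq_prime hQ (N.map π) hne
  obtain ⟨b, hb⟩ := hπ z
  have hzn : (Subgroup.zpowers z).Normal := by
    constructor
    intro n hn g
    have : g * n * g⁻¹ = n := by
      have h1 : n ∈ Subgroup.center (P ⧸ M) :=
        (Subgroup.zpowers_le.mpr hzc) hn
      rw [Subgroup.mem_center_iff] at h1
      rw [h1 g]; group
    rw [this]; exact hn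
  refine ⟨(Subgroup.zpowers z).comap π, ?_, ?_, ?_, ?_, ?_, ?_⟩
  · exact Subgroup.Normal.comap hzn π
  · intro m hm
    rw [Subgroup.mem_comap]
    have : π m = 1 := (QuotientGroup.eq_one_iff m).mpr hm
    rw [this]; exact Subgroup.one_mem _
  · intro g hg
    rw [Subgroup.mem_comap] at hg
    have h1 : π g ∈ N.map π := (Subgroup.zpowers_le.mpr hzN) hg
    obtain ⟨n, hn, hng⟩ := Subgroup.mem_map.mp h1
    have h2 : n⁻¹ * g ∈ M := by
      rw [← QuotientGroup.eq_one_iff]
      show π (n⁻¹ * g) = 1
      rw [map_mul, map_inv, hng]; group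
    have : g = n * (n⁻¹ * g) := by group
    rw [this]
    exact N.mul_mem hn (hlt.le h2)
  · rw [card_comap_mk_eq, Nat.card_zpowers, hzo]
  · intro g hg h
    rw [Subgroup.mem_comap] at hg
    rw [← QuotientGroup.eq_one_iff]
    show π (g * h * g⁻¹ * h⁻¹) = 1
    have h1 : π g ∈ Subgroup.center (P ⧸ M) := (Subgroup.zpowers_le.mpr hzc) hg
    rw [Subgroup.mem_center_iff] at h1
    simp only [map_mul, map_inv]
    rw [← h1 (π h)]; group
  · refine ⟨b, ?_, ?_, ?_, ?_⟩
    · rw [Subgroup.mem_comap, hb]; exact Subgroup.mem_zpowers z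
    · intro hbM
      have : π b = 1 := (QuotientGroup.eq_one_iff b).mpr hbM
      rw [hb] at this
      rw [this, orderOf_one] at hzo
      exact hp.out.one_lt.ne hzo
    · rw [← QuotientGroup.eq_one_iff]
      show π (b ^ p) = 1
      rw [map_pow, hb, ← hzo, pow_orderOf_eq_one]
    · apply le_antisymm
      · intro g hg
        rw [Subgroup.mem_comap, Subgroup.mem_zpowers_iff] at hg
        obtain ⟨k, hk⟩ := hg
        have h2 : (b ^ k)⁻¹ * g ∈ M := by
          rw [← QuotientGroup.eq_one_iff]
          show π ((b ^ k)⁻¹ * g) = 1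
          rw [map_mul, map_inv, map_zpow, hb, hk]; group
        have h3 : g = b ^ k * ((b ^ k)⁻¹ * g) := by group
        rw [h3]
        exact Subgroup.mul_mem _
          ((le_sup_right : Subgroup.zpowers b ≤ M ⊔ Subgroup.zpowers b)
            (Subgroup.zpow_mem_zpowers b k))
          ((le_sup_left : M ≤ M ⊔ Subgroup.zpowers b) h2)
      · rw [sup_le_iff]
        constructor
        · intro m hm
          rw [Subgroup.mem_comap]
          have : π m = 1 := (QuotientGroup.eq_one_iff m).mpr hm
          rw [this]; exact Subgroup.one_mem _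
        · rw [Subgroup.zpowers_le, Subgroup.mem_comap, hb]
          exact Subgroup.mem_zpowers z

/-- A normal subgroup of a finite `p`-group contains normal subgroups of all possible orders. -/
theorem exists_normal_card_pow (hP : IsPGroup p P) (N : Subgroup P) [hN : N.Normal] (k : ℕ)
    (hk : p ^ k ≤ Nat.card N) :
    ∃ M : Subgroup P, M.Normal ∧ M ≤ N ∧ Nat.card M = p ^ k := by
  induction k with
  | zero =>
    exact ⟨⊥, inferInstance, bot_le, by simp⟩
  | succ k ih =>
    have hk' : p ^ k ≤ Nat.card N := by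
      refine le_trans ?_ hk
      exact Nat.pow_le_pow_right hp.out.pos (Nat.le_succ k)
    obtain ⟨M, hMn, hMN, hMc⟩ := ih hk'
    have hlt : M < N := by
      refine lt_of_le_of_ne hMN ?_
      intro h
      rw [← h, hMc] at hk
      have : p ^ k < p ^ (k + 1) := Nat.pow_lt_pow_right hp.out.one_lt (Nat.lt_succ_self k)
      omega
    obtain ⟨M', hM'n, -, hM'N, hM'c, -⟩ := exists_normal_step hP M N hlt
    refine ⟨M', hM'n, hM'N, ?_⟩
    rw [hM'c, hMc, pow_succ, mul_comm]

/-- A subgroup of a finite `p`-group containing two distinct subgroups of order `p` has order at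
least `p²`. -/
theorem sq_le_card_of_two_order_p (hP : IsPGroup p P) (K H₁ H₂ : Subgroup P) (h₁ : H₁ ≤ K)
    (h₂ : H₂ ≤ K) (hc₁ : Nat.card H₁ = p) (hc₂ : Nat.card H₂ = p) (hne : H₁ ≠ H₂) :
    p ^ 2 ≤ Nat.card K := by
  obtain ⟨j, hj⟩ := (IsPGroup.iff_card).mp (hP.to_subgroup K)
  have heq : ∀ H : Subgroup P, H ≤ K → Nat.card H = p → j = 1 → H = K := by
    intro H hHK hH hj1
    apply Subgroup.eq_of_le_of_card_ge hHK
    rw [hj, hj1, pow_one, hH]
  have hj0 : j ≠ 0 := by
    intro h0
    rw [h0, pow_zero] at hj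
    have := Subgroup.card_le_of_le h₁
    rw [hj, hc₁] at this
    exact absurd this (not_le.mpr hp.out.one_lt)
  have hj1 : j ≠ 1 := by
    intro h1
    exact hne ((heq H₁ h₁ hc₁ h1).trans (heq H₂ h₂ hc₂ h1).symm)
  rw [hj]
  exact Nat.pow_le_pow_right hp.out.pos (by omega)

end

end Cfsg.Agent.Lib.H22
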