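import Mathlib
import Cfsg.Agent.Lib.H22.NormalSeries

set_option autoImplicit false

/-! # Maximal normal abelian subgroups of finite `p`-groups

* `centralizer_eq_of_maximal_normal_abelian`: they are self-centralizing;
* `index_centralizer_le`: `|G : C_G(A)| ≤ p^(a(a-1)/2)` for a normal abelian subgroup of order `p^a`;
* `card_le_of_maximal_normal_abelian`: `|G| ≤ p^(a(a+1)/2)`.
-/

namespace Cfsg.Agent.Lib.H22

section

variable {G : Type*} [Group G]

/-- If `H` centralizes the abelian subgroup `N` and `[H, b] ⊆ N`, then `C_H(b)` has index at most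
`|N|` in `H`. -/
theorem relIndex_inf_centralizer_le (H N : Subgroup G) [Finite N] (b : G)
    (h1 : ∀ g ∈ H, g * b * g⁻¹ * b⁻¹ ∈ N) (h2 : ∀ g ∈ H, ∀ n ∈ N, g * n = n * g)
    (h3 : ∀ m ∈ N, ∀ n ∈ N, m * n = n * m) :
    (H ⊓ Subgroup.centralizer {b}).relIndex H ≤ Nat.card N := by
  let φ : H →* N := MonoidHom.mk' (fun g => ⟨(g : G) * b * (g : G)⁻¹ * b⁻¹, h1 g g.2⟩) (by
    intro g h
    apply Subtype.ext
    show ((g * h : H) : G) * b * ((g * h : H) : G)⁻¹ * b⁻¹ =
      ((g : G) * b * (g : G)⁻¹ * b⁻¹) * ((h : G) * b * (h : G)⁻¹ * b⁻¹)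
    rw [Subgroup.coe_mul]
    calc (g : G) * h * b * ((g : G) * h)⁻¹ * b⁻¹
        = (g : G) * ((h : G) * b * (h : G)⁻¹ * b⁻¹) * b * (g : G)⁻¹ * b⁻¹ := by group
      _ = ((h : G) * b * (h : G)⁻¹ * b⁻¹) * (g : G) * b * (g : G)⁻¹ * b⁻¹ := by
          rw [h2 g g.2 _ (h1 h h.2)]
      _ = ((h : G) * b * (h : G)⁻¹ * b⁻¹) * ((g : G) * b * (g : G)⁻¹ * b⁻¹) := by group
      _ = ((g : G) * b * (g : G)⁻¹ * b⁻¹) * ((h : G) * b * (h : G)⁻¹ * b⁻¹) :=
          h3 _ (h1 h h.2) _ (h1 g g.2))
  have hker : (H ⊓ Subgroup.centralizer {b}).subgroupOf H = φ.ker := by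
    ext g
    rw [Subgroup.mem_subgroupOf, Subgroup.mem_inf, MonoidHom.mem_ker, Subgroup.mem_centralizer_iff]
    constructor
    · rintro ⟨-, hg⟩
      apply Subtype.ext
      show (g : G) * b * (g : G)⁻¹ * b⁻¹ = 1
      have := hg b rfl
      rw [← this]; group
    · intro hg
      refine ⟨g.2, ?_⟩
      intro y hy
      rw [Set.mem_singleton_iff] at hy
      rw [hy]
      have hg' : (g : G) * b * (g : G)⁻¹ * b⁻¹ = 1 := congrArg Subtype.val hg
      calc b * (g : G) = ((g : G) * b * (g : G)⁻¹ * b⁻¹)⁻¹ * (g : G) * b := by group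
        _ = g * b := by rw [hg']; group
  rw [Subgroup.relIndex, hker, Subgroup.index_ker]
  exact Subgroup.card_le_card_group _

end

section

variable {G : Type*} [Group G] [Finite G] {p : ℕ} [hp : Fact p.Prime]

/-- A maximal normal abelian subgroup of a finite `p`-group is self-centralizing. -/
theorem centralizer_eq_of_maximal_normal_abelian (hG : IsPGroup p G) (A : Subgroup G)
    [hAn : A.Normal] (hA : ∀ a ∈ A, ∀ b ∈ A, a * b = b * a)
    (hmax : ∀ B : Subgroup G, B.Normal → (∀ a ∈ B, ∀ b ∈ B, a * b = b * a) → A ≤ B → B = A) :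
    Subgroup.centralizer (A : Set G) = A := by
  set C := Subgroup.centralizer (A : Set G) with hC
  have hAC : A ≤ C := by
    intro a ha
    rw [hC, Subgroup.mem_centralizer_iff]
    intro b hb
    exact hA b hb a ha
  by_contra hne
  have hlt : A < C := lt_of_le_of_ne hAC (Ne.symm hne)
  have hCn : C.Normal := inferInstance
  obtain ⟨B, hBn, hAB, hBC, hBcard, -, w, hwB, hwA, -, hBeq⟩ := exists_normal_step hG A C hlt
  have hw : w ∈ C := hBC hwB
  have hcomm : ∀ a ∈ A, ∀ u ∈ C, Commute a u := by
    intro a ha u hu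
    rw [hC, Subgroup.mem_centralizer_iff] at hu
    exact hu a ha
  have hBw : B ≤ Subgroup.centralizer {w} := by
    rw [hBeq, sup_le_iff, Subgroup.zpowers_le]
    constructor
    · intro a ha
      rw [Subgroup.mem_centralizer_iff]
      intro h' hh'
      rw [Set.mem_singleton_iff] at hh'
      rw [hh']
      exact (hcomm a ha w hw).eq.symm
    · rw [Subgroup.mem_centralizer_iff]
      intro h' hh'
      rw [Set.mem_singleton_iff] at hh'
      rw [hh']
  have hBab : ∀ a ∈ B, ∀ b ∈ B, a * b = b * a := by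
    intro b₁ hb₁ b₂ hb₂
    rw [hBeq, Subgroup.mem_sup_of_normal_left] at hb₂
    obtain ⟨a, ha, z, hz, rfl⟩ := hb₂
    obtain ⟨i, rfl⟩ := Subgroup.mem_zpowers_iff.mp hz
    have h1 : Commute b₁ a := (hcomm a ha b₁ (hBC hb₁)).symm
    have h2 : Commute b₁ w := by
      have := hBw hb₁
      rw [Subgroup.mem_centralizer_iff] at this
      exact (this w rfl).symm
    exact (h1.mul_right (h2.zpow_right i)).eq
  have := hmax B hBn hBab hAB
  rw [this] at hwB
  exact hwA hwB

/-- For a normal abelian subgroup `A` of a finite `p`-group: a normal subgroup `A_i ≤ A` of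
order `p^i` whose centralizer has index at most `p^(i(i-1)/2)`. -/
theorem exists_normal_index_centralizer_le (hG : IsPGroup p G) (A : Subgroup G) [hAn : A.Normal]
    (hA : ∀ a ∈ A, ∀ b ∈ A, a * b = b * a) (i : ℕ) (hi : p ^ i ≤ Nat.card A) :
    ∃ M : Subgroup G, M.Normal ∧ M ≤ A ∧ Nat.card M = p ^ i ∧
      (Subgroup.centralizer (M : Set G)).index ≤ p ^ (i * (i - 1) / 2) := by
  induction i with
  | zero =>
    refine ⟨⊥, inferInstance, bot_le, by simp, ?_⟩
    have : Subgroup.centralizer ((⊥ : Subgroup G) : Set G) = ⊤ := by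
      rw [Subgroup.centralizer_eq_top_iff_subset]
      intro x hx
      have : x = 1 := by simpa using hx
      rw [this]; exact Subgroup.one_mem _
    rw [this, Subgroup.index_top]; simp
  | succ i ih =>
    have hi' : p ^ i ≤ Nat.card A :=
      le_trans (Nat.pow_le_pow_right hp.out.pos (Nat.le_succ i)) hi
    obtain ⟨M, hMn, hMA, hMc, hMidx⟩ := ih hi'
    have hlt : M < A := by
      refine lt_of_le_of_ne hMA ?_
      intro h
      rw [← h, hMc] at hi
      have : p ^ i < p ^ (i + 1) := Nat.pow_lt_pow_right hp.out.one_lt (Nat.lt_succ_self i)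
      omega
    obtain ⟨M', hM'n, hMM', hM'A, hM'c, hcen, b, hbM', -, -, hM'eq⟩ :=
      exists_normal_step hG M A hlt
    refine ⟨M', hM'n, hM'A, by rw [hM'c, hMc, pow_succ, mul_comm], ?_⟩
    set C := Subgroup.centralizer (M : Set G) with hC
    have hC' : Subgroup.centralizer (M' : Set G) = C ⊓ Subgroup.centralizer {b} := by
      apply le_antisymm
      · apply le_inf
        · exact Subgroup.centralizer_le (by exact_mod_cast hMM')
        · exact Subgroup.centralizer_le (by
            intro x hx
            rw [Set.mem_singleton_iff] at hx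
            rw [hx]; exact hbM')
      · intro g hg
        obtain ⟨hg1, hg2⟩ := Subgroup.mem_inf.mp hg
        rw [Subgroup.mem_centralizer_iff]
        have hle : M' ≤ Subgroup.centralizer {g} := by
          rw [hM'eq, sup_le_iff, Subgroup.zpowers_le]
          constructor
          · intro m hm
            rw [Subgroup.mem_centralizer_iff]
            intro y hy
            rw [Set.mem_singleton_iff] at hy
            rw [hy]
            rw [hC, Subgroup.mem_centralizer_iff] at hg1
            exact (hg1 m hm).symm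
          · rw [Subgroup.mem_centralizer_iff]
            intro y hy
            rw [Set.mem_singleton_iff] at hy
            rw [hy]
            rw [Subgroup.mem_centralizer_iff] at hg2
            exact (hg2 b rfl).symm
        intro m hm
        have := hle hm
        rw [Subgroup.mem_centralizer_iff] at this
        exact (this g rfl).symm
    have hrel : (C ⊓ Subgroup.centralizer {b}).relIndex C ≤ Nat.card M := by
      apply relIndex_inf_centralizer_le C M b
      · intro g _
        have h1 : b * g * b⁻¹ * g⁻¹ ∈ M := hcen b hbM' g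
        have : g * b * g⁻¹ * b⁻¹ = (b * g * b⁻¹ * g⁻¹)⁻¹ := by group
        rw [this]; exact M.inv_mem h1
      · intro g hg n hn
        rw [hC, Subgroup.mem_centralizer_iff] at hg
        exact (hg n hn).symm
      · intro m hm n hn
        exact hA m (hMA hm) n (hMA hn)
    have hmul := Subgroup.relIndex_mul_index (inf_le_left : C ⊓ Subgroup.centralizer {b} ≤ C)
    rw [hC', ← hmul, Nat.triangle_succ, pow_add, mul_comm]
    exact Nat.mul_le_mul hMidx (hMc ▸ hrel)

/-- The order of a finite `p`-group with a maximal normal abelian subgroup of order `p^a` is at most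
`p^(a(a+1)/2)`. -/
theorem card_le_of_maximal_normal_abelian (hG : IsPGroup p G) (A : Subgroup G)
    [hAn : A.Normal] (hA : ∀ a ∈ A, ∀ b ∈ A, a * b = b * a)
    (hmax : ∀ B : Subgroup G, B.Normal → (∀ a ∈ B, ∀ b ∈ B, a * b = b * a) → A ≤ B → B = A)
    (a : ℕ) (ha : Nat.card A = p ^ a) : Nat.card G ≤ p ^ (a * (a + 1) / 2) := by
  obtain ⟨M, -, hMA, hMc, hMidx⟩ := exists_normal_index_centralizer_le hG A hA a (le_of_eq ha.symm)
  have hMA' : M = A := Subgroup.eq_of_le_of_card_ge hMA (by rw [hMc, ha])
  rw [hMA', centralizer_eq_of_maximal_normal_abelian hG A hA hmax] at hMidx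
  have h1 := Subgroup.card_mul_index A
  rw [← h1, ha]
  have h2 : a * (a + 1) / 2 = a * (a - 1) / 2 + a := by
    have := Nat.triangle_succ a
    rw [Nat.add_sub_cancel] at this
    rw [mul_comm]; exact this
  rw [h2, pow_add, mul_comm]
  exact Nat.mul_le_mul_right _ hMidx

end

end Cfsg.Agent.Lib.H22
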