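import Mathlib
import Cfsg.Agent.Lib.H22.MaxNormalAbelian

set_option autoImplicit false

/-! # Abelian extensions `A⟨w⟩` and abelian subgroups of index `p` in groups of order `p⁴` -/

namespace Cfsg.Agent.Lib.H22

/-- If `A` is an abelian normal subgroup and `w` centralizes `A` then `A ⊔ ⟨w⟩` is abelian. -/
theorem comm_of_mem_sup_zpowers {G : Type*} [Group G] (A : Subgroup G) [hAn : A.Normal]
    (hA : ∀ a ∈ A, ∀ b ∈ A, a * b = b * a) (w : G) (hw : w ∈ Subgroup.centralizer (A : Set G)) :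
    ∀ a ∈ A ⊔ Subgroup.zpowers w, ∀ b ∈ A ⊔ Subgroup.zpowers w, a * b = b * a := by
  have hcomm : ∀ a ∈ A, Commute a w := by
    intro a ha
    rw [Subgroup.mem_centralizer_iff] at hw
    exact hw a ha
  have key : ∀ b ∈ A ⊔ Subgroup.zpowers w, (∀ a ∈ A, Commute b a) ∧ Commute b w := by
    intro b hb
    rw [Subgroup.mem_sup_of_normal_left] at hb
    obtain ⟨a', ha', z, hz, rfl⟩ := hb
    obtain ⟨i, rfl⟩ := Subgroup.mem_zpowers_iff.mp hz
    constructor
    · intro a ha
      exact (show Commute a' a from hA a' ha' a ha).mul_left ((hcomm a ha).symm.zpow_left i)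
    · exact (hcomm a' ha').mul_left ((Commute.refl w).zpow_left i)
  intro b₁ hb₁ b₂ hb₂
  rw [Subgroup.mem_sup_of_normal_left] at hb₂
  obtain ⟨a, ha, z, hz, rfl⟩ := hb₂
  obtain ⟨i, rfl⟩ := Subgroup.mem_zpowers_iff.mp hz
  obtain ⟨h1, h2⟩ := key b₁ hb₁
  exact ((h1 a ha).mul_right (h2.zpow_right i)).eq

/-- A group of order `p⁴` has an abelian subgroup of index `p`. -/
theorem exists_abelian_index_p_of_card_pow_four {S : Type*} [Group S] [Finite S] {p : ℕ}
    [hp : Fact p.Prime] (hcard : Nat.card S = p ^ 4) :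
    ∃ A : Subgroup S, (∀ a ∈ A, ∀ b ∈ A, a * b = b * a) ∧ A.index = p := by
  have hS : IsPGroup p S := IsPGroup.of_card hcard
  have h2 : p ^ 2 ≤ Nat.card (⊤ : Subgroup S) := by
    rw [Subgroup.card_top, hcard]
    exact Nat.pow_le_pow_right hp.out.pos (by norm_num)
  obtain ⟨N, hNn, -, hNcard⟩ := exists_normal_card_pow hS ⊤ 2 h2
  have hNc : IsMulCommutative N := IsPGroup.isMulCommutative_of_card_eq_prime_sq hNcard
  have hNab : ∀ a ∈ N, ∀ b ∈ N, a * b = b * a := by
    intro a ha b hb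
    have := hNc.is_comm.comm (⟨a, ha⟩ : N) ⟨b, hb⟩
    exact congrArg Subtype.val this
  obtain ⟨M, -, hMN, hMcard, hMidx⟩ :=
    exists_normal_index_centralizer_le hS N hNab 2 (le_of_eq hNcard.symm)
  have hMN' : M = N := Subgroup.eq_of_le_of_card_ge hMN (by rw [hMcard, hNcard])
  rw [hMN'] at hMidx
  norm_num at hMidx
  set C := Subgroup.centralizer (N : Set S) with hC
  have hCn : C.Normal := inferInstance
  have hNC : N ≤ C := by
    intro a ha
    rw [hC, Subgroup.mem_centralizer_iff]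
    intro b hb
    exact hNab b hb a ha
  have hCcard : p ^ 3 ≤ Nat.card C := by
    have h1 := Subgroup.card_mul_index C
    rw [hcard] at h1
    have hpos : 0 < C.index := Nat.pos_of_ne_zero Subgroup.index_ne_zero_of_finite
    by_contra hlt
    push Not at hlt
    have : Nat.card C * C.index < p ^ 3 * p := by
      calc Nat.card C * C.index ≤ Nat.card C * p := Nat.mul_le_mul_left _ hMidx
        _ < p ^ 3 * p := Nat.mul_lt_mul_of_pos_right hlt hp.out.pos
    have h4 : p ^ 3 * p = p ^ 4 := by ring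
    omega
  have hlt : N < C := by
    refine lt_of_le_of_ne hNC ?_
    intro h
    rw [← h, hNcard] at hCcard
    have : p ^ 2 < p ^ 3 := Nat.pow_lt_pow_right hp.out.one_lt (by norm_num)
    omega
  obtain ⟨B, -, -, hBC, hBcard, -, b, -, -, -, hBeq⟩ := exists_normal_step hS N C hlt
  have hbC : b ∈ C := hBC (hBeq ▸ (le_sup_right : Subgroup.zpowers b ≤ N ⊔ Subgroup.zpowers b)
    (Subgroup.mem_zpowers b))
  refine ⟨B, ?_, ?_⟩
  · rw [hBeq]
    exact comm_of_mem_sup_zpowers N hNab b hbC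
  · have h1 := Subgroup.card_mul_index B
    rw [hBcard, hNcard, hcard] at h1
    have h3 : p * p ^ 2 * p = p ^ 4 := by ring
    rw [← h3] at h1
    exact Nat.eq_of_mul_eq_mul_left (Nat.mul_pos hp.out.pos (pow_pos hp.out.pos 2)) h1

end Cfsg.Agent.Lib.H22
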