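import Mathlib
import Cfsg.Agent.Lib.H22.AbelianSup
import Cfsg.Agent.Lib.H22.PPrimeCore

set_option autoImplicit false

/-! # Subgroups of order `p³` in finite `p`-groups

* `exists_abelian_card_cube`: a `p`-group of order at least `p⁴` has an abelian subgroup of order `p³`;
* `exists_nonabelian_card_cube`: a non-abelian `p`-group of exponent `p` has a non-abelian subgroup
  of order `p³`.
-/

namespace Cfsg.Agent.Lib.H22

section

variable {G : Type*} [Group G]

theorem relIndex_sup_right_of_le_normalizer (H K : Subgroup G)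
    (hLE : H ≤ Subgroup.normalizer (K : Set G)) : K.relIndex (H ⊔ K) = K.relIndex H := by
  have := Subgroup.normal_subgroupOf_of_le_normalizer hLE
  have := Subgroup.normal_subgroupOf_sup_of_le_normalizer hLE
  exact Nat.card_congr (QuotientGroup.quotientInfEquivProdNormalizerQuotient H K hLE).toEquiv.symm

/-- the order of a join `H K` with `H ≤ N(K)` divides `|H| |K|`. -/
theorem card_sup_dvd_mul_of_le_normalizer (H K : Subgroup G)
    (hLE : H ≤ Subgroup.normalizer (K : Set G)) :
    Nat.card (H ⊔ K : Subgroup G) ∣ Nat.card H * Nat.card K := by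
  have h1 : Nat.card K * K.relIndex (H ⊔ K) = Nat.card (H ⊔ K : Subgroup G) := by
    have := Subgroup.relIndex_mul_relIndex ⊥ K (H ⊔ K) bot_le le_sup_right
    rwa [Subgroup.relIndex_bot_left, Subgroup.relIndex_bot_left] at this
  rw [← h1, relIndex_sup_right_of_le_normalizer H K hLE, mul_comm]
  exact Nat.mul_dvd_mul_right (Subgroup.relIndex_dvd_card K H) _

end

section

variable {p : ℕ} [hp : Fact p.Prime] {R : Type*} [Group R] [Finite R]

omit [Finite R] in
/-- Groups of order `p^j`, `j ≤ 2`, are abelian. -/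
theorem comm_of_card_le_sq (K : Subgroup R) (j : ℕ) (hj : j ≤ 2) (hK : Nat.card K = p ^ j) :
    ∀ a ∈ K, ∀ b ∈ K, a * b = b * a := by
  have hc : IsMulCommutative K := by
    interval_cases j
    · rw [pow_zero] at hK
      have : Subsingleton K := (Nat.card_eq_one_iff_unique.mp hK).1
      exact ⟨⟨fun a b => Subsingleton.elim _ _⟩⟩
    · rw [pow_one] at hK
      have := isCyclic_of_prime_card hK
      exact ⟨⟨fun a b => (IsCyclic.commGroup (α := K)).mul_comm a b⟩⟩
    · exact IsPGroup.isMulCommutative_of_card_eq_prime_sq hK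
  intro a ha b hb
  have := hc.is_comm.comm (⟨a, ha⟩ : K) ⟨b, hb⟩
  exact congrArg Subtype.val this

/-- A `p`-group of order at least `p⁴` has an abelian subgroup of order `p³`. -/
theorem exists_abelian_card_cube (hR : IsPGroup p R) (hcard : p ^ 4 ≤ Nat.card R) :
    ∃ A : Subgroup R, (∀ a ∈ A, ∀ b ∈ A, a * b = b * a) ∧ Nat.card A = p ^ 3 := by
  have h2 : p ^ 2 ≤ Nat.card (⊤ : Subgroup R) := by
    rw [Subgroup.card_top]
    exact le_trans (Nat.pow_le_pow_right hp.out.pos (by norm_num)) hcard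
  obtain ⟨N, hNn, -, hNcard⟩ := exists_normal_card_pow hR ⊤ 2 h2
  have hNab : ∀ a ∈ N, ∀ b ∈ N, a * b = b * a := comm_of_card_le_sq N 2 le_rfl hNcard
  obtain ⟨M, -, hMN, hMcard, hMidx⟩ :=
    exists_normal_index_centralizer_le hR N hNab 2 (le_of_eq hNcard.symm)
  have hMN' : M = N := Subgroup.eq_of_le_of_card_ge hMN (by rw [hMcard, hNcard])
  rw [hMN'] at hMidx
  norm_num at hMidx
  set C := Subgroup.centralizer (N : Set R) with hC
  have hCn : C.Normal := inferInstance
  have hNC : N ≤ C := by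
    intro a ha
    rw [hC, Subgroup.mem_centralizer_iff]
    intro b hb
    exact hNab b hb a ha
  have hCcard : p ^ 3 ≤ Nat.card C := by
    have h1 := Subgroup.card_mul_index C
    by_contra hlt
    push Not at hlt
    have : Nat.card C * C.index < p ^ 3 * p := by
      calc Nat.card C * C.index ≤ Nat.card C * p := Nat.mul_le_mul_left _ hMidx
        _ < p ^ 3 * p := Nat.mul_lt_mul_of_pos_right hlt hp.out.pos
    have h4 : p ^ 3 * p = p ^ 4 := by ring
    omega
  have hlt : N < C := by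
    refine lt_of_le_of_ne hNC ?_
    intro h
    rw [← h, hNcard] at hCcard
    have : p ^ 2 < p ^ 3 := Nat.pow_lt_pow_right hp.out.one_lt (by norm_num)
    omega
  obtain ⟨B, -, -, hBC, hBcard, -, b, -, -, -, hBeq⟩ := exists_normal_step hR N C hlt
  have hbC : b ∈ C := hBC (hBeq ▸ (le_sup_right : Subgroup.zpowers b ≤ N ⊔ Subgroup.zpowers b)
    (Subgroup.mem_zpowers b))
  refine ⟨B, ?_, ?_⟩
  · rw [hBeq]
    exact comm_of_mem_sup_zpowers N hNab b hbC
  · rw [hBcard, hNcard]; ring

/-- A non-abelian `p`-group of exponent `p` has a non-abelian subgroup of order `p³`. -/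
theorem exists_nonabelian_card_cube (hR : IsPGroup p R) (hexp : ∀ x : R, x ^ p = 1)
    (hna : ∃ u v : R, u * v ≠ v * u) :
    ∃ K : Subgroup R, (∃ u ∈ K, ∃ v ∈ K, u * v ≠ v * u) ∧ Nat.card K = p ^ 3 := by
  set Z := Subgroup.center R with hZ
  have hZtop : Z < ⊤ := by
    rw [lt_top_iff_ne_top]
    intro h
    obtain ⟨u, v, huv⟩ := hna
    apply huv
    have : u ∈ Subgroup.center R := by rw [← hZ, h]; exact Subgroup.mem_top u
    rw [Subgroup.mem_center_iff] at this
    exact (this v).symm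
  obtain ⟨B, -, -, -, -, hBcen, b, hbB, hbZ, -, -⟩ := exists_normal_step hR Z ⊤ hZtop
  have hby : ∃ y : R, b * y ≠ y * b := by
    by_contra h
    push Not at h
    apply hbZ
    rw [hZ, Subgroup.mem_center_iff]
    intro g
    exact (h g).symm
  obtain ⟨y, hy⟩ := hby
  set c := b * y * b⁻¹ * y⁻¹ with hc
  have hcZ : c ∈ Z := hBcen b hbB y
  have hc1 : c ≠ 1 := by
    intro h
    apply hy
    calc b * y = (b * y * b⁻¹ * y⁻¹) * y * b := by group
      _ = y * b := by rw [← hc, h, one_mul]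
  have hccomm : ∀ g : R, g * c = c * g := by
    intro g
    rw [hZ, Subgroup.mem_center_iff] at hcZ
    exact hcZ g
  have hb1 : b ≠ 1 := by
    intro h
    apply hy
    rw [h, one_mul, mul_one]
  have hy1 : y ≠ 1 := by
    intro h
    apply hy
    rw [h, one_mul, mul_one]
  have hoc : orderOf c = p := orderOf_eq_prime (hexp c) hc1
  have hob : orderOf b = p := orderOf_eq_prime (hexp b) hb1
  have hoy : orderOf y = p := orderOf_eq_prime (hexp y) hy1
  set K₀ := Subgroup.zpowers c with hK₀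
  have hK₀n : K₀.Normal := by
    constructor
    intro n hn g
    obtain ⟨i, rfl⟩ := Subgroup.mem_zpowers_iff.mp hn
    have : g * c ^ i * g⁻¹ = c ^ i := by
      have h1 : Commute g (c ^ i) := (show Commute g c from hccomm g).zpow_right i
      rw [h1.eq]; group
    rw [this]
    exact Subgroup.zpow_mem_zpowers c i
  have hK₀card : Nat.card K₀ = p := by rw [hK₀, Nat.card_zpowers, hoc]
  have hK₀Z : K₀ ≤ Z := by
    rw [hK₀, Subgroup.zpowers_le]; exact hcZ
  set K₁ := Subgroup.zpowers b ⊔ K₀ with hK₁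
  have hbK₁ : b ∈ K₁ := (le_sup_left : Subgroup.zpowers b ≤ K₁) (Subgroup.mem_zpowers b)
  have hcK₁ : c ∈ K₁ := (le_sup_right : K₀ ≤ K₁) (Subgroup.mem_zpowers c)
  have hK₁card : Nat.card K₁ = p ^ 2 := by
    have hdvd := card_sup_dvd_mul (Subgroup.zpowers b) K₀
    rw [Nat.card_zpowers, hob, hK₀card, ← sq] at hdvd
    obtain ⟨j, hj2, hj⟩ := (Nat.dvd_prime_pow hp.out).mp hdvd
    have hlt : K₀ < K₁ := by
      refine lt_of_le_of_ne le_sup_right ?_
      intro h
      apply hbZ
      exact hK₀Z (h ▸ hbK₁)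
    have hlt' : Nat.card K₀ < Nat.card K₁ := by
      by_contra hle
      push Not at hle
      exact (ne_of_lt hlt) (Subgroup.eq_of_le_of_card_ge hlt.le hle)
    rw [hK₀card, hj] at hlt'
    have : 1 < j := by
      by_contra hle
      push Not at hle
      have : p ^ j ≤ p ^ 1 := Nat.pow_le_pow_right hp.out.pos hle
      rw [pow_one] at this
      omega
    have : j = 2 := by omega
    rw [hj, this]
  -- y normalizes K₁
  have hyb : y * b * y⁻¹ = c⁻¹ * b := by rw [hc]; group
  have hynorm : y ∈ Subgroup.normalizer (K₁ : Set R) := by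
    apply Subgroup.mem_normalizer_fintype
    intro n hn
    rw [SetLike.mem_coe, hK₁, Subgroup.mem_sup_of_normal_right] at hn
    obtain ⟨u, hu, v, hv, rfl⟩ := hn
    obtain ⟨i, rfl⟩ := Subgroup.mem_zpowers_iff.mp hu
    obtain ⟨j, rfl⟩ := Subgroup.mem_zpowers_iff.mp hv
    have : y * (b ^ i * c ^ j) * y⁻¹ = (y * b * y⁻¹) ^ i * (y * c * y⁻¹) ^ j := by
      rw [conj_zpow, conj_zpow]; group
    rw [this, hyb]
    have hyc : y * c * y⁻¹ = c := by rw [hccomm y]; group
    rw [hyc]
    exact K₁.mul_mem (K₁.zpow_mem (K₁.mul_mem (K₁.inv_mem hcK₁) hbK₁) i) (K₁.zpow_mem hcK₁ j)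
  have hLE : Subgroup.zpowers y ≤ Subgroup.normalizer (K₁ : Set R) := by
    rw [Subgroup.zpowers_le]; exact hynorm
  set K := Subgroup.zpowers y ⊔ K₁ with hK
  have hyK : y ∈ K := (le_sup_left : Subgroup.zpowers y ≤ K) (Subgroup.mem_zpowers y)
  have hbK : b ∈ K := (le_sup_right : K₁ ≤ K) hbK₁
  refine ⟨K, ⟨b, hbK, y, hyK, hy⟩, ?_⟩
  have hdvd := card_sup_dvd_mul_of_le_normalizer (Subgroup.zpowers y) K₁ hLE
  rw [Nat.card_zpowers, hoy, hK₁card] at hdvd
  have h3 : p * p ^ 2 = p ^ 3 := by ring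
  rw [h3] at hdvd
  obtain ⟨j, hj3, hj⟩ := (Nat.dvd_prime_pow hp.out).mp hdvd
  have : ¬ j ≤ 2 := by
    intro hj2
    exact hy (comm_of_card_le_sq K j hj2 hj b hbK y hyK)
  have : j = 3 := by omega
  rw [hj, this]

end

end Cfsg.Agent.Lib.H22
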