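import Mathlib
import Cfsg.Agent.Lib.H22.Hamiltonian
import Cfsg.Agent.Lib.H22.OrderPCube
import Cfsg.Agent.Lib.H2.SL23

/-!
# Recognition of `SL(2,3)` by generators and relations (helper22)

An `SL23Triple i j w` in a group: `i, j` are standard generators of a quaternion group of order 8,
`w` has order 3 and permutes `i → j → i * j`.  Two finite groups generated by such triples are
isomorphic (graph trick inside the product), and `SL(2, ZMod 3)` is generated by one.
-/

set_option autoImplicit false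

namespace Cfsg.Agent.Lib.H22

/-- relations of `SL(2,3) = Q₈ ⋊ C₃` -/
structure SL23Triple {X : Type*} [Group X] (i j w : X) : Prop where
  i4 : i ^ 4 = 1
  i2 : i ^ 2 ≠ 1
  jj : j * j = i ^ 2
  ji : j * i * j⁻¹ = i⁻¹
  w3 : w ^ 3 = 1
  w1 : w ≠ 1
  wi : w * i * w⁻¹ = j
  wj : w * j * w⁻¹ = i * j

namespace SL23Triple

variable {X : Type*} [Group X] {i j w : X}

theorem closure_eq (i j w : X) : Subgroup.closure ({i, j, w} : Set X) =
    Subgroup.closure {i, j} ⊔ Subgroup.zpowers w := by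
  rw [Subgroup.zpowers_eq_closure, ← Subgroup.closure_union]
  congr 1
  ext z
  simp only [Set.mem_insert_iff, Set.mem_singleton_iff, Set.mem_union]
  tauto

/-- upper bound: the group generated by a triple has order dividing 24 -/
theorem card_closure_dvd [Finite X] (h : SL23Triple i j w) :
    Nat.card (Subgroup.closure ({i, j, w} : Set X)) ∣ 24 := by
  obtain ⟨Q, ⟨e⟩, hiQ, hjQ, hQle, -⟩ := q8_exists_subgroup h.i4 h.i2 h.jj h.ji
  have hQeq : Q = Subgroup.closure {i, j} := by
    apply le_antisymm hQle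
    rw [Subgroup.closure_le]
    rintro z (rfl | rfl)
    · exact hiQ
    · exact hjQ
  have hQcard : Nat.card Q = 8 := by
    rw [Nat.card_congr e.toEquiv, Nat.card_eq_fintype_card, QuaternionGroup.card]
  have hnorm : Subgroup.zpowers w ≤ Subgroup.normalizer (Q : Set X) := by
    rw [Subgroup.zpowers_le]
    apply Subgroup.mem_normalizer_fintype
    intro q hq
    have hle : Q ≤ Q.comap (MulAut.conj w).toMonoidHom := by
      rw [hQeq, Subgroup.closure_le]
      rintro z (rfl | rfl)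
      · show w * z * w⁻¹ ∈ Subgroup.closure {z, j}
        rw [h.wi]; exact Subgroup.subset_closure (by simp)
      · show w * z * w⁻¹ ∈ Subgroup.closure {i, z}
        rw [h.wj]
        exact Subgroup.mul_mem _ (Subgroup.subset_closure (by simp))
          (Subgroup.subset_closure (by simp))
    exact hle hq
  have h1 := card_sup_dvd_mul_of_le_normalizer (Subgroup.zpowers w) Q hnorm
  rw [closure_eq, ← hQeq, sup_comm]
  refine h1.trans ?_
  rw [hQcard, Nat.card_zpowers]
  have : orderOf w ∣ 3 := orderOf_dvd_of_pow_eq_one h.w3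
  obtain ⟨c, hc⟩ := this
  exact ⟨c, by rw [mul_right_comm, ← hc]; norm_num⟩

/-- lower bound: the order of any finite group containing a triple is divisible by 24 -/
theorem dvd_card [Finite X] (h : SL23Triple i j w) : 24 ∣ Nat.card X := by
  obtain ⟨Q, ⟨e⟩, -, -, -, -⟩ := q8_exists_subgroup h.i4 h.i2 h.jj h.ji
  have hQcard : Nat.card Q = 8 := by
    rw [Nat.card_congr e.toEquiv, Nat.card_eq_fintype_card, QuaternionGroup.card]
  have h8 : 8 ∣ Nat.card X := by rw [← hQcard]; exact Subgroup.card_subgroup_dvd_card Q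
  have h3 : 3 ∣ Nat.card X := by
    have : Fact (Nat.Prime 3) := ⟨Nat.prime_three⟩
    rw [← orderOf_eq_prime h.w3 h.w1]
    exact orderOf_dvd_natCard w
  exact Nat.Coprime.mul_dvd_of_dvd_of_dvd (by norm_num : Nat.Coprime 8 3) h8 h3

theorem prod {Y : Type*} [Group Y] {I J W : Y} (h : SL23Triple i j w) (h' : SL23Triple I J W) :
    SL23Triple ((i, I) : X × Y) (j, J) (w, W) where
  i4 := by rw [Prod.pow_mk, h.i4, h'.i4]; rfl
  i2 := by
    rw [Prod.pow_mk]
    intro hh
    exact h.i2 (congrArg Prod.fst hh)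
  jj := by rw [Prod.mk_mul_mk, h.jj, h'.jj, Prod.pow_mk]
  ji := by rw [Prod.inv_mk, Prod.mk_mul_mk, Prod.mk_mul_mk, h.ji, h'.ji, Prod.inv_mk]
  w3 := by rw [Prod.pow_mk, h.w3, h'.w3]; rfl
  w1 := by
    intro hh
    exact h.w1 (congrArg Prod.fst hh)
  wi := by rw [Prod.inv_mk, Prod.mk_mul_mk, Prod.mk_mul_mk, h.wi, h'.wi]
  wj := by rw [Prod.inv_mk, Prod.mk_mul_mk, Prod.mk_mul_mk, h.wj, h'.wj, Prod.mk_mul_mk]

/-- **Recognition**: two finite groups generated by `SL23Triple`s are isomorphic. -/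
theorem nonempty_mulEquiv {Y : Type*} [Group Y] [Finite X] [Finite Y] {I J W : Y}
    (h : SL23Triple i j w) (hgen : Subgroup.closure ({i, j, w} : Set X) = ⊤)
    (h' : SL23Triple I J W) (hgen' : Subgroup.closure ({I, J, W} : Set Y) = ⊤) :
    Nonempty (X ≃* Y) := by
  have hΓ := (h.prod h').card_closure_dvd
  obtain ⟨Γ, hΓdef⟩ : ∃ Γ : Subgroup (X × Y),
    Γ = Subgroup.closure ({((i, I) : X × Y), (j, J), (w, W)} : Set (X × Y)) := ⟨_, rfl⟩
  rw [← hΓdef] at hΓ
  have hΓle : Nat.card Γ ≤ 24 := Nat.le_of_dvd (by norm_num) hΓ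
  have hX : 24 ≤ Nat.card X := Nat.le_of_dvd Nat.card_pos h.dvd_card
  have hY : 24 ≤ Nat.card Y := Nat.le_of_dvd Nat.card_pos h'.dvd_card
  have hmem : ∀ z ∈ ({((i, I) : X × Y), (j, J), (w, W)} : Set (X × Y)), z ∈ Γ := by
    intro z hz
    rw [hΓdef]; exact Subgroup.subset_closure hz
  have hs1 : Function.Surjective ((MonoidHom.fst X Y).comp Γ.subtype) := by
    rw [← MonoidHom.range_eq_top, eq_top_iff, ← hgen, Subgroup.closure_le]
    rintro z (rfl | rfl | rfl)
    · exact ⟨⟨(_, I), hmem _ (by simp)⟩, rfl⟩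
    · exact ⟨⟨(_, J), hmem _ (by simp)⟩, rfl⟩
    · exact ⟨⟨(_, W), hmem _ (by simp)⟩, rfl⟩
  have hs2 : Function.Surjective ((MonoidHom.snd X Y).comp Γ.subtype) := by
    rw [← MonoidHom.range_eq_top, eq_top_iff, ← hgen', Subgroup.closure_le]
    rintro z (rfl | rfl | rfl)
    · exact ⟨⟨(i, _), hmem _ (by simp)⟩, rfl⟩
    · exact ⟨⟨(j, _), hmem _ (by simp)⟩, rfl⟩
    · exact ⟨⟨(w, _), hmem _ (by simp)⟩, rfl⟩
  have hb1 := hs1.bijective_of_nat_card_le (hΓle.trans hX)
  have hb2 := hs2.bijective_of_nat_card_le (hΓle.trans hY)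
  exact ⟨(MulEquiv.ofBijective _ hb1).symm.trans (MulEquiv.ofBijective _ hb2)⟩

end SL23Triple

section SL23

open Matrix

/-- the standard triple in `SL(2, ZMod 3)` -/
def slI : SpecialLinearGroup (Fin 2) (ZMod 3) := ⟨!![0, 1; 2, 0], by decide⟩
def slJ : SpecialLinearGroup (Fin 2) (ZMod 3) := ⟨!![1, 1; 1, 2], by decide⟩
def slW : SpecialLinearGroup (Fin 2) (ZMod 3) := ⟨!![0, 1; 2, 2], by decide⟩

set_option maxRecDepth 100000 in
theorem sl23Triple : SL23Triple slI slJ slW where
  i4 := by decide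
  i2 := by decide
  jj := by decide
  ji := by decide
  w3 := by decide
  w1 := by decide
  wi := by decide
  wj := by decide

theorem sl23_closure : Subgroup.closure ({slI, slJ, slW} : Set (SpecialLinearGroup (Fin 2) (ZMod 3))) = ⊤ := by
  have h1 := sl23Triple.card_closure_dvd
  have hsub : SL23Triple (⟨slI, Subgroup.subset_closure (by simp)⟩ :
      Subgroup.closure ({slI, slJ, slW} : Set (SpecialLinearGroup (Fin 2) (ZMod 3))))
      ⟨slJ, Subgroup.subset_closure (by simp)⟩ ⟨slW, Subgroup.subset_closure (by simp)⟩ :=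
    { i4 := Subtype.ext sl23Triple.i4
      i2 := fun hh => sl23Triple.i2 (congrArg Subtype.val hh)
      jj := Subtype.ext sl23Triple.jj
      ji := Subtype.ext sl23Triple.ji
      w3 := Subtype.ext sl23Triple.w3
      w1 := fun hh => sl23Triple.w1 (congrArg Subtype.val hh)
      wi := Subtype.ext sl23Triple.wi
      wj := Subtype.ext sl23Triple.wj }
  have h2 := hsub.dvd_card
  apply Subgroup.eq_top_of_card_eq
  rw [Nat.card_eq_fintype_card (α := SpecialLinearGroup (Fin 2) (ZMod 3)),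
    Cfsg.Agent.Lib.H2.SL23.card_G₀]
  exact Nat.dvd_antisymm h1 h2

/-- **Recognition of `SL(2,3)`**. -/
theorem SL23Triple.nonempty_mulEquiv_sl23 {X : Type*} [Group X] [Finite X] {i j w : X}
    (h : SL23Triple i j w) (hgen : Subgroup.closure ({i, j, w} : Set X) = ⊤) :
    Nonempty (X ≃* SpecialLinearGroup (Fin 2) (ZMod 3)) :=
  h.nonempty_mulEquiv hgen sl23Triple sl23_closure

end SL23

end Cfsg.Agent.Lib.H22
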