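import Mathlib
import Cfsg.Agent.Lib.H22.NormalSeries
import Cfsg.Agent.Lib.H22.NilpotentCoprime
import Cfsg.Agent.Lib.H22.PPrimeCore

set_option autoImplicit false

/-! # Subgroups of order `p²` in finite `p`-groups

* a `p`-group with two subgroups of order `p` has a non-cyclic subgroup of order `p²`;
* an element with `x ^ p ≠ 1` has a power of order `p²`.
-/

namespace Cfsg.Agent.Lib.H22

section

variable {p : ℕ} [hp : Fact p.Prime] {P : Type*} [Group P] [Finite P]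

theorem exists_noncyclic_sq_of_not_atMostOne (hP : IsPGroup p P) (h : ¬ AtMostOneOrderP p P) :
    ∃ E : Subgroup P, Nat.card E = p ^ 2 ∧ ¬ IsCyclic E := by
  unfold AtMostOneOrderP at h
  push Not at h
  obtain ⟨H₁, H₂, hH₁, hH₂, hne⟩ := h
  have hnt : (⊤ : Subgroup P) ≠ ⊥ := by
    intro htop
    have : H₁ = ⊥ := by
      rw [eq_bot_iff, ← htop]; exact le_top
    rw [this, Subgroup.card_bot] at hH₁
    exact hp.out.one_lt.ne hH₁
  obtain ⟨z, -, hzc, hzo⟩ := exists_central_orderOf_eq_prime hP ⊤ hnt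
  set Z := Subgroup.zpowers z with hZ
  have hZcard : Nat.card Z = p := by rw [hZ, Nat.card_zpowers, hzo]
  have hZn : Z.Normal := by
    constructor
    intro n hn g
    have h1 : n ∈ Subgroup.center P := (Subgroup.zpowers_le.mpr hzc) hn
    rw [Subgroup.mem_center_iff] at h1
    have : g * n * g⁻¹ = n := by rw [h1 g]; group
    rw [this]; exact hn
  obtain ⟨H, hH, hHZ⟩ : ∃ H : Subgroup P, Nat.card H = p ∧ H ≠ Z := by
    by_cases h1 : H₁ = Z
    · exact ⟨H₂, hH₂, fun h2 => hne (h1.trans h2.symm)⟩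
    · exact ⟨H₁, hH₁, h1⟩
  refine ⟨H ⊔ Z, ?_, ?_⟩
  · have hdvd := card_sup_dvd_mul H Z
    rw [hH, hZcard, ← sq] at hdvd
    have hge := sq_le_card_of_two_order_p hP (H ⊔ Z) H Z le_sup_left le_sup_right hH hZcard hHZ
    exact le_antisymm (Nat.le_of_dvd (pow_pos hp.out.pos 2) hdvd) hge
  · intro hcyc
    have hamo := atMostOne_of_isCyclic p hp.out.pos (G := ↥(H ⊔ Z))
    have h1 : Nat.card (H.subgroupOf (H ⊔ Z)) = p := by
      rw [Nat.card_congr (Subgroup.subgroupOfEquivOfLe (le_sup_left : H ≤ H ⊔ Z)).toEquiv, hH]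
    have h2 : Nat.card (Z.subgroupOf (H ⊔ Z)) = p := by
      rw [Nat.card_congr (Subgroup.subgroupOfEquivOfLe (le_sup_right : Z ≤ H ⊔ Z)).toEquiv, hZcard]
    have h3 := hamo _ _ h1 h2
    rw [Subgroup.subgroupOf_inj, inf_eq_left.mpr le_sup_left, inf_eq_left.mpr le_sup_right] at h3
    exact hHZ h3

omit [Finite P] in
theorem exists_orderOf_eq_sq_of_pow_ne_one (hP : IsPGroup p P) (x : P) (hx : x ^ p ≠ 1) :
    ∃ y ∈ Subgroup.zpowers x, orderOf y = p ^ 2 := by
  obtain ⟨k, hk⟩ := (IsPGroup.iff_orderOf.mp hP) x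
  have hk2 : 2 ≤ k := by
    by_contra hlt
    push Not at hlt
    apply hx
    apply orderOf_dvd_iff_pow_eq_one.mp
    rw [hk]
    calc p ^ k ∣ p ^ 1 := pow_dvd_pow p (by omega)
      _ = p := pow_one p
  obtain ⟨t, rfl⟩ := Nat.exists_eq_add_of_le' hk2
  refine ⟨x ^ (p ^ t), Subgroup.pow_mem _ (Subgroup.mem_zpowers x) _, ?_⟩
  rw [orderOf_pow' _ (pow_ne_zero _ hp.out.ne_zero), hk,
    Nat.gcd_eq_right (pow_dvd_pow p (Nat.le_add_right t 2)), pow_add,
    Nat.mul_div_cancel_left _ (pow_pos hp.out.pos t)]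

end

end Cfsg.Agent.Lib.H22
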