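import Mathlib

/-!
# S4467 piece F1B (helper22): `p ∣ |G : N|` for every proper normal subgroup of a group whose
proper normal subgroups all have normal Sylow `p`-subgroups but which itself has not.
-/

set_option autoImplicit false

namespace Cfsg.Agent.Lib.H22.DX

/-- A Sylow `p`-subgroup lies in every normal subgroup of index prime to `p`. -/
theorem sylow_le_of_normal_of_not_dvd_index {G : Type*} [Group G] [Finite G] (p : ℕ)
    [Fact p.Prime] (P : Sylow p G) (N : Subgroup G) [N.Normal] (hp : ¬ p ∣ N.index) :
    (P : Subgroup G) ≤ N := by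
  have hpg : IsPGroup p ((P : Subgroup G).map (QuotientGroup.mk' N)) := P.2.map _
  obtain ⟨k, hk⟩ := hpg.exists_card_eq
  have hdvd : Nat.card ((P : Subgroup G).map (QuotientGroup.mk' N)) ∣ N.index := by
    rw [Subgroup.index_eq_card]
    exact Subgroup.card_subgroup_dvd_card _
  have hk0 : k = 0 := by
    by_contra hne
    apply hp
    refine dvd_trans ?_ hdvd
    rw [hk]
    exact dvd_pow_self p hne
  rw [hk0, pow_zero] at hk
  have hbot : (P : Subgroup G).map (QuotientGroup.mk' N) = ⊥ :=
    Subgroup.card_eq_one.mp hk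
  intro x hx
  have : (QuotientGroup.mk' N) x ∈ (P : Subgroup G).map (QuotientGroup.mk' N) :=
    Subgroup.mem_map_of_mem _ hx
  rw [hbot, Subgroup.mem_bot] at this
  exact (QuotientGroup.eq_one_iff x).mp this

/-- F1B -/
theorem p_dvd_index_of_proper_normal {G : Type*} [Group G] [Finite G] (p : ℕ) [Fact p.Prime]
    (hs : Group.IsSolvable G)
    (h : ∀ M : Subgroup G, M.Normal → M ≠ ⊤ → ∀ S : Sylow p M, (S : Subgroup M).Normal)
    (P : Sylow p G) (hP : ¬ (P : Subgroup G).Normal)
    (N : Subgroup G) [N.Normal] (hN : N ≠ ⊤) : p ∣ N.index := by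
  by_contra hp
  apply hP
  have hPN : (P : Subgroup G) ≤ N := sylow_le_of_normal_of_not_dvd_index p P N hp
  have hn : ((P.subtype hPN : Sylow p N) : Subgroup N).Normal := h N inferInstance hN _
  have hc : ((P.subtype hPN : Sylow p N) : Subgroup N).Characteristic :=
    Sylow.characteristic_of_normal _ hn
  have hmap : ((P.subtype hPN : Sylow p N) : Subgroup N).map N.subtype = (P : Subgroup G) := by
    rw [Sylow.coe_subtype]
    exact Subgroup.map_subgroupOf_eq_of_le hPN
  rw [← hmap]
  infer_instance

end Cfsg.Agent.Lib.H22.DX
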