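import Mathlib
import Cfsg.Agent.Lib.H21.Hall4Defs

/-!
# S4221 (M. Hall), piece FOUR (helper22): two pairs of commuting involutions with a regular point
are conjugate.  Self-contained (own copies of the ODD / PAT lemmas, primed names).
-/

set_option autoImplicit false

namespace Cfsg.Agent.Lib.H22.Hall4

open Equiv Cfsg.Agent.Lib.H21.Hall4

/-- Two involutions whose product has odd order are conjugate by a power of the product. -/
theorem odd_conj' {Γ : Type*} [Group Γ] (u v : Γ) (hu : u * u = 1) (hv : v * v = 1)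
    (h : Odd (orderOf (u * v))) : ∃ s ∈ Subgroup.zpowers (u * v), s⁻¹ * u * s = v := by
  obtain ⟨m, hm⟩ := h
  have hui : u⁻¹ = u := inv_eq_of_mul_eq_one_right hu
  have hvi : v⁻¹ = v := inv_eq_of_mul_eq_one_right hv
  set w := u * v with hw
  have hwinv : w⁻¹ = v * u := by rw [hw, mul_inv_rev, hui, hvi]
  have hconj : u * w * u⁻¹ = w⁻¹ := by
    rw [hwinv, hw, hui]
    calc u * (u * v) * u = (u * u) * v * u := by group
      _ = v * u := by rw [hu, one_mul]
  refine ⟨w ^ (m + 1), Subgroup.pow_mem _ (Subgroup.mem_zpowers w) _, ?_⟩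
  have hss : w ^ (m + 1) * w ^ (m + 1) = w := by
    rw [← pow_add]
    have : m + 1 + (m + 1) = orderOf w + 1 := by omega
    rw [this, pow_succ, pow_orderOf_eq_one, one_mul]
  have hcp : u * w ^ (m + 1) * u⁻¹ = (w ^ (m + 1))⁻¹ := by
    rw [← conj_pow, hconj, inv_pow]
  have hus : u * w ^ (m + 1) = (w ^ (m + 1))⁻¹ * u := by
    have := congrArg (· * u) hcp
    simpa [mul_assoc] using this
  calc (w ^ (m + 1))⁻¹ * u * w ^ (m + 1) = (w ^ (m + 1))⁻¹ * (u * w ^ (m + 1)) := by group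
    _ = (w ^ (m + 1))⁻¹ * ((w ^ (m + 1))⁻¹ * u) := by rw [hus]
    _ = (w ^ (m + 1) * w ^ (m + 1))⁻¹ * u := by group
    _ = w⁻¹ * u := by rw [hss]
    _ = v := by rw [hwinv, mul_assoc, hu, mul_one]

variable {α : Type*} [Fintype α] [DecidableEq α] {G : Subgroup (Perm α)}

/-- Two involutions of `G` acting in the same way `σ` on 4-tuples `s`, `s'` are conjugate by an
element of `G` carrying `s` to `s'`. -/
theorem pattern_conj' (hG : Hyp G) {a a' : Perm α} (ha : a ∈ G) (ha2 : a * a = 1) (ha' : a' ∈ G)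
    (ha'2 : a' * a' = 1) (s s' : Fin 4 ↪ α) (σ : Perm (Fin 4)) (hs : Pat a s σ) (hs' : Pat a' s' σ) :
    ∃ g ∈ G, (∀ i, g (s i) = s' i) ∧ g * a * g⁻¹ = a' := by
  obtain ⟨g₀, hg₀, hg₀s⟩ := hG.trans s s'
  set a'' := g₀ * a * g₀⁻¹ with ha''
  have ha''G : a'' ∈ G := G.mul_mem (G.mul_mem hg₀ ha) (G.inv_mem hg₀)
  have ha''2 : a'' * a'' = 1 := by
    rw [ha'']
    calc g₀ * a * g₀⁻¹ * (g₀ * a * g₀⁻¹) = g₀ * (a * a) * g₀⁻¹ := by group
      _ = 1 := by rw [ha2]; group
  have hg₀inv : ∀ i, g₀⁻¹ (s' i) = s i := by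
    intro i
    rw [Perm.inv_eq_iff_eq, hg₀s]
  have hpat'' : Pat a'' s' σ := by
    intro i
    rw [ha'', Perm.mul_apply, Perm.mul_apply, hg₀inv, hs i, hg₀s]
  have hσσ : ∀ i, σ (σ i) = i := by
    intro i
    have h1 : a' (a' (s' i)) = s' i := by
      rw [← Perm.mul_apply, ha'2, Perm.one_apply]
    rw [hs' i, hs' (σ i)] at h1
    exact s'.injective h1
  have hfix : a'' * a' ∈ st G s' := by
    refine ⟨G.mul_mem ha''G ha', fun i => ?_⟩
    rw [Perm.mul_apply, hs' i, hpat'' (σ i), hσσ]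
  have hodd : Odd (orderOf (a'' * a')) := hG.odd_orderOf hfix
  obtain ⟨z, hz, hzc⟩ := odd_conj' a'' a' ha''2 ha'2 hodd
  have hzst : z ∈ st G s' := by
    have hle : Subgroup.zpowers (a'' * a') ≤ st G s' := by
      rw [Subgroup.zpowers_le]; exact hfix
    exact hle hz
  have hzinv : z⁻¹ ∈ st G s' := (st G s').inv_mem hzst
  refine ⟨z⁻¹ * g₀, G.mul_mem hzinv.1 hg₀, fun i => ?_, ?_⟩
  · rw [Perm.mul_apply, hg₀s, hzinv.2]
  · calc z⁻¹ * g₀ * a * (z⁻¹ * g₀)⁻¹ = z⁻¹ * (g₀ * a * g₀⁻¹) * z := by group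
      _ = a' := hzc

/-- The 4-tuple `(ω, aω, bω, abω)` of a regular point. -/
def regTuple (a b : Perm α) (ha2 : a * a = 1) (hb2 : b * b = 1) (hab : a * b = b * a) (ω : α)
    (hω : ω ∈ reg a b) : Fin 4 ↪ α where
  toFun := ![ω, a ω, b ω, (a * b) ω]
  inj' := by
    have h := mem_reg.mp hω
    have haa : ∀ x, a (a x) = x := fun x => by rw [← Perm.mul_apply, ha2, Perm.one_apply]
    have hbb : ∀ x, b (b x) = x := fun x => by rw [← Perm.mul_apply, hb2, Perm.one_apply]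
    have hab' : ∀ x, a (b x) = b (a x) := fun x => by
      rw [← Perm.mul_apply, hab, Perm.mul_apply]
    have e1 : a ω ≠ ω := h.1
    have e2 : b ω ≠ ω := h.2.1
    have e3 : a (b ω) ≠ ω := by have := h.2.2; rwa [Perm.mul_apply] at this
    have e4 : a ω ≠ b ω := by
      intro hh
      apply e3
      rw [← hh, haa]
    have e5 : a ω ≠ a (b ω) := by
      intro hh
      exact e2 (a.injective hh).symm
    have e6 : b ω ≠ a (b ω) := by
      intro hh
      rw [hab'] at hh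
      exact e1 (b.injective hh).symm
    intro i j hij
    fin_cases i <;> fin_cases j <;> simp [Perm.mul_apply] at hij ⊢ <;>
      first
      | exact absurd hij (by first | exact e1 | exact e2 | exact e3 | exact e4 | exact e5 | exact e6)
      | exact absurd hij.symm (by first | exact e1 | exact e2 | exact e3 | exact e4 | exact e5 | exact e6)

theorem regTuple_apply (a b : Perm α) (ha2 : a * a = 1) (hb2 : b * b = 1) (hab : a * b = b * a)
    (ω : α) (hω : ω ∈ reg a b) :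
    regTuple a b ha2 hb2 hab ω hω 0 = ω ∧ regTuple a b ha2 hb2 hab ω hω 1 = a ω ∧
      regTuple a b ha2 hb2 hab ω hω 2 = b ω ∧ regTuple a b ha2 hb2 hab ω hω 3 = (a * b) ω :=
  ⟨rfl, rfl, rfl, rfl⟩

theorem pat_regTuple_a (a b : Perm α) (ha2 : a * a = 1) (hb2 : b * b = 1) (hab : a * b = b * a)
    (ω : α) (hω : ω ∈ reg a b) : Pat a (regTuple a b ha2 hb2 hab ω hω) σa := by
  have haa : ∀ x, a (a x) = x := fun x => by rw [← Perm.mul_apply, ha2, Perm.one_apply]
  intro i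
  fin_cases i
  · show a ω = regTuple a b ha2 hb2 hab ω hω (σa 0)
    have : σa 0 = 1 := by decide
    rw [this]; rfl
  · show a (a ω) = regTuple a b ha2 hb2 hab ω hω (σa 1)
    have : σa 1 = 0 := by decide
    rw [this, haa]; rfl
  · show a (b ω) = regTuple a b ha2 hb2 hab ω hω (σa 2)
    have : σa 2 = 3 := by decide
    rw [this]; rfl
  · show a ((a * b) ω) = regTuple a b ha2 hb2 hab ω hω (σa 3)
    have : σa 3 = 2 := by decide
    rw [this, Perm.mul_apply, haa]; rfl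

theorem pat_regTuple_b (a b : Perm α) (ha2 : a * a = 1) (hb2 : b * b = 1) (hab : a * b = b * a)
    (ω : α) (hω : ω ∈ reg a b) : Pat b (regTuple a b ha2 hb2 hab ω hω) σb := by
  have hbb : ∀ x, b (b x) = x := fun x => by rw [← Perm.mul_apply, hb2, Perm.one_apply]
  have hab' : ∀ x, a (b x) = b (a x) := fun x => by
    rw [← Perm.mul_apply, hab, Perm.mul_apply]
  intro i
  fin_cases i
  · show b ω = regTuple a b ha2 hb2 hab ω hω (σb 0)
    have : σb 0 = 2 := by decide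
    rw [this]; rfl
  · show b (a ω) = regTuple a b ha2 hb2 hab ω hω (σb 1)
    have : σb 1 = 3 := by decide
    rw [this, ← hab' ω]; rfl
  · show b (b ω) = regTuple a b ha2 hb2 hab ω hω (σb 2)
    have : σb 2 = 0 := by decide
    rw [this, hbb]; rfl
  · show b ((a * b) ω) = regTuple a b ha2 hb2 hab ω hω (σb 3)
    have : σb 3 = 1 := by decide
    rw [this, Perm.mul_apply, hab', hbb]; rfl

/-- **Piece FOUR.** -/
theorem four_conj (hG : Hyp G) {a b a' b' : Perm α} (ha : a ∈ G) (hb : b ∈ G) (ha' : a' ∈ G)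
    (hb' : b' ∈ G) (ha2 : a * a = 1) (hb2 : b * b = 1) (hab : a * b = b * a) (ha'2 : a' * a' = 1)
    (hb'2 : b' * b' = 1) (hab' : a' * b' = b' * a') (ω ω' : α) (hω : ω ∈ reg a b)
    (hω' : ω' ∈ reg a' b') :
    ∃ g ∈ G, g * a * g⁻¹ = a' ∧ g * b * g⁻¹ = b' ∧ g ω = ω' := by
  set s := regTuple a b ha2 hb2 hab ω hω with hs
  set s' := regTuple a' b' ha'2 hb'2 hab' ω' hω' with hs'
  obtain ⟨g₁, hg₁, hg₁s, hg₁a⟩ := pattern_conj' hG ha ha2 ha' ha'2 s s' σa
    (pat_regTuple_a a b ha2 hb2 hab ω hω) (pat_regTuple_a a' b' ha'2 hb'2 hab' ω' hω')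
  set b'' := g₁ * b * g₁⁻¹ with hb''
  have hb''G : b'' ∈ G := G.mul_mem (G.mul_mem hg₁ hb) (G.inv_mem hg₁)
  have hb''2 : b'' * b'' = 1 := by
    rw [hb'']
    calc g₁ * b * g₁⁻¹ * (g₁ * b * g₁⁻¹) = g₁ * (b * b) * g₁⁻¹ := by group
      _ = 1 := by rw [hb2]; group
  have hg₁inv : ∀ i, g₁⁻¹ (s' i) = s i := by
    intro i
    rw [Perm.inv_eq_iff_eq, hg₁s]
  have hpat'' : Pat b'' s' σb := by
    intro i
    rw [hb'', Perm.mul_apply, Perm.mul_apply, hg₁inv,
      pat_regTuple_b a b ha2 hb2 hab ω hω i, hg₁s]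
  have hpatb' : Pat b' s' σb := pat_regTuple_b a' b' ha'2 hb'2 hab' ω' hω'
  have hσσ : ∀ i, σb (σb i) = i := by decide
  have hfix : b'' * b' ∈ st G s' := by
    refine ⟨G.mul_mem hb''G hb', fun i => ?_⟩
    rw [Perm.mul_apply, hpatb' i, hpat'' (σb i), hσσ]
  have hodd : Odd (orderOf (b'' * b')) := hG.odd_orderOf hfix
  obtain ⟨z, hz, hzc⟩ := odd_conj' b'' b' hb''2 hb'2 hodd
  have hzst : z ∈ st G s' := by
    have hle : Subgroup.zpowers (b'' * b') ≤ st G s' := by
      rw [Subgroup.zpowers_le]; exact hfix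
    exact hle hz
  have hzinv : z⁻¹ ∈ st G s' := (st G s').inv_mem hzst
  -- `b''` commutes with `a'`
  have hcomm'' : a' * b'' = b'' * a' := by
    rw [hb'', ← hg₁a]
    calc g₁ * a * g₁⁻¹ * (g₁ * b * g₁⁻¹) = g₁ * (a * b) * g₁⁻¹ := by group
      _ = g₁ * (b * a) * g₁⁻¹ := by rw [hab]
      _ = g₁ * b * g₁⁻¹ * (g₁ * a * g₁⁻¹) := by group
  -- `z` commutes with `a'`
  have hza : z * a' = a' * z := by
    have hmem : z ∈ Subgroup.centralizer ({a'} : Set (Perm α)) := by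
      have hle : Subgroup.zpowers (b'' * b') ≤ Subgroup.centralizer ({a'} : Set (Perm α)) := by
        rw [Subgroup.zpowers_le, Subgroup.mem_centralizer_iff]
        intro x hx
        rw [Set.mem_singleton_iff] at hx
        subst hx
        calc x * (b'' * b') = (x * b'') * b' := by group
          _ = (b'' * x) * b' := by rw [hcomm'']
          _ = b'' * (x * b') := by group
          _ = b'' * (b' * x) := by rw [hab']
          _ = b'' * b' * x := by group
      exact hle hz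
    rw [Subgroup.mem_centralizer_iff] at hmem
    exact (hmem a' rfl).symm
  refine ⟨z⁻¹ * g₁, G.mul_mem hzinv.1 hg₁, ?_, ?_, ?_⟩
  · calc z⁻¹ * g₁ * a * (z⁻¹ * g₁)⁻¹ = z⁻¹ * (g₁ * a * g₁⁻¹) * z := by group
      _ = z⁻¹ * a' * z := by rw [hg₁a]
      _ = z⁻¹ * (a' * z) := by group
      _ = z⁻¹ * (z * a') := by rw [hza]
      _ = a' := by group
  · calc z⁻¹ * g₁ * b * (z⁻¹ * g₁)⁻¹ = z⁻¹ * (g₁ * b * g₁⁻¹) * z := by group
      _ = b' := hzc
  · have h0 : g₁ ω = ω' := hg₁s 0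
    rw [Perm.mul_apply, h0]
    exact hzinv.2 0

end Cfsg.Agent.Lib.H22.Hall4
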