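import Mathlib

/-!
# Cyclic Sylow subgroups and perfect subgroups (helper22 library)

* `conj_pow_zpow`: if `g x g⁻¹ = x ^ s` then `g ^ k x g ^ (-k) = x ^ (s ^ k)`.
* `mem_centralizer_of_conj_zpow`: an element normalizing a Sylow `p`-subgroup `P = ⟨x⟩` and acting
  as `x ↦ x ^ s` with `s ≡ 1 (mod p)` centralizes `P`.
* `not_dvd_card_of_perfect`: Burnside transfer packaged for perfect subgroups.
* `sylow_le_of_perfect_of_le_normalizer`: a cyclic Sylow `p`-subgroup normalizing a perfect subgroup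
  `L` of order divisible by `p` lies in `L`.
* `false_of_central_of_perfect`: a perfect group with cyclic Sylow `p`-subgroup has no central
  element of order `p`.
-/

set_option autoImplicit false

namespace Cfsg.Agent.Lib.H22

open scoped commutatorElement

variable {G : Type*} [Group G]

theorem conj_pow_zpow {g x : G} {s : ℤ} (h : g * x * g⁻¹ = x ^ s) (k : ℕ) :
    g ^ k * x * (g ^ k)⁻¹ = x ^ (s ^ k) := by
  induction k with
  | zero => simp
  | succ k ih =>
    have h1 : g ^ (k + 1) * x * (g ^ (k + 1))⁻¹ = g * (g ^ k * x * (g ^ k)⁻¹) * g⁻¹ := by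
      rw [pow_succ']; group
    rw [h1, ih, ← conj_zpow, h, ← zpow_mul, pow_succ']

theorem mem_centralizer_of_commute_gen {x a : G} {P : Subgroup G}
    (hx : Subgroup.zpowers x = P) (h : a * x = x * a) : a ∈ Subgroup.centralizer (P : Set G) := by
  rw [Subgroup.mem_centralizer_iff]
  intro y hy
  have hy' : y ∈ Subgroup.zpowers x := by rw [hx]; exact hy
  obtain ⟨k, rfl⟩ := Subgroup.mem_zpowers_iff.1 hy'
  exact ((show Commute a x from h).zpow_right k).eq.symm

theorem le_centralizer_of_zpowers {x : G} {P : Subgroup G} (hx : Subgroup.zpowers x = P) :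
    P ≤ Subgroup.centralizer (P : Set G) := by
  intro y hy
  have hy' : y ∈ Subgroup.zpowers x := by rw [hx]; exact hy
  obtain ⟨k, rfl⟩ := Subgroup.mem_zpowers_iff.1 hy'
  exact mem_centralizer_of_commute_gen hx ((Commute.refl x).zpow_left k).eq

/-- An element normalizing the Sylow `p`-subgroup `P = ⟨x⟩` and acting on it by `x ↦ x ^ s` with
`s ≡ 1 (mod p)` centralizes `P`. -/
theorem mem_centralizer_of_conj_zpow [Finite G] {p : ℕ} [hp : Fact p.Prime] (P : Sylow p G)
    {x g : G} (hx : Subgroup.zpowers x = (P : Subgroup G))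
    (hg : g ∈ Subgroup.normalizer ((P : Subgroup G) : Set G)) {s : ℤ}
    (hs : g * x * g⁻¹ = x ^ s) (hps : (p : ℤ) ∣ s - 1) :
    g ∈ Subgroup.centralizer ((P : Subgroup G) : Set G) := by
  obtain ⟨n, hn⟩ := P.2.exists_card_eq
  have hord : orderOf x = p ^ n := by
    rw [← Nat.card_zpowers, hx]; exact hn
  -- `g ^ (p ^ n)` centralizes `P`
  have h1 : ((p : ℤ) ^ (n + 1)) ∣ s ^ (p ^ n) - 1 ^ (p ^ n) := dvd_sub_pow_of_dvd_sub hps n
  rw [one_pow] at h1
  have h2 : ((orderOf x : ℕ) : ℤ) ∣ s ^ (p ^ n) - 1 := by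
    rw [hord]
    push_cast
    exact (pow_dvd_pow (p : ℤ) (Nat.le_succ n)).trans h1
  have h3 : x ^ (s ^ (p ^ n)) = x := by
    have := orderOf_dvd_iff_zpow_eq_one.1 h2
    have h4 : x ^ (s ^ (p ^ n)) = x ^ (s ^ (p ^ n) - 1) * x := by
      rw [← zpow_add_one]; congr 1; ring
    rw [h4, this, one_mul]
  have h5 : g ^ (p ^ n) * x = x * g ^ (p ^ n) := by
    have := conj_pow_zpow hs (p ^ n)
    rw [h3] at this
    calc g ^ (p ^ n) * x = (g ^ (p ^ n) * x * (g ^ (p ^ n))⁻¹) * g ^ (p ^ n) := by group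
      _ = x * g ^ (p ^ n) := by rw [this]
  have h6 : g ^ (p ^ n) ∈ Subgroup.centralizer ((P : Subgroup G) : Set G) :=
    mem_centralizer_of_commute_gen hx h5
  -- the image of `g` in `N(P)/C(P)`
  set φ := (P : Subgroup G).normalizerMonoidHom with hφ
  have hker : φ.ker = (Subgroup.centralizer ((P : Subgroup G) : Set G)).subgroupOf
      (Subgroup.normalizer ((P : Subgroup G) : Set G)) := Subgroup.normalizerMonoidHom_ker _
  let g' : Subgroup.normalizer ((P : Subgroup G) : Set G) := ⟨g, hg⟩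
  have h7 : (φ g') ^ (p ^ n) = 1 := by
    rw [← map_pow, ← MonoidHom.mem_ker, hker, Subgroup.mem_subgroupOf]
    exact h6
  have h8 : (φ g') ^ (Nat.card φ.range) = 1 := by
    have := pow_card_eq_one' (G := φ.range) (x := ⟨φ g', g', rfl⟩)
    exact congrArg Subtype.val this
  have hcop : Nat.Coprime (p ^ n) (Nat.card φ.range) := by
    rw [← Subgroup.index_ker, hker]
    apply Nat.Coprime.pow_left
    rw [Nat.Prime.coprime_iff_not_dvd hp.out]
    intro hdvd
    apply P.not_dvd_index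
    have d1 : (Subgroup.centralizer ((P : Subgroup G) : Set G)).relIndex
        (Subgroup.normalizer ((P : Subgroup G) : Set G)) ∣
        (P : Subgroup G).relIndex (Subgroup.normalizer ((P : Subgroup G) : Set G)) :=
      Subgroup.relIndex_dvd_of_le_left _ (le_centralizer_of_zpowers hx)
    have d2 : (P : Subgroup G).relIndex (Subgroup.normalizer ((P : Subgroup G) : Set G)) ∣
        (P : Subgroup G).index := Subgroup.relIndex_dvd_index_of_le Subgroup.le_normalizer
    exact hdvd.trans (d1.trans d2)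
  have h9 : φ g' = 1 := by
    have := pow_gcd_eq_one.2 ⟨h7, h8⟩
    rwa [Nat.Coprime.gcd_eq_one hcop, pow_one] at this
  have h10 : g' ∈ φ.ker := h9
  rw [hker, Subgroup.mem_subgroupOf] at h10
  exact h10


/-- **Burnside transfer for perfect subgroups.**  Let `P = ⟨x⟩` be a cyclic Sylow `p`-subgroup
of `G` contained in a subgroup `M`.  If every element of `N_M(P)` acts on `P` by `x ↦ x ^ s` with
`s ≡ 1 (mod p)`, then every perfect subgroup of `M` has order prime to `p`. -/
theorem not_dvd_card_of_perfect [Finite G] {p : ℕ} [hp : Fact p.Prime] (P : Sylow p G) {x : G}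
    (hx : Subgroup.zpowers x = (P : Subgroup G)) (M : Subgroup G) (hPM : (P : Subgroup G) ≤ M)
    (hs : ∀ g ∈ M, g ∈ Subgroup.normalizer ((P : Subgroup G) : Set G) →
      ∀ s : ℤ, g * x * g⁻¹ = x ^ s → (p : ℤ) ∣ s - 1)
    (L : Subgroup G) (hLM : L ≤ M) (hperf : ⁅L, L⁆ = L) : ¬ p ∣ Nat.card L := by
  have hxP : x ∈ (P : Subgroup G) := by rw [← hx]; exact Subgroup.mem_zpowers x
  let PM : Sylow p M := P.subtype hPM
  let xM : M := ⟨x, hPM hxP⟩
  have hxM : Subgroup.zpowers xM = (PM : Subgroup M) := by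
    ext y
    rw [Sylow.coe_subtype, Subgroup.mem_subgroupOf, ← hx, Subgroup.mem_zpowers_iff,
      Subgroup.mem_zpowers_iff]
    constructor
    · rintro ⟨k, rfl⟩
      exact ⟨k, by simp [xM]⟩
    · rintro ⟨k, hk⟩
      refine ⟨k, Subtype.ext ?_⟩
      simp [xM, hk]
  have hNC : Subgroup.normalizer ((PM : Subgroup M) : Set M) ≤
      Subgroup.centralizer ((PM : Subgroup M) : Set M) := by
    intro g hg
    have hgN : (g : G) ∈ Subgroup.normalizer ((P : Subgroup G) : Set G) := by
      rw [Subgroup.mem_normalizer_iff]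
      intro h
      constructor
      · intro hh
        have h1 := (Subgroup.mem_normalizer_iff.1 hg ⟨h, hPM hh⟩).1
          (by rw [Sylow.coe_subtype, Subgroup.mem_subgroupOf]; exact hh)
        rw [Sylow.coe_subtype, Subgroup.mem_subgroupOf] at h1
        exact h1
      · intro hh
        have hhM : h ∈ M := by
          have : h = (g : G)⁻¹ * ((g : G) * h * (g : G)⁻¹) * (g : G) := by group
          rw [this]
          exact M.mul_mem (M.mul_mem (M.inv_mem g.2) (hPM hh)) g.2
        have h1 := (Subgroup.mem_normalizer_iff.1 hg ⟨h, hhM⟩).2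
          (by rw [Sylow.coe_subtype, Subgroup.mem_subgroupOf]; exact hh)
        rw [Sylow.coe_subtype, Subgroup.mem_subgroupOf] at h1
        exact h1
    have h2 : g * xM * g⁻¹ ∈ Subgroup.zpowers xM := by
      rw [hxM]
      exact (Subgroup.mem_normalizer_iff.1 hg xM).1
        (by rw [← hxM]; exact Subgroup.mem_zpowers xM)
    obtain ⟨s, hs'⟩ := Subgroup.mem_zpowers_iff.1 h2
    have hs'' : (g : G) * x * (g : G)⁻¹ = x ^ s := by
      have := congrArg Subtype.val hs'
      simpa [xM] using this.symm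
    exact mem_centralizer_of_conj_zpow PM hxM hg hs'.symm (hs g g.2 hgN s hs'')
  have hW := MonoidHom.not_dvd_card_ker_transferSylow PM hNC
  have hcomm : ∀ a b : (PM : Subgroup M), a * b = b * a := fun a b =>
    Subtype.ext (hNC (Subgroup.le_normalizer b.2) a a.2)
  have hLW : L ≤ (MonoidHom.transferSylow PM hNC).ker.map M.subtype := by
    rw [← hperf, Subgroup.commutator_le]
    intro a ha b hb
    refine ⟨⁅(⟨a, hLM ha⟩ : M), ⟨b, hLM hb⟩⁆, ?_, rfl⟩
    rw [SetLike.mem_coe, MonoidHom.mem_ker, map_commutatorElement,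
      commutatorElement_eq_one_iff_commute]
    exact hcomm _ _
  intro hdvd
  apply hW
  have h1 : Nat.card L ∣ Nat.card ((MonoidHom.transferSylow PM hNC).ker.map M.subtype) :=
    Subgroup.card_dvd_of_le hLW
  rw [Subgroup.card_map_of_injective (Subgroup.subtype_injective M)] at h1
  exact hdvd.trans h1

/-- If `p ∤ m` then `x ^ m ∈ L` implies `x ∈ L`, for `x` of `p`-power order. -/
theorem mem_of_zpow_mem_of_not_dvd {p n : ℕ} [hp : Fact p.Prime] {x : G} (hord : orderOf x = p ^ n)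
    {m : ℤ} (hm : ¬ (p : ℤ) ∣ m) {L : Subgroup G} (h : x ^ m ∈ L) : x ∈ L := by
  have hcop : IsCoprime m ((p : ℤ) ^ n) := by
    apply IsCoprime.pow_right
    rw [isCoprime_comm]
    exact (Prime.coprime_iff_not_dvd (Nat.prime_iff_prime_int.1 hp.out)).2 hm
  obtain ⟨u, v, huv⟩ := hcop
  have h1 : x = (x ^ m) ^ u * (x ^ ((p : ℤ) ^ n)) ^ v := by
    rw [← zpow_mul, ← zpow_mul, ← zpow_add]
    have : m * u + (p : ℤ) ^ n * v = 1 := by rw [← huv]; ring
    rw [this, zpow_one]
  have h2 : x ^ ((p : ℤ) ^ n) = 1 := by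
    have : ((p : ℤ) ^ n) = ((p ^ n : ℕ) : ℤ) := by push_cast; rfl
    rw [this, zpow_natCast, ← hord, pow_orderOf_eq_one]
  rw [h1, h2, one_zpow, mul_one]
  exact L.zpow_mem h u

/-- A cyclic Sylow `p`-subgroup which normalizes a perfect subgroup `L` of order divisible by `p`
is contained in `L`. -/
theorem sylow_le_of_perfect_of_le_normalizer [Finite G] {p : ℕ} [hp : Fact p.Prime] (P : Sylow p G)
    (hcyc : IsCyclic (P : Subgroup G)) (L : Subgroup G) (hperf : ⁅L, L⁆ = L)
    (hPL : (P : Subgroup G) ≤ Subgroup.normalizer (L : Set G)) (hpL : p ∣ Nat.card L) :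
    (P : Subgroup G) ≤ L := by
  obtain ⟨x0, hx0⟩ := hcyc.exists_generator
  have hx : Subgroup.zpowers (x0 : G) = (P : Subgroup G) := by
    ext y
    constructor
    · intro hy
      obtain ⟨k, rfl⟩ := Subgroup.mem_zpowers_iff.1 hy
      exact (P : Subgroup G).zpow_mem x0.2 k
    · intro hy
      obtain ⟨k, hk⟩ := Subgroup.mem_zpowers_iff.1 (hx0 ⟨y, hy⟩)
      refine Subgroup.mem_zpowers_iff.2 ⟨k, ?_⟩
      have := congrArg Subtype.val hk
      simpa using this
  obtain ⟨n, hn⟩ := P.2.exists_card_eq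
  have hord : orderOf (x0 : G) = p ^ n := by
    rw [← Nat.card_zpowers, hx]; exact hn
  by_contra hnot
  refine not_dvd_card_of_perfect P hx (L ⊔ P) le_sup_right ?_ L le_sup_left hperf hpL
  intro g hgM hgN s hs
  by_contra hnd
  apply hnot
  have hgM' : g ∈ ((L ⊔ (P : Subgroup G) : Subgroup G) : Set G) := hgM
  rw [Subgroup.coe_mul_of_right_le_normalizer_left L (P : Subgroup G) hPL] at hgM'
  obtain ⟨l, hl, z, hz, rfl⟩ := hgM'
  have hl' : l ∈ L := hl
  have hz' : z ∈ (P : Subgroup G) := hz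
  -- `z` commutes with `x0`
  have hzx : z * (x0 : G) = (x0 : G) * z := by
    have := le_centralizer_of_zpowers hx hz'
    rw [Subgroup.mem_centralizer_iff] at this
    exact (this _ x0.2).symm
  have h1 : (x0 : G) * ((x0 : G) ^ s)⁻¹ ∈ L := by
    rw [← hs]
    have e : (x0 : G) * (l * z * (x0 : G) * (l * z)⁻¹)⁻¹ =
        ((x0 : G) * l * (x0 : G)⁻¹) * l⁻¹ := by
      have hz2 : z * (x0 : G)⁻¹ * z⁻¹ = (x0 : G)⁻¹ := by
        have : z * (x0 : G)⁻¹ = (x0 : G)⁻¹ * z := (show Commute z (x0 : G) from hzx).inv_right.eq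
        rw [this]; group
      calc (x0 : G) * (l * z * (x0 : G) * (l * z)⁻¹)⁻¹
          = (x0 : G) * l * (z * (x0 : G)⁻¹ * z⁻¹) * l⁻¹ := by group
        _ = ((x0 : G) * l * (x0 : G)⁻¹) * l⁻¹ := by rw [hz2]
    rw [e]
    refine L.mul_mem ?_ (L.inv_mem hl')
    exact ((Subgroup.mem_normalizer_iff.1 (hPL x0.2)) l).1 hl'
  have h2 : (x0 : G) ^ (1 - s) ∈ L := by
    have : (x0 : G) ^ (1 - s) = (x0 : G) * ((x0 : G) ^ s)⁻¹ := by
      rw [zpow_sub, zpow_one]
    rw [this]; exact h1
  have h3 : ¬ (p : ℤ) ∣ 1 - s := by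
    intro h
    apply hnd
    have : s - 1 = -(1 - s) := by ring
    rw [this]; exact (dvd_neg).2 h
  have h4 : (x0 : G) ∈ L := mem_of_zpow_mem_of_not_dvd hord h3 h2
  rw [← hx]
  exact (Subgroup.zpowers_le).2 h4

/-- A finite group with a cyclic Sylow `p`-subgroup `P` inside a perfect subgroup `L` has no
non-identity element of `P` centralizing `L`. -/
theorem false_of_central_of_perfect [Finite G] {p : ℕ} [hp : Fact p.Prime] (P : Sylow p G)
    (hcyc : IsCyclic (P : Subgroup G)) (L : Subgroup G) (hperf : ⁅L, L⁆ = L)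
    (hPL : (P : Subgroup G) ≤ L) {z : G} (hzP : z ∈ (P : Subgroup G)) (hz1 : z ≠ 1)
    (hzL : z ∈ Subgroup.centralizer (L : Set G)) : False := by
  obtain ⟨x0, hx0⟩ := hcyc.exists_generator
  have hx : Subgroup.zpowers (x0 : G) = (P : Subgroup G) := by
    ext y
    constructor
    · intro hy
      obtain ⟨k, rfl⟩ := Subgroup.mem_zpowers_iff.1 hy
      exact (P : Subgroup G).zpow_mem x0.2 k
    · intro hy
      obtain ⟨k, hk⟩ := Subgroup.mem_zpowers_iff.1 (hx0 ⟨y, hy⟩)
      refine Subgroup.mem_zpowers_iff.2 ⟨k, ?_⟩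
      have := congrArg Subtype.val hk
      simpa using this
  obtain ⟨n, hn⟩ := P.2.exists_card_eq
  have hord : orderOf (x0 : G) = p ^ n := by
    rw [← Nat.card_zpowers, hx]; exact hn
  have hzz : z ∈ Subgroup.zpowers (x0 : G) := by rw [hx]; exact hzP
  obtain ⟨j, hj⟩ := Subgroup.mem_zpowers_iff.1 hzz
  have hpL : p ∣ Nat.card L := by
    have h1 : orderOf z ∣ Nat.card L := by
      have := orderOf_dvd_natCard (⟨z, hPL hzP⟩ : L)
      rwa [Subgroup.orderOf_mk] at this
    obtain ⟨k, hk⟩ := (IsPGroup.iff_orderOf.1 P.2) ⟨z, hzP⟩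
    rw [Subgroup.orderOf_mk] at hk
    rcases Nat.eq_zero_or_pos k with rfl | hk0
    · rw [pow_zero, orderOf_eq_one_iff] at hk
      exact absurd hk hz1
    · exact (dvd_pow_self p hk0.ne').trans (hk ▸ h1)
  refine not_dvd_card_of_perfect P hx L hPL ?_ L le_rfl hperf hpL
  intro g hgL _ s hs
  by_contra hnd
  apply hz1
  -- `g` centralizes `z`
  have hgz : g * z * g⁻¹ = z := by
    have := (Subgroup.mem_centralizer_iff.1 hzL) g hgL
    rw [this]; group
  have h1 : (x0 : G) ^ (s * j) = (x0 : G) ^ j := by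
    have : g * (x0 : G) ^ j * g⁻¹ = (x0 : G) ^ (s * j) := by
      rw [← conj_zpow, hs, ← zpow_mul]
    rw [← this, hj, hgz]
  have h2 : (x0 : G) ^ ((s - 1) * j) = 1 := by
    have : (s - 1) * j = s * j - j := by ring
    rw [this, zpow_sub, h1, mul_inv_cancel]
  have h3 : ((orderOf (x0 : G) : ℕ) : ℤ) ∣ (s - 1) * j := orderOf_dvd_iff_zpow_eq_one.2 h2
  rw [hord] at h3
  push_cast at h3
  have hcop : IsCoprime ((p : ℤ) ^ n) (s - 1) := by
    apply IsCoprime.pow_left
    exact (Prime.coprime_iff_not_dvd (Nat.prime_iff_prime_int.1 hp.out)).2 hnd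
  have h4 : (p : ℤ) ^ n ∣ j := hcop.dvd_of_dvd_mul_left h3
  have h5 : ((orderOf (x0 : G) : ℕ) : ℤ) ∣ j := by rw [hord]; push_cast; exact h4
  rw [← hj]
  exact orderOf_dvd_iff_zpow_eq_one.1 h5

end Cfsg.Agent.Lib.H22
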