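import Mathlib
import Cfsg.Agent.Lib.H11.O4320O0

/-!
helper22 library (S4429, piece (F9)): Sylow 5-data of a group of order 7920: an element `y` of order 5 whose
centralizer has order dividing 15 has `|C_G(y)| = 5` and `y ~ y^2`.  Exact signature of
`tools/blueprints/S4429_sigs.lean`.
-/

set_option autoImplicit false

namespace Cfsg.Agent.Lib.H22.M7920

universe u

theorem factorization_7920_five : (7920 : ℕ).factorization 5 = 1 := by
  have h : (7920 : ℕ) = 5 ^ 1 * 1584 := by norm_num
  rw [h, Nat.factorization_mul (by norm_num) (by norm_num),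
    Nat.Prime.factorization_pow (by norm_num)]
  simp [Nat.factorization_eq_zero_of_not_dvd]

/-- a subgroup `K` of prime order `p`: `|N_G(K)| = |C_G(K)| * r` with `r ∣ p - 1`. -/
theorem card_normalizer_eq_card_centralizer_mul {G : Type u} [Group G] [Finite G] (K : Subgroup G)
    {p : ℕ} (hp : p.Prime) (hK : Nat.card K = p) :
    ∃ r : ℕ, r ∣ p - 1 ∧ Nat.card (Subgroup.normalizer (K : Set G)) =
      Nat.card (Subgroup.centralizer (K : Set G)) * r := by
  classical
  have hcyc : IsCyclic K := by
    haveI : Fact p.Prime := ⟨hp⟩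
    exact isCyclic_of_prime_card hK
  have key := Subgroup.card_dvd_of_injective _
    (QuotientGroup.kerLift_injective K.normalizerMonoidHom)
  rw [Subgroup.normalizerMonoidHom_ker, IsCyclic.card_mulAut, hK, Nat.totient_prime hp] at key
  have hle : Subgroup.centralizer (K : Set G) ≤ Subgroup.normalizer (K : Set G) :=
    Subgroup.centralizer_le_normalizer _
  have h1 : Nat.card ((Subgroup.centralizer (K : Set G)).subgroupOf
      (Subgroup.normalizer (K : Set G))) = Nat.card (Subgroup.centralizer (K : Set G)) :=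
    Nat.card_congr (Subgroup.subgroupOfEquivOfLe hle).toEquiv
  have h2 := ((Subgroup.centralizer (K : Set G)).subgroupOf
    (Subgroup.normalizer (K : Set G))).card_mul_index
  rw [h1] at h2
  exact ⟨_, key, h2.symm⟩

/-- (F9) Sylow 5-data. -/
theorem sylow5_data {G : Type u} [Group G] [Finite G] (hG : Nat.card G = 7920)
    (y : G) (hy : orderOf y = 5) (hC : Nat.card (Subgroup.centralizer ({y} : Set G)) ∣ 15) :
    Nat.card (Subgroup.centralizer ({y} : Set G)) = 5 ∧ IsConj y (y ^ 2) := by
  classical
  haveI : Fact (Nat.Prime 5) := ⟨by norm_num⟩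
  have hKcard : Nat.card (Subgroup.zpowers y) = 5 := by rw [Nat.card_zpowers, hy]
  have hcent : Subgroup.centralizer ((Subgroup.zpowers y : Subgroup G) : Set G) =
      Subgroup.centralizer ({y} : Set G) := by
    rw [Subgroup.zpowers_eq_closure, Subgroup.centralizer_closure]
  -- `K ≤ C(y)`, so `5 ∣ |C(y)|`
  have hKC : Subgroup.zpowers y ≤ Subgroup.centralizer ({y} : Set G) := by
    rw [Subgroup.zpowers_le, Subgroup.mem_centralizer_iff]
    intro h hh
    rw [Set.mem_singleton_iff] at hh
    rw [hh]
  have h5C : 5 ∣ Nat.card (Subgroup.centralizer ({y} : Set G)) := by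
    rw [← hKcard]
    exact Subgroup.card_dvd_of_le hKC
  obtain ⟨r, hr, hN⟩ := card_normalizer_eq_card_centralizer_mul (Subgroup.zpowers y)
    (by norm_num : Nat.Prime 5) hKcard
  rw [hcent] at hN
  -- Sylow counting
  have hcardeq : Nat.card (Subgroup.zpowers y) = 5 ^ (Nat.card G).factorization 5 := by
    rw [hKcard, hG, factorization_7920_five, pow_one]
  have hmod := card_sylow_modEq_one 5 G
  have hidx : Nat.card (Sylow 5 G) =
      (Subgroup.normalizer ((Subgroup.zpowers y : Subgroup G) : Set G)).index :=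
    (Sylow.ofCard (Subgroup.zpowers y) hcardeq).card_eq_index_normalizer
  have hmul := (Subgroup.normalizer ((Subgroup.zpowers y : Subgroup G) : Set G)).card_mul_index
  rw [hG, hN, ← hidx] at hmul
  have hmod' : Nat.card (Sylow 5 G) % 5 = 1 := hmod
  have hr4 : r ∣ 4 := hr
  have hrle : r ≤ 4 := Nat.le_of_dvd (by norm_num) hr4
  have hcle : Nat.card (Subgroup.centralizer ({y} : Set G)) ≤ 15 := Nat.le_of_dvd (by norm_num) hC
  have hc5 : Nat.card (Subgroup.centralizer ({y} : Set G)) = 5 ∨
      Nat.card (Subgroup.centralizer ({y} : Set G)) = 15 := by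
    generalize Nat.card (Subgroup.centralizer ({y} : Set G)) = c at hC h5C hcle
    interval_cases c <;> omega
  have hfin : Nat.card (Subgroup.centralizer ({y} : Set G)) = 5 ∧ r = 4 := by
    generalize Nat.card (Subgroup.centralizer ({y} : Set G)) = c at hc5 hmul
    generalize Nat.card (Sylow 5 G) = s at hmul hmod'
    rcases hc5 with rfl | rfl
    · interval_cases r <;> first | omega | exact ⟨rfl, rfl⟩
    · interval_cases r <;> omega
  refine ⟨hfin.1, ?_⟩
  have hN20 : Nat.card (Subgroup.normalizer ((Subgroup.zpowers y : Subgroup G) : Set G)) = 20 := by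
    rw [hN, hfin.1, hfin.2]
  have hCK : Subgroup.centralizer ((Subgroup.zpowers y : Subgroup G) : Set G) =
      Subgroup.zpowers y := by
    rw [hcent]
    exact (Subgroup.eq_of_le_of_card_ge hKC (by rw [hfin.1, hKcard])).symm
  have hy1 : y ≠ 1 := by
    intro h
    rw [h, orderOf_one] at hy
    omega
  have hy2 : y ^ 2 ≠ 1 := by
    intro h
    have := orderOf_dvd_of_pow_eq_one h
    rw [hy] at this
    omega
  exact Cfsg.Agent.Lib.H11.O4320.isConj_of_mem (Subgroup.zpowers y) hKcard hCK hN20
    (Subgroup.mem_zpowers y) hy1 (Subgroup.pow_mem _ (Subgroup.mem_zpowers y) 2) hy2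

end Cfsg.Agent.Lib.H22.M7920
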