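import Mathlib
import Cfsg.Agent.Lib.H11.RK2Defs

/-!
# S5289 piece RK2 T3B (helper22): `T3.m4` (`G' ≤ ⟨y, w⟩`) and `T3.m2` (`M₀' ≤ ⟨w⟩`)

Architect: helper11 (`tools/blueprints/S5289.md`, `tools/blueprints/S5289_sigs.lean`).
-/

set_option autoImplicit false
set_option linter.unusedSectionVars false

namespace Cfsg.Agent.Lib.H22.RK2

open Cfsg.Agent.Lib.H11.RK2

/-- Generic: if the generators `S` normalize `K` (both ways) and commute pairwise modulo `K`, then all
commutators of `closure S` lie in `K`. -/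
theorem t3b_comm_mem_of_gens {G : Type*} [Group G] (K : Subgroup G) (S : Set G)
    (hN : ∀ g ∈ S, ∀ k ∈ K, g * k * g⁻¹ ∈ K ∧ g⁻¹ * k * g ∈ K)
    (hC : ∀ g ∈ S, ∀ h ∈ S, g * h * g⁻¹ * h⁻¹ ∈ K) :
    ∀ a ∈ Subgroup.closure S, ∀ b ∈ Subgroup.closure S, a * b * a⁻¹ * b⁻¹ ∈ K := by
  -- Claim 1: closure S normalizes K
  have h1 : ∀ a ∈ Subgroup.closure S, ∀ k ∈ K, a * k * a⁻¹ ∈ K ∧ a⁻¹ * k * a ∈ K := by
    intro a ha
    induction ha using Subgroup.closure_induction with
    | mem g hg => exact hN g hg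
    | one => intro k hk; simpa using hk
    | mul a b _ _ iha ihb =>
      intro k hk
      constructor
      · have := (iha _ (ihb k hk).1).1
        have e : a * b * k * (a * b)⁻¹ = a * (b * k * b⁻¹) * a⁻¹ := by group
        rw [e]; exact this
      · have := (ihb _ (iha k hk).2).2
        have e : (a * b)⁻¹ * k * (a * b) = b⁻¹ * (a⁻¹ * k * a) * b := by group
        rw [e]; exact this
    | inv a _ iha =>
      intro k hk
      constructor
      · have := (iha k hk).2
        simpa using this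
      · have := (iha k hk).1
        simpa using this
  -- Claim 2
  have h2 : ∀ a ∈ Subgroup.closure S, ∀ h ∈ S, a * h * a⁻¹ * h⁻¹ ∈ K := by
    intro a ha
    induction ha using Subgroup.closure_induction with
    | mem g hg => exact hC g hg
    | one => intro h _; simp
    | mul a b ha _ iha ihb =>
      intro h hh
      have e : a * b * h * (a * b)⁻¹ * h⁻¹ = (a * (b * h * b⁻¹ * h⁻¹) * a⁻¹) * (a * h * a⁻¹ * h⁻¹) := by
        group
      rw [e]
      exact K.mul_mem (h1 a ha _ (ihb h hh)).1 (iha h hh)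
    | inv a ha iha =>
      intro h hh
      have e : a⁻¹ * h * a⁻¹⁻¹ * h⁻¹ = a⁻¹ * (a * h * a⁻¹ * h⁻¹)⁻¹ * a := by group
      rw [e]
      exact (h1 a ha _ (K.inv_mem (iha h hh))).2
  intro a ha b hb
  induction hb using Subgroup.closure_induction with
  | mem g hg => exact h2 a ha g hg
  | one => simp
  | mul b c hb _ ihb ihc =>
    have e : a * (b * c) * a⁻¹ * (b * c)⁻¹ = (a * b * a⁻¹ * b⁻¹) * (b * (a * c * a⁻¹ * c⁻¹) * b⁻¹) := by
      group
    rw [e]
    exact K.mul_mem ihb (h1 b hb _ ihc).1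
  | inv b hb ihb =>
    have e : a * b⁻¹ * a⁻¹ * b⁻¹⁻¹ = b⁻¹ * (a * b * a⁻¹ * b⁻¹)⁻¹ * b := by group
    rw [e]
    exact (h1 b hb _ (K.inv_mem ihb)).2

section T3

variable {G : Type*} [Group G] [Finite G] {p n s : ℕ} [Fact p.Prime] {x y z : G}

/-- `x⁻¹ z^k x = y^k z^k`. -/
theorem T3.t3b_conj_zpow (h : T3 p n s x y z) (k : ℕ) : x⁻¹ * z ^ k * x = y ^ k * z ^ k := by
  have e : x⁻¹ * z ^ k * x = (x⁻¹ * z * x) ^ k := by
    have := conj_pow (a := x⁻¹) (b := z) (i := k)
    simpa using this.symm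
  rw [e, h.hxz, (show Commute y z from h.hyz).mul_pow]

/-- `x` commutes with `z^(p*m)`. -/
theorem T3.t3b_x_comm (h : T3 p n s x y z) (m : ℕ) : x * z ^ (p * m) = z ^ (p * m) * x := by
  have e := T3.t3b_conj_zpow h (p * m)
  rw [pow_mul y, h.hy, one_pow, one_mul] at e
  calc x * z ^ (p * m) = x * (x⁻¹ * z ^ (p * m) * x) := by rw [e]
    _ = z ^ (p * m) * x := by group

theorem T3.t3b_w_eq (h : T3 p n s x y z) : p ^ (n - 3) = p * p ^ (n - 4) := by
  have := h.hn
  rw [← pow_succ']
  congr 1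
  omega

/-- `w` commutes with `x`. -/
theorem T3.t3b_xw (h : T3 p n s x y z) : x * z ^ p ^ (n - 3) = z ^ p ^ (n - 3) * x := by
  rw [T3.t3b_w_eq h]; exact T3.t3b_x_comm h _

/-- `x y x⁻¹ = y (w^s)⁻¹`. -/
theorem T3.t3b_xyx (h : T3 p n s x y z) :
    x * y * x⁻¹ = y * ((z ^ p ^ (n - 3)) ^ s)⁻¹ := by
  have hw : Commute x ((z ^ p ^ (n - 3)) ^ s) := (show Commute x (z ^ p ^ (n - 3)) from T3.t3b_xw h).pow_right s
  have e : x⁻¹ * y * x = y * (z ^ p ^ (n - 3)) ^ s := by
    rw [h.hxy, mul_comm s, pow_mul]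
  have e2 : y = x * (y * (z ^ p ^ (n - 3)) ^ s) * x⁻¹ := by rw [← e]; group
  have e3 : x * (y * (z ^ p ^ (n - 3)) ^ s) * x⁻¹ = x * y * x⁻¹ * (z ^ p ^ (n - 3)) ^ s := by
    have := hw.eq
    calc x * (y * (z ^ p ^ (n - 3)) ^ s) * x⁻¹ = x * y * ((z ^ p ^ (n - 3)) ^ s * x⁻¹) := by group
      _ = x * y * (x⁻¹ * (z ^ p ^ (n - 3)) ^ s) := by rw [(hw.inv_left).eq]
      _ = _ := by group
  rw [e3] at e2
  rw [eq_mul_inv_iff_mul_eq]
  exact e2.symm

/-- **T3M4**.  `G' ≤ ⟨y, w⟩`, `w = z^(p^(n-3))`. -/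
theorem T3.m4 (h : T3 p n s x y z) :
    ∀ a b : G, a * b * a⁻¹ * b⁻¹ ∈ Subgroup.closure ({y, z ^ p ^ (n - 3)} : Set G) := by
  set w := z ^ p ^ (n - 3) with hw
  set K := Subgroup.closure ({y, w} : Set G) with hK
  have hyK : y ∈ K := Subgroup.subset_closure (by simp)
  have hwK : w ∈ K := Subgroup.subset_closure (by simp)
  have hyw : Commute y w := (show Commute y z from h.hyz).pow_right _
  have hzw : Commute z w := (Commute.refl z).pow_right _
  have hxw : Commute x w := T3.t3b_xw h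
  -- y and z centralize K
  have hcy : ∀ k ∈ K, y * k = k * y := by
    have : K ≤ Subgroup.centralizer {y} := by
      rw [hK, Subgroup.closure_le]
      intro g hg
      rcases hg with rfl | rfl
      · simp [Subgroup.mem_centralizer_iff]
      · simp only [SetLike.mem_coe, Subgroup.mem_centralizer_iff, Set.mem_singleton_iff, forall_eq]
        exact hyw.eq
    intro k hk
    have := this hk
    simpa [Subgroup.mem_centralizer_iff] using this
  have hcz : ∀ k ∈ K, z * k = k * z := by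
    have : K ≤ Subgroup.centralizer {z} := by
      rw [hK, Subgroup.closure_le]
      intro g hg
      rcases hg with rfl | rfl
      · simp only [SetLike.mem_coe, Subgroup.mem_centralizer_iff, Set.mem_singleton_iff, forall_eq]
        exact (h.hyz).symm
      · simp only [SetLike.mem_coe, Subgroup.mem_centralizer_iff, Set.mem_singleton_iff, forall_eq]
        exact hzw.eq
    intro k hk
    have := this hk
    simpa [Subgroup.mem_centralizer_iff] using this
  -- x normalizes K
  have hxyx : x * y * x⁻¹ = y * (w ^ s)⁻¹ := T3.t3b_xyx h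
  have hxyx' : x⁻¹ * y * x = y * w ^ s := by rw [h.hxy, mul_comm s, pow_mul]
  have hnx1 : ∀ k ∈ K, x * k * x⁻¹ ∈ K := by
    have : K ≤ K.comap (MulAut.conj x).toMonoidHom := by
      rw [hK, Subgroup.closure_le]
      intro g hg
      rcases hg with rfl | rfl
      · simp only [SetLike.mem_coe, Subgroup.mem_comap, MulEquiv.coe_toMonoidHom, MulAut.conj_apply]
        rw [hxyx]
        exact K.mul_mem hyK (K.inv_mem (K.pow_mem hwK s))
      · simp only [SetLike.mem_coe, Subgroup.mem_comap, MulEquiv.coe_toMonoidHom, MulAut.conj_apply]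
        rw [hxw.eq, mul_inv_cancel_right]
        exact hwK
    intro k hk
    have := this hk
    simpa using this
  have hnx2 : ∀ k ∈ K, x⁻¹ * k * x ∈ K := by
    have : K ≤ K.comap (MulAut.conj x⁻¹).toMonoidHom := by
      rw [hK, Subgroup.closure_le]
      intro g hg
      rcases hg with rfl | rfl
      · simp only [SetLike.mem_coe, Subgroup.mem_comap, MulEquiv.coe_toMonoidHom, MulAut.conj_apply,
          inv_inv]
        rw [hxyx']
        exact K.mul_mem hyK (K.pow_mem hwK s)
      · simp only [SetLike.mem_coe, Subgroup.mem_comap, MulEquiv.coe_toMonoidHom, MulAut.conj_apply,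
          inv_inv]
        rw [mul_assoc, hxw.symm.eq, inv_mul_cancel_left]
        exact hwK
    intro k hk
    have := this hk
    simpa using this
  have key := t3b_comm_mem_of_gens K ({x, y, z} : Set G)
    (by
      intro g hg k hk
      rcases hg with rfl | rfl | rfl
      · exact ⟨hnx1 k hk, hnx2 k hk⟩
      · constructor
        · rw [hcy k hk, mul_inv_cancel_right]; exact hk
        · rw [mul_assoc, ← hcy k hk, inv_mul_cancel_left]; exact hk
      · constructor
        · rw [hcz k hk, mul_inv_cancel_right]; exact hk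
        · rw [mul_assoc, ← hcz k hk, inv_mul_cancel_left]; exact hk)
    (by
      have hxy : x * y * x⁻¹ * y⁻¹ ∈ K := by
        rw [hxyx, hcy _ (K.inv_mem (K.pow_mem hwK s)), mul_inv_cancel_right]
        exact K.inv_mem (K.pow_mem hwK s)
      have hxz : x * z * x⁻¹ * z⁻¹ ∈ K := by
        -- x z x⁻¹ = (x y x⁻¹)⁻¹ z
        have e : x * z * x⁻¹ = (x * y * x⁻¹)⁻¹ * z := by
          have h1 : z = x * (y * z) * x⁻¹ := by rw [← h.hxz]; group
          have h2 : x * (y * z) * x⁻¹ = (x * y * x⁻¹) * (x * z * x⁻¹) := by group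
          rw [h2] at h1
          rw [eq_inv_mul_iff_mul_eq]
          exact h1.symm
        rw [e, mul_inv_cancel_right, hxyx]
        exact K.inv_mem (K.mul_mem hyK (K.inv_mem (K.pow_mem hwK s)))
      have hyz : y * z * y⁻¹ * z⁻¹ ∈ K := by
        rw [h.hyz, mul_inv_cancel_right, mul_inv_cancel]; exact K.one_mem
      have sw : ∀ a b : G, a * b * a⁻¹ * b⁻¹ ∈ K → b * a * b⁻¹ * a⁻¹ ∈ K := by
        intro a b hab
        have e : b * a * b⁻¹ * a⁻¹ = (a * b * a⁻¹ * b⁻¹)⁻¹ := by group
        rw [e]; exact K.inv_mem hab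
      have triv : ∀ a : G, a * a * a⁻¹ * a⁻¹ ∈ K := by
        intro a; simp
      intro g hg k hk
      rcases hg with rfl | rfl | rfl <;> rcases hk with rfl | rfl | rfl
      · exact triv _
      · exact hxy
      · exact hxz
      · exact sw _ _ hxy
      · exact triv _
      · exact hyz
      · exact sw _ _ hxz
      · exact sw _ _ hyz
      · exact triv _)
  intro a b
  exact key a (by rw [h.gen]; trivial) b (by rw [h.gen]; trivial)

/-- **T3M2**.  `M₀' ≤ ⟨w⟩`. -/
theorem T3.m2 (h : T3 p n s x y z) :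
    ∀ a ∈ Subgroup.closure ({x, y, z ^ p} : Set G), ∀ b ∈ Subgroup.closure ({x, y, z ^ p} : Set G),
      a * b * a⁻¹ * b⁻¹ ∈ Subgroup.zpowers (z ^ p ^ (n - 3)) := by
  set w := z ^ p ^ (n - 3) with hw
  have hyw : Commute y w := (show Commute y z from h.hyz).pow_right _
  have hzw : Commute (z ^ p) w := ((Commute.refl z).pow_right _).pow_left _
  have hxw : Commute x w := T3.t3b_xw h
  have hxzp : Commute x (z ^ p) := by
    have := T3.t3b_x_comm h 1
    rw [mul_one] at this
    exact this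
  have hyzp : Commute y (z ^ p) := (show Commute y z from h.hyz).pow_right _
  have hwK : w ∈ Subgroup.zpowers w := Subgroup.mem_zpowers w
  -- anything commuting with w normalizes zpowers w elementwise
  have hfix : ∀ g : G, Commute g w → ∀ k ∈ Subgroup.zpowers w,
      g * k * g⁻¹ ∈ Subgroup.zpowers w ∧ g⁻¹ * k * g ∈ Subgroup.zpowers w := by
    intro g hg k hk
    obtain ⟨i, rfl⟩ := hk
    have c : Commute g (w ^ i) := hg.zpow_right i
    constructor
    · rw [c.eq, mul_inv_cancel_right]; exact Subgroup.zpow_mem_zpowers w i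
    · rw [mul_assoc, ← c.eq, inv_mul_cancel_left]; exact Subgroup.zpow_mem_zpowers w i
  refine t3b_comm_mem_of_gens (Subgroup.zpowers w) ({x, y, z ^ p} : Set G) ?_ ?_
  · intro g hg k hk
    rcases hg with rfl | rfl | rfl
    · exact hfix _ hxw k hk
    · exact hfix _ hyw k hk
    · exact hfix _ hzw k hk
  · have hxy : x * y * x⁻¹ * y⁻¹ ∈ Subgroup.zpowers w := by
      rw [T3.t3b_xyx h]
      have c : Commute y ((w ^ s)⁻¹) := (hyw.pow_right s).inv_right
      rw [c.eq, mul_inv_cancel_right]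
      exact (Subgroup.zpowers w).inv_mem ((Subgroup.zpowers w).pow_mem hwK s)
    have hxz : x * z ^ p * x⁻¹ * (z ^ p)⁻¹ ∈ Subgroup.zpowers w := by
      rw [hxzp.eq, mul_inv_cancel_right, mul_inv_cancel]; exact Subgroup.one_mem _
    have hyz : y * z ^ p * y⁻¹ * (z ^ p)⁻¹ ∈ Subgroup.zpowers w := by
      rw [hyzp.eq, mul_inv_cancel_right, mul_inv_cancel]; exact Subgroup.one_mem _
    have sw : ∀ a b : G, a * b * a⁻¹ * b⁻¹ ∈ Subgroup.zpowers w →
        b * a * b⁻¹ * a⁻¹ ∈ Subgroup.zpowers w := by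
      intro a b hab
      have e : b * a * b⁻¹ * a⁻¹ = (a * b * a⁻¹ * b⁻¹)⁻¹ := by group
      rw [e]; exact Subgroup.inv_mem _ hab
    have triv : ∀ a : G, a * a * a⁻¹ * a⁻¹ ∈ Subgroup.zpowers w := by
      intro a; simp
    intro g hg k hk
    rcases hg with rfl | rfl | rfl <;> rcases hk with rfl | rfl | rfl
    · exact triv _
    · exact hxy
    · exact hxz
    · exact sw _ _ hxy
    · exact triv _
    · exact hyz
    · exact sw _ _ hxz
    · exact sw _ _ hyz
    · exact triv _

end T3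

end Cfsg.Agent.Lib.H22.RK2
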