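import Mathlib
import Cfsg.Agent.Lib.H22.UniqueOrderP
import Cfsg.Agent.Lib.H22.AbelianCyclicExt
import Cfsg.Agent.Lib.H22.NilpotentCoprime

set_option autoImplicit false

/-! # `p`-groups (`p` odd) with a cyclic subgroup of index `p`

The `p`-th power map is an endomorphism, and if the group is not cyclic its kernel has order `p²`.
-/

namespace Cfsg.Agent.Lib.H22

/-- Lifting the exponent, in the form needed for automorphisms of cyclic `p`-groups. -/
theorem dvd_of_pow_dvd_pow_prime_sub_one {p : ℕ} [hp : Fact p.Prime] (hp2 : p ≠ 2) (r m : ℕ)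
    (hr : 1 ≤ r) (h : p ^ m ∣ r ^ p - 1) :
    p ^ m ∣ p * (r - 1) ∧ p ^ m ∣ (r - 1) * (r - 1) := by
  rcases Nat.eq_zero_or_pos m with hm | hm
  · subst hm; simp
  rcases Nat.eq_or_lt_of_le hr with hr1 | hr1
  · rw [← hr1]; simp
  have hpp : p ∣ r ^ p - 1 := dvd_trans (dvd_pow_self p hm.ne') h
  have hrp1 : 1 ≤ r ^ p := Nat.one_le_pow _ _ hr
  have hnr : ¬ p ∣ r := by
    intro hd
    have h1 : p ∣ r ^ p := dvd_pow hd hp.out.pos.ne'
    have h2 : p ∣ r ^ p - (r ^ p - 1) := Nat.dvd_sub h1 hpp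
    have h3 : r ^ p - (r ^ p - 1) = 1 := by omega
    rw [h3] at h2
    exact hp.out.one_lt.ne' (Nat.dvd_one.mp h2)
  have hr1' : p ∣ r - 1 := by
    rw [← ZMod.natCast_eq_zero_iff] at hpp ⊢
    rw [Nat.cast_sub hrp1, Nat.cast_pow, ZMod.pow_card] at hpp
    rw [Nat.cast_sub hr]
    exact hpp
  have hodd : Odd p := hp.out.odd_of_ne_two hp2
  have hlte := padicValNat.pow_sub_pow (p := p) (x := r) (y := 1) hodd hr1 hr1' hnr
    (n := p) hp.out.pos.ne'
  rw [one_pow, padicValNat_self] at hlte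
  have hne : r ^ p - 1 ≠ 0 := by
    have : 2 ≤ r ^ p := by
      calc 2 ≤ r := hr1
        _ = r ^ 1 := (pow_one r).symm
        _ ≤ r ^ p := Nat.pow_le_pow_right hr hp.out.pos
    omega
  have hle : m ≤ padicValNat p (r - 1) + 1 := by
    rw [← hlte]
    exact (padicValNat_dvd_iff_le hne).mp h
  have h1 : p ^ m ∣ p * (r - 1) := by
    calc p ^ m ∣ p ^ (padicValNat p (r - 1) + 1) := pow_dvd_pow p hle
      _ = p * p ^ padicValNat p (r - 1) := by rw [pow_succ, mul_comm]
      _ ∣ p * (r - 1) := Nat.mul_dvd_mul_left p pow_padicValNat_dvd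
  exact ⟨h1, dvd_trans h1 (Nat.mul_dvd_mul_right hr1' (r - 1))⟩

theorem conj_pow_act {R : Type*} [Group R] {x c : R} {r : ℕ} (h : x * c * x⁻¹ = c ^ r) (k : ℕ) :
    x ^ k * c * (x ^ k)⁻¹ = c ^ (r ^ k) := by
  induction k with
  | zero => simp
  | succ k ih =>
    calc x ^ (k + 1) * c * (x ^ (k + 1))⁻¹ = x * (x ^ k * c * (x ^ k)⁻¹) * x⁻¹ := by
          rw [pow_succ']; group
      _ = x * c ^ (r ^ k) * x⁻¹ := by rw [ih]
      _ = (x * c * x⁻¹) ^ (r ^ k) := by rw [conj_pow]
      _ = c ^ (r ^ (k + 1)) := by rw [h, ← pow_mul, pow_succ']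

section

variable {p : ℕ} [hp : Fact p.Prime] {R : Type*} [Group R] [Finite R]

theorem normal_of_index_eq_prime (hR : IsPGroup p R) (M : Subgroup R) (hM : M.index = p) :
    M.Normal := by
  obtain ⟨n, hn⟩ := (IsPGroup.iff_card).mp hR
  have hn0 : n ≠ 0 := by
    intro h0
    rw [h0, pow_zero] at hn
    have := Subgroup.index_dvd_card M
    rw [hM, hn] at this
    exact hp.out.one_lt.ne' (Nat.dvd_one.mp this)
  apply Subgroup.normal_of_index_eq_minFac_card
  rw [hM, hn, hp.out.pow_minFac hn0]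

/-- `p` odd, `R` a `p`-group with a cyclic subgroup of index `p`: the commutator subgroup is
generated by a central element of order dividing `p`. -/
theorem exists_central_of_cyclic_index_p (hp2 : p ≠ 2) (hR : IsPGroup p R) (C : Subgroup R)
    (hC : IsCyclic C) (hCi : C.index = p) :
    ∃ z : R, (∀ g : R, g * z = z * g) ∧ z ^ p = 1 ∧ commutator R ≤ Subgroup.zpowers z := by
  obtain ⟨⟨c, hcC⟩, hgen⟩ := hC.exists_generator
  have hCz : C = Subgroup.zpowers c := by
    apply le_antisymm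
    · intro a ha
      have := hgen ⟨a, ha⟩
      rw [Subgroup.mem_zpowers_iff] at this ⊢
      obtain ⟨k, hk⟩ := this
      exact ⟨k, by simpa using congrArg Subtype.val hk⟩
    · rw [Subgroup.zpowers_le]; exact hcC
  have hCn : C.Normal := normal_of_index_eq_prime hR C hCi
  have hCtop : C ≠ ⊤ := by
    intro h
    rw [h, Subgroup.index_top] at hCi
    exact hp.out.one_lt.ne hCi
  obtain ⟨x, -, hxC⟩ := SetLike.exists_of_lt (lt_top_iff_ne_top.mpr hCtop)
  have hsup : C ⊔ Subgroup.zpowers x = ⊤ := by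
    apply eq_top_of_index_prime_of_lt hCi
    refine lt_of_le_of_ne le_sup_left ?_
    intro h
    apply hxC
    rw [h]
    exact (le_sup_right : Subgroup.zpowers x ≤ _) (Subgroup.mem_zpowers x)
  have hCab : ∀ a ∈ C, ∀ b ∈ C, a * b = b * a := comm_of_isCyclic_subgroup C hC
  have hcomm := commutator_eq_range_commHom C hCab x hsup
  set z := x * c * x⁻¹ * c⁻¹ with hzdef
  have hrange : (commHom C hCab x).range = Subgroup.zpowers z := by
    have htop : (⊤ : Subgroup C) = Subgroup.zpowers ⟨c, hcC⟩ :=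
      ((Subgroup.eq_top_iff' _).mpr hgen).symm
    rw [MonoidHom.range_eq_map, htop, MonoidHom.map_zpowers]
    rfl
  -- the exponent r
  have hconj : x * c * x⁻¹ ∈ Subgroup.zpowers c := hCz ▸ hCn.conj_mem c hcC x
  rw [← mem_powers_iff_mem_zpowers] at hconj
  obtain ⟨r₀, hr₀⟩ := hconj
  set r := r₀ + orderOf c with hrdef
  have hr1 : 1 ≤ r := by
    have := orderOf_pos c
    omega
  have hr : x * c * x⁻¹ = c ^ r := by
    rw [hrdef, pow_add, pow_orderOf_eq_one, mul_one]
    exact hr₀.symm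
  have hxp : x ^ p ∈ C := pow_mem_of_index_eq_prime hR C hCi x
  have h1 := conj_pow_act hr p
  have h2 : x ^ p * c * (x ^ p)⁻¹ = c := by
    rw [hCab _ hxp _ hcC]; group
  rw [h2] at h1
  have hrp1 : 1 ≤ r ^ p := Nat.one_le_pow _ _ hr1
  have h3 : c ^ (r ^ p - 1) = 1 := by
    have : c ^ (r ^ p - 1) * c = 1 * c := by
      rw [← pow_succ, Nat.sub_add_cancel hrp1, one_mul]
      exact h1.symm
    exact mul_right_cancel this
  obtain ⟨m, hm⟩ := (IsPGroup.iff_orderOf.mp hR) c
  have h4 : p ^ m ∣ r ^ p - 1 := hm ▸ orderOf_dvd_of_pow_eq_one h3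
  obtain ⟨h5, h6⟩ := dvd_of_pow_dvd_pow_prime_sub_one hp2 r m hr1 h4
  have hz : z = c ^ (r - 1) := by
    rw [hzdef, hr]
    have : c ^ r = c ^ (r - 1) * c := by rw [← pow_succ, Nat.sub_add_cancel hr1]
    rw [this]; group
  have hzp : z ^ p = 1 := by
    rw [hz, ← pow_mul, mul_comm]
    exact orderOf_dvd_iff_pow_eq_one.mp (hm ▸ h5)
  have hzc : c * z = z * c := by
    rw [hz]
    exact ((Commute.refl c).pow_right _).eq
  have key : ∀ n : ℕ, 1 ≤ n → n * (n - 1) = (n - 1) + (n - 1) * (n - 1) := by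
    intro n hn
    obtain ⟨t, rfl⟩ := Nat.exists_eq_add_of_le' hn
    simp only [Nat.add_sub_cancel]
    ring
  have h7 : c ^ ((r - 1) * (r - 1)) = 1 :=
    orderOf_dvd_iff_pow_eq_one.mp (by rw [hm]; exact h6)
  have hzx : x * z = z * x := by
    have : x * z * x⁻¹ = z := by
      calc x * z * x⁻¹ = (x * c * x⁻¹) ^ (r - 1) := by rw [hz, conj_pow]
        _ = c ^ (r * (r - 1)) := by rw [hr, ← pow_mul]
        _ = c ^ ((r - 1) + (r - 1) * (r - 1)) := by
            congr 1
            exact key r hr1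
        _ = c ^ (r - 1) := by
            rw [pow_add, h7, mul_one]
        _ = z := hz.symm
    calc x * z = (x * z * x⁻¹) * x := by group
      _ = z * x := by rw [this]
  refine ⟨z, ?_, hzp, ?_⟩
  · have hle : (⊤ : Subgroup R) ≤ Subgroup.centralizer {z} := by
      rw [← hsup, sup_le_iff, hCz, Subgroup.zpowers_le, Subgroup.zpowers_le]
      constructor
      · rw [Subgroup.mem_centralizer_iff]
        rintro _ rfl
        exact hzc.symm
      · rw [Subgroup.mem_centralizer_iff]
        rintro _ rfl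
        exact hzx.symm
    intro g
    have hg := hle (Subgroup.mem_top g)
    rw [Subgroup.mem_centralizer_iff] at hg
    exact (hg z rfl).symm
  · rw [hcomm, hrange]

/-- `p` odd, `R` a `p`-group with a cyclic subgroup of index `p`: the `p`-th power map is
multiplicative. -/
theorem mul_pow_prime_of_cyclic_index_p (hp2 : p ≠ 2) (hR : IsPGroup p R) (C : Subgroup R)
    (hC : IsCyclic C) (hCi : C.index = p) (u v : R) : (u * v) ^ p = u ^ p * v ^ p := by
  obtain ⟨z, hzc, hzp, hle⟩ := exists_central_of_cyclic_index_p hp2 hR C hC hCi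
  have hw : v * u * v⁻¹ * u⁻¹ ∈ Subgroup.zpowers z := by
    apply hle
    rw [commutator_def]
    exact Subgroup.commutator_mem_commutator (Subgroup.mem_top v) (Subgroup.mem_top u)
  obtain ⟨k, hk⟩ := Subgroup.mem_zpowers_iff.mp hw
  have hc : ∀ g : R, g * (v * u * v⁻¹ * u⁻¹) = (v * u * v⁻¹ * u⁻¹) * g := by
    intro g
    rw [← hk]
    exact ((show Commute g z from hzc g).zpow_right k).eq
  have hwp : (v * u * v⁻¹ * u⁻¹) ^ p = 1 := by
    rw [← hk, ← zpow_natCast, ← zpow_mul, mul_comm, zpow_mul, zpow_natCast, hzp, one_zpow]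
  rw [mul_pow_of_central hc p]
  have hodd : Odd p := hp.out.odd_of_ne_two hp2
  obtain ⟨t, ht⟩ := hodd
  have : p * (p - 1) / 2 = p * t := by
    have : p - 1 = 2 * t := by omega
    rw [this, ← mul_assoc, mul_comm p 2, mul_assoc, Nat.mul_div_cancel_left _ (by norm_num : 0 < 2)]
  rw [this, pow_mul, hwp, one_pow, mul_one]

/-- The `p`-th power endomorphism of a `p`-group (`p` odd) with a cyclic subgroup of index `p`. -/
noncomputable def powHomOfCyclicIndexP (hp2 : p ≠ 2) (hR : IsPGroup p R) (C : Subgroup R)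
    (hC : IsCyclic C) (hCi : C.index = p) : R →* R :=
  MonoidHom.mk' (fun g => g ^ p) (mul_pow_prime_of_cyclic_index_p hp2 hR C hC hCi)

theorem powHomOfCyclicIndexP_apply (hp2 : p ≠ 2) (hR : IsPGroup p R) (C : Subgroup R)
    (hC : IsCyclic C) (hCi : C.index = p) (g : R) :
    powHomOfCyclicIndexP hp2 hR C hC hCi g = g ^ p := rfl

theorem card_ker_powHomOfCyclicIndexP (hp2 : p ≠ 2) (hR : IsPGroup p R) (hnc : ¬ IsCyclic R)
    (C : Subgroup R) (hC : IsCyclic C) (hCi : C.index = p) :
    Nat.card (powHomOfCyclicIndexP hp2 hR C hC hCi).ker = p ^ 2 := by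
  set K := (powHomOfCyclicIndexP hp2 hR C hC hCi).ker with hKdef
  have hKmem : ∀ x : R, x ∈ K ↔ x ^ p = 1 := by
    intro x
    rw [hKdef, MonoidHom.mem_ker, powHomOfCyclicIndexP_apply]
  have hCn : C.Normal := normal_of_index_eq_prime hR C hCi
  -- upper bound
  have hupper : Nat.card K ≤ p ^ 2 := by
    have h1 := Subgroup.card_mul_index (C.subgroupOf K)
    have h2 : (C.subgroupOf K).index ∣ p := by
      have := Subgroup.relIndex_dvd_index_of_normal C K
      rwa [hCi] at this
    have h3 : Nat.card (C.subgroupOf K) ≤ p := by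
      rw [← Subgroup.inf_subgroupOf_right C K,
        Nat.card_congr (Subgroup.subgroupOfEquivOfLe (inf_le_right : C ⊓ K ≤ K)).toEquiv]
      have hcyc : IsCyclic ↥(C ⊓ K) := by
        have := hC
        exact Subgroup.isCyclic_of_le (inf_le_left : C ⊓ K ≤ C)
      have hamo := atMostOne_of_isCyclic p hp.out.pos (G := ↥(C ⊓ K))
      have := hamo.card_le_of_forall_pow_eq_one ⊤ (by
        intro x _
        apply Subtype.ext
        have hx : (x : R) ∈ K := (Subgroup.mem_inf.mp x.2).2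
        rw [hKmem] at hx
        simpa using hx)
      rwa [Subgroup.card_top] at this
    have h4 : (C.subgroupOf K).index ≤ p := Nat.le_of_dvd hp.out.pos h2
    calc Nat.card K = Nat.card (C.subgroupOf K) * (C.subgroupOf K).index := h1.symm
      _ ≤ p * p := Nat.mul_le_mul h3 h4
      _ = p ^ 2 := (sq p).symm
  -- two subgroups of order p
  have hnot : ¬ AtMostOneOrderP p R := by
    intro h
    exact hnc (isCyclic_of_atMostOne_of_odd hp2 _ R rfl hR h)
  unfold AtMostOneOrderP at hnot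
  push Not at hnot
  obtain ⟨H₁, H₂, hH₁, hH₂, hne⟩ := hnot
  have hle : ∀ H : Subgroup R, Nat.card H = p → H ≤ K := by
    intro H hH x hx
    rw [hKmem]
    have := pow_card_eq_one' (G := H) (x := ⟨x, hx⟩)
    rw [hH] at this
    simpa using congrArg Subtype.val this
  obtain ⟨j, hj⟩ := (IsPGroup.iff_card).mp (hR.to_subgroup K)
  have hj2 : j ≤ 2 := by
    rw [hj] at hupper
    exact (Nat.pow_le_pow_iff_right hp.out.one_lt).mp hupper
  have hfin : Finite K := inferInstance
  have heq : ∀ H : Subgroup R, Nat.card H = p → j = 1 → H = K := by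
    intro H hH hj1
    apply Subgroup.eq_of_le_of_card_ge (hle H hH)
    rw [hj, hj1, pow_one, hH]
  have hj0 : j ≠ 0 := by
    intro h0
    rw [h0, pow_zero] at hj
    have := Subgroup.card_le_of_le (hle H₁ hH₁)
    rw [hj, hH₁] at this
    exact absurd this (not_le.mpr hp.out.one_lt)
  have hj1 : j ≠ 1 := by
    intro h1
    exact hne ((heq H₁ hH₁ h1).trans (heq H₂ hH₂ h1).symm)
  have : j = 2 := by omega
  rw [hj, this]

end

end Cfsg.Agent.Lib.H22
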