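import Mathlib
import Cfsg.Agent.Lib.H16.ClassTwo

set_option autoImplicit false

/-! # Alperin's theorem on maximal normal abelian subgroups of bounded exponent

If `A` is maximal among the normal abelian subgroups of exponent dividing `p ^ n` of a finite
`p`-group (`p ^ n ≠ 2`), then every element of `C_G(A)` of order dividing `p ^ n` lies in `A`.
-/

namespace Cfsg.Agent.Lib.H22

open scoped commutatorElement

section

variable {G : Type*} [Group G]

theorem pow_eq_one_of_conj_odd {x y c : G} {q : ℕ} (hq : Odd q) (h : y * x = x * y * c)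
    (hcx : Commute c x) (hcy : Commute c y) (hx : x ^ q = 1) (hxy : (x * y) ^ q = 1) :
    y ^ q = 1 := by
  have hc := Cfsg.Agent.Lib.H16.pow_eq_one_of_central_left h hcx hx
  have := Cfsg.Agent.Lib.H16.mul_pow_eq_of_central h hcx hcy hq hc
  rw [hxy, hx, one_mul] at this
  exact this.symm

/-- The `2`-power case: `q = 2 h`. -/
theorem pow_eq_one_of_conj_two {x y c : G} {hh : ℕ} (h : y * x = x * y * c)
    (hcx : Commute c x) (hcy : Commute c y) (hx : x ^ (2 * hh) = 1)
    (hxy : (x * y) ^ (2 * hh) = 1) :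
    (y * y * c) ^ hh = 1 ∧ (Even hh → Commute (y * y) x → y ^ (2 * hh) = 1) := by
  have hc : c ^ (2 * hh) = 1 := Cfsg.Agent.Lib.H16.pow_eq_one_of_central_left h hcx hx
  have h1 := Cfsg.Agent.Lib.H16.mul_pow_of_central h hcx hcy (2 * hh)
  rw [hxy, hx, one_mul] at h1
  have hT : 2 * hh * (2 * hh - 1) / 2 = hh * (2 * hh - 1) := by
    rw [mul_assoc, Nat.mul_div_cancel_left _ (by norm_num : 0 < 2)]
  rw [hT] at h1
  have h2 : c ^ (hh * (2 * hh - 1)) * c ^ hh = 1 := by
    rw [← pow_add]
    have : hh * (2 * hh - 1) + hh = (2 * hh) * hh := by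
      rcases Nat.eq_zero_or_pos hh with h0 | hpos
      · rw [h0]
      · obtain ⟨t, ht⟩ : ∃ t, 2 * hh = t + 1 := ⟨2 * hh - 1, by omega⟩
        rw [ht, Nat.add_sub_cancel]; ring
    rw [this, pow_mul, hc, one_pow]
  have hyq : y ^ (2 * hh) = c ^ hh := by
    calc y ^ (2 * hh) = y ^ (2 * hh) * (c ^ (hh * (2 * hh - 1)) * c ^ hh) := by rw [h2, mul_one]
      _ = (y ^ (2 * hh) * c ^ (hh * (2 * hh - 1))) * c ^ hh := by rw [mul_assoc]
      _ = c ^ hh := by rw [← h1, one_mul]
  have hyyc : Commute (y * y) c := (hcy.mul_right hcy).symm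
  constructor
  · rw [hyyc.mul_pow, ← pow_two, ← pow_mul, hyq, ← pow_add, ← two_mul, hc]
  · rintro ⟨m, hm⟩ hcomm
    have hc2 : c ^ 2 = 1 := by
      apply Cfsg.Agent.Lib.H16.pow_eq_one_of_pow_commute h hcy
      rw [pow_two]; exact hcomm
    rw [hyq, hm, ← two_mul, pow_mul, hc2, one_pow]

end

section

variable {G : Type*} [Group G] [Finite G] {p : ℕ} [hp : Fact p.Prime]

/-- **Alperin.** -/
theorem mem_of_mem_centralizer_of_pow_eq_one (hG : IsPGroup p G) (n : ℕ) (hn : p ^ n ≠ 2)
    (A : Subgroup G) [hAn : A.Normal]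
    (hA : ∀ a ∈ A, ∀ b ∈ A, a * b = b * a) (hAe : ∀ a ∈ A, a ^ p ^ n = 1)
    (hmax : ∀ B : Subgroup G, B.Normal → (∀ a ∈ B, ∀ b ∈ B, a * b = b * a) →
      (∀ b ∈ B, b ^ p ^ n = 1) → A ≤ B → B = A)
    (x : G) (hx : x ∈ Subgroup.centralizer (A : Set G)) (hxn : x ^ p ^ n = 1) : x ∈ A := by
  set q := p ^ n with hq
  set C := Subgroup.centralizer (A : Set G) with hC
  have hCn : C.Normal := inferInstance
  have hAC : A ≤ C := by
    intro a ha
    rw [hC, Subgroup.mem_centralizer_iff]
    intro b hb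
    exact hA b hb a ha
  have hcomm : ∀ a ∈ A, ∀ u ∈ C, Commute a u := by
    intro a ha u hu
    rw [hC, Subgroup.mem_centralizer_iff] at hu
    exact hu a ha
  let Z : ℕ → Subgroup G := fun k => Subgroup.upperCentralSeries G k
  have hZn : ∀ k, (Z k).Normal := fun k => inferInstance
  let P : ℕ → Prop := fun k =>
    (∀ w ∈ C, w ∈ Z k → w ^ q = 1 → w ∈ A) ∧
    (∀ u ∈ C, u ^ q = 1 → ∀ g ∈ Z k, u⁻¹ * g * u * g⁻¹ ∈ A)
  -- the core computation
  have core : ∀ k, P k → ∀ u ∈ C, u ^ q = 1 → ∀ g : G, u⁻¹ * g * u * g⁻¹ ∈ Z k →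
      u⁻¹ * g * u * g⁻¹ ∈ A := by
    intro k hPk u hu huq g hyZ
    set y := u⁻¹ * g * u * g⁻¹ with hy
    have hyC : y ∈ C := by
      have : y = u⁻¹ * (g * u * g⁻¹) := by rw [hy]; group
      rw [this]
      exact C.mul_mem (C.inv_mem hu) (hCn.conj_mem u hu g)
    have huy : u * y = g * u * g⁻¹ := by rw [hy]; group
    have huyq : (u * y) ^ q = 1 := by
      rw [huy, conj_pow, huq]; group
    set c := y⁻¹ * u⁻¹ * y * u with hc
    have hrel : y * u = u * y * c := by rw [hc]; group
    have hcA : c ∈ A := by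
      have h1 := hPk.2 u hu huq y hyZ
      have h2 := hAn.conj_mem _ h1 y⁻¹
      have : y⁻¹ * (u⁻¹ * y * u * y⁻¹) * y⁻¹⁻¹ = c := by rw [hc]; group
      rwa [this] at h2
    have hcZ : c ∈ Z k := by
      have h1 : u⁻¹ * y * u⁻¹⁻¹ ∈ Z k := (hZn k).conj_mem y hyZ u⁻¹
      have : c = y⁻¹ * (u⁻¹ * y * u⁻¹⁻¹) := by rw [hc]; group
      rw [this]
      exact (Z k).mul_mem ((Z k).inv_mem hyZ) h1
    have hcu : Commute c u := hcomm c hcA u hu
    have hcy : Commute c y := hcomm c hcA y hyC
    by_cases hp2 : p = 2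
    · -- p = 2
      rcases Nat.lt_or_ge n 2 with hn2 | hn2
      · interval_cases n
        · -- q = 1
          have hu1 : u = 1 := by simpa [hq] using huq
          have : y = 1 := by rw [hy, hu1]; group
          rw [this]; exact A.one_mem
        · exfalso; apply hn; rw [hq, hp2]; norm_num
      · obtain ⟨t, rfl⟩ := Nat.exists_eq_add_of_le hn2
        have hq4 : q = 2 * (2 * 2 ^ t) := by rw [hq, hp2, pow_add]; ring
        rw [hq4] at huq huyq
        obtain ⟨h1, h2⟩ := pow_eq_one_of_conj_two hrel hcu hcy huq huyq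
        have h2 := h2 ⟨2 ^ t, by ring⟩
        have hy2A : y * y * c ∈ A := by
          apply hPk.1
          · exact C.mul_mem (C.mul_mem hyC hyC) (hAC hcA)
          · exact (Z k).mul_mem ((Z k).mul_mem hyZ hyZ) hcZ
          · rw [hq4, mul_comm 2, pow_mul, h1, one_pow]
        have hyyA : y * y ∈ A := by
          have : y * y = (y * y * c) * c⁻¹ := by group
          rw [this]
          exact A.mul_mem hy2A (A.inv_mem hcA)
        have hyq := h2 (hcomm _ hyyA u hu)
        apply hPk.1 y hyC hyZ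
        rw [hq4]; exact hyq
    · -- p odd
      have hodd : Odd q := (hp.out.odd_of_ne_two hp2).pow
      have hyq := pow_eq_one_of_conj_odd hodd hrel hcu hcy huq huyq
      exact hPk.1 y hyC hyZ hyq
  -- the induction
  have hind : ∀ k, P k := by
    intro k
    induction k with
    | zero =>
      constructor
      · intro w _ hw _
        have : w = 1 := by
          have : w ∈ (⊥ : Subgroup G) := by
            simpa [Z, Subgroup.upperCentralSeries_zero] using hw
          exact Subgroup.mem_bot.mp this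
        rw [this]; exact A.one_mem
      · intro u _ _ g hg
        have : g = 1 := by
          have : g ∈ (⊥ : Subgroup G) := by
            simpa [Z, Subgroup.upperCentralSeries_zero] using hg
          exact Subgroup.mem_bot.mp this
        rw [this]
        have : u⁻¹ * 1 * u * 1⁻¹ = 1 := by group
        rw [this]; exact A.one_mem
    | succ k ih =>
      have part2 : ∀ u ∈ C, u ^ q = 1 → ∀ g ∈ Z (k + 1), u⁻¹ * g * u * g⁻¹ ∈ A := by
        intro u hu huq g hg
        apply core k ih u hu huq g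
        have h1 : ⁅g, u⁆ ∈ Z k := Subgroup.mem_upperCentralSeries_succ_iff.mp hg u
        have h2 := (hZn k).conj_mem _ h1 u⁻¹
        have : u⁻¹ * ⁅g, u⁆ * u⁻¹⁻¹ = u⁻¹ * g * u * g⁻¹ := by
          rw [commutatorElement_def]; group
        rwa [this] at h2
      refine ⟨?_, part2⟩
      intro w hw hwZ hwq
      have hall : ∀ g : G, w⁻¹ * g * w * g⁻¹ ∈ A := by
        intro g
        apply core k ih w hw hwq g
        have h1 : ⁅w, g⁆ ∈ Z k := Subgroup.mem_upperCentralSeries_succ_iff.mp hwZ g
        have h2 := (hZn k).conj_mem _ ((Z k).inv_mem h1) w⁻¹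
        have : w⁻¹ * ⁅w, g⁆⁻¹ * w⁻¹⁻¹ = w⁻¹ * g * w * g⁻¹ := by
          rw [commutatorElement_def]; group
        rwa [this] at h2
      -- B = A ⊔ ⟨w⟩
      set B := A ⊔ Subgroup.zpowers w with hB
      have hwB : w ∈ B := (le_sup_right : Subgroup.zpowers w ≤ B) (Subgroup.mem_zpowers w)
      have hAB : A ≤ B := le_sup_left
      have hBn : B.Normal := by
        constructor
        intro b hb g
        rw [hB, Subgroup.mem_sup_of_normal_left] at hb
        obtain ⟨a, ha, z, hz, rfl⟩ := hb
        obtain ⟨i, rfl⟩ := Subgroup.mem_zpowers_iff.mp hz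
        have h1 : g * w * g⁻¹ ∈ B := by
          have : g * w * g⁻¹ = w * (w⁻¹ * g * w * g⁻¹) := by group
          rw [this]
          exact B.mul_mem hwB (hAB (hall g))
        have : g * (a * w ^ i) * g⁻¹ = (g * a * g⁻¹) * (g * w * g⁻¹) ^ i := by
          rw [conj_zpow]; group
        rw [this]
        exact B.mul_mem (hAB (hAn.conj_mem a ha g)) (B.zpow_mem h1 i)
      have hBC : B ≤ C := by
        rw [hB, sup_le_iff, Subgroup.zpowers_le]
        exact ⟨hAC, hw⟩
      have hBw : B ≤ Subgroup.centralizer {w} := by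
        rw [hB, sup_le_iff, Subgroup.zpowers_le]
        constructor
        · intro a ha
          rw [Subgroup.mem_centralizer_iff]
          intro h' hh'
          rw [Set.mem_singleton_iff] at hh'
          rw [hh']
          exact (hcomm a ha w hw).eq.symm
        · rw [Subgroup.mem_centralizer_iff]
          intro h' hh'
          rw [Set.mem_singleton_iff] at hh'
          rw [hh']
      have hBab : ∀ a ∈ B, ∀ b ∈ B, a * b = b * a := by
        intro b₁ hb₁ b₂ hb₂
        rw [hB, Subgroup.mem_sup_of_normal_left] at hb₂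
        obtain ⟨a, ha, z, hz, rfl⟩ := hb₂
        obtain ⟨i, rfl⟩ := Subgroup.mem_zpowers_iff.mp hz
        have h1 : Commute b₁ a := (hcomm a ha b₁ (hBC hb₁)).symm
        have h2 : Commute b₁ w := by
          have := hBw hb₁
          rw [Subgroup.mem_centralizer_iff] at this
          exact (this w rfl).symm
        exact (h1.mul_right (h2.zpow_right i)).eq
      have hBe : ∀ b ∈ B, b ^ q = 1 := by
        intro b hb
        rw [hB, Subgroup.mem_sup_of_normal_left] at hb
        obtain ⟨a, ha, z, hz, rfl⟩ := hb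
        obtain ⟨i, rfl⟩ := Subgroup.mem_zpowers_iff.mp hz
        have h1 : Commute a (w ^ i) := (hcomm a ha w hw).zpow_right i
        rw [h1.mul_pow, hAe a ha, one_mul, ← zpow_natCast, ← zpow_mul, mul_comm, zpow_mul,
          zpow_natCast, hwq, one_zpow]
      have := hmax B hBn hBab hBe hAB
      rw [← this]; exact hwB
  have : Group.IsNilpotent G := hG.isNilpotent
  obtain ⟨k, hk⟩ := Group.IsNilpotent.nilpotent G
  exact (hind k).1 x hx (by show x ∈ Subgroup.upperCentralSeries G k; rw [hk]; exact Subgroup.mem_top x) hxn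

end

end Cfsg.Agent.Lib.H22
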