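import Mathlib
import Cfsg.Agent.Lib.H4.ReeSpecDefs

/-!
# S3626 piece KER: the kernel of `rho` is `{(1, ±1)}`.
-/

set_option autoImplicit false

namespace Cfsg.Agent.Lib.H22.RS

open Matrix Cfsg.Agent.Lib.H4.ReeSpec

section field

variable {K : Type*} [Field K] [CharP K 3]

theorem ker_act_apply (g : G0 K) (X : M2 K) (i j : Fin 2) :
    act g X i j = (((g.1 : ℤˣ) : ℤ) : K) *
      (((g.2 : M2 K) i 0 * X 0 0 + (g.2 : M2 K) i 1 * X 1 0) * (g.2 : M2 K) j 0 ^ 3 +
       ((g.2 : M2 K) i 0 * X 0 1 + (g.2 : M2 K) i 1 * X 1 1) * (g.2 : M2 K) j 1 ^ 3) := by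
  unfold act
  simp [Matrix.mul_apply, Fin.sum_univ_two, cube_apply]

/-- KER-a: `(1, -1)` acts trivially. -/
theorem rho_neg_one : rho K ((1, -1) : G0 K) = 1 := by
  apply MulEquiv.ext
  intro X
  show Multiplicative.ofAdd (act ((1, -1) : G0 K) (Multiplicative.toAdd X)) = X
  have : act ((1, -1) : G0 K) (Multiplicative.toAdd X) = Multiplicative.toAdd X := by
    ext i j
    rw [ker_act_apply]
    fin_cases i <;> fin_cases j <;> simp <;> ring
  rw [this]; rfl

theorem ker_two_ne_zero : (2 : K) ≠ 0 := by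
  intro h
  have h2 : ((2 : ℕ) : K) = 0 := by exact_mod_cast h
  have := (CharP.cast_eq_zero_iff K 3 2).1 h2
  omega

/-- KER-b: the kernel of `rho` is `{(1, ±1)}`. -/
theorem rho_eq_one (g : G0 K) (h : rho K g = 1) : g.1 = 1 ∧ (g.2 = 1 ∨ g.2 = -1) := by
  have hact : ∀ X : M2 K, act g X = X := by
    intro X
    have h1 := DFunLike.congr_fun h (Multiplicative.ofAdd X)
    rw [rho_apply] at h1
    exact Multiplicative.ofAdd.injective h1
  obtain ⟨ε, B⟩ := g
  have hdet : (B : M2 K) 0 0 * (B : M2 K) 1 1 - (B : M2 K) 0 1 * (B : M2 K) 1 0 = 1 := by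
    have := B.2
    rwa [Matrix.det_fin_two] at this
  set a := (B : M2 K) 0 0 with ha
  set b := (B : M2 K) 0 1 with hb
  set c := (B : M2 K) 1 0 with hc
  set d := (B : M2 K) 1 1 with hd
  set e : K := (((ε : ℤˣ) : ℤ) : K) with he
  have he0 : e ≠ 0 := by
    rw [he]
    rcases Int.units_eq_one_or ε with h1 | h1 <;> rw [h1] <;> simp
  -- evaluate at the matrix units
  have h11 := hact !![1, 0; 0, 0]
  have h22 := hact !![0, 0; 0, 1]
  have h12 := hact !![0, 1; 0, 0]
  have e1 : e * (c * c ^ 3) = 0 := by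
    have := congrFun (congrFun h11 1) 1
    rw [ker_act_apply] at this
    simpa using this
  have e2 : e * (b * b ^ 3) = 0 := by
    have := congrFun (congrFun h22 0) 0
    rw [ker_act_apply] at this
    simpa using this
  have e3 : e * (d * d ^ 3) = 1 := by
    have := congrFun (congrFun h22 1) 1
    rw [ker_act_apply] at this
    simpa using this
  have e4 : e * (a * d ^ 3) = 1 := by
    have := congrFun (congrFun h12 0) 1
    rw [ker_act_apply] at this
    simpa using this
  have hc0 : c = 0 := by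
    rcases mul_eq_zero.1 e1 with h | h
    · exact absurd h he0
    · rcases mul_eq_zero.1 h with h | h
      · exact h
      · exact pow_eq_zero_iff (by norm_num) |>.1 h
  have hb0 : b = 0 := by
    rcases mul_eq_zero.1 e2 with h | h
    · exact absurd h he0
    · rcases mul_eq_zero.1 h with h | h
      · exact h
      · exact pow_eq_zero_iff (by norm_num) |>.1 h
  have had : a * d = 1 := by rw [hb0, hc0] at hdet; simpa using hdet
  have e5 : e * d ^ 2 = 1 := by
    have : e * (a * d ^ 3) = e * d ^ 2 * (a * d) := by ring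
    rw [this, had, mul_one] at e4; exact e4
  have hd2 : d ^ 2 = 1 := by
    have : e * (d * d ^ 3) = e * d ^ 2 * d ^ 2 := by ring
    rw [this, e5, one_mul] at e3; exact e3
  have he1 : e = 1 := by rw [hd2, mul_one] at e5; exact e5
  have hε : ε = 1 := by
    rcases Int.units_eq_one_or ε with h1 | h1
    · exact h1
    · exfalso
      rw [he, h1] at he1
      have h2 : (2 : K) = 0 := by
        have : (-1 : K) = 1 := by simpa using he1
        linear_combination -this
      exact ker_two_ne_zero h2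
  refine ⟨hε, ?_⟩
  have hd1 : d = 1 ∨ d = -1 := by
    have : (d - 1) * (d + 1) = 0 := by ring_nf; rw [hd2]; ring
    rcases mul_eq_zero.1 this with h | h
    · left; exact sub_eq_zero.1 h
    · right; exact eq_neg_of_add_eq_zero_left h
  have haeq : a = d := by
    have : a = a * d ^ 2 := by rw [hd2, mul_one]
    rw [this]
    have : a * d ^ 2 = (a * d) * d := by ring
    rw [this, had, one_mul]
  rcases hd1 with h1 | h1
  · left
    apply Subtype.ext
    ext i j
    fin_cases i <;> fin_cases j
    · show (B : M2 K) 0 0 = (1 : M2 K) 0 0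
      rw [← ha, haeq, h1]; simp
    · show (B : M2 K) 0 1 = (1 : M2 K) 0 1
      rw [← hb, hb0]; simp
    · show (B : M2 K) 1 0 = (1 : M2 K) 1 0
      rw [← hc, hc0]; simp
    · show (B : M2 K) 1 1 = (1 : M2 K) 1 1
      rw [← hd, h1]; simp
  · right
    apply Subtype.ext
    rw [Matrix.SpecialLinearGroup.coe_neg]
    ext i j
    fin_cases i <;> fin_cases j
    · show (B : M2 K) 0 0 = (-(1 : M2 K)) 0 0
      rw [← ha, haeq, h1]; simp
    · show (B : M2 K) 0 1 = (-(1 : M2 K)) 0 1
      rw [← hb, hb0]; simp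
    · show (B : M2 K) 1 0 = (-(1 : M2 K)) 1 0
      rw [← hc, hc0]; simp
    · show (B : M2 K) 1 1 = (-(1 : M2 K)) 1 1
      rw [← hd, h1]; simp

end field

end Cfsg.Agent.Lib.H22.RS
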