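import Mathlib

/-!
helper22: S3571 (Sylvester-Schur block NT), piece SS6: `3 * π(k) ≤ k` for `k ≥ 37`.
Generated checkpoint values of `Nat.primeCounting` + `Nat.primeCounting_add_le` with `a = 30`.
-/

set_option autoImplicit false

namespace Cfsg.Agent.Lib.H22.S3571SS6

theorem totient_thirty : Nat.totient 30 = 8 := by decide

theorem pi_40 : Nat.primeCounting 40 = 12 := by
  simp only [Nat.primeCounting, Nat.primeCounting', Nat.count_succ]
  norm_num

theorem pi_42 : Nat.primeCounting 42 = 13 := by
  simp only [Nat.primeCounting, Nat.primeCounting', Nat.count_succ]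
  norm_num

theorem pi_46 : Nat.primeCounting 46 = 14 := by
  simp only [Nat.primeCounting, Nat.primeCounting', Nat.count_succ]
  norm_num

theorem pi_52 : Nat.primeCounting 52 = 15 := by
  simp only [Nat.primeCounting, Nat.primeCounting', Nat.count_succ]
  norm_num

theorem pi_58 : Nat.primeCounting 58 = 16 := by
  simp only [Nat.primeCounting, Nat.primeCounting', Nat.count_succ]
  norm_num

theorem pi_60 : Nat.primeCounting 60 = 17 := by
  simp only [Nat.primeCounting, Nat.primeCounting', Nat.count_succ]
  norm_num

theorem pi_66 : Nat.primeCounting 66 = 18 := by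
  simp only [Nat.primeCounting, Nat.primeCounting', Nat.count_succ]
  norm_num

theorem pi_70 : Nat.primeCounting 70 = 19 := by
  simp only [Nat.primeCounting, Nat.primeCounting', Nat.count_succ]
  norm_num

theorem pi_72 : Nat.primeCounting 72 = 20 := by
  simp only [Nat.primeCounting, Nat.primeCounting', Nat.count_succ]
  norm_num

theorem pi_78 : Nat.primeCounting 78 = 21 := by
  simp only [Nat.primeCounting, Nat.primeCounting', Nat.count_succ]
  norm_num

theorem pi_82 : Nat.primeCounting 82 = 22 := by
  simp only [Nat.primeCounting, Nat.primeCounting', Nat.count_succ]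
  norm_num

theorem pi_88 : Nat.primeCounting 88 = 23 := by
  simp only [Nat.primeCounting, Nat.primeCounting', Nat.count_succ]
  norm_num

theorem pi_96 : Nat.primeCounting 96 = 24 := by
  simp only [Nat.primeCounting, Nat.primeCounting', Nat.count_succ]
  norm_num

theorem pi_100 : Nat.primeCounting 100 = 25 := by
  simp only [Nat.primeCounting, Nat.primeCounting', Nat.count_succ]
  norm_num

theorem pi_102 : Nat.primeCounting 102 = 26 := by
  simp only [Nat.primeCounting, Nat.primeCounting', Nat.count_succ]
  norm_num

theorem pi_106 : Nat.primeCounting 106 = 27 := by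
  simp only [Nat.primeCounting, Nat.primeCounting', Nat.count_succ]
  norm_num

theorem pi_108 : Nat.primeCounting 108 = 28 := by
  simp only [Nat.primeCounting, Nat.primeCounting', Nat.count_succ]
  norm_num

theorem pi_112 : Nat.primeCounting 112 = 29 := by
  simp only [Nat.primeCounting, Nat.primeCounting', Nat.count_succ]
  norm_num

theorem pi_126 : Nat.primeCounting 126 = 30 := by
  simp only [Nat.primeCounting, Nat.primeCounting', Nat.count_succ]
  norm_num

theorem pi_130 : Nat.primeCounting 130 = 31 := by
  simp only [Nat.primeCounting, Nat.primeCounting', Nat.count_succ]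
  norm_num

theorem pi_136 : Nat.primeCounting 136 = 32 := by
  simp only [Nat.primeCounting, Nat.primeCounting', Nat.count_succ]
  norm_num

theorem pi_138 : Nat.primeCounting 138 = 33 := by
  simp only [Nat.primeCounting, Nat.primeCounting', Nat.count_succ]
  norm_num

theorem pi_148 : Nat.primeCounting 148 = 34 := by
  simp only [Nat.primeCounting, Nat.primeCounting', Nat.count_succ]
  norm_num

theorem pi_149 : Nat.primeCounting 149 = 35 := by
  simp only [Nat.primeCounting, Nat.primeCounting', Nat.count_succ]
  norm_num

theorem pi_150 : Nat.primeCounting 150 = 35 := by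
  simp only [Nat.primeCounting, Nat.primeCounting', Nat.count_succ]
  norm_num

/-- The finite range `37 ≤ k < 150`. -/
theorem small (k : ℕ) (h1 : 37 ≤ k) (h2 : k < 150) : 3 * Nat.primeCounting k ≤ k := by
  have hmono := Nat.monotone_primeCounting
  by_cases h_40 : k ≤ 40
  · have h := hmono h_40
    rw [pi_40] at h
    omega
  by_cases h_42 : k ≤ 42
  · have h := hmono h_42
    rw [pi_42] at h
    omega
  by_cases h_46 : k ≤ 46
  · have h := hmono h_46
    rw [pi_46] at h
    omega
  by_cases h_52 : k ≤ 52
  · have h := hmono h_52
    rw [pi_52] at h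
    omega
  by_cases h_58 : k ≤ 58
  · have h := hmono h_58
    rw [pi_58] at h
    omega
  by_cases h_60 : k ≤ 60
  · have h := hmono h_60
    rw [pi_60] at h
    omega
  by_cases h_66 : k ≤ 66
  · have h := hmono h_66
    rw [pi_66] at h
    omega
  by_cases h_70 : k ≤ 70
  · have h := hmono h_70
    rw [pi_70] at h
    omega
  by_cases h_72 : k ≤ 72
  · have h := hmono h_72
    rw [pi_72] at h
    omega
  by_cases h_78 : k ≤ 78
  · have h := hmono h_78
    rw [pi_78] at h
    omega
  by_cases h_82 : k ≤ 82
  · have h := hmono h_82
    rw [pi_82] at h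
    omega
  by_cases h_88 : k ≤ 88
  · have h := hmono h_88
    rw [pi_88] at h
    omega
  by_cases h_96 : k ≤ 96
  · have h := hmono h_96
    rw [pi_96] at h
    omega
  by_cases h_100 : k ≤ 100
  · have h := hmono h_100
    rw [pi_100] at h
    omega
  by_cases h_102 : k ≤ 102
  · have h := hmono h_102
    rw [pi_102] at h
    omega
  by_cases h_106 : k ≤ 106
  · have h := hmono h_106
    rw [pi_106] at h
    omega
  by_cases h_108 : k ≤ 108
  · have h := hmono h_108
    rw [pi_108] at h
    omega
  by_cases h_112 : k ≤ 112
  · have h := hmono h_112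
    rw [pi_112] at h
    omega
  by_cases h_126 : k ≤ 126
  · have h := hmono h_126
    rw [pi_126] at h
    omega
  by_cases h_130 : k ≤ 130
  · have h := hmono h_130
    rw [pi_130] at h
    omega
  by_cases h_136 : k ≤ 136
  · have h := hmono h_136
    rw [pi_136] at h
    omega
  by_cases h_138 : k ≤ 138
  · have h := hmono h_138
    rw [pi_138] at h
    omega
  by_cases h_148 : k ≤ 148
  · have h := hmono h_148
    rw [pi_148] at h
    omega
  by_cases h_149 : k ≤ 149
  · have h := hmono h_149
    rw [pi_149] at h
    omega
  omega

/-- The range `k ≥ 150`: at most `8` primes in every block of `30` consecutive numbers. -/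
theorem large (k : ℕ) (hk : 150 ≤ k) : 3 * Nat.primeCounting k ≤ k := by
  obtain ⟨n, rfl⟩ := Nat.exists_eq_add_of_le hk
  have h := Nat.primeCounting_add_le (a := 30) (k := 150) (by norm_num) (by norm_num) n
  rw [pi_150, totient_thirty] at h
  have h2 : 30 * (n / 30) ≤ n := Nat.mul_div_le n 30
  omega

/-- **SS6**: `3 * π(k) ≤ k` for `k ≥ 37`. -/
theorem three_mul_primeCounting_le (k : ℕ) (hk : 37 ≤ k) : 3 * Nat.primeCounting k ≤ k := by
  by_cases h : k < 150
  · exact small k hk h
  · exact large k (by omega)

/-- The same with the explicit finset of primes `≤ k`. -/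
theorem card_primes_le (k : ℕ) (hk : 37 ≤ k) :
    3 * ((Finset.range (k + 1)).filter Nat.Prime).card ≤ k := by
  have h := three_mul_primeCounting_le k hk
  rwa [Nat.primeCounting, Nat.primeCounting', Nat.count_eq_card_filter_range] at h

end Cfsg.Agent.Lib.H22.S3571SS6
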