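import Cfsg.Agent.Lib.H8.S3571SSDefs
import Cfsg.Agent.Lib.H22.S3571SS6

/-! S3571, block NT: piece SS6 in helper8's exact shape. -/

set_option autoImplicit false

namespace Cfsg.Agent.Lib.H22.S3571SS6W

/-- (SS6) `π(k) ≤ k/3` for `k ≥ 37`, exact `SS6Stmt`. -/
theorem ss6 : Cfsg.Agent.Lib.H8.S3571SS.SS6Stmt :=
  Cfsg.Agent.Lib.H22.S3571SS6.three_mul_primeCounting_le

end Cfsg.Agent.Lib.H22.S3571SS6W
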