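import Mathlib
import Cfsg.Agent.Lib.H19.S3797Defs
import Cfsg.Agent.Lib.H16.SolvableCore

/-!
# S3797, piece FRAME (helper22)

`frame : Cfsg.Agent.Lib.H19.S3797.FrameStmt`: under `THyp G` the pair `Q = O_2(G)`,
`V = {x | x ^ 2 = 1}` is a frame.
-/

set_option autoImplicit false

namespace Cfsg.Agent.Lib.H22.S3797Frame

open Cfsg.Agent.Lib.H19.S3797

universe u

/-- a nontrivial finite 2-group (as a subgroup `Q` of `G`) has a central involution -/
theorem exists_central_involution {G : Type u} [Group G] [Finite G] (Q : Subgroup G)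
    (hQ2 : IsPGroup 2 Q) (hQ : Q ≠ ⊥) :
    ∃ v : G, v ∈ Q ∧ v ≠ 1 ∧ v ^ 2 = 1 ∧ ∀ q ∈ Q, q * v = v * q := by
  have : Fact (Nat.Prime 2) := ⟨Nat.prime_two⟩
  have : Nontrivial ↥Q := (Subgroup.nontrivial_iff_ne_bot Q).2 hQ
  have : Nontrivial ↥(Subgroup.center ↥Q) := hQ2.center_nontrivial
  have hZ2 : IsPGroup 2 ↥(Subgroup.center ↥Q) := hQ2.to_subgroup _
  obtain ⟨k, hk⟩ := IsPGroup.iff_card.mp hZ2
  have hk0 : k ≠ 0 := by
    intro h0
    rw [h0, pow_zero] at hk
    have : Subsingleton ↥(Subgroup.center ↥Q) := (Nat.card_eq_one_iff_unique.mp hk).1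
    exact not_subsingleton _ this
  have hdvd : 2 ∣ Nat.card ↥(Subgroup.center ↥Q) := by
    rw [hk]; exact dvd_pow_self 2 hk0
  obtain ⟨z, hz⟩ := exists_prime_orderOf_dvd_card' (G := ↥(Subgroup.center ↥Q)) 2 hdvd
  refine ⟨((z : ↥Q) : G), (z : ↥Q).2, ?_, ?_, ?_⟩
  · intro h1
    have : z = 1 := by
      apply Subtype.ext; apply Subtype.ext; simpa using h1
    rw [this, orderOf_one] at hz
    exact absurd hz (by norm_num)
  · have h2 : z ^ 2 = 1 := by rw [← hz]; exact pow_orderOf_eq_one z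
    have := congrArg (fun w : ↥(Subgroup.center ↥Q) => ((w : ↥Q) : G)) h2
    simpa using this
  · intro q hq
    have hc := (Subgroup.mem_center_iff.mp z.2) ⟨q, hq⟩
    have := congrArg (fun w : ↥Q => (w : G)) hc
    simpa using this

theorem frame : FrameStmt.{u} := by
  intro G _ _ hT
  obtain ⟨hsolv, hodd, hconj, hfour⟩ := hT
  have : Fact (Nat.Prime 2) := ⟨Nat.prime_two⟩
  -- Q = O_2(G)
  set Q : Subgroup G := Cfsg.pCore 2 G with hQdef
  have hQn : Q.Normal := Cfsg.Agent.Lib.H1.pCore_normal 2 G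
  have hQ2 : IsPGroup 2 Q := Cfsg.Agent.Lib.H1.pCore_isPGroup 2 G
  -- O_{2'}(G) = 1
  have hO : Cfsg.pPrimeCore 2 G = ⊥ := by
    unfold Cfsg.pPrimeCore
    rw [eq_bot_iff]
    apply sSup_le
    rintro N ⟨hNn, hNc⟩
    have : Odd (Nat.card N) := by
      rw [← Nat.not_even_iff_odd, even_iff_two_dvd]
      intro h2
      have := Nat.Coprime.eq_one_of_dvd hNc.symm h2
      omega
    rw [hodd N hNn this]
  have hcent : Subgroup.centralizer (Q : Set G) ≤ Q :=
    Cfsg.Agent.Lib.H16.centralizer_pCore_le_of_isSolvable 2 hsolv hO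
  -- Q is nontrivial
  obtain ⟨x0, y0, hxy, hx1, hx2, hy1, hy2⟩ := hfour
  have hQne : Q ≠ ⊥ := by
    intro hb
    have htop : Subgroup.centralizer (Q : Set G) = ⊤ := by
      rw [hb]; simp
    have : x0 ∈ Q := hcent (by rw [htop]; exact Subgroup.mem_top x0)
    rw [hb, Subgroup.mem_bot] at this
    exact hx1 this
  obtain ⟨v0, hv0Q, hv01, hv02, hv0c⟩ := exists_central_involution Q hQ2 hQne
  -- every x with x^2 = 1 lies in Z(Q)
  have key : ∀ x : G, x ^ 2 = 1 → x ∈ Q ∧ ∀ q ∈ Q, q * x = x * q := by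
    intro x hx
    by_cases hx1' : x = 1
    · subst hx1'
      exact ⟨Q.one_mem, fun q _ => by simp⟩
    · obtain ⟨g, hg⟩ := isConj_iff.mp (hconj v0 x hv01 hv02 hx1' hx)
      subst hg
      refine ⟨hQn.conj_mem v0 hv0Q g, ?_⟩
      intro q hq
      have hq' : g⁻¹ * q * g ∈ Q := by
        have := hQn.conj_mem q hq g⁻¹
        simpa using this
      have h := hv0c _ hq'
      calc q * (g * v0 * g⁻¹) = g * ((g⁻¹ * q * g) * v0) * g⁻¹ := by group
        _ = g * (v0 * (g⁻¹ * q * g)) * g⁻¹ := by rw [h]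
        _ = g * v0 * g⁻¹ * q := by group
  -- V
  let V : Subgroup G :=
    { carrier := {x | x ^ 2 = 1}
      mul_mem' := by
        intro a b ha hb
        have ha' : a ^ 2 = 1 := ha
        have hb' : b ^ 2 = 1 := hb
        have hcomm : a * b = b * a := (key b hb').2 a (key a ha').1
        show (a * b) ^ 2 = 1
        have : Commute a b := hcomm
        rw [this.mul_pow, ha', hb', one_mul]
      one_mem' := by show (1 : G) ^ 2 = 1; simp
      inv_mem' := by
        intro a ha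
        have ha' : a ^ 2 = 1 := ha
        show (a⁻¹) ^ 2 = 1
        rw [inv_pow, ha', inv_one] }
  have hVmem : ∀ x : G, x ∈ V ↔ x ^ 2 = 1 := fun x => Iff.rfl
  refine ⟨Q, V, ?_⟩
  refine
    { Qn := hQn
      Q2 := hQ2
      Qmax := fun P hPn hP2 => Cfsg.Agent.Lib.H1.le_pCore hPn hP2
      cent := hcent
      Vn := ?_
      VQ := fun x hx => (key x ((hVmem x).1 hx)).1
      Vmem := hVmem
      Vcen := fun v hv q hq => (key v ((hVmem v).1 hv)).2 q hq
      trans := ?_
      four := ⟨x0, y0, hxy, hx1, hx2, hy1, hy2⟩ }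
  · constructor
    intro n hn g
    have hn' : n ^ 2 = 1 := (hVmem n).1 hn
    rw [hVmem]
    rw [conj_pow, hn']
    simp
  · intro v w hv hw hv1 hw1
    exact isConj_iff.mp (hconj v w hv1 ((hVmem v).1 hv) hw1 ((hVmem w).1 hw))

example : FrameStmt.{0} := frame

end Cfsg.Agent.Lib.H22.S3797Frame
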