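import Cfsg.Agent.Lib.H1.S77.Hyp

/-!
# S0429, piece (MATE): no edges inside a class

Blueprint `tools/blueprints/S0429.md`.  Groups `{v0,b}`, `blk b`, `{z,w}`, weights `(3,2,-2)`,
value `-20`.  Also a small private toolbox for `ee` (so that the file only needs `Hyp`).
-/

set_option autoImplicit false
set_option linter.unusedSectionVars false
open Cfsg

namespace Cfsg.Agent.Lib.H22.S77

open Cfsg.Agent.Lib.H1.S77 Finset

section
variable {V : Type*} [Fintype V] [DecidableEq V] {G : SimpleGraph V} [DecidableRel G.Adj]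

theorem ee_zero' {S T : Finset V} (h : ∀ x ∈ S, ∀ y ∈ T, ¬ G.Adj x y) : ee G S T = 0 := by
  unfold ee
  apply Finset.sum_eq_zero
  intro x hx
  have : G.neighborFinset x ∩ T = ∅ := by
    rw [Finset.eq_empty_iff_forall_notMem]
    intro y hy
    rw [Finset.mem_inter, SimpleGraph.mem_neighborFinset] at hy
    exact h x hx y hy.2 hy.1
  rw [this, Finset.card_empty, Nat.cast_zero]

theorem ee_mul' {S T : Finset V} {d : ℕ} (h : ∀ x ∈ S, (G.neighborFinset x ∩ T).card = d) :
    ee G S T = (S.card : ℤ) * d := by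
  unfold ee
  rw [Finset.sum_congr rfl (fun x hx => by rw [h x hx]), Finset.sum_const, nsmul_eq_mul]

theorem ee_complete' {S T : Finset V} (h : ∀ x ∈ S, ∀ y ∈ T, G.Adj x y) :
    ee G S T = (S.card : ℤ) * T.card := by
  apply ee_mul'
  intro x hx
  congr 1
  rw [Finset.inter_eq_right]
  intro y hy
  rw [SimpleGraph.mem_neighborFinset]
  exact h x hx y hy

variable {v0 : V}

/-- (MATE) groups {v0,b}, blk b, {z,w}; weights (3,2,-2); value -20 -/
theorem hnadj (hG : G.IsSRGWith 77 16 0 4) (hp : HPsdFam G) : HNadj G v0 := by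
  intro b hb z hz w hw hadj
  have hzB := (mem_cls.mp hz).1
  have hwB := (mem_cls.mp hw).1
  by_cases hzb : z = b
  · subst hzb
    rcases (mem_cls.mp hw).2 with h | h
    · subst h; exact G.irrefl hadj
    · exact h.1 hadj
  by_cases hwb : w = b
  · subst hwb
    rcases (mem_cls.mp hz).2 with h | h
    · exact hzb h
    · exact h.1 hadj.symm
  have hzm : ¬ G.Adj b z ∧ Disjoint (blk G v0 b) (blk G v0 z) := by
    rcases (mem_cls.mp hz).2 with h | h
    · exact absurd h hzb
    · exact h
  have hwm : ¬ G.Adj b w ∧ Disjoint (blk G v0 b) (blk G v0 w) := by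
    rcases (mem_cls.mp hw).2 with h | h
    · exact absurd h hwb
    · exact h
  have hzw : z ≠ w := fun h => by subst h; exact G.irrefl hadj
  have hb0 : b ≠ v0 := (mem_nB.mp hb).1
  have hz0 : z ≠ v0 := (mem_nB.mp hzB).1
  have hw0 : w ≠ v0 := (mem_nB.mp hwB).1
  have nb0 : ¬ G.Adj v0 b := (mem_nB.mp hb).2
  have nz0 : ¬ G.Adj v0 z := (mem_nB.mp hzB).2
  have nw0 : ¬ G.Adj v0 w := (mem_nB.mp hwB).2
  -- the three groups
  set S0 : Finset V := {v0, b} with hS0
  set S1 : Finset V := blk G v0 b with hS1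
  set S2 : Finset V := {z, w} with hS2
  have c0 : S0.card = 2 := Finset.card_pair (Ne.symm hb0)
  have c1 : S1.card = 4 := card_blk hG hb
  have c2 : S2.card = 2 := Finset.card_pair hzw
  have m0 : ∀ x, x ∈ S0 ↔ x = v0 ∨ x = b := fun x => by rw [hS0, Finset.mem_insert, Finset.mem_singleton]
  have m2 : ∀ x, x ∈ S2 ↔ x = z ∨ x = w := fun x => by rw [hS2, Finset.mem_insert, Finset.mem_singleton]
  have m1 : ∀ x, x ∈ S1 → G.Adj b x ∧ G.Adj v0 x := fun x hx => mem_blk.mp hx
  -- a point of blk b is not adjacent to a mate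
  have hpz : ∀ y ∈ S1, ¬ G.Adj y z := by
    intro y hy hyz
    have : y ∈ blk G v0 z := mem_blk.mpr ⟨hyz.symm, (m1 y hy).2⟩
    exact Finset.disjoint_left.mp hzm.2 hy this
  have hpw : ∀ y ∈ S1, ¬ G.Adj y w := by
    intro y hy hyw
    have : y ∈ blk G v0 w := mem_blk.mpr ⟨hyw.symm, (m1 y hy).2⟩
    exact Finset.disjoint_left.mp hwm.2 hy this
  have d01 : Disjoint S0 S1 := by
    rw [Finset.disjoint_left]
    intro x hx hx1
    rcases (m0 x).mp hx with rfl | rfl
    · exact G.irrefl (m1 _ hx1).2
    · exact G.irrefl (m1 _ hx1).1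
  have d02 : Disjoint S0 S2 := by
    rw [Finset.disjoint_left]
    intro x hx hx2
    rcases (m0 x).mp hx with rfl | rfl <;> rcases (m2 _).mp hx2 with h | h
    · exact hz0 h.symm
    · exact hw0 h.symm
    · exact hzb h.symm
    · exact hwb h.symm
  have d12 : Disjoint S1 S2 := by
    rw [Finset.disjoint_left]
    intro x hx hx2
    rcases (m2 x).mp hx2 with rfl | rfl
    · exact nz0 (m1 _ hx).2
    · exact nw0 (m1 _ hx).2
  -- edge counts
  have e00 : ee G S0 S0 = 0 := by
    apply ee_zero'
    intro x hx y hy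
    rcases (m0 x).mp hx with rfl | rfl <;> rcases (m0 y).mp hy with rfl | rfl
    · exact G.irrefl
    · exact nb0
    · exact fun h => nb0 h.symm
    · exact G.irrefl
  have e01 : ee G S0 S1 = 8 := by
    rw [ee_complete' (T := S1), c0, c1]; · norm_num
    intro x hx y hy
    rcases (m0 x).mp hx with rfl | rfl
    · exact (m1 y hy).2
    · exact (m1 y hy).1
  have e10 : ee G S1 S0 = 8 := by
    rw [ee_complete' (T := S0), c0, c1]; · norm_num
    intro x hx y hy
    rcases (m0 y).mp hy with rfl | rfl
    · exact (m1 x hx).2.symm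
    · exact (m1 x hx).1.symm
  have e02 : ee G S0 S2 = 0 := by
    apply ee_zero'
    intro x hx y hy
    rcases (m0 x).mp hx with rfl | rfl <;> rcases (m2 y).mp hy with rfl | rfl
    · exact nz0
    · exact nw0
    · exact hzm.1
    · exact hwm.1
  have e20 : ee G S2 S0 = 0 := by
    apply ee_zero'
    intro x hx y hy
    rcases (m2 x).mp hx with rfl | rfl <;> rcases (m0 y).mp hy with rfl | rfl
    · exact fun h => nz0 h.symm
    · exact fun h => hzm.1 h.symm
    · exact fun h => nw0 h.symm
    · exact fun h => hwm.1 h.symm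
  have e11 : ee G S1 S1 = 0 := by
    apply ee_zero'
    intro x hx y hy
    exact indep hG (mem_nA.mpr (m1 x hx).2) (mem_nA.mpr (m1 y hy).2)
  have e12 : ee G S1 S2 = 0 := by
    apply ee_zero'
    intro x hx y hy
    rcases (m2 y).mp hy with rfl | rfl
    · exact hpz x hx
    · exact hpw x hx
  have e21 : ee G S2 S1 = 0 := by
    apply ee_zero'
    intro x hx y hy
    rcases (m2 x).mp hx with rfl | rfl
    · exact fun h => hpz y hy h.symm
    · exact fun h => hpw y hy h.symm
  have e22 : ee G S2 S2 = 2 := by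
    rw [ee_mul' (T := S2) (d := 1), c2]; · norm_num
    intro x hx
    rw [Finset.card_eq_one]
    rcases (m2 x).mp hx with rfl | rfl
    · refine ⟨w, ?_⟩
      ext y
      rw [Finset.mem_inter, SimpleGraph.mem_neighborFinset, m2, Finset.mem_singleton]
      constructor
      · rintro ⟨h1, rfl | rfl⟩
        · exact absurd h1 G.irrefl
        · rfl
      · rintro rfl
        exact ⟨hadj, Or.inr rfl⟩
    · refine ⟨z, ?_⟩
      ext y
      rw [Finset.mem_inter, SimpleGraph.mem_neighborFinset, m2, Finset.mem_singleton]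
      constructor
      · rintro ⟨h1, rfl | rfl⟩
        · rfl
        · exact absurd h1 G.irrefl
      · rintro rfl
        exact ⟨hadj.symm, Or.inl rfl⟩
  -- the certificate
  have key := hp 3 ![S0, S1, S2] (by
    intro i j hij
    fin_cases i <;> fin_cases j <;> first | exact absurd rfl hij | skip
    · exact d01
    · exact d02
    · exact d01.symm
    · exact d12
    · exact d02.symm
    · exact d12.symm) ![3, 2, -2]
  simp only [Fin.sum_univ_three, Matrix.cons_val_zero, Matrix.cons_val_one, Matrix.cons_val_two,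
    Matrix.head_cons, Matrix.tail_cons] at key
  rw [e00, e01, e10, e02, e20, e11, e12, e21, e22, c0, c1, c2] at key
  norm_num at key

end

end Cfsg.Agent.Lib.H22.S77
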