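import Cfsg.Agent.Lib.H22.S77MATE

/-!
# S0429, pieces (TR1)/(TR2): the blocks of two mates of `b` do not meet in one or two points

Blueprint `tools/blueprints/S0429.md`.  Groups `{v0}`, `{b}`, `{z,w}`, `blk b`, `blk z ∩ blk w`,
`(blk z \ blk w) ∪ (blk w \ blk z)`; weights `(-1,2,-2,1,-2,-1)` (overlap one, value `-12`) and
`(-1,-2,1,-1,1,0)` (overlap two, value `-4`).
-/

set_option autoImplicit false
set_option linter.unusedSectionVars false
open Cfsg

namespace Cfsg.Agent.Lib.H22.S77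

open Cfsg.Agent.Lib.H1.S77 Finset

section
variable {V : Type*} [Fintype V] [DecidableEq V] {G : SimpleGraph V} [DecidableRel G.Adj]

theorem ee_eq_sum_ite (A B : Finset V) :
    ee G A B = ∑ x ∈ A, ∑ y ∈ B, if G.Adj x y then (1 : ℤ) else 0 := by
  unfold ee
  apply Finset.sum_congr rfl
  intro x _
  rw [Finset.inter_comm, ← Finset.filter_mem_eq_inter, Finset.card_filter, Nat.cast_sum]
  apply Finset.sum_congr rfl
  intro y _
  by_cases h : G.Adj x y
  · rw [if_pos ((SimpleGraph.mem_neighborFinset G x y).mpr h), if_pos h]; rfl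
  · rw [if_neg (fun h' => h ((SimpleGraph.mem_neighborFinset G x y).mp h')), if_neg h]; rfl

theorem ee_comm' (S T : Finset V) : ee G S T = ee G T S := by
  rw [ee_eq_sum_ite, ee_eq_sum_ite, Finset.sum_comm]
  apply Finset.sum_congr rfl
  intro y _
  apply Finset.sum_congr rfl
  intro x _
  simp only [SimpleGraph.adj_comm]

variable {v0 : V}

/-- the quadratic inequality for the six groups, with arbitrary weights -/
theorem tr_form (hG : G.IsSRGWith 77 16 0 4) (hp : HPsdFam G) (hn : HNadj G v0)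
    {b z w : V} (hb : b ∈ nB G v0) (hz : z ∈ cls G v0 b) (hw : w ∈ cls G v0 b)
    (hzb : z ≠ b) (hwb : w ≠ b) (hzw : z ≠ w) (c : Fin 6 → ℤ) :
    0 ≤ 22 * (c 0 ^ 2 + c 1 ^ 2 + 2 * c 2 ^ 2 + 4 * c 3 ^ 2
          + ((blk G v0 z ∩ blk G v0 w).card : ℤ) * c 4 ^ 2
          + (8 - 2 * ((blk G v0 z ∩ blk G v0 w).card : ℤ)) * c 5 ^ 2)
        - 22 * (4 * c 0 * c 3 + ((blk G v0 z ∩ blk G v0 w).card : ℤ) * c 0 * c 4
          + (8 - 2 * ((blk G v0 z ∩ blk G v0 w).card : ℤ)) * c 0 * c 5 + 4 * c 1 * c 3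
          + 2 * ((blk G v0 z ∩ blk G v0 w).card : ℤ) * c 2 * c 4
          + (8 - 2 * ((blk G v0 z ∩ blk G v0 w).card : ℤ)) * c 2 * c 5)
        + 2 * (c 0 + c 1 + 2 * c 2 + 4 * c 3 + ((blk G v0 z ∩ blk G v0 w).card : ℤ) * c 4
          + (8 - 2 * ((blk G v0 z ∩ blk G v0 w).card : ℤ)) * c 5) ^ 2 := by
  have hzB := (mem_cls.mp hz).1
  have hwB := (mem_cls.mp hw).1
  have hzm : ¬ G.Adj b z ∧ Disjoint (blk G v0 b) (blk G v0 z) := by
    rcases (mem_cls.mp hz).2 with h | h
    · exact absurd h hzb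
    · exact h
  have hwm : ¬ G.Adj b w ∧ Disjoint (blk G v0 b) (blk G v0 w) := by
    rcases (mem_cls.mp hw).2 with h | h
    · exact absurd h hwb
    · exact h
  have nzw : ¬ G.Adj z w := hn b hb z hz w hw
  have hb0 : b ≠ v0 := (mem_nB.mp hb).1
  have hz0 : z ≠ v0 := (mem_nB.mp hzB).1
  have hw0 : w ≠ v0 := (mem_nB.mp hwB).1
  have nb0 : ¬ G.Adj v0 b := (mem_nB.mp hb).2
  have nz0 : ¬ G.Adj v0 z := (mem_nB.mp hzB).2
  have nw0 : ¬ G.Adj v0 w := (mem_nB.mp hwB).2
  set ov : ℕ := (blk G v0 z ∩ blk G v0 w).card with hov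
  -- the six groups
  set S0 : Finset V := {v0} with hS0
  set S1 : Finset V := {b} with hS1
  set S2 : Finset V := {z, w} with hS2
  set S3 : Finset V := blk G v0 b with hS3
  set S4 : Finset V := blk G v0 z ∩ blk G v0 w with hS4
  set S5 : Finset V := (blk G v0 z \ blk G v0 w) ∪ (blk G v0 w \ blk G v0 z) with hS5
  have m0 : ∀ x, x ∈ S0 ↔ x = v0 := fun x => by rw [hS0, Finset.mem_singleton]
  have m1 : ∀ x, x ∈ S1 ↔ x = b := fun x => by rw [hS1, Finset.mem_singleton]
  have m2 : ∀ x, x ∈ S2 ↔ x = z ∨ x = w := fun x => by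
    rw [hS2, Finset.mem_insert, Finset.mem_singleton]
  have m3 : ∀ x, x ∈ S3 ↔ G.Adj b x ∧ G.Adj v0 x := fun x => mem_blk
  have m4 : ∀ x, x ∈ S4 ↔ (G.Adj z x ∧ G.Adj w x) ∧ G.Adj v0 x := fun x => by
    rw [hS4, Finset.mem_inter, mem_blk, mem_blk]; tauto
  have m5 : ∀ x, x ∈ S5 ↔ ((G.Adj z x ∧ ¬ G.Adj w x) ∨ (G.Adj w x ∧ ¬ G.Adj z x)) ∧ G.Adj v0 x :=
    fun x => by
      rw [hS5, Finset.mem_union, Finset.mem_sdiff, Finset.mem_sdiff, mem_blk, mem_blk]; tauto
  -- cards
  have c0 : S0.card = 1 := Finset.card_singleton _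
  have c1 : S1.card = 1 := Finset.card_singleton _
  have c2 : S2.card = 2 := Finset.card_pair hzw
  have c3 : S3.card = 4 := card_blk hG hb
  have c4 : S4.card = ov := rfl
  have cz : (blk G v0 z).card = 4 := card_blk hG hzB
  have cw : (blk G v0 w).card = 4 := card_blk hG hwB
  have c5 : (S5.card : ℤ) = 8 - 2 * (ov : ℤ) := by
    have hd : Disjoint (blk G v0 z \ blk G v0 w) (blk G v0 w \ blk G v0 z) := by
      rw [Finset.disjoint_left]
      intro x hx hx'
      exact (Finset.mem_sdiff.mp hx').2 (Finset.mem_sdiff.mp hx).1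
    have h1 := Finset.card_sdiff_add_card_inter (blk G v0 z) (blk G v0 w)
    have h2 := Finset.card_sdiff_add_card_inter (blk G v0 w) (blk G v0 z)
    rw [Finset.inter_comm] at h2
    rw [hS5, Finset.card_union_of_disjoint hd]
    rw [cz] at h1
    rw [cw] at h2
    push_cast
    have h1' : ((blk G v0 z \ blk G v0 w).card : ℤ) + (ov : ℤ) = 4 := by exact_mod_cast h1
    have h2' : ((blk G v0 w \ blk G v0 z).card : ℤ) + (ov : ℤ) = 4 := by exact_mod_cast h2
    linarith
  -- adjacency facts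
  have pb_z : ∀ y, G.Adj b y → G.Adj v0 y → ¬ G.Adj z y := by
    intro y h1 h2 h3
    exact Finset.disjoint_left.mp hzm.2 (mem_blk.mpr ⟨h1, h2⟩) (mem_blk.mpr ⟨h3, h2⟩)
  have pb_w : ∀ y, G.Adj b y → G.Adj v0 y → ¬ G.Adj w y := by
    intro y h1 h2 h3
    exact Finset.disjoint_left.mp hwm.2 (mem_blk.mpr ⟨h1, h2⟩) (mem_blk.mpr ⟨h3, h2⟩)
  have pp : ∀ x y, G.Adj v0 x → G.Adj v0 y → ¬ G.Adj x y := fun x y hx hy =>
    indep hG (mem_nA.mpr hx) (mem_nA.mpr hy)
  -- disjointness
  have hdisj : ∀ i j : Fin 6, i ≠ j →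
      Disjoint (![S0, S1, S2, S3, S4, S5] i) (![S0, S1, S2, S3, S4, S5] j) := by
    have d01 : Disjoint S0 S1 := by
      rw [Finset.disjoint_left]; intro x hx hx'
      rw [m0] at hx; rw [m1] at hx'; exact hb0 (hx'.symm.trans hx)
    have d02 : Disjoint S0 S2 := by
      rw [Finset.disjoint_left]; intro x hx hx'
      rw [m0] at hx; subst hx
      rcases (m2 _).mp hx' with h | h
      · exact hz0 h.symm
      · exact hw0 h.symm
    have d03 : Disjoint S0 S3 := by
      rw [Finset.disjoint_left]; intro x hx hx'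
      rw [m0] at hx; subst hx; exact G.irrefl ((m3 _).mp hx').2
    have d04 : Disjoint S0 S4 := by
      rw [Finset.disjoint_left]; intro x hx hx'
      rw [m0] at hx; subst hx; exact G.irrefl ((m4 _).mp hx').2
    have d05 : Disjoint S0 S5 := by
      rw [Finset.disjoint_left]; intro x hx hx'
      rw [m0] at hx; subst hx; exact G.irrefl ((m5 _).mp hx').2
    have d12 : Disjoint S1 S2 := by
      rw [Finset.disjoint_left]; intro x hx hx'
      rw [m1] at hx; subst hx
      rcases (m2 _).mp hx' with h | h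
      · exact hzb h.symm
      · exact hwb h.symm
    have d13 : Disjoint S1 S3 := by
      rw [Finset.disjoint_left]; intro x hx hx'
      rw [m1] at hx; subst hx; exact G.irrefl ((m3 _).mp hx').1
    have d14 : Disjoint S1 S4 := by
      rw [Finset.disjoint_left]; intro x hx hx'
      rw [m1] at hx; subst hx; exact nb0 ((m4 _).mp hx').2
    have d15 : Disjoint S1 S5 := by
      rw [Finset.disjoint_left]; intro x hx hx'
      rw [m1] at hx; subst hx; exact nb0 ((m5 _).mp hx').2
    have d23 : Disjoint S2 S3 := by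
      rw [Finset.disjoint_left]; intro x hx hx'
      rcases (m2 _).mp hx with rfl | rfl
      · exact nz0 ((m3 _).mp hx').2
      · exact nw0 ((m3 _).mp hx').2
    have d24 : Disjoint S2 S4 := by
      rw [Finset.disjoint_left]; intro x hx hx'
      rcases (m2 _).mp hx with rfl | rfl
      · exact nz0 ((m4 _).mp hx').2
      · exact nw0 ((m4 _).mp hx').2
    have d25 : Disjoint S2 S5 := by
      rw [Finset.disjoint_left]; intro x hx hx'
      rcases (m2 _).mp hx with rfl | rfl
      · exact nz0 ((m5 _).mp hx').2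
      · exact nw0 ((m5 _).mp hx').2
    have d34 : Disjoint S3 S4 := by
      rw [Finset.disjoint_left]; intro x hx hx'
      exact pb_z x ((m3 _).mp hx).1 ((m3 _).mp hx).2 ((m4 _).mp hx').1.1
    have d35 : Disjoint S3 S5 := by
      rw [Finset.disjoint_left]; intro x hx hx'
      rcases ((m5 _).mp hx').1 with h | h
      · exact pb_z x ((m3 _).mp hx).1 ((m3 _).mp hx).2 h.1
      · exact pb_w x ((m3 _).mp hx).1 ((m3 _).mp hx).2 h.1
    have d45 : Disjoint S4 S5 := by
      rw [Finset.disjoint_left]; intro x hx hx'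
      rcases ((m5 _).mp hx').1 with h | h
      · exact h.2 ((m4 _).mp hx).1.2
      · exact h.2 ((m4 _).mp hx).1.1
    intro i j hij
    fin_cases i <;> fin_cases j <;> first | exact absurd rfl hij | skip
    · exact d01
    · exact d02
    · exact d03
    · exact d04
    · exact d05
    · exact d01.symm
    · exact d12
    · exact d13
    · exact d14
    · exact d15
    · exact d02.symm
    · exact d12.symm
    · exact d23
    · exact d24
    · exact d25
    · exact d03.symm
    · exact d13.symm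
    · exact d23.symm
    · exact d34
    · exact d35
    · exact d04.symm
    · exact d14.symm
    · exact d24.symm
    · exact d34.symm
    · exact d45
    · exact d05.symm
    · exact d15.symm
    · exact d25.symm
    · exact d35.symm
    · exact d45.symm
  -- edge counts: the zero ones
  have e00 : ee G S0 S0 = 0 := ee_zero' (fun x hx y hy => by
    rw [m0] at hx hy; subst hx; subst hy; exact G.irrefl)
  have e01 : ee G S0 S1 = 0 := ee_zero' (fun x hx y hy => by
    rw [m0] at hx; rw [m1] at hy; subst hx; subst hy; exact nb0)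
  have e02 : ee G S0 S2 = 0 := ee_zero' (fun x hx y hy => by
    rw [m0] at hx; subst hx
    rcases (m2 _).mp hy with rfl | rfl
    · exact nz0
    · exact nw0)
  have e11 : ee G S1 S1 = 0 := ee_zero' (fun x hx y hy => by
    rw [m1] at hx hy; subst hx; subst hy; exact G.irrefl)
  have e12 : ee G S1 S2 = 0 := ee_zero' (fun x hx y hy => by
    rw [m1] at hx; subst hx
    rcases (m2 _).mp hy with rfl | rfl
    · exact hzm.1
    · exact hwm.1)
  have e14 : ee G S1 S4 = 0 := ee_zero' (fun x hx y hy => by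
    rw [m1] at hx; subst hx
    intro h
    exact pb_z y h ((m4 _).mp hy).2 ((m4 _).mp hy).1.1)
  have e15 : ee G S1 S5 = 0 := ee_zero' (fun x hx y hy => by
    rw [m1] at hx; subst hx
    intro h
    rcases ((m5 _).mp hy).1 with h' | h'
    · exact pb_z y h ((m5 _).mp hy).2 h'.1
    · exact pb_w y h ((m5 _).mp hy).2 h'.1)
  have e22 : ee G S2 S2 = 0 := ee_zero' (fun x hx y hy => by
    rcases (m2 _).mp hx with rfl | rfl <;> rcases (m2 _).mp hy with rfl | rfl
    · exact G.irrefl
    · exact nzw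
    · exact fun h => nzw h.symm
    · exact G.irrefl)
  have e23 : ee G S2 S3 = 0 := ee_zero' (fun x hx y hy => by
    rcases (m2 _).mp hx with rfl | rfl
    · exact pb_z y ((m3 _).mp hy).1 ((m3 _).mp hy).2
    · exact pb_w y ((m3 _).mp hy).1 ((m3 _).mp hy).2)
  have e33 : ee G S3 S3 = 0 := ee_zero' (fun x hx y hy => pp x y ((m3 _).mp hx).2 ((m3 _).mp hy).2)
  have e34 : ee G S3 S4 = 0 := ee_zero' (fun x hx y hy => pp x y ((m3 _).mp hx).2 ((m4 _).mp hy).2)
  have e35 : ee G S3 S5 = 0 := ee_zero' (fun x hx y hy => pp x y ((m3 _).mp hx).2 ((m5 _).mp hy).2)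
  have e44 : ee G S4 S4 = 0 := ee_zero' (fun x hx y hy => pp x y ((m4 _).mp hx).2 ((m4 _).mp hy).2)
  have e45 : ee G S4 S5 = 0 := ee_zero' (fun x hx y hy => pp x y ((m4 _).mp hx).2 ((m5 _).mp hy).2)
  have e55 : ee G S5 S5 = 0 := ee_zero' (fun x hx y hy => pp x y ((m5 _).mp hx).2 ((m5 _).mp hy).2)
  -- the nonzero ones
  have e03 : ee G S0 S3 = 4 := by
    rw [ee_complete' (T := S3), c0, c3]; · norm_num
    intro x hx y hy; rw [m0] at hx; subst hx; exact ((m3 _).mp hy).2
  have e04 : ee G S0 S4 = (ov : ℤ) := by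
    rw [ee_complete' (T := S4), c0, c4]; · norm_num
    intro x hx y hy; rw [m0] at hx; subst hx; exact ((m4 _).mp hy).2
  have e05 : ee G S0 S5 = 8 - 2 * (ov : ℤ) := by
    rw [ee_complete' (T := S5), c0, c5]; · norm_num
    intro x hx y hy; rw [m0] at hx; subst hx; exact ((m5 _).mp hy).2
  have e13 : ee G S1 S3 = 4 := by
    rw [ee_complete' (T := S3), c1, c3]; · norm_num
    intro x hx y hy; rw [m1] at hx; subst hx; exact ((m3 _).mp hy).1
  have e24 : ee G S2 S4 = 2 * (ov : ℤ) := by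
    rw [ee_complete' (T := S4), c2, c4]; · norm_num
    intro x hx y hy
    rcases (m2 _).mp hx with rfl | rfl
    · exact ((m4 _).mp hy).1.1
    · exact ((m4 _).mp hy).1.2
  have e52 : ee G S5 S2 = 8 - 2 * (ov : ℤ) := by
    rw [ee_mul' (T := S2) (d := 1), c5]; · norm_num
    intro x hx
    rw [Finset.card_eq_one]
    rcases ((m5 _).mp hx).1 with h | h
    · refine ⟨z, ?_⟩
      ext y
      rw [Finset.mem_inter, SimpleGraph.mem_neighborFinset, m2, Finset.mem_singleton]
      constructor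
      · rintro ⟨h1, rfl | rfl⟩
        · rfl
        · exact absurd h1.symm h.2
      · rintro rfl
        exact ⟨h.1.symm, Or.inl rfl⟩
    · refine ⟨w, ?_⟩
      ext y
      rw [Finset.mem_inter, SimpleGraph.mem_neighborFinset, m2, Finset.mem_singleton]
      constructor
      · rintro ⟨h1, rfl | rfl⟩
        · exact absurd h1.symm h.2
        · rfl
      · rintro rfl
        exact ⟨h.1.symm, Or.inr rfl⟩
  -- the symmetric ones
  have e10 : ee G S1 S0 = 0 := by rw [ee_comm', e01]
  have e20 : ee G S2 S0 = 0 := by rw [ee_comm', e02]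
  have e21 : ee G S2 S1 = 0 := by rw [ee_comm', e12]
  have e30 : ee G S3 S0 = 4 := by rw [ee_comm', e03]
  have e31 : ee G S3 S1 = 4 := by rw [ee_comm', e13]
  have e32 : ee G S3 S2 = 0 := by rw [ee_comm', e23]
  have e40 : ee G S4 S0 = (ov : ℤ) := by rw [ee_comm', e04]
  have e41 : ee G S4 S1 = 0 := by rw [ee_comm', e14]
  have e42 : ee G S4 S2 = 2 * (ov : ℤ) := by rw [ee_comm', e24]
  have e43 : ee G S4 S3 = 0 := by rw [ee_comm', e34]
  have e50 : ee G S5 S0 = 8 - 2 * (ov : ℤ) := by rw [ee_comm', e05]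
  have e51 : ee G S5 S1 = 0 := by rw [ee_comm', e15]
  have e25 : ee G S2 S5 = 8 - 2 * (ov : ℤ) := by rw [ee_comm', e52]
  have e53 : ee G S5 S3 = 0 := by rw [ee_comm', e35]
  have e54 : ee G S5 S4 = 0 := by rw [ee_comm', e45]
  have key := hp 6 ![S0, S1, S2, S3, S4, S5] hdisj c
  simp only [Fin.sum_univ_six, Matrix.cons_val] at key
  rw [e00, e01, e02, e03, e04, e05, e10, e11, e12, e13, e14, e15, e20, e21, e22, e23, e24, e25,
    e30, e31, e32, e33, e34, e35, e40, e41, e42, e43, e44, e45, e50, e51, e52, e53, e54, e55,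
    c0, c1, c2, c3, c4, c5] at key
  push_cast at key
  linarith [key]

/-- (TR1) overlap one: groups {v0},{b},{z,w},blk b, blk z ∩ blk w, symmDiff; weights (-1,2,-2,1,-2,-1); value -12 -/
theorem mate_inter_ne_one (hG : G.IsSRGWith 77 16 0 4) (hp : HPsdFam G) (hn : HNadj G v0)
    {b z w : V} (hb : b ∈ nB G v0) (hz : z ∈ cls G v0 b) (hw : w ∈ cls G v0 b)
    (hzb : z ≠ b) (hwb : w ≠ b) (hzw : z ≠ w) :
    (blk G v0 z ∩ blk G v0 w).card ≠ 1 := by
  intro h
  have key := tr_form hG hp hn hb hz hw hzb hwb hzw ![-1, 2, -2, 1, -2, -1]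
  rw [h] at key
  simp only [Matrix.cons_val] at key
  norm_num at key

/-- (TR2) overlap two: same groups; weights (-1,-2,1,-1,1,0); value -4 -/
theorem mate_inter_ne_two (hG : G.IsSRGWith 77 16 0 4) (hp : HPsdFam G) (hn : HNadj G v0)
    {b z w : V} (hb : b ∈ nB G v0) (hz : z ∈ cls G v0 b) (hw : w ∈ cls G v0 b)
    (hzb : z ≠ b) (hwb : w ≠ b) (hzw : z ≠ w) :
    (blk G v0 z ∩ blk G v0 w).card ≠ 2 := by
  intro h
  have key := tr_form hG hp hn hb hz hw hzb hwb hzw ![-1, -2, 1, -1, 1, 0]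
  rw [h] at key
  simp only [Matrix.cons_val] at key
  norm_num at key

end

end Cfsg.Agent.Lib.H22.S77
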