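import Mathlib
import Cfsg.Agent.Lib.H22.TwoGroupAb4
import Cfsg.Agent.Lib.H22.DihQuatRecog

set_option autoImplicit false

/-!
# Structure of 2-groups with `|G : G'| = 4` (2-groups of maximal class)
-/

namespace Cfsg.Agent.Lib.H22

open scoped commutatorElement

universe u

/-- Generators-and-relations data of a 2-group of maximal class of order `2 ^ (n+3)`:
`a` of order `2 ^ (n+2)`, `y ∉ ⟨a⟩`, `y a y⁻¹ ∈ {a⁻¹, a⁻¹ z}`, `y² ∈ {1, z}` where
`z = a ^ (2 ^ (n+1))` is the involution of `⟨a⟩`. -/
structure MaxClassData (G : Type*) [Group G] (n : ℕ) (a y : G) : Prop where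
  card_eq : Nat.card G = 2 ^ (n + 3)
  orderOf_a : orderOf a = 2 ^ (n + 2)
  not_mem : y ∉ Subgroup.zpowers a
  conj : y * a * y⁻¹ = a⁻¹ ∨ (1 ≤ n ∧ y * a * y⁻¹ = a⁻¹ * a ^ (2 ^ (n + 1)))
  sq : y * y = 1 ∨ y * y = a ^ (2 ^ (n + 1))

theorem exists_maxClassData (n : ℕ) (G : Type u) [Group G] [Finite G]
    (hcard : Nat.card G = 2 ^ (n + 3)) (hidx : (commutator G).index = 4) :
    ∃ a y : G, MaxClassData G n a y ∧
      Subgroup.center G = Subgroup.zpowers (a ^ (2 ^ (n + 1))) := by
  obtain ⟨a, ha⟩ := exists_orderOf_of_index_commutator_eq_four n G hcard hidx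
  set M := Subgroup.zpowers a with hMdef
  have hcM : Nat.card M = 2 ^ (n + 2) := by rw [Nat.card_zpowers, ha]
  have hMidx : M.index = 2 := by
    have := Subgroup.card_mul_index M
    rw [hcM, hcard] at this
    have e : (2 : ℕ) ^ (n + 3) = 2 ^ (n + 2) * 2 := by ring
    rw [e] at this
    exact Nat.eq_of_mul_eq_mul_left (pow_pos two_pos _) this
  have hMab : ∀ b ∈ M, ∀ c ∈ M, b * c = c * b := by
    intro b hb c hc
    obtain ⟨k, rfl⟩ := Subgroup.mem_zpowers_iff.mp hb
    obtain ⟨l, rfl⟩ := Subgroup.mem_zpowers_iff.mp hc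
    exact (Commute.zpow_zpow_self a k l).eq
  have hMn : M.Normal := Subgroup.normal_of_index_eq_two hMidx
  have hex : ∃ y : G, y ∉ M := by
    by_contra hne
    push Not at hne
    have : M = ⊤ := eq_top_iff.mpr (fun g _ => hne g)
    rw [this, Subgroup.index_top] at hMidx
    omega
  obtain ⟨y, hy⟩ := hex
  have hgen := sup_zpowers_eq_top_of_index_two M hMidx y hy
  have hform := card_commutator_mul_card_centralizer M hMab y hgen
  have hcG' : Nat.card (commutator G) = 2 ^ (n + 1) := by
    have := Subgroup.card_mul_index (commutator G)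
    rw [hidx, hcard] at this
    have e : (2 : ℕ) ^ (n + 3) = 2 ^ (n + 1) * 4 := by ring
    rw [e] at this
    exact Nat.eq_of_mul_eq_mul_right (by norm_num) this
  have hcC : Nat.card ↥(M ⊓ Subgroup.centralizer {y}) = 2 := by
    rw [hcG', hcM] at hform
    have e : (2 : ℕ) ^ (n + 2) = 2 ^ (n + 1) * 2 := by ring
    rw [e] at hform
    exact Nat.eq_of_mul_eq_mul_left (pow_pos two_pos _) hform
  have haM : a ∈ M := Subgroup.mem_zpowers a
  set zz := a ^ (2 ^ (n + 1)) with hzz
  have hzzM : zz ∈ M := M.pow_mem haM _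
  have hzz1 : zz ≠ 1 := by
    apply pow_ne_one_of_lt_orderOf (pow_ne_zero _ two_ne_zero)
    rw [ha]
    exact Nat.pow_lt_pow_right (by norm_num) (by omega)
  have hzz2 : zz ^ 2 = 1 := by
    rw [hzz, ← pow_mul, ← pow_succ, ← ha]
    exact pow_orderOf_eq_one a
  have hconjM : ∀ b ∈ M, y * b * y⁻¹ ∈ M := fun b hb => hMn.conj_mem b hb y
  obtain ⟨k, hk⟩ := Subgroup.mem_zpowers_iff.mp (hconjM a haM)
  have hconjzz : y * zz * y⁻¹ = zz := by
    have e1 : y * zz * y⁻¹ = zz ^ k := by
      rw [hzz, ← conj_pow, ← hk, ← zpow_natCast, ← zpow_natCast, ← zpow_mul, ← zpow_mul, mul_comm]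
    rcases zpow_eq_one_or_self_of_sq_eq_one hzz2 k with h | h
    · exfalso
      rw [h] at e1
      apply hzz1
      have : zz = y⁻¹ * (y * zz * y⁻¹) * y := by group
      rw [this, e1]; group
    · rw [e1, h]
  have hzzC : zz ∈ M ⊓ Subgroup.centralizer {y} := by
    refine Subgroup.mem_inf.mpr ⟨hzzM, ?_⟩
    rw [Subgroup.mem_centralizer_iff]
    intro h hh
    rw [Set.mem_singleton_iff] at hh
    rw [hh]
    calc y * zz = (y * zz * y⁻¹) * y := by group
      _ = zz * y := by rw [hconjzz]
  have hCel : ∀ g ∈ M ⊓ Subgroup.centralizer {y}, g = 1 ∨ g = zz := by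
    intro g hg
    obtain ⟨w, hw, hwu⟩ := (Nat.card_eq_two_iff' (1 : ↥(M ⊓ Subgroup.centralizer {y}))).mp hcC
    by_cases h : g = 1
    · left; exact h
    · right
      have e1 : (⟨g, hg⟩ : ↥(M ⊓ Subgroup.centralizer {y})) = w :=
        hwu _ (fun h' => h (congrArg Subtype.val h'))
      have e2 : (⟨zz, hzzC⟩ : ↥(M ⊓ Subgroup.centralizer {y})) = w :=
        hwu _ (fun h' => hzz1 (congrArg Subtype.val h'))
      exact congrArg Subtype.val (e1.trans e2.symm)
  have hmemC : ∀ g ∈ M, y * g = g * y → g ∈ M ⊓ Subgroup.centralizer {y} := by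
    intro g hg hc
    refine Subgroup.mem_inf.mpr ⟨hg, ?_⟩
    rw [Subgroup.mem_centralizer_iff]
    intro h hh
    rw [Set.mem_singleton_iff] at hh
    rw [hh]
    exact hc
  have hyy : y * y ∈ M := (Subgroup.mul_mem_iff_of_index_two hMidx).mpr Iff.rfl
  have hyyC : y * y ∈ M ⊓ Subgroup.centralizer {y} := hmemC _ hyy (by group)
  have htM : y * a * y⁻¹ * a ∈ M := M.mul_mem (hconjM a haM) haM
  have htC : y * (y * a * y⁻¹ * a) = (y * a * y⁻¹ * a) * y := by
    have e1 : (y * y) * a * (y * y)⁻¹ = a := by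
      rw [hMab _ hyy _ haM]; group
    have e2 : a * (y * a * y⁻¹) = (y * a * y⁻¹) * a := hMab _ haM _ (hconjM a haM)
    calc y * (y * a * y⁻¹ * a) = ((y * y) * a * (y * y)⁻¹) * (y * a * y⁻¹) * y := by group
      _ = a * (y * a * y⁻¹) * y := by rw [e1]
      _ = (y * a * y⁻¹ * a) * y := by rw [e2]
  have hcenter : Subgroup.center G = M ⊓ Subgroup.centralizer {y} := by
    apply le_antisymm
    · intro g hg
      rw [Subgroup.mem_center_iff] at hg
      apply hmemC g _ (hg y)
      by_contra hgM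
      have hgen' := sup_zpowers_eq_top_of_index_two M hMidx g hgM
      have hform' := card_commutator_mul_card_centralizer M hMab g hgen'
      have : M ⊓ Subgroup.centralizer {g} = M := by
        apply inf_eq_left.mpr
        intro b _
        rw [Subgroup.mem_centralizer_iff]
        intro h hh
        rw [Set.mem_singleton_iff] at hh
        rw [hh]
        exact (hg b).symm
      rw [this, hcG', hcM] at hform'
      have h1 : (2 : ℕ) ^ (n + 1) * 2 ^ (n + 2) = 1 * 2 ^ (n + 2) := by rw [hform', one_mul]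
      have h2 := Nat.eq_of_mul_eq_mul_right (pow_pos two_pos _) h1
      have : 2 ≤ 2 ^ (n + 1) := by
        calc 2 = 2 ^ 1 := by norm_num
          _ ≤ 2 ^ (n + 1) := Nat.pow_le_pow_right two_pos (by omega)
      omega
    · intro g hg
      obtain ⟨hgM, hgC⟩ := Subgroup.mem_inf.mp hg
      rw [Subgroup.mem_centralizer_iff] at hgC
      rw [Subgroup.mem_center_iff]
      have hle : M ⊔ Subgroup.zpowers y ≤ Subgroup.centralizer {g} := by
        apply sup_le
        · intro b hb
          rw [Subgroup.mem_centralizer_iff]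
          intro h hh
          rw [Set.mem_singleton_iff] at hh
          rw [hh]
          exact hMab g hgM b hb
        · rw [Subgroup.zpowers_le, Subgroup.mem_centralizer_iff]
          intro h hh
          rw [Set.mem_singleton_iff] at hh
          rw [hh]
          exact (hgC y rfl).symm
      intro x
      have hx := hle (hgen ▸ Subgroup.mem_top x)
      rw [Subgroup.mem_centralizer_iff] at hx
      exact (hx g rfl).symm
  have hozz : orderOf zz = 2 := orderOf_eq_prime hzz2 hzz1
  refine ⟨a, y, ⟨hcard, ha, hy, ?_, ?_⟩, ?_⟩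
  · rcases hCel _ (hmemC _ htM htC) with ht | ht
    · left
      exact eq_inv_of_mul_eq_one_left ht
    · right
      have hconj : y * a * y⁻¹ = a⁻¹ * zz := by
        have : y * a * y⁻¹ = (y * a * y⁻¹ * a) * a⁻¹ := by group
        rw [this, ht]
        exact (hMab _ hzzM _ (M.inv_mem haM))
      refine ⟨?_, hconj⟩
      by_contra hn
      have hn0 : n = 0 := by omega
      subst hn0
      have e : a⁻¹ * zz = a := by
        rw [hzz]
        simp only [zero_add, pow_one]
        rw [pow_two, inv_mul_cancel_left]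
      rw [e] at hconj
      have hac : y * a = a * y := by
        calc y * a = (y * a * y⁻¹) * y := by group
          _ = a * y := by rw [hconj]
      rcases hCel a (hmemC a haM hac) with h | h
      · rw [h, orderOf_one] at ha
        norm_num at ha
      · have h2 : a = 1 := by
          have h3 : a * 1 = a * a := by
            rw [mul_one]
            rw [hzz] at h
            simpa [pow_two] using h
          exact (mul_left_cancel h3).symm
        rw [h2, orderOf_one] at ha
        norm_num at ha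
  · exact hCel _ hyyC
  · rw [hcenter]
    symm
    apply Subgroup.eq_of_le_of_card_ge
    · rw [Subgroup.zpowers_le]; exact hzzC
    · rw [hcC, Nat.card_zpowers, hozz]

namespace MaxClassData

variable {G : Type*} [Group G] {n : ℕ} {a y : G}

theorem index_zpowers (h : MaxClassData G n a y) : (Subgroup.zpowers a).index = 2 := by
  have := Subgroup.card_mul_index (Subgroup.zpowers a)
  rw [Nat.card_zpowers, h.orderOf_a, h.card_eq] at this
  have e : (2 : ℕ) ^ (n + 3) = 2 ^ (n + 2) * 2 := by ring
  rw [e] at this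
  exact Nat.eq_of_mul_eq_mul_left (pow_pos two_pos _) this

theorem closure_eq_top (h : MaxClassData G n a y) : Subgroup.closure ({a, y} : Set G) = ⊤ := by
  have h1 := sup_zpowers_eq_top_of_index_two _ h.index_zpowers y h.not_mem
  rw [eq_top_iff, ← h1, sup_le_iff, Subgroup.zpowers_le, Subgroup.zpowers_le]
  exact ⟨Subgroup.subset_closure (by simp), Subgroup.subset_closure (by simp)⟩

theorem finite (h : MaxClassData G n a y) : Finite G := by
  apply Nat.finite_of_card_ne_zero
  rw [h.card_eq]
  exact pow_ne_zero _ two_ne_zero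

theorem pow_eq_one (h : MaxClassData G n a y) : a ^ (2 ^ (n + 2)) = 1 := by
  rw [← h.orderOf_a]; exact pow_orderOf_eq_one a

theorem zz_sq (h : MaxClassData G n a y) : a ^ (2 ^ (n + 1)) * a ^ (2 ^ (n + 1)) = 1 := by
  rw [← pow_add, ← two_mul, ← pow_succ']
  exact h.pow_eq_one

theorem y_ne_one (h : MaxClassData G n a y) : y ≠ 1 := by
  intro h1
  exact h.not_mem (h1 ▸ Subgroup.one_mem _)

/-- dihedral case -/
theorem equiv_dihedral (h : MaxClassData G n a y) (hc : y * a * y⁻¹ = a⁻¹) (hs : y * y = 1) :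
    Nonempty (G ≃* DihedralGroup (2 ^ (n + 2))) := by
  have := h.finite
  have : NeZero (2 ^ (n + 2)) := ⟨pow_ne_zero _ two_ne_zero⟩
  apply dihedral_equiv_of_gens (2 ^ (n + 2)) a y h.pow_eq_one hs hc h.closure_eq_top
  rw [h.card_eq]; ring

/-- generalized quaternion case -/
theorem equiv_quaternion (h : MaxClassData G n a y) (hc : y * a * y⁻¹ = a⁻¹)
    (hs : y * y = a ^ (2 ^ (n + 1))) :
    Nonempty (G ≃* QuaternionGroup (2 ^ (n + 1))) := by
  have := h.finite
  have : NeZero (2 ^ (n + 1)) := ⟨pow_ne_zero _ two_ne_zero⟩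
  apply quaternion_equiv_of_gens (2 ^ (n + 1)) a y _ hs hc h.closure_eq_top
  · rw [h.card_eq]; ring
  · rw [← pow_succ']
    exact h.pow_eq_one

/-- semidihedral case -/
theorem exists_semidihedral (h : MaxClassData G n a y)
    (hc : y * a * y⁻¹ = a⁻¹ * a ^ (2 ^ (n + 1))) :
    ∃ b : G, orderOf b = 2 ∧ b ∉ Subgroup.zpowers a ∧ b * a * b⁻¹ = a ^ (2 ^ (n + 1) - 1) := by
  have hpow : a⁻¹ * a ^ (2 ^ (n + 1)) = a ^ (2 ^ (n + 1) - 1) := by
    have : 2 ^ (n + 1) = (2 ^ (n + 1) - 1) + 1 := by
      have := Nat.one_le_two_pow (n := n + 1)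
      omega
    conv_lhs => rw [this, pow_succ', inv_mul_cancel_left]
  rcases h.sq with hs | hs
  · refine ⟨y, ?_, h.not_mem, by rw [hc, hpow]⟩
    apply orderOf_eq_prime _ h.y_ne_one
    rw [pow_two]; exact hs
  · refine ⟨y * a, ?_, ?_, ?_⟩
    · apply orderOf_eq_prime
      · rw [pow_two]
        calc y * a * (y * a) = (y * a * y⁻¹) * (y * y) * a := by group
          _ = a⁻¹ * (a ^ (2 ^ (n + 1)) * a ^ (2 ^ (n + 1))) * a := by rw [hc, hs]; group
          _ = 1 := by rw [h.zz_sq]; group
      · intro h1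
        apply h.not_mem
        have : y = a⁻¹ := eq_inv_of_mul_eq_one_left h1
        rw [this]
        exact Subgroup.inv_mem _ (Subgroup.mem_zpowers a)
    · intro hmem
      apply h.not_mem
      have : y = (y * a) * a⁻¹ := by group
      rw [this]
      exact Subgroup.mul_mem _ hmem (Subgroup.inv_mem _ (Subgroup.mem_zpowers a))
    · calc y * a * a * (y * a)⁻¹ = y * a * y⁻¹ := by group
        _ = a ^ (2 ^ (n + 1) - 1) := by rw [hc, hpow]

end MaxClassData

end Cfsg.Agent.Lib.H22
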