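import Mathlib
import Cfsg.Prelude.Def_Solvable
import Cfsg.Agent.Lib.H22.PPrimeCore

/-!
`O_{p'}` of subnormal subgroups (helper22's shared library): a subnormal subgroup of order prime to
`p` lies in `O_{p'}(G)`.
-/

set_option autoImplicit false

namespace Cfsg.Agent.Lib.H22

universe u v

variable {G : Type u} [Group G]

theorem pPrimeCore_map_equiv_le [Finite G] (p : ℕ) {G' : Type v} [Group G'] (e : G ≃* G') :
    (Cfsg.pPrimeCore p G).map e.toMonoidHom ≤ Cfsg.pPrimeCore p G' := by
  apply le_pPrimeCore
  · have := pPrimeCore_normal (G := G) p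
    exact Subgroup.Normal.map inferInstance _ e.surjective
  · have : Nat.card ((Cfsg.pPrimeCore p G).map e.toMonoidHom) = Nat.card (Cfsg.pPrimeCore p G) :=
      Nat.card_congr ((Cfsg.pPrimeCore p G).equivMapOfInjective e.toMonoidHom e.injective).toEquiv.symm
    rw [this]
    exact card_pPrimeCore_coprime p

theorem pPrimeCore_map_equiv [Finite G] (p : ℕ) {G' : Type v} [Group G'] (e : G ≃* G') :
    (Cfsg.pPrimeCore p G).map e.toMonoidHom = Cfsg.pPrimeCore p G' := by
  have : Finite G' := Finite.of_equiv G e.toEquiv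
  apply le_antisymm (pPrimeCore_map_equiv_le p e)
  have h := pPrimeCore_map_equiv_le p e.symm
  have h2 := Subgroup.map_mono (f := e.toMonoidHom) h
  rw [Subgroup.map_map] at h2
  have h3 : e.toMonoidHom.comp e.symm.toMonoidHom = MonoidHom.id G' := by
    ext x; simp
  rwa [h3, Subgroup.map_id] at h2

theorem pPrimeCore_characteristic [Finite G] (p : ℕ) : (Cfsg.pPrimeCore p G).Characteristic :=
  Subgroup.characteristic_iff_map_eq.2 (fun e => pPrimeCore_map_equiv p e)

/-- For a subnormal subgroup `H` of a finite group, `O_{p'}(H) ≤ O_{p'}(G)`. -/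
theorem pPrimeCore_subnormal_le [Finite G] (p : ℕ) {H : Subgroup G} (hH : H.IsSubnormal) :
    (Cfsg.pPrimeCore p H).map H.subtype ≤ Cfsg.pPrimeCore p G := by
  induction hH with
  | top =>
    have := pPrimeCore_map_equiv p (Subgroup.topEquiv : (⊤ : Subgroup G) ≃* G)
    exact this.le
  | step H K hHK hKsn hHn ih =>
    set H' : Subgroup K := H.subgroupOf K with hH'
    let e : H' ≃* H := Subgroup.subgroupOfEquivOfLe hHK
    have : (Cfsg.pPrimeCore p H').Characteristic := pPrimeCore_characteristic p
    have h1 : ((Cfsg.pPrimeCore p H').map H'.subtype).Normal :=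
      ConjAct.normal_of_characteristic_of_normal
    have h2 : (Nat.card ((Cfsg.pPrimeCore p H').map H'.subtype : Subgroup K)).Coprime p := by
      rw [Subgroup.card_map_of_injective (Subgroup.subtype_injective H')]
      exact card_pPrimeCore_coprime p
    have h3 : (Cfsg.pPrimeCore p H').map H'.subtype ≤ Cfsg.pPrimeCore p K :=
      le_pPrimeCore p _ h1 h2
    have h4 : (Cfsg.pPrimeCore p H).map H.subtype
        = ((Cfsg.pPrimeCore p H').map H'.subtype).map K.subtype := by
      rw [← pPrimeCore_map_equiv p e, Subgroup.map_map, Subgroup.map_map]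
      rfl
    rw [h4]
    exact (Subgroup.map_mono h3).trans ih

/-- A subnormal subgroup of order prime to `p` lies in `O_{p'}(G)`. -/
theorem subnormal_coprime_le_pPrimeCore [Finite G] (p : ℕ) {S : Subgroup G} (hS : S.IsSubnormal)
    (hc : (Nat.card S).Coprime p) : S ≤ Cfsg.pPrimeCore p G := by
  have h1 : Cfsg.pPrimeCore p S = ⊤ := by
    rw [eq_top_iff]
    apply le_pPrimeCore p _ inferInstance
    rw [Subgroup.card_top]; exact hc
  have h2 := pPrimeCore_subnormal_le p hS
  rwa [h1, ← MonoidHom.range_eq_map, Subgroup.range_subtype] at h2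

end Cfsg.Agent.Lib.H22
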