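import Mathlib
import Cfsg.Agent.Lib.H22.MaxClass2
import Cfsg.Agent.Lib.H1.NilpotentBasic

set_option autoImplicit false

/-!
# 2-groups: nilpotency class `n - 1` iff `|G : G'| = 4`
-/

namespace Cfsg.Agent.Lib.H22

open scoped commutatorElement

universe u

/-- In a finite `p`-group with centre of order `p` and nontrivial `G'`, `Z(G) ≤ G'`. -/
theorem center_le_commutator_of_card_center {p : ℕ} [hp : Fact p.Prime] {G : Type*} [Group G] [Finite G]
    (hG : IsPGroup p G) (hc : Nat.card (Subgroup.center G) = p) (hne : commutator G ≠ ⊥) :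
    Subgroup.center G ≤ commutator G := by
  obtain ⟨z, hzG', hzc, hzp⟩ := exists_central_orderOf_eq_prime hG (commutator G) hne
  have h1 : Subgroup.zpowers z = Subgroup.center G := by
    apply Subgroup.eq_of_le_of_card_ge
    · rw [Subgroup.zpowers_le]; exact hzc
    · rw [hc, Nat.card_zpowers, hzp]
  rw [← h1, Subgroup.zpowers_le]
  exact hzG'

theorem commutator_ne_bot_of_not_comm {G : Type*} [Group G] (h : ¬ ∀ a b : G, a * b = b * a) :
    commutator G ≠ ⊥ := by
  intro hbot
  apply h
  intro a b
  have : ⁅a, b⁆ ∈ commutator G := by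
    rw [commutator_def]
    exact Subgroup.commutator_mem_commutator (Subgroup.mem_top a) (Subgroup.mem_top b)
  rw [hbot, Subgroup.mem_bot, commutatorElement_def] at this
  calc a * b = (a * b * a⁻¹ * b⁻¹) * b * a := by group
    _ = b * a := by rw [this, one_mul]

/-- A finite `p`-group with cyclic abelianization is abelian. -/
theorem comm_of_isCyclic_abelianization {p : ℕ} [hp : Fact p.Prime] :
    ∀ (m : ℕ) (G : Type u) [Group G] [Finite G], Nat.card G = m → IsPGroup p G →
      IsCyclic (G ⧸ commutator G) → ∀ a b : G, a * b = b * a := by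
  intro m
  induction m using Nat.strong_induction_on with
  | _ m ih =>
    intro G _ _ hm hG hcyc
    by_cases htriv : Subsingleton G
    · intro a b
      rw [Subsingleton.elim a 1, Subsingleton.elim b 1]
    · rw [not_subsingleton_iff_nontrivial] at htriv
      have hcn : Nontrivial (Subgroup.center G) := hG.center_nontrivial
      set Q := G ⧸ Subgroup.center G with hQ
      have hcardQ : Nat.card Q < m := by
        have h1 := Subgroup.card_eq_card_quotient_mul_card_subgroup (Subgroup.center G)
        have h2 : 1 < Nat.card (Subgroup.center G) := Finite.one_lt_card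
        have h3 : 0 < Nat.card Q := Nat.card_pos
        rw [← hm, h1]
        nlinarith
      have hQp : IsPGroup p Q := hG.to_quotient _
      -- abelianization of Q is a quotient of that of G
      have hle : commutator G ≤ (commutator Q).comap (QuotientGroup.mk' (Subgroup.center G)) := by
        rw [commutator_def, Subgroup.commutator_le]
        intro g₁ _ g₂ _
        rw [Subgroup.mem_comap, map_commutatorElement, commutator_def]
        exact Subgroup.commutator_mem_commutator (Subgroup.mem_top _) (Subgroup.mem_top _)
      let φ : G ⧸ commutator G →* Q ⧸ commutator Q :=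
        QuotientGroup.map (commutator G) (commutator Q) (QuotientGroup.mk' (Subgroup.center G)) hle
      have hφ : Function.Surjective φ := by
        intro x
        obtain ⟨q, rfl⟩ := QuotientGroup.mk_surjective x
        obtain ⟨g, rfl⟩ := QuotientGroup.mk_surjective q
        exact ⟨QuotientGroup.mk g, rfl⟩
      have hcycQ : IsCyclic (Q ⧸ commutator Q) := isCyclic_of_surjective φ hφ
      have hQcomm := ih (Nat.card Q) hcardQ Q rfl hQp hcycQ
      -- so G' ≤ Z(G)
      have hG'Z : commutator G ≤ Subgroup.center G := by
        rw [commutator_def, Subgroup.commutator_le]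
        intro g₁ _ g₂ _
        rw [← QuotientGroup.eq_one_iff, commutatorElement_def]
        simp only [QuotientGroup.mk_mul, QuotientGroup.mk_inv]
        rw [hQcomm (g₁ : Q) (g₂ : Q)]
        group
      have hker : (QuotientGroup.mk' (commutator G)).ker ≤ Subgroup.center G := by
        rw [QuotientGroup.ker_mk']; exact hG'Z
      have := (QuotientGroup.mk' (commutator G)).isMulCommutative_of_isCyclic_of_ker_le_center hker
      exact fun a b => this.is_comm.comm a b

theorem not_comm_of_index_commutator {G : Type*} [Group G] [Finite G] {k : ℕ}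
    (hidx : (commutator G).index = k) (hk : k ≠ Nat.card G) : ¬ ∀ a b : G, a * b = b * a := by
  intro h
  rw [commutator_eq_bot_of_comm h, Subgroup.index_bot] at hidx
  exact hk hidx.symm

/-- `|G : G'| = 4` forces class `n + 2` for `|G| = 2 ^ (n+3)`. -/
theorem nilpotencyClass_of_index_commutator_eq_four :
    ∀ (n : ℕ) (G : Type u) [Group G] [Finite G], Nat.card G = 2 ^ (n + 3) →
      (commutator G).index = 4 → Group.nilpotencyClass G = n + 2 := by
  intro n
  induction n with
  | zero =>
    intro G _ _ hcard hidx
    obtain ⟨a, y, hD, hcen⟩ := exists_maxClassData 0 G hcard hidx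
    have hG : IsPGroup 2 G := IsPGroup.of_card hcard
    have : Group.IsNilpotent G := hG.isNilpotent
    have hcZ : Nat.card (Subgroup.center G) = 2 := by
      rw [hcen, Nat.card_zpowers]
      apply orderOf_eq_prime
      · rw [pow_two]; exact hD.zz_sq
      · apply pow_ne_one_of_lt_orderOf (pow_ne_zero _ two_ne_zero)
        rw [hD.orderOf_a]
        norm_num
    have hcQ : Nat.card (G ⧸ Subgroup.center G) = 2 ^ 2 := by
      have := Subgroup.card_eq_card_quotient_mul_card_subgroup (Subgroup.center G)
      rw [hcard, hcZ] at this
      omega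
    have hQc : IsMulCommutative (G ⧸ Subgroup.center G) :=
      IsPGroup.isMulCommutative_of_card_eq_prime_sq hcQ
    have hQp : IsPGroup 2 (G ⧸ Subgroup.center G) := hG.to_quotient _
    have : Group.IsNilpotent (G ⧸ Subgroup.center G) := hQp.isNilpotent
    have h1 : Group.nilpotencyClass (G ⧸ Subgroup.center G) ≤ 1 :=
      Group.IsNilpotent.nilpotencyClass_le_one_iff.mpr hQc
    rw [Group.nilpotencyClass_quotient_center] at h1
    have h2 : ¬ Group.nilpotencyClass G ≤ 1 := by
      rw [Group.IsNilpotent.nilpotencyClass_le_one_iff]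
      intro hc
      apply not_comm_of_index_commutator hidx (by rw [hcard]; norm_num)
      exact fun a b => hc.is_comm.comm a b
    omega
  | succ n ih =>
    intro G _ _ hcard hidx
    obtain ⟨a, y, hD, hcen⟩ := exists_maxClassData (n + 1) G hcard hidx
    have hG : IsPGroup 2 G := IsPGroup.of_card hcard
    have hcZ : Nat.card (Subgroup.center G) = 2 := by
      rw [hcen, Nat.card_zpowers]
      apply orderOf_eq_prime
      · rw [pow_two]; exact hD.zz_sq
      · apply pow_ne_one_of_lt_orderOf (pow_ne_zero _ two_ne_zero)
        rw [hD.orderOf_a]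
        exact Nat.pow_lt_pow_right (by norm_num) (by omega)
    have hcQ : Nat.card (G ⧸ Subgroup.center G) = 2 ^ (n + 3) := by
      have := Subgroup.card_eq_card_quotient_mul_card_subgroup (Subgroup.center G)
      rw [hcard, hcZ] at this
      have e : (2 : ℕ) ^ (n + 1 + 3) = 2 ^ (n + 3) * 2 := by ring
      rw [e] at this
      exact (Nat.eq_of_mul_eq_mul_right (by norm_num) this).symm
    have hne : commutator G ≠ ⊥ := by
      apply commutator_ne_bot_of_not_comm
      apply not_comm_of_index_commutator hidx
      rw [hcard]
      have : (4 : ℕ) < 2 ^ (n + 1 + 3) := by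
        calc (4 : ℕ) = 2 ^ 2 := by norm_num
          _ < 2 ^ (n + 1 + 3) := Nat.pow_lt_pow_right (by norm_num) (by omega)
      omega
    have hle := center_le_commutator_of_card_center hG hcZ hne
    have hiQ := index_commutator_quotient (Subgroup.center G) hle
    have h1 := ih (G ⧸ Subgroup.center G) hcQ (hiQ.trans hidx)
    rw [Group.nilpotencyClass_quotient_center] at h1
    omega

/-- class `n + 2` for `|G| = 2 ^ (n+3)` forces `|G : G'| = 4`. -/
theorem index_commutator_eq_four_of_nilpotencyClass :
    ∀ (n : ℕ) (G : Type u) [Group G] [Finite G], Nat.card G = 2 ^ (n + 3) →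
      Group.nilpotencyClass G = n + 2 → (commutator G).index = 4 := by
  intro n
  induction n with
  | zero =>
    intro G _ _ hcard hcl
    have hG : IsPGroup 2 G := IsPGroup.of_card hcard
    have : Group.IsNilpotent G := hG.isNilpotent
    have hnc : ¬ IsMulCommutative G := by
      rw [← Group.IsNilpotent.nilpotencyClass_le_one_iff, hcl]
      norm_num
    have : Nontrivial G := by
      rw [← Finite.one_lt_card_iff_nontrivial, hcard]; norm_num
    have hcn : Nontrivial (Subgroup.center G) := hG.center_nontrivial
    obtain ⟨j, hj⟩ := (IsPGroup.iff_card).mp (hG.to_subgroup (Subgroup.center G))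
    have hj1 : 1 ≤ j := by
      by_contra h
      have : j = 0 := by omega
      rw [this, pow_zero] at hj
      have := Finite.one_lt_card_iff_nontrivial.mpr hcn
      omega
    have hmul := Subgroup.card_eq_card_quotient_mul_card_subgroup (Subgroup.center G)
    rw [hcard, hj] at hmul
    have hj3 : j ≤ 3 := by
      have : (2 : ℕ) ^ j ∣ 2 ^ (0 + 3) := Dvd.intro_left _ hmul.symm
      exact (Nat.pow_dvd_pow_iff_le_right (by norm_num)).mp this
    have hcQ : Nat.card (G ⧸ Subgroup.center G) = 2 ^ (3 - j) := by
      have e : (2 : ℕ) ^ (0 + 3) = 2 ^ (3 - j) * 2 ^ j := by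
        rw [← pow_add]; congr 1; omega
      rw [e] at hmul
      exact (Nat.eq_of_mul_eq_mul_right (pow_pos two_pos _) hmul).symm
    -- quotient by centre is not cyclic
    have hncyc : ¬ IsCyclic (G ⧸ Subgroup.center G) := by
      intro hcyc
      exact hnc (isMulCommutative_of_isCyclic_quotient_center_self G)
    have hj' : j = 1 := by
      by_contra hj'
      have hj2 : j = 2 ∨ j = 3 := by omega
      apply hncyc
      rcases hj2 with rfl | rfl
      · have hc2 : Nat.card (G ⧸ Subgroup.center G) = 2 := by rw [hcQ]; norm_num
        have : Fact (Nat.Prime 2) := ⟨Nat.prime_two⟩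
        exact isCyclic_of_prime_card hc2
      · have hc1 : Nat.card (G ⧸ Subgroup.center G) = 1 := by rw [hcQ]; norm_num
        have : Subsingleton (G ⧸ Subgroup.center G) := (Nat.card_eq_one_iff_unique.mp hc1).1
        exact isCyclic_of_subsingleton
    subst hj'
    have hcQ2 : Nat.card (G ⧸ Subgroup.center G) = 2 ^ 2 := by rw [hcQ]
    have hQc : IsMulCommutative (G ⧸ Subgroup.center G) :=
      IsPGroup.isMulCommutative_of_card_eq_prime_sq hcQ2
    have hG'Z : commutator G ≤ Subgroup.center G := by
      rw [commutator_def, Subgroup.commutator_le]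
      intro g₁ _ g₂ _
      rw [← QuotientGroup.eq_one_iff, commutatorElement_def]
      simp only [QuotientGroup.mk_mul, QuotientGroup.mk_inv]
      rw [hQc.is_comm.comm (g₁ : G ⧸ Subgroup.center G) (g₂ : G ⧸ Subgroup.center G)]
      group
    have hne : commutator G ≠ ⊥ := by
      apply commutator_ne_bot_of_not_comm
      intro h
      exact hnc ⟨⟨h⟩⟩
    have hcZ : Nat.card (Subgroup.center G) = 2 := by rw [hj, pow_one]
    have hZG' := center_le_commutator_of_card_center hG hcZ hne
    have heq : commutator G = Subgroup.center G := le_antisymm hG'Z hZG'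
    rw [heq]
    have := Subgroup.card_mul_index (Subgroup.center G)
    rw [hcZ, hcard] at this
    norm_num at this
    omega
  | succ n ih =>
    intro G _ _ hcard hcl
    have hG : IsPGroup 2 G := IsPGroup.of_card hcard
    have : Group.IsNilpotent G := hG.isNilpotent
    have hnc : ¬ IsMulCommutative G := by
      rw [← Group.IsNilpotent.nilpotencyClass_le_one_iff, hcl]
      omega
    have : Nontrivial G := by
      rw [← Finite.one_lt_card_iff_nontrivial, hcard]
      exact Nat.one_lt_two_pow (by omega)
    have hcn : Nontrivial (Subgroup.center G) := hG.center_nontrivial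
    obtain ⟨j, hj⟩ := (IsPGroup.iff_card).mp (hG.to_subgroup (Subgroup.center G))
    have hj1 : 1 ≤ j := by
      by_contra h
      have : j = 0 := by omega
      rw [this, pow_zero] at hj
      have := Finite.one_lt_card_iff_nontrivial.mpr hcn
      omega
    have hmul := Subgroup.card_eq_card_quotient_mul_card_subgroup (Subgroup.center G)
    rw [hcard, hj] at hmul
    have hj3 : j ≤ n + 1 + 3 := by
      have : (2 : ℕ) ^ j ∣ 2 ^ (n + 1 + 3) := Dvd.intro_left _ hmul.symm
      exact (Nat.pow_dvd_pow_iff_le_right (by norm_num)).mp this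
    have hcQ : Nat.card (G ⧸ Subgroup.center G) = 2 ^ (n + 1 + 3 - j) := by
      have e : (2 : ℕ) ^ (n + 1 + 3) = 2 ^ (n + 1 + 3 - j) * 2 ^ j := by
        rw [← pow_add]; congr 1; omega
      rw [e] at hmul
      exact (Nat.eq_of_mul_eq_mul_right (pow_pos two_pos _) hmul).symm
    have hclQ : Group.nilpotencyClass (G ⧸ Subgroup.center G) = n + 2 := by
      rw [Group.nilpotencyClass_quotient_center, hcl]; omega
    have : Fact (Nat.Prime 2) := ⟨Nat.prime_two⟩
    have hbound := Cfsg.Agent.Lib.H1.nilpotencyClass_le_of_card_eq_prime_pow (p := 2)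
      (n + 1 + 3 - j) (G ⧸ Subgroup.center G) hcQ
    rw [hclQ] at hbound
    have hj' : j = 1 := by
      rcases le_max_iff.mp hbound with h | h <;> omega
    subst hj'
    have hcQ' : Nat.card (G ⧸ Subgroup.center G) = 2 ^ (n + 3) := by
      rw [hcQ]
      congr 1
    have hidxQ := ih (G ⧸ Subgroup.center G) hcQ' hclQ
    have hne : commutator G ≠ ⊥ := by
      apply commutator_ne_bot_of_not_comm
      intro h
      exact hnc ⟨⟨h⟩⟩
    have hcZ : Nat.card (Subgroup.center G) = 2 := by rw [hj, pow_one]
    have hZG' := center_le_commutator_of_card_center hG hcZ hne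
    rw [← index_commutator_quotient (Subgroup.center G) hZG']
    exact hidxQ

end Cfsg.Agent.Lib.H22
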