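import Mathlib
import Cfsg.Agent.Lib.H22.MaxClassNilp

/-!
# Lower central series of finite `p`-groups: orders and class bounds   (helper22)
-/

set_option autoImplicit false

namespace Cfsg.Agent.Lib.H22

universe u

section

variable {G : Type*} [Group G]

/-- In a nilpotent group the lower central series decreases strictly until it reaches `⊥`. -/
theorem lcs_succ_lt_of_ne_bot [hG : Group.IsNilpotent G] (i : ℕ)
    (h : (⊤ : Subgroup G).lowerCentralSeries i ≠ ⊥) :
    (⊤ : Subgroup G).lowerCentralSeries (i + 1) < (⊤ : Subgroup G).lowerCentralSeries i := by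
  refine lt_of_le_of_ne ((⊤ : Subgroup G).lowerCentralSeries_antitone (Nat.le_succ i)) ?_
  intro heq
  apply h
  have hall : ∀ k, (⊤ : Subgroup G).lowerCentralSeries (i + k) =
      (⊤ : Subgroup G).lowerCentralSeries i := by
    intro k
    induction k with
    | zero => rfl
    | succ k ih =>
      rw [← add_assoc, Subgroup.lowerCentralSeries_succ, ih, ← Subgroup.lowerCentralSeries_succ, heq]
  have h1 := hall (Group.nilpotencyClass G)
  rw [← h1, eq_bot_iff]
  conv_rhs => rw [← Subgroup.lowerCentralSeries_nilpotencyClass (G := G)]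
  exact (⊤ : Subgroup G).lowerCentralSeries_antitone (Nat.le_add_left _ _)

variable [Finite G] {p : ℕ} [hp : Fact p.Prime]

/-- a nontrivial subgroup of a finite `p`-group has order at least `p` -/
theorem prime_le_card_of_ne_bot (hG : IsPGroup p G) {K : Subgroup G} (hK : K ≠ ⊥) :
    p ≤ Nat.card K := by
  obtain ⟨k, hk⟩ := (hG.to_subgroup K).exists_card_eq
  rcases Nat.eq_zero_or_pos k with rfl | hpos
  · exfalso; apply hK
    rw [pow_zero] at hk
    exact Subgroup.card_eq_one.mp hk
  · rw [hk]
    calc p = p ^ 1 := (pow_one p).symm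
      _ ≤ p ^ k := Nat.pow_le_pow_right hp.out.pos hpos

/-- strict inclusion of subgroups of a `p`-group gains a factor `p` -/
theorem prime_mul_card_le_of_lt (hG : IsPGroup p G) {H K : Subgroup G} (hlt : H < K) :
    p * Nat.card H ≤ Nat.card K := by
  obtain ⟨a, ha⟩ := (hG.to_subgroup H).exists_card_eq
  obtain ⟨b, hb⟩ := (hG.to_subgroup K).exists_card_eq
  have hle : Nat.card H ≤ Nat.card K := Subgroup.card_le_of_le hlt.le
  have hne : Nat.card H ≠ Nat.card K := by
    intro heq
    exact hlt.ne (Subgroup.eq_of_le_of_card_ge hlt.le heq.ge)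
  rw [ha, hb] at hle hne ⊢
  have hab : a < b := by
    rcases Nat.lt_or_ge a b with h | h
    · exact h
    · exfalso
      have := Nat.pow_le_pow_right hp.out.pos h
      exact hne (le_antisymm hle this)
  calc p * p ^ a = p ^ (a + 1) := by rw [pow_succ, mul_comm]
    _ ≤ p ^ b := Nat.pow_le_pow_right hp.out.pos hab

/-- chain estimate: if `γ_{j+k+1}` is nontrivial then `|γ_{j+1}| ≥ p^(k+1)` -/
theorem pow_le_card_lcs_of_ne_bot (hG : IsPGroup p G) (k : ℕ) : ∀ j : ℕ,
    (⊤ : Subgroup G).lowerCentralSeries (j + k) ≠ ⊥ →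
    p ^ (k + 1) ≤ Nat.card ((⊤ : Subgroup G).lowerCentralSeries j) := by
  have : Group.IsNilpotent G := hG.isNilpotent
  induction k with
  | zero =>
    intro j hj
    rw [add_zero] at hj
    rw [zero_add, pow_one]
    exact prime_le_card_of_ne_bot hG hj
  | succ k ih =>
    intro j hj
    have h1 : p ^ (k + 1) ≤ Nat.card ((⊤ : Subgroup G).lowerCentralSeries (j + 1)) := by
      apply ih (j + 1)
      have : j + 1 + k = j + (k + 1) := by ring
      rw [this]; exact hj
    have hjne : (⊤ : Subgroup G).lowerCentralSeries j ≠ ⊥ := by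
      intro hbot
      apply hj
      rw [eq_bot_iff, ← hbot]
      exact (⊤ : Subgroup G).lowerCentralSeries_antitone (Nat.le_add_right _ _)
    have h2 := prime_mul_card_le_of_lt hG (lcs_succ_lt_of_ne_bot j hjne)
    calc p ^ (k + 1 + 1) = p * p ^ (k + 1) := by rw [pow_succ, mul_comm]
      _ ≤ p * Nat.card ((⊤ : Subgroup G).lowerCentralSeries (j + 1)) := Nat.mul_le_mul_left p h1
      _ ≤ _ := h2

end

section

variable {p : ℕ} [hp : Fact p.Prime]

/-- the derived subgroup of a nonabelian finite `p`-group has index at least `p²` -/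
theorem sq_le_index_commutator {G : Type u} [Group G] [Finite G] (hG : IsPGroup p G)
    (hna : ¬ ∀ a b : G, a * b = b * a) : p ^ 2 ≤ (commutator G).index := by
  obtain ⟨k, hk⟩ := hG.index (commutator G)
  rw [hk]
  apply Nat.pow_le_pow_right hp.out.pos
  by_contra hlt
  apply hna
  have hk1 : k = 0 ∨ k = 1 := by omega
  rcases hk1 with rfl | rfl
  · rw [pow_zero, Subgroup.index_eq_one] at hk
    have : Group.IsNilpotent G := hG.isNilpotent
    by_cases hbot : (⊤ : Subgroup G) = ⊥
    · intro a b
      have ha : a ∈ (⊤ : Subgroup G) := Subgroup.mem_top a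
      have hb : b ∈ (⊤ : Subgroup G) := Subgroup.mem_top b
      rw [hbot, Subgroup.mem_bot] at ha hb
      rw [ha, hb]
    · exfalso
      have := lcs_succ_lt_of_ne_bot (G := G) 0 hbot
      rw [zero_add, Subgroup.top_lowerCentralSeries_one, hk] at this
      exact lt_irrefl _ this
  · rw [pow_one] at hk
    have hcard : Nat.card (G ⧸ commutator G) = p := by
      rw [← Subgroup.index_eq_card]; exact hk
    have : IsCyclic (G ⧸ commutator G) := isCyclic_of_prime_card hcard
    exact comm_of_isCyclic_abelianization (Nat.card G) G rfl hG inferInstance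

/-- **class bound**: a group of order `p ^ m`, `m ≥ 2`, has `γ_m = 1`, i.e. class at most `m-1`. -/
theorem lcs_eq_bot_of_card {G : Type u} [Group G] [Finite G] {m : ℕ} (hm : 2 ≤ m)
    (hcard : Nat.card G = p ^ m) : (⊤ : Subgroup G).lowerCentralSeries (m - 1) = ⊥ := by
  have hG : IsPGroup p G := IsPGroup.of_card hcard
  by_contra hne
  have h1 : p ^ (m - 2 + 1) ≤ Nat.card ((⊤ : Subgroup G).lowerCentralSeries 1) := by
    apply pow_le_card_lcs_of_ne_bot hG (m - 2) 1
    have : 1 + (m - 2) = m - 1 := by omega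
    rw [this]; exact hne
  have hna : ¬ ∀ a b : G, a * b = b * a := by
    intro hab
    have : commutator G = ⊥ := commutator_eq_bot_of_comm hab
    rw [Subgroup.top_lowerCentralSeries_one, this, Subgroup.card_bot] at h1
    have : 1 < p ^ (m - 2 + 1) := Nat.one_lt_pow (by omega) hp.out.one_lt
    omega
  have h2 := sq_le_index_commutator hG hna
  rw [Subgroup.top_lowerCentralSeries_one] at h1
  have h3 := (commutator G).card_mul_index
  rw [hcard] at h3
  have h4 : p ^ (m - 2 + 1) * p ^ 2 ≤ p ^ m := by
    rw [← h3]; exact Nat.mul_le_mul h1 h2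
  rw [← pow_add] at h4
  have h5 : m < m - 2 + 1 + 2 := by omega
  have := Nat.pow_lt_pow_right hp.out.one_lt h5
  omega

/-- consequence for normal subgroups: if `G ⧸ N` has order `p ^ r`, `r ≥ 2`, then
`γ_r(G) ≤ N`. -/
theorem lcs_le_of_index {G : Type u} [Group G] [Finite G] (N : Subgroup G) [N.Normal] {r : ℕ}
    (hr : 2 ≤ r) (hN : N.index = p ^ r) : (⊤ : Subgroup G).lowerCentralSeries (r - 1) ≤ N := by
  have hcard : Nat.card (G ⧸ N) = p ^ r := by rw [← Subgroup.index_eq_card]; exact hN
  have h1 := lcs_eq_bot_of_card hr hcard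
  have h2 := Subgroup.map_lowerCentralSeries (⊤ : Subgroup G) (QuotientGroup.mk' N) (r - 1)
  rw [Subgroup.map_top_of_surjective _ (QuotientGroup.mk'_surjective N), h1] at h2
  rw [← QuotientGroup.ker_mk' N]
  exact (Subgroup.map_eq_bot_iff _).mp h2

end

end Cfsg.Agent.Lib.H22
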