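import Mathlib
import Cfsg.Prelude.Def_CaseTheorems
import Cfsg.Agent.Lib.H22.LowerCentralP
import Cfsg.Agent.Lib.H22.MaxClassNilp

/-!
# S3806 piece CARD: lower central factors of a `p`-group of maximal class (helper22)
-/

set_option autoImplicit false

namespace Cfsg.Agent.Lib.H22.MCS

open scoped commutatorElement

/-- CARD.  `|G| = p^n`, `n ≥ 3`, `γ_{n-1} ≠ 1` ⇒ `|γ_{i+1}| = p^(n-1-i)` for `1 ≤ i ≤ n-1`. -/
theorem card_lcs_of_maxclass {G : Type*} [Group G] [Finite G] (p : ℕ) [Fact p.Prime] {n : ℕ} (hn : 3 ≤ n)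
    (hcard : Nat.card G = p ^ n) (hmc : (⊤ : Subgroup G).lowerCentralSeries (n - 2) ≠ ⊥) (i : ℕ) (hi1 : 1 ≤ i)
    (hin : i ≤ n - 1) : Nat.card ↥((⊤ : Subgroup G).lowerCentralSeries i) = p ^ (n - 1 - i) := by
  have hpp : p.Prime := Fact.out
  have hG : IsPGroup p G := IsPGroup.of_card hcard
  have hnil : Group.IsNilpotent G := hG.isNilpotent
  -- nontriviality of the terms up to `n - 2`
  have hne : ∀ j : ℕ, j ≤ n - 2 → (⊤ : Subgroup G).lowerCentralSeries j ≠ ⊥ := by
    intro j hj hbot
    apply hmc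
    rw [eq_bot_iff, ← hbot]
    exact (⊤ : Subgroup G).lowerCentralSeries_antitone hj
  have hlast : (⊤ : Subgroup G).lowerCentralSeries (n - 1) = ⊥ :=
    Cfsg.Agent.Lib.H22.lcs_eq_bot_of_card (by omega) hcard
  -- `G` is not abelian
  have hna : ¬ ∀ a b : G, a * b = b * a := by
    intro hab
    apply hne 1 (by omega)
    rw [Subgroup.top_lowerCentralSeries_one, commutator_def, eq_bot_iff, Subgroup.commutator_le]
    intro a _ b _
    rw [Subgroup.mem_bot, commutatorElement_eq_one_iff_mul_comm]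
    exact hab a b
  -- upper bounds
  have hup : ∀ j : ℕ, 1 ≤ j → j ≤ n - 1 →
      Nat.card ↥((⊤ : Subgroup G).lowerCentralSeries j) * p ^ (j + 1) ≤ p ^ n := by
    intro j hj1
    induction j, hj1 using Nat.le_induction with
    | base =>
      intro _
      have h1 := Cfsg.Agent.Lib.H22.sq_le_index_commutator hG hna
      have h2 := Subgroup.card_mul_index (commutator G)
      rw [hcard] at h2
      rw [Subgroup.top_lowerCentralSeries_one, ← h2]
      exact Nat.mul_le_mul_left _ h1
    | succ j hj1 ih =>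
      intro hjn
      have h1 := ih (by omega)
      have hlt := Cfsg.Agent.Lib.H22.lcs_succ_lt_of_ne_bot j (hne j (by omega))
      have h2 := Cfsg.Agent.Lib.H22.prime_mul_card_le_of_lt hG hlt
      calc Nat.card ↥((⊤ : Subgroup G).lowerCentralSeries (j + 1)) * p ^ (j + 1 + 1)
          = (p * Nat.card ↥((⊤ : Subgroup G).lowerCentralSeries (j + 1))) * p ^ (j + 1) := by
            rw [pow_succ p (j + 1)]; ring
        _ ≤ Nat.card ↥((⊤ : Subgroup G).lowerCentralSeries j) * p ^ (j + 1) :=
            Nat.mul_le_mul_right _ h2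
        _ ≤ p ^ n := h1
  -- lower bounds
  have hlow : p ^ (n - 1 - i) ≤ Nat.card ↥((⊤ : Subgroup G).lowerCentralSeries i) := by
    rcases Nat.lt_or_ge i (n - 1) with hlt | hge
    · have h1 := Cfsg.Agent.Lib.H22.pow_le_card_lcs_of_ne_bot hG (n - 2 - i) i
        (by
          have : i + (n - 2 - i) = n - 2 := by omega
          rw [this]; exact hmc)
      have : n - 2 - i + 1 = n - 1 - i := by omega
      rw [this] at h1
      exact h1
    · have : n - 1 - i = 0 := by omega
      rw [this, pow_zero]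
      exact Nat.card_pos
  have h3 := hup i hi1 hin
  have h4 : p ^ n = p ^ (n - 1 - i) * p ^ (i + 1) := by
    rw [← pow_add]; congr 1; omega
  rw [h4] at h3
  have h5 := Nat.le_of_mul_le_mul_right h3 (pow_pos hpp.pos _)
  exact le_antisymm h5 hlow

/-- POW.  In a `p`-group of maximal class and order `≥ p³`, `G / G'` is elementary abelian of order `p²`:
`x^p ∈ G'`. -/
theorem pow_mem_commutator_of_maxclass {G : Type*} [Group G] [Finite G] (p : ℕ) [Fact p.Prime] {n : ℕ} (hn : 3 ≤ n)
    (hcard : Nat.card G = p ^ n) (hmc : (⊤ : Subgroup G).lowerCentralSeries (n - 2) ≠ ⊥) (x : G) :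
    x ^ p ∈ (⊤ : Subgroup G).lowerCentralSeries 1 := by
  have hpp : p.Prime := Fact.out
  have hG : IsPGroup p G := IsPGroup.of_card hcard
  have hc1 := card_lcs_of_maxclass p hn hcard hmc 1 le_rfl (by omega)
  rw [Subgroup.top_lowerCentralSeries_one] at hc1 ⊢
  -- the abelianization has order `p ^ 2`
  have hQ : Nat.card (G ⧸ commutator G) = p ^ 2 := by
    have h2 := Subgroup.card_eq_card_quotient_mul_card_subgroup (commutator G)
    rw [hcard, hc1] at h2
    have h3 : p ^ n = p ^ 2 * p ^ (n - 1 - 1) := by rw [← pow_add]; congr 1; omega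
    rw [h3] at h2
    exact (Nat.eq_of_mul_eq_mul_right (pow_pos hpp.pos _) h2).symm
  -- `G` is not abelian
  have hna : ¬ ∀ a b : G, a * b = b * a := by
    intro hab
    have hbot : commutator G = ⊥ := by
      rw [commutator_def, eq_bot_iff, Subgroup.commutator_le]
      intro a _ b _
      rw [Subgroup.mem_bot, commutatorElement_eq_one_iff_mul_comm]
      exact hab a b
    have h1 : (⊤ : Subgroup G).lowerCentralSeries 1 = ⊥ := by
      rw [Subgroup.top_lowerCentralSeries_one]; exact hbot
    apply hmc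
    rw [eq_bot_iff, ← h1]
    exact (⊤ : Subgroup G).lowerCentralSeries_antitone (by omega)
  rw [← QuotientGroup.eq_one_iff, QuotientGroup.mk_pow]
  set q : G ⧸ commutator G := (x : G ⧸ commutator G) with hq
  -- the order of `q` divides `p ^ 2` and is not `p ^ 2`
  have hdvd : orderOf q ∣ p ^ 2 := by rw [← hQ]; exact orderOf_dvd_natCard q
  obtain ⟨j, hj2, hj⟩ := (Nat.dvd_prime_pow hpp).mp hdvd
  have hj1 : j ≤ 1 := by
    by_contra hlt
    have hj2' : j = 2 := by omega
    apply hna
    have hcyc : IsCyclic (G ⧸ commutator G) := by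
      apply isCyclic_of_orderOf_eq_card q
      rw [hj, hj2', hQ]
    exact Cfsg.Agent.Lib.H22.comm_of_isCyclic_abelianization (Nat.card G) G rfl hG hcyc
  apply orderOf_dvd_iff_pow_eq_one.mp
  rw [hj]
  exact pow_dvd_pow p hj1 |>.trans (by rw [pow_one])

end Cfsg.Agent.Lib.H22.MCS
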