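import Mathlib
import Cfsg.Agent.Lib.H25.MCSEXP

/-!
# S5239 (pearls in 3-groups) — shared definitions (architect helper22)

`L G i = γ_{i+1}(G)` (Mathlib's `(⊤ : Subgroup G).lowerCentralSeries i`), the hypothesis bundle `P3 G n e`
(`|G| = 3^n`, `e^3 = 1`, `|C_G(e)| = 9`), the two-step centralizer `S1 G = C_G(γ₂/γ₄)`, the filtration
`M G 0 = S1 G`, `M G i = L G i` (`i ≥ 1`), and the abstract notion `Fil M m` of a filtration with factors of order `≤ 3`.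
-/

set_option autoImplicit false

namespace Cfsg.Agent.Lib.H22.Pearl

/-- `L G i = γ_{i+1}(G)`. -/
abbrev L (G : Type*) [Group G] (i : ℕ) : Subgroup G := (⊤ : Subgroup G).lowerCentralSeries i

/-- `|G| = 3^n`, `e^3 = 1`, `|C_G(e)| = 9`. -/
structure P3 (G : Type*) [Group G] (n : ℕ) (e : G) : Prop where
  card : Nat.card G = 3 ^ n
  he : e ^ 3 = 1
  hC : Nat.card ↥(Subgroup.centralizer ({e} : Set G)) = 9

/-- The two-step centralizer `S₁ = C_G(γ₂/γ₄) = {g | ∀ x ∈ γ₂, [x,g] ∈ γ₄}`. -/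
def S1 (G : Type*) [Group G] : Subgroup G := Cfsg.Agent.Lib.H25.MCS.mcsD G 1

theorem mem_S1 {G : Type*} [Group G] {g : G} :
    g ∈ S1 G ↔ ∀ x ∈ L G 1, x * g * x⁻¹ * g⁻¹ ∈ L G 3 := by
  unfold S1
  rw [Cfsg.Agent.Lib.H25.MCS.mem_mcsD]
  rfl

/-- The filtration `S₁ ≥ γ₂ ≥ γ₃ ≥ …`. -/
def M (G : Type*) [Group G] : ℕ → Subgroup G
  | 0 => S1 G
  | (i + 1) => L G (i + 1)

@[simp] theorem M_zero (G : Type*) [Group G] : M G 0 = S1 G := rfl
@[simp] theorem M_succ (G : Type*) [Group G] (i : ℕ) : M G (i + 1) = L G (i + 1) := rfl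

/-- An abstract filtration `M 0 ≥ M 1 ≥ … ≥ M m = ⊥` whose factors have order at most `3` in the sense of `idx`. -/
structure Fil {G : Type*} [Group G] (M : ℕ → Subgroup G) (m : ℕ) : Prop where
  anti : ∀ i, M (i + 1) ≤ M i
  bot : M m = ⊥
  idx : ∀ i, i < m → ∀ g ∈ M i, ∀ w ∈ M i, w ∉ M (i + 1) → ∃ j : ℕ, g * w ^ j ∈ M (i + 1)

end Cfsg.Agent.Lib.H22.Pearl
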