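import Mathlib

/-! S3777 (Vaughan-Lee), generic breadth basics.
(b1) centraliser index is monotone for subgroups; (b2) for quotients;
(b3) a central subgroup of index `p^lam` (`lam ≥ 1`) forces all centraliser indices `≤ p^(lam-1)`. -/

set_option autoImplicit false

namespace Cfsg.Agent.Lib.H22.S3777Basics

open Subgroup
open scoped commutatorElement

/-- The centraliser in `H` of `h : H` is the centraliser in `G` intersected with `H`. -/
theorem centralizer_subtype_eq {G : Type*} [Group G] (H : Subgroup G) (h : H) :
    centralizer ({h} : Set H) = (centralizer ({(h : G)} : Set G)).subgroupOf H := by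
  ext x
  simp only [mem_centralizer_iff, Set.mem_singleton_iff, forall_eq, mem_subgroupOf]
  constructor
  · intro hx
    have := congrArg Subtype.val hx
    simpa using this
  · intro hx
    apply Subtype.ext
    simpa using hx

/-- (b1), `relIndex` form. -/
theorem relIndex_centralizer_le {G : Type*} [Group G] [Finite G] (H : Subgroup G) (g : G) :
    (centralizer ({g} : Set G)).relIndex H ≤ (centralizer ({g} : Set G)).index := by
  have h := relIndex_le_of_le_right (H := centralizer ({g} : Set G)) (le_top : H ≤ ⊤)
    (by rw [relIndex_top_right]; exact index_ne_zero_of_finite)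
  rwa [relIndex_top_right] at h

/-- (b1) centraliser index is monotone for subgroups. -/
theorem index_centralizer_subgroup_le {G : Type*} [Group G] [Finite G] (H : Subgroup G) (h : H) :
    (centralizer ({h} : Set H)).index ≤ (centralizer ({(h : G)} : Set G)).index := by
  rw [centralizer_subtype_eq]
  exact relIndex_centralizer_le H (h : G)

/-- (b1) in the `relIndex` form: the index in `H` is the relative index. -/
theorem index_centralizer_subgroup_eq {G : Type*} [Group G] (H : Subgroup G) (h : H) :
    (centralizer ({h} : Set H)).index = (centralizer ({(h : G)} : Set G)).relIndex H := by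
  rw [centralizer_subtype_eq]; rfl

/-- the image of the centraliser lies in the centraliser of the image -/
theorem map_centralizer_le {G : Type*} [Group G] (N : Subgroup G) [N.Normal] (g : G) :
    (centralizer ({g} : Set G)).map (QuotientGroup.mk' N) ≤
      centralizer ({(g : G ⧸ N)} : Set (G ⧸ N)) := by
  rintro _ ⟨x, hx, rfl⟩
  rw [SetLike.mem_coe, mem_centralizer_iff] at hx
  rw [mem_centralizer_iff]
  intro q hq
  rw [Set.mem_singleton_iff] at hq
  subst hq
  have := hx g (Set.mem_singleton g)
  simp only [QuotientGroup.mk'_apply]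
  rw [← QuotientGroup.mk_mul, ← QuotientGroup.mk_mul, this]

/-- (b2) centraliser index is monotone for quotients. -/
theorem index_centralizer_quotient_le {G : Type*} [Group G] [Finite G] (N : Subgroup G) [N.Normal]
    (g : G) :
    (centralizer ({(g : G ⧸ N)} : Set (G ⧸ N))).index ≤ (centralizer ({g} : Set G)).index := by
  have h1 : (centralizer ({(g : G ⧸ N)} : Set (G ⧸ N))).index ∣
      ((centralizer ({g} : Set G)).map (QuotientGroup.mk' N)).index :=
    index_dvd_of_le (map_centralizer_le N g)
  have h2 : ((centralizer ({g} : Set G)).map (QuotientGroup.mk' N)).index ∣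
      (centralizer ({g} : Set G)).index :=
    index_map_dvd _ (QuotientGroup.mk'_surjective N)
  exact Nat.le_of_dvd (Nat.pos_of_ne_zero index_ne_zero_of_finite) (h1.trans h2)

/-- (b3) a central subgroup of index `p^lam`, `lam ≥ 1`: all centraliser indices are `≤ p^(lam-1)`. -/
theorem index_centralizer_le_of_central {Q : Type*} [Group Q] [Finite Q] {p : ℕ} (hp : p.Prime)
    (C : Subgroup Q) (hC : C ≤ center Q) (lam : ℕ) (hidx : C.index = p ^ lam) (hlam : 1 ≤ lam)
    (q : Q) : (centralizer ({q} : Set Q)).index ≤ p ^ (lam - 1) := by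
  have hle : C ≤ centralizer ({q} : Set Q) := fun c hc => by
    rw [mem_centralizer_iff]
    intro x hx
    rw [Set.mem_singleton_iff] at hx
    subst hx
    exact ((mem_center_iff.mp (hC hc)) x)
  have hdvd : (centralizer ({q} : Set Q)).index ∣ p ^ lam := hidx ▸ index_dvd_of_le hle
  obtain ⟨k, hk, hkeq⟩ := (Nat.dvd_prime_pow hp).1 hdvd
  rcases Nat.lt_or_ge k lam with hlt | hge
  · rw [hkeq]
    exact Nat.pow_le_pow_right hp.pos (by omega)
  · -- `k = lam`: then `C = centralizer {q}`, so `q ∈ C` is central and the index is `1`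
    have hk' : k = lam := le_antisymm hk hge
    have hrel : C.relIndex (centralizer ({q} : Set Q)) = 1 := by
      have h := relIndex_mul_index hle
      rw [hidx, hkeq, hk'] at h
      have hpos : 0 < p ^ lam := pow_pos hp.pos lam
      exact Nat.eq_of_mul_eq_mul_right hpos (by rw [h, one_mul])
    have hqC : q ∈ C := by
      have : centralizer ({q} : Set Q) ≤ C := relIndex_eq_one.mp hrel
      apply this
      rw [mem_centralizer_iff]
      intro x hx
      rw [Set.mem_singleton_iff] at hx
      subst hx
      rfl
    have htop : centralizer ({q} : Set Q) = ⊤ := by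
      rw [eq_top_iff]
      intro x _
      rw [mem_centralizer_iff]
      intro y hy
      rw [Set.mem_singleton_iff] at hy
      subst hy
      exact ((mem_center_iff.mp (hC hqC)) x).symm
    rw [htop, index_top]
    exact Nat.one_le_pow _ _ hp.pos

/-- (b3) on a quotient: `D ≤ A` normal in `M`, `⁅A, ⊤⁆ ≤ D`, `|M : A| = p^lam`, `lam ≥ 1`:
every element of `M ⧸ D` has centraliser index `≤ p^(lam-1)`. -/
theorem index_centralizer_quotient_le_of_commutator_le {M : Type*} [Group M] [Finite M] {p : ℕ}
    (hp : p.Prime) (A D : Subgroup M) [D.Normal] (hDA : D ≤ A) (hcomm : ⁅A, (⊤ : Subgroup M)⁆ ≤ D)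
    (lam : ℕ) (hidx : A.index = p ^ lam) (hlam : 1 ≤ lam) (q : M ⧸ D) :
    (centralizer ({q} : Set (M ⧸ D))).index ≤ p ^ (lam - 1) := by
  refine index_centralizer_le_of_central hp (A.map (QuotientGroup.mk' D)) ?_ lam ?_ hlam q
  · rintro _ ⟨a, ha, rfl⟩
    rw [mem_center_iff]
    intro x
    obtain ⟨m, rfl⟩ := QuotientGroup.mk'_surjective D x
    simp only [QuotientGroup.mk'_apply]
    rw [← QuotientGroup.mk_mul, ← QuotientGroup.mk_mul, QuotientGroup.eq]
    -- `(m * a)⁻¹ * (a * m) = ⁅a⁻¹... ` lies in `D`
    have h1 : ⁅a⁻¹, m⁻¹⁆ ∈ D :=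
      hcomm (commutator_mem_commutator (A.inv_mem ha) (mem_top _))
    have h2 : (m * a)⁻¹ * (a * m) = ⁅a⁻¹, m⁻¹⁆ := by
      simp [commutatorElement_def, mul_assoc]
    rw [h2]; exact h1
  · rw [index_map_eq _ (QuotientGroup.mk'_surjective D) (by rw [QuotientGroup.ker_mk']; exact hDA)]
    exact hidx

end Cfsg.Agent.Lib.H22.S3777Basics
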