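import Mathlib

/-!
helper22: S4415, BAD block, (B2) LEMMA E, generic group-theoretic core.

`Γ` normalises the finite `2`-group `C ≤ Γ`; every `Γ`-normal abelian subgroup of `C` lies in `{1, z}`
(`z * z = 1`) and `C` is not contained in `{1, z}`.  Then `Z(C) = {1, z}` and the preimage `X` of
`Ω₁ Z(C/<z>)` is a `Γ`-normal "extraspecial" subgroup with centre `{1, z}`.
-/

set_option autoImplicit false

namespace Cfsg.Agent.Lib.H22.S4415E

variable {G : Type*} [Group G]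

/-- The centre of `C`, as a subgroup of `G`. -/
def cen (C : Subgroup G) : Subgroup G where
  carrier := {c | c ∈ C ∧ ∀ d ∈ C, d * c = c * d}
  one_mem' := ⟨C.one_mem, fun d _ => by simp⟩
  mul_mem' := by
    rintro a b ⟨ha, ha'⟩ ⟨hb, hb'⟩
    refine ⟨C.mul_mem ha hb, fun d hd => ?_⟩
    calc d * (a * b) = (d * a) * b := by group
      _ = (a * d) * b := by rw [ha' d hd]
      _ = a * (d * b) := by group
      _ = a * (b * d) := by rw [hb' d hd]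
      _ = a * b * d := by group
  inv_mem' := by
    rintro a ⟨ha, ha'⟩
    refine ⟨C.inv_mem ha, fun d hd => ?_⟩
    have h := ha' d hd
    calc d * a⁻¹ = a⁻¹ * (a * d) * a⁻¹ := by group
      _ = a⁻¹ * (d * a) * a⁻¹ := by rw [h]
      _ = a⁻¹ * d := by group

theorem mem_cen {C : Subgroup G} {c : G} : c ∈ cen C ↔ c ∈ C ∧ ∀ d ∈ C, d * c = c * d := Iff.rfl

theorem cen_le (C : Subgroup G) : cen C ≤ C := fun _ h => h.1

theorem cen_comm (C : Subgroup G) : ∀ a ∈ cen C, ∀ a' ∈ cen C, a * a' = a' * a :=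
  fun _ _ a' ha' => ((ha'.2 _ (cen_le C ‹_›)))

/-- The centre of a `Γ`-normal subgroup is `Γ`-normal. -/
theorem cen_normal (Γ C : Subgroup G) (hCn : ∀ g ∈ Γ, ∀ c ∈ C, g * c * g⁻¹ ∈ C) :
    ∀ g ∈ Γ, ∀ a ∈ cen C, g * a * g⁻¹ ∈ cen C := by
  intro g hg a ha
  refine ⟨hCn g hg a ha.1, fun d hd => ?_⟩
  have hd' : g⁻¹ * d * g⁻¹⁻¹ ∈ C := hCn g⁻¹ (Γ.inv_mem hg) d hd
  have h := ha.2 _ hd'
  calc d * (g * a * g⁻¹) = g * ((g⁻¹ * d * g⁻¹⁻¹) * a) * g⁻¹ := by group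
    _ = g * (a * (g⁻¹ * d * g⁻¹⁻¹)) * g⁻¹ := by rw [h]
    _ = g * a * g⁻¹ * d := by group

/-- The subgroup `{1, z}` for `z * z = 1`. -/
def zz (z : G) (hz2 : z * z = 1) : Subgroup G where
  carrier := {a | a = 1 ∨ a = z}
  one_mem' := Or.inl rfl
  mul_mem' := by
    rintro a b (rfl | rfl) (rfl | rfl)
    · left; simp
    · right; simp
    · right; simp
    · left; exact hz2
  inv_mem' := by
    rintro a (rfl | rfl)
    · left; simp
    · right; exact inv_eq_of_mul_eq_one_left hz2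

theorem mem_zz {z : G} {hz2 : z * z = 1} {a : G} : a ∈ zz z hz2 ↔ a = 1 ∨ a = z := Iff.rfl

/-- The preimage in `C` of `Ω₁ Z(C/<z>)`. -/
def XE (C : Subgroup G) (z : G) (hz2 : z * z = 1) (hzc : ∀ c ∈ C, c * z = z * c) : Subgroup G where
  carrier := {x | x ∈ C ∧ (∀ c ∈ C, c * x * c⁻¹ * x⁻¹ ∈ zz z hz2) ∧ x * x ∈ zz z hz2}
  one_mem' := ⟨C.one_mem, fun c _ => by simp, by simp⟩
  mul_mem' := by
    rintro x y ⟨hx, hx1, hx2⟩ ⟨hy, hy1, hy2⟩
    -- elements of zz commute with elements of C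
    have hcz : ∀ w ∈ zz z hz2, ∀ c ∈ C, c * w = w * c := by
      rintro w (rfl | rfl) c hc
      · simp
      · exact hzc c hc
    refine ⟨C.mul_mem hx hy, fun c hc => ?_, ?_⟩
    · have h1 := hx1 c hc
      have h2 := hy1 c hc
      have h3 : x * (c * y * c⁻¹ * y⁻¹) * x⁻¹ = c * y * c⁻¹ * y⁻¹ := by
        rw [hcz _ h2 x hx]; group
      have : c * (x * y) * c⁻¹ * (x * y)⁻¹
          = (c * x * c⁻¹ * x⁻¹) * (x * (c * y * c⁻¹ * y⁻¹) * x⁻¹) := by group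
      rw [this, h3]
      exact (zz z hz2).mul_mem h1 h2
    · have hw := hx1 y hy
      have h3 : x * (y * x * y⁻¹ * x⁻¹) = (y * x * y⁻¹ * x⁻¹) * x := hcz _ hw x hx
      have : x * y * (x * y) = (x * (y * x * y⁻¹ * x⁻¹)) * x * (y * y) := by group
      rw [this, h3]
      have : y * x * y⁻¹ * x⁻¹ * x * x * (y * y) = (y * x * y⁻¹ * x⁻¹) * (x * x) * (y * y) := by
        group
      rw [this]
      exact (zz z hz2).mul_mem ((zz z hz2).mul_mem hw hx2) hy2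
  inv_mem' := by
    rintro x ⟨hx, hx1, hx2⟩
    have hcz : ∀ w ∈ zz z hz2, ∀ c ∈ C, c * w = w * c := by
      rintro w (rfl | rfl) c hc
      · simp
      · exact hzc c hc
    refine ⟨C.inv_mem hx, fun c hc => ?_, ?_⟩
    · have h1 := (zz z hz2).inv_mem (hx1 c hc)
      have h3 : x⁻¹ * (c * x * c⁻¹ * x⁻¹)⁻¹ = (c * x * c⁻¹ * x⁻¹)⁻¹ * x⁻¹ :=
        hcz _ h1 x⁻¹ (C.inv_mem hx)
      have : c * x⁻¹ * c⁻¹ * x⁻¹⁻¹ = (x⁻¹ * (c * x * c⁻¹ * x⁻¹)⁻¹) * x := by group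
      rw [this, h3]
      have : (c * x * c⁻¹ * x⁻¹)⁻¹ * x⁻¹ * x = (c * x * c⁻¹ * x⁻¹)⁻¹ := by group
      rw [this]
      exact h1
    · have : x⁻¹ * x⁻¹ = (x * x)⁻¹ := by group
      rw [this]
      exact (zz z hz2).inv_mem hx2

theorem mem_XE {C : Subgroup G} {z : G} {hz2 : z * z = 1} {hzc : ∀ c ∈ C, c * z = z * c} {x : G} :
    x ∈ XE C z hz2 hzc ↔
      x ∈ C ∧ (∀ c ∈ C, c * x * c⁻¹ * x⁻¹ ∈ zz z hz2) ∧ x * x ∈ zz z hz2 := Iff.rfl

/-- **LEMMA E** (generic form). -/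
theorem lemmaE (Γ C : Subgroup G) [Finite C] (z : G) (hz2 : z * z = 1) (hC2 : IsPGroup 2 C)
    (hCΓ : C ≤ Γ) (hCn : ∀ g ∈ Γ, ∀ c ∈ C, g * c * g⁻¹ ∈ C)
    (hB1 : ∀ A : Subgroup G, A ≤ C → (∀ g ∈ Γ, ∀ a ∈ A, g * a * g⁻¹ ∈ A) →
      (∀ a ∈ A, ∀ a' ∈ A, a * a' = a' * a) → ∀ a ∈ A, a = 1 ∨ a = z)
    (hCz : ∃ c ∈ C, c ≠ 1 ∧ c ≠ z) :
    ∃ X : Subgroup G, X ≤ C ∧ (∀ g ∈ Γ, ∀ x ∈ X, g * x * g⁻¹ ∈ X) ∧ z ∈ X ∧ z ≠ 1 ∧
      (∀ c ∈ C, c * z = z * c) ∧ (∀ g ∈ Γ, g * z * g⁻¹ = z) ∧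
      (∀ x ∈ X, ∀ c ∈ C, c * x * c⁻¹ = x ∨ c * x * c⁻¹ = z * x) ∧
      (∀ x ∈ X, x * x = 1 ∨ x * x = z) ∧
      (∀ x ∈ X, (∀ y ∈ X, x * y = y * x) → x = 1 ∨ x = z) ∧
      ∃ x ∈ X, x ≠ 1 ∧ x ≠ z := by
  have : Fact (Nat.Prime 2) := ⟨Nat.prime_two⟩
  obtain ⟨c₀, hc₀C, hc₀1, hc₀z⟩ := hCz
  -- Step 1: the centre of `C` is `{1, z}`.
  have hcen : ∀ a ∈ cen C, a = 1 ∨ a = z :=
    hB1 (cen C) (cen_le C) (cen_normal Γ C hCn) (cen_comm C)
  have : Nontrivial C := ⟨⟨⟨c₀, hc₀C⟩, 1, fun h => hc₀1 (congrArg Subtype.val h)⟩⟩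
  have hnt : Nontrivial (Subgroup.center C) := hC2.center_nontrivial
  obtain ⟨a₀, ha₀⟩ := exists_ne (1 : Subgroup.center C)
  have ha₀cen : ((a₀ : C) : G) ∈ cen C := by
    refine ⟨(a₀ : C).2, fun d hd => ?_⟩
    have := (Subgroup.mem_center_iff.mp a₀.2) ⟨d, hd⟩
    exact congrArg Subtype.val this
  have ha₀ne : ((a₀ : C) : G) ≠ 1 := by
    intro h
    apply ha₀
    apply Subtype.ext
    apply Subtype.ext
    simpa using h
  have ha₀z : ((a₀ : C) : G) = z := (hcen _ ha₀cen).resolve_left ha₀ne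
  have hzcen : z ∈ cen C := ha₀z ▸ ha₀cen
  have hz1 : z ≠ 1 := ha₀z ▸ ha₀ne
  have hzC : z ∈ C := hzcen.1
  have hzc : ∀ c ∈ C, c * z = z * c := hzcen.2
  have hzΓ : ∀ g ∈ Γ, g * z * g⁻¹ = z := by
    intro g hg
    have h1 := cen_normal Γ C hCn g hg z hzcen
    refine (hcen _ h1).resolve_left ?_
    intro h
    apply hz1
    have : z = g⁻¹ * (g * z * g⁻¹) * g := by group
    rw [this, h]; group
  have hzzΓ : ∀ g ∈ Γ, ∀ w ∈ zz z hz2, g * w * g⁻¹ ∈ zz z hz2 := by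
    rintro g hg w (rfl | rfl)
    · left; group
    · right; exact hzΓ g hg
  -- Step 2: the subgroup `X`.
  set X : Subgroup G := XE C z hz2 hzc with hX
  have hXC : X ≤ C := fun _ h => h.1
  have hXn : ∀ g ∈ Γ, ∀ x ∈ X, g * x * g⁻¹ ∈ X := by
    rintro g hg x ⟨hx, hx1, hx2⟩
    refine ⟨hCn g hg x hx, fun c hc => ?_, ?_⟩
    · have hc' : g⁻¹ * c * g⁻¹⁻¹ ∈ C := hCn g⁻¹ (Γ.inv_mem hg) c hc
      have h1 := hzzΓ g hg _ (hx1 _ hc')
      have : c * (g * x * g⁻¹) * c⁻¹ * (g * x * g⁻¹)⁻¹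
          = g * ((g⁻¹ * c * g⁻¹⁻¹) * x * (g⁻¹ * c * g⁻¹⁻¹)⁻¹ * x⁻¹) * g⁻¹ := by group
      rw [this]; exact h1
    · have h1 := hzzΓ g hg _ hx2
      have : g * x * g⁻¹ * (g * x * g⁻¹) = g * (x * x) * g⁻¹ := by group
      rw [this]; exact h1
  have hzX : z ∈ X := by
    refine ⟨hzC, fun c hc => ?_, Or.inl hz2⟩
    left
    rw [hzc c hc]; group
  -- Step 3: the centre of `X` is `{1, z}`.
  have hXcen : ∀ x ∈ X, (∀ y ∈ X, x * y = y * x) → x = 1 ∨ x = z := by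
    intro x hx hxy
    have hxc : x ∈ cen X := ⟨hx, fun d hd => (hxy d hd).symm⟩
    exact hB1 (cen X) ((cen_le X).trans hXC) (cen_normal Γ X hXn) (cen_comm X) x hxc
  -- Step 4: `X` is bigger than `{1, z}`.
  have hbig : ∃ x ∈ X, x ≠ 1 ∧ x ≠ z := by
    let Zs : Subgroup C := (zz z hz2).subgroupOf C
    have hZn : Zs.Normal := by
      refine ⟨fun n hn g => ?_⟩
      rw [Subgroup.mem_subgroupOf] at hn ⊢
      have hcomm : (g : G) * (n : G) = (n : G) * (g : G) := by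
        rcases hn with h | h
        · rw [h]; simp
        · rw [h]; exact hzc _ g.2
      have : ((g * n * g⁻¹ : C) : G) = (n : G) := by
        push_cast
        rw [hcomm]; group
      rw [this]; exact hn
    have hQ2 : IsPGroup 2 (C ⧸ Zs) := hC2.to_quotient Zs
    have hc₀Q : ((⟨c₀, hc₀C⟩ : C) : C ⧸ Zs) ≠ 1 := by
      intro h
      rw [QuotientGroup.eq_one_iff, Subgroup.mem_subgroupOf] at h
      rcases h with h | h
      · exact hc₀1 h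
      · exact hc₀z h
    have : Nontrivial (C ⧸ Zs) := ⟨⟨_, 1, hc₀Q⟩⟩
    have : Nontrivial (Subgroup.center (C ⧸ Zs)) := hQ2.center_nontrivial
    have hcZ2 : IsPGroup 2 (Subgroup.center (C ⧸ Zs)) := hQ2.to_subgroup _
    obtain ⟨n, hn0, hn⟩ := hcZ2.nontrivial_iff_card.mp inferInstance
    have hdvd : 2 ∣ Nat.card (Subgroup.center (C ⧸ Zs)) := hn.symm ▸ dvd_pow_self _ (ne_of_gt hn0)
    obtain ⟨q, hq⟩ := exists_prime_orderOf_dvd_card' 2 hdvd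
    obtain ⟨y, hy⟩ := QuotientGroup.mk_surjective (q : C ⧸ Zs)
    have hqq : (q : C ⧸ Zs) * (q : C ⧸ Zs) = 1 := by
      have h1 : q ^ 2 = 1 := by rw [← hq]; exact pow_orderOf_eq_one q
      have h2 : ((q ^ 2 : Subgroup.center (C ⧸ Zs)) : C ⧸ Zs) = 1 := by rw [h1]; rfl
      simpa [pow_two] using h2
    have hq1 : (q : C ⧸ Zs) ≠ 1 := by
      intro h
      have : q = 1 := Subtype.ext h
      rw [this, orderOf_one] at hq
      exact absurd hq (by norm_num)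
    have hyX : (y : G) ∈ X := by
      refine ⟨y.2, fun c hc => ?_, ?_⟩
      · have hcen' := Subgroup.mem_center_iff.mp q.2 ((⟨c, hc⟩ : C) : C ⧸ Zs)
        have h1 : (((⟨c, hc⟩ : C) * y * (⟨c, hc⟩ : C)⁻¹ * y⁻¹ : C) : C ⧸ Zs) = 1 := by
          simp only [QuotientGroup.mk_mul, QuotientGroup.mk_inv]
          rw [hy, hcen']
          group
        rw [QuotientGroup.eq_one_iff, Subgroup.mem_subgroupOf] at h1
        simpa using h1
      · have h1 : ((y * y : C) : C ⧸ Zs) = 1 := by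
          simp only [QuotientGroup.mk_mul]
          rw [hy]; exact hqq
        rw [QuotientGroup.eq_one_iff, Subgroup.mem_subgroupOf] at h1
        simpa using h1
    refine ⟨(y : G), hyX, ?_, ?_⟩
    · intro h
      apply hq1
      rw [← hy, QuotientGroup.eq_one_iff, Subgroup.mem_subgroupOf]
      exact Or.inl h
    · intro h
      apply hq1
      rw [← hy, QuotientGroup.eq_one_iff, Subgroup.mem_subgroupOf]
      exact Or.inr h
  refine ⟨X, hXC, hXn, hzX, hz1, hzc, hzΓ, ?_, ?_, hXcen, hbig⟩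
  · rintro x ⟨_, hx1, _⟩ c hc
    rcases hx1 c hc with h | h
    · left
      have : c * x * c⁻¹ = (c * x * c⁻¹ * x⁻¹) * x := by group
      rw [this, h, one_mul]
    · right
      have : c * x * c⁻¹ = (c * x * c⁻¹ * x⁻¹) * x := by group
      rw [this, h]
  · rintro x ⟨_, _, hx2⟩
    exact hx2

end Cfsg.Agent.Lib.H22.S4415E
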