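import Cfsg.Agent.Lib.H10.S4415BadDefs
import Cfsg.Agent.Lib.H22.S4415E

/-!
helper22: S4415, BAD block, piece `B2Stmt` (LEMMA E+), in the exact shape of `Lib/H10/S4415BadDefs`.

Route: `N` of minimal order among the `R<b>`-normal subgroups of `C` not inside `{1,z}`; `N' < N`
(solvable) so `[g,c] ∈ {1,z}` on `N`; the elements of `N` with `g ^ m = 1` (`m` the odd part of
`|N|`) are central in `N` and form an `R<b>`-normal subgroup of odd order, trivial by `OddTriv`;
so `N` is a `2`-group and the generic `H22.S4415E.lemmaE` applies.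
-/

set_option autoImplicit false

namespace Cfsg.Agent.Lib.H22.S4415B2

open Cfsg.Agent.Lib.H10.S4415

theorem neg_ne_self {E : Type*} [AddCommGroup E] [Module (ZMod 3) E] {w : E} (hw : w ≠ 0) :
    -w ≠ w := by
  intro h
  have h2 : w + w = 0 := by
    calc w + w = -w + w := by rw [h]
      _ = 0 := neg_add_cancel w
  have h3 : (3 : ZMod 3) • w = 0 := by
    have : (3 : ZMod 3) = 0 := by decide
    rw [this, zero_smul]
  apply hw
  have h4 : (3 : ZMod 3) • w = w + w + w := by
    have : (3 : ZMod 3) = 1 + 1 + 1 := by norm_num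
    rw [this, add_smul, add_smul, one_smul]
  rw [h4, h2, zero_add] at h3
  exact h3

theorem b2 : B2Stmt := by
  intro S _ _ E _ _ _ ρ R b W z hL hOdd hAb hzR hzneg hWne C hCR hCn hCnot
  classical
  have hRΓ : R ≤ RB R b := le_sup_left
  have hzΓ : z ∈ RB R b := hRΓ hzR
  have hmul : ∀ a c : S, ∀ w : E, ρ (a * c) w = ρ a (ρ c w) := by
    intro a c w; rw [map_mul]; rfl
  have hone : ∀ w : E, ρ 1 w = w := by
    intro w; rw [map_one]; rfl
  -- basic facts about `z`
  have hz1 : z ≠ 1 := by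
    intro h
    obtain ⟨w, hwW, hw⟩ := hWne
    have h1 := hzneg w hwW
    rw [h, hone] at h1
    exact neg_ne_self hw h1.symm
  have hfaith1 : ∀ a ∈ RB R b, (∀ w ∈ W, ρ a w = w) → a = 1 := hL.faithful
  have hz2 : z * z = 1 := by
    apply hfaith1 _ ((RB R b).mul_mem hzΓ hzΓ)
    intro w hw
    rw [hmul, hzneg w hw, map_neg, hzneg w hw, neg_neg]
  have hnegz : ∀ a ∈ RB R b, (∀ w ∈ W, ρ a w = -w) → a = z := by
    intro a ha h
    have h1 : a * z = 1 := by
      apply hfaith1 _ ((RB R b).mul_mem ha hzΓ)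
      intro w hw
      rw [hmul, hzneg w hw, map_neg, h w hw, neg_neg]
    calc a = a * (z * z) := by rw [hz2, mul_one]
      _ = (a * z) * z := by group
      _ = z := by rw [h1, one_mul]
  have hzcent : ∀ g ∈ RB R b, g * z * g⁻¹ = z := by
    intro g hg
    apply hnegz _ ((RB R b).mul_mem ((RB R b).mul_mem hg hzΓ) ((RB R b).inv_mem hg))
    intro w hw
    have hw' : ρ g⁻¹ w ∈ W := hL.W_inv g⁻¹ ((RB R b).inv_mem hg) w hw
    rw [hmul, hmul, hzneg _ hw', map_neg, ← hmul, mul_inv_cancel, hone]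
  have hzcomm : ∀ g ∈ RB R b, g * z = z * g := by
    intro g hg
    have h := hzcent g hg
    calc g * z = (g * z * g⁻¹) * g := by group
      _ = z * g := by rw [h]
  have hB1' : ∀ A : Subgroup S, A ≤ R → (∀ g ∈ RB R b, ∀ a ∈ A, g * a * g⁻¹ ∈ A) →
      (∀ a ∈ A, ∀ a' ∈ A, a * a' = a' * a) → ∀ a ∈ A, a = 1 ∨ a = z := by
    intro A hAR hAn hAab a ha
    rcases hAb A hAR hAn hAab a ha with h | h
    · left; exact hfaith1 a (hRΓ (hAR ha)) h
    · right; exact hnegz a (hRΓ (hAR ha)) h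
  -- a minimal member of the family
  let 𝒮 : Set (Subgroup S) := {N | N ≤ C ∧ NormBy (RB R b) N ∧ ¬ ∀ c ∈ N, c = 1 ∨ c = z}
  have hCS : C ∈ 𝒮 := ⟨le_rfl, hCn, hCnot⟩
  obtain ⟨N, hN𝒮, hNmin⟩ :=
    Set.exists_min_image 𝒮 (fun N => Nat.card N) (Set.toFinite 𝒮) ⟨C, hCS⟩
  obtain ⟨hNC, hNn, hNnot⟩ := hN𝒮
  have hNR : N ≤ R := hNC.trans hCR
  have hNΓ : N ≤ RB R b := hNR.trans hRΓ
  have hprop : ∀ D : Subgroup S, D ≤ N → NormBy (RB R b) D → D ≠ N →
      ∀ c ∈ D, c = 1 ∨ c = z := by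
    intro D hDN hDn hne
    by_contra hcon
    have hD𝒮 : D ∈ 𝒮 := ⟨hDN.trans hNC, hDn, hcon⟩
    have h1 : Nat.card N ≤ Nat.card D := hNmin D hD𝒮
    exact hne (Subgroup.eq_of_le_of_card_ge hDN h1)
  -- the commutator subgroup of `N`
  have hRsolv : Group.IsSolvable R := hL.R_solv
  have hNsolv : Group.IsSolvable N :=
    Group.isSolvable_of_isSolvable_injective (Subgroup.inclusion_injective hNR)
  have hNnontriv : Nontrivial N := by
    by_contra hnt
    rw [not_nontrivial_iff_subsingleton] at hnt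
    apply hNnot
    intro c hc
    left
    have h := Subsingleton.elim (⟨c, hc⟩ : N) 1
    exact congrArg Subtype.val h
  have hDN : ⁅N, N⁆ ≤ N := Subgroup.commutator_le_self N
  have hDn : NormBy (RB R b) ⁅N, N⁆ := by
    intro g hg d hd
    have h1 : (⁅N, N⁆).map (MulAut.conj g).toMonoidHom ≤ ⁅N, N⁆ := by
      rw [Subgroup.map_commutator]
      apply Subgroup.commutator_mono <;>
      · rintro _ ⟨n, hn, rfl⟩
        exact hNn g hg n hn
    exact h1 ⟨d, hd, rfl⟩
  have hDne : ⁅N, N⁆ ≠ N := by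
    intro h
    have h1 : _root_.commutator N < ⊤ := Group.IsSolvable.commutator_lt_top_of_nontrivial N
    have h2 : (_root_.commutator N).map N.subtype = ⁅N, N⁆ := Subgroup.map_subtype_commutator N
    have h3 : (_root_.commutator N).map N.subtype = (⊤ : Subgroup N).map N.subtype := by
      rw [h2, h, ← MonoidHom.range_eq_map, N.range_subtype]
    exact h1.ne (Subgroup.map_injective N.subtype_injective h3)
  have hDz : ∀ c ∈ ⁅N, N⁆, c = 1 ∨ c = z := hprop _ hDN hDn hDne
  have hcomm : ∀ g ∈ N, ∀ c ∈ N, g * c * g⁻¹ * c⁻¹ = 1 ∨ g * c * g⁻¹ * c⁻¹ = z :=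
    fun g hg c hc => hDz _ (Subgroup.commutator_mem_commutator hg hc)
  -- the odd part
  have hcard0 : Nat.card N ≠ 0 := Nat.card_pos.ne'
  set a : ℕ := (Nat.card N).factorization 2 with ha
  set m : ℕ := Nat.card N / 2 ^ a with hm
  have ham : 2 ^ a * m = Nat.card N := Nat.ordProj_mul_ordCompl_eq_self (Nat.card N) 2
  have hm2 : ¬ 2 ∣ m := Nat.not_dvd_ordCompl Nat.prime_two hcard0
  have hmodd : Odd m := by
    rw [← Nat.not_even_iff_odd, even_iff_two_dvd]; exact hm2
  have hzm : z ^ m ≠ 1 := by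
    obtain ⟨j, hj⟩ := hmodd
    rw [hj, pow_succ, pow_mul, pow_two, hz2, one_pow, one_mul]
    exact hz1
  have hoddc : ∀ g ∈ N, g ^ m = 1 → ∀ c ∈ N, g * c * g⁻¹ * c⁻¹ = 1 := by
    intro g hg hgm c hc
    rcases hcomm g hg c hc with h | h
    · exact h
    · exfalso
      have hgz : Commute g z := hzcomm g (hNΓ hg)
      have hconj : ∀ k : ℕ, g ^ k * c * (g ^ k)⁻¹ = z ^ k * c := by
        intro k
        induction k with
        | zero => simp
        | succ k ih =>
          have hgzk : g * z ^ k = z ^ k * g := (hgz.pow_right k).eq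
          calc g ^ (k + 1) * c * (g ^ (k + 1))⁻¹
              = g * (g ^ k * c * (g ^ k)⁻¹) * g⁻¹ := by rw [pow_succ']; group
            _ = g * (z ^ k * c) * g⁻¹ := by rw [ih]
            _ = (g * z ^ k) * c * g⁻¹ := by group
            _ = (z ^ k * g) * c * g⁻¹ := by rw [hgzk]
            _ = z ^ k * (g * c * g⁻¹ * c⁻¹) * c := by group
            _ = z ^ k * z * c := by rw [h]
            _ = z ^ (k + 1) * c := by rw [pow_succ]
      have h1 := hconj m
      rw [hgm, one_mul, inv_one, mul_one] at h1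
      apply hzm
      calc z ^ m = (z ^ m * c) * c⁻¹ := by group
        _ = c * c⁻¹ := by rw [← h1]
        _ = 1 := mul_inv_cancel c
  let O : Subgroup S :=
    { carrier := {g | g ∈ N ∧ g ^ m = 1}
      one_mem' := ⟨N.one_mem, one_pow m⟩
      mul_mem' := by
        rintro g h ⟨hg, hgm⟩ ⟨hh, hhm⟩
        refine ⟨N.mul_mem hg hh, ?_⟩
        have hcm : Commute g h := by
          have h1 := hoddc g hg hgm h hh
          show g * h = h * g
          calc g * h = (g * h * g⁻¹ * h⁻¹) * (h * g) := by group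
            _ = h * g := by rw [h1, one_mul]
        rw [hcm.mul_pow, hgm, hhm, one_mul]
      inv_mem' := by
        rintro g ⟨hg, hgm⟩
        exact ⟨N.inv_mem hg, by rw [inv_pow, hgm, inv_one]⟩ }
  have hOmem : ∀ g : S, g ∈ O ↔ g ∈ N ∧ g ^ m = 1 := fun _ => Iff.rfl
  have hON : O ≤ N := fun g hg => hg.1
  have hOn : NormBy (RB R b) O := by
    intro g hg x hx
    exact ⟨hNn g hg x hx.1, by rw [conj_pow, hx.2, mul_one, mul_inv_cancel]⟩
  have hOodd : Odd (Nat.card O) := by
    rw [← Nat.not_even_iff_odd, even_iff_two_dvd]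
    intro hdvd
    have : Fact (Nat.Prime 2) := ⟨Nat.prime_two⟩
    obtain ⟨x, hx⟩ := exists_prime_orderOf_dvd_card' 2 hdvd
    have hx2 : orderOf (x : S) = 2 := by rw [Subgroup.orderOf_coe]; exact hx
    have hxm : (x : S) ^ m = 1 := x.2.2
    have := orderOf_dvd_of_pow_eq_one hxm
    rw [hx2] at this
    exact hm2 this
  have hObot : O = ⊥ := hOdd O (hON.trans hNR) hOn hOodd
  have hN2 : IsPGroup 2 N := by
    intro g
    refine ⟨a, ?_⟩
    have h1 : (g : S) ^ (2 ^ a) ∈ O := by
      refine ⟨N.pow_mem g.2 _, ?_⟩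
      rw [← pow_mul, ham]
      have h := pow_card_eq_one' (G := N) (x := g)
      have h' : ((g ^ Nat.card N : N) : S) = ((1 : N) : S) := congrArg Subtype.val h
      rw [Subgroup.coe_pow, Subgroup.coe_one] at h'
      exact h'
    rw [hObot, Subgroup.mem_bot] at h1
    apply Subtype.ext
    simpa using h1
  have hNz : ∃ c ∈ N, c ≠ 1 ∧ c ≠ z := by
    by_contra h
    apply hNnot
    intro c hc
    by_contra hcz
    apply h
    exact ⟨c, hc, fun h1 => hcz (Or.inl h1), fun h2 => hcz (Or.inr h2)⟩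
  obtain ⟨X, hXN, hXn, hzX, _, hzc, _, hconj, hsq, hcen, hbig⟩ :=
    Cfsg.Agent.Lib.H22.S4415E.lemmaE (RB R b) N z hz2 hN2 hNΓ hNn
      (fun A hAN hAn hAab => hB1' A (hAN.trans hNR) hAn hAab) hNz
  refine ⟨X, hXN.trans hNC, hXn, ?_⟩
  exact
    { zX := hzX
      z_ne := hz1
      z_sq := hz2
      z_central := fun g hg => hzc g (hXN hg)
      sq := hsq
      comm := by
        intro g hg h hh
        rcases hconj h hh g (hXN hg) with h1 | h1
        · left; rw [h1]; group
        · right; rw [h1]; group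
      center := hcen
      big := hbig }

end Cfsg.Agent.Lib.H22.S4415B2
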