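/-
S5630 project (Aschbacher, linear case), module M2 (Clifford), sub-task E: an isotypic module gives
homogeneous matrix data.  (helper22, for helper8)
-/
import Cfsg.Agent.Lib.H8.AschM2a

set_option autoImplicit false
set_option maxHeartbeats 1000000
set_option synthInstance.maxHeartbeats 400000

namespace Cfsg.Agent.Lib.H22.Asch

open Cfsg Cfsg.Geo Cfsg.Agent.Lib.Lead.Asch Cfsg.Agent.Lib.H8.Asch Module
open scoped MatrixGroups Matrix Kronecker

variable {F : Type*} [Field F] {n : ℕ}

/-- If `X` maps each vector of the basis `Bn` to the combination given by the column of `R`, then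
`X C = C R` for the matrix `C` whose columns are the `Bn l`. -/
theorem mul_toMatrix_eq (Bn : Basis (Fin n) F (Fin n → F)) (X R : Matrix (Fin n) (Fin n) F)
    (h : ∀ l, X *ᵥ Bn l = ∑ l', R l' l • Bn l') :
    X * (Pi.basisFun F (Fin n)).toMatrix Bn = (Pi.basisFun F (Fin n)).toMatrix Bn * R := by
  have hC : ∀ a b, (Pi.basisFun F (Fin n)).toMatrix Bn a b = Bn b a := by
    intro a b
    rw [Basis.toMatrix_apply, Pi.basisFun_repr]
  ext i l
  rw [Matrix.mul_apply, Matrix.mul_apply]
  simp only [hC]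
  have h1 := congrFun (h l) i
  simp only [Matrix.mulVec, dotProduct, Finset.sum_apply, Pi.smul_apply, smul_eq_mul] at h1
  rw [h1]
  exact Finset.sum_congr rfl fun l' _ => mul_comm _ _

/-- the element of the enveloping algebra given by `x ∈ N` -/
noncomputable def algOf (N : Subgroup (GL (Fin n) F)) (x : N) : nAlg N :=
  ⟨Matrix.toLin' ((x : GL (Fin n) F) : Matrix (Fin n) (Fin n) F), toLin'_mem_nAlg N x.2⟩

theorem algOf_smul (N : Subgroup (GL (Fin n) F)) (x : N) (v : Fin n → F) :
    algOf N x • v = ((x : GL (Fin n) F) : Matrix (Fin n) (Fin n) F) *ᵥ v := by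
  rw [nAlg_smul_def]
  simp [algOf]

theorem coe_algOf_smul (N : Subgroup (GL (Fin n) F)) (S : Submodule (nAlg N) (Fin n → F)) (x : N)
    (s : S) : ((algOf N x • s : S) : Fin n → F) =
      ((x : GL (Fin n) F) : Matrix (Fin n) (Fin n) F) *ᵥ (s : Fin n → F) := by
  rw [Submodule.coe_smul, algOf_smul]

/-- the action of `x ∈ N` on a submodule, as an `F`-linear map -/
noncomputable def actOn (N : Subgroup (GL (Fin n) F)) (S : Submodule (nAlg N) (Fin n → F)) (x : N) :
    S →ₗ[F] S where
  toFun := fun s => algOf N x • s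
  map_add' := fun s t => smul_add _ _ _
  map_smul' := fun c s => by
    apply Subtype.ext
    rw [RingHom.id_apply, coe_algOf_smul, Submodule.coe_smul_of_tower, Submodule.coe_smul_of_tower,
      coe_algOf_smul, Matrix.mulVec_smul]

theorem actOn_apply (N : Subgroup (GL (Fin n) F)) (S : Submodule (nAlg N) (Fin n → F)) (x : N)
    (s : S) : actOn N S x s = algOf N x • s := rfl

theorem coe_actOn (N : Subgroup (GL (Fin n) F)) (S : Submodule (nAlg N) (Fin n → F)) (x : N)
    (s : S) : ((actOn N S x s : S) : Fin n → F) =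
      ((x : GL (Fin n) F) : Matrix (Fin n) (Fin n) F) *ᵥ (s : Fin n → F) :=
  coe_algOf_smul N S x s

theorem actOn_one (N : Subgroup (GL (Fin n) F)) (S : Submodule (nAlg N) (Fin n → F)) :
    actOn N S 1 = LinearMap.id := by
  apply LinearMap.ext
  intro s
  apply Subtype.ext
  rw [coe_actOn]
  simp

theorem actOn_mul (N : Subgroup (GL (Fin n) F)) (S : Submodule (nAlg N) (Fin n → F)) (x y : N) :
    actOn N S (x * y) = actOn N S x ∘ₗ actOn N S y := by
  apply LinearMap.ext
  intro s
  apply Subtype.ext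
  rw [LinearMap.comp_apply, coe_actOn, coe_actOn, coe_actOn]
  simp [Matrix.mulVec_mulVec]

/-- **E**: isotypic ⇒ homogeneous matrix data. -/
theorem homogData_of_isotypic (N : Subgroup (GL (Fin n) F))
    [IsSemisimpleModule (nAlg N) (Fin n → F)]
    (S : Submodule (nAlg N) (Fin n → F)) [IsSimpleModule (nAlg N) S]
    (h : IsIsotypicOfType (nAlg N) (Fin n → F) S) : Nonempty (HomogData N) := by
  classical
  obtain ⟨k, ⟨φ⟩⟩ := h.linearEquiv_fun
  haveI : Module.Finite F ↥S :=
    Module.Finite.of_injective ((S.subtype).restrictScalars F) S.subtype_injective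
  set d := finrank F ↥S with hd
  let b : Basis (Fin d) F ↥S := Module.finBasis F ↥S
  let ΦF : (Fin n → F) ≃ₗ[F] (Fin k → ↥S) := φ.restrictScalars F
  -- the representation
  let ρ₀ : N →* Matrix (Fin d) (Fin d) F :=
    { toFun := fun x => LinearMap.toMatrix b b (actOn N S x)
      map_one' := by rw [actOn_one, LinearMap.toMatrix_id]
      map_mul' := fun x y => by rw [actOn_mul, LinearMap.toMatrix_comp b b b] }
  let ρ : N →* GL (Fin d) F := ρ₀.toHomUnits
  have hρ : ∀ x : N, ((ρ x : GL (Fin d) F) : Matrix (Fin d) (Fin d) F) =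
      LinearMap.toMatrix b b (actOn N S x) := fun x => rfl
  -- the basis
  let B₀ : Basis (Σ _ : Fin k, Fin d) F (Fin n → F) := (Pi.basis fun _ : Fin k => b).map ΦF.symm
  let σ : (Σ _ : Fin k, Fin d) ≃ Fin d × Fin k :=
    (Equiv.sigmaEquivProd (Fin k) (Fin d)).trans (Equiv.prodComm _ _)
  let B : Basis (Fin d × Fin k) F (Fin n → F) := B₀.reindex σ
  have hB : ∀ i j, B (i, j) = φ.symm (Pi.single j (b i)) := by
    intro i j
    show B₀.reindex σ (i, j) = _
    rw [Basis.reindex_apply]
    show B₀ ⟨j, i⟩ = _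
    show ((Pi.basis fun _ : Fin k => b).map ΦF.symm) ⟨j, i⟩ = _
    rw [Basis.map_apply, Pi.basis_apply]
    rfl
  let e : Fin n ≃ Fin d × Fin k := (Pi.basisFun F (Fin n)).indexEquiv B
  let Bn : Basis (Fin n) F (Fin n → F) := B.reindex e.symm
  have hBn : ∀ l, Bn l = B (e l) := by
    intro l
    show B.reindex e.symm l = _
    rw [Basis.reindex_apply, Equiv.symm_symm]
  -- key identity
  have key : ∀ (x : N) (i : Fin d) (j : Fin k),
      ((x : GL (Fin n) F) : Matrix (Fin n) (Fin n) F) *ᵥ B (i, j) =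
        ∑ i', (LinearMap.toMatrix b b (actOn N S x)) i' i • B (i', j) := by
    intro x i j
    rw [hB, ← algOf_smul N x, ← map_smul φ.symm, ← Pi.single_smul]
    have h1 : algOf N x • b i = ∑ i', (LinearMap.toMatrix b b (actOn N S x)) i' i • b i' := by
      rw [← actOn_apply]
      conv_lhs => rw [← b.sum_repr (actOn N S x (b i))]
      exact Finset.sum_congr rfl fun i' _ => by rw [LinearMap.toMatrix_apply]
    rw [h1]
    have h2 : (Pi.single j (∑ i', (LinearMap.toMatrix b b (actOn N S x)) i' i • b i') :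
        Fin k → ↥S) = ∑ i', (LinearMap.toMatrix b b (actOn N S x)) i' i •
          (Pi.single j (b i') : Fin k → ↥S) := by
      have := map_sum (LinearMap.single F (fun _ : Fin k => ↥S) j)
        (fun i' => (LinearMap.toMatrix b b (actOn N S x)) i' i • b i') Finset.univ
      simp only [map_smul, LinearMap.coe_single] at this
      exact this
    rw [h2]
    have h3 : ∀ w : Fin k → ↥S, φ.symm w = ΦF.symm w := fun w => rfl
    rw [h3, map_sum]
    refine Finset.sum_congr rfl fun i' _ => ?_
    rw [map_smul, hB, h3]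
  -- the change of basis
  set C : Matrix (Fin n) (Fin n) F := (Pi.basisFun F (Fin n)).toMatrix Bn with hC
  set Cinv : Matrix (Fin n) (Fin n) F := Bn.toMatrix (Pi.basisFun F (Fin n)) with hCinv
  have hCC : Cinv * C = 1 := Basis.toMatrix_mul_toMatrix_flip _ _
  have hCC' : C * Cinv = 1 := Basis.toMatrix_mul_toMatrix_flip _ _
  let P : GL (Fin n) F := ⟨Cinv, C, hCC, hCC'⟩
  -- irreducibility
  have hirr : ActsIrreducibly (repSet ρ) := by
    intro U hU
    let WF : Submodule F (Fin n → F) :=
      (U.comap (b.equivFun : ↥S →ₗ[F] (Fin d → F))).map ((S.subtype).restrictScalars F)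
    have hWmem : ∀ v, v ∈ WF ↔ ∃ s : ↥S, b.equivFun s ∈ U ∧ (s : Fin n → F) = v := by
      intro v
      constructor
      · rintro ⟨s, hs, rfl⟩
        exact ⟨s, hs, rfl⟩
      · rintro ⟨s, hs, rfl⟩
        exact ⟨s, hs, rfl⟩
    have hWinv : ∀ x ∈ N, WF.map (Matrix.toLin' ((x : GL (Fin n) F) : Matrix (Fin n) (Fin n) F)) ≤
        WF := by
      rintro x hx _ ⟨v, hv, rfl⟩
      obtain ⟨s, hs, rfl⟩ := (hWmem v).mp hv
      rw [hWmem]
      refine ⟨actOn N S ⟨x, hx⟩ s, ?_, ?_⟩
      · have h1 := LinearMap.toMatrix_mulVec_repr b b (actOn N S ⟨x, hx⟩) s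
        have h2 : (b.equivFun (actOn N S ⟨x, hx⟩ s) : Fin d → F) =
            (LinearMap.toMatrix b b (actOn N S ⟨x, hx⟩)) *ᵥ (b.equivFun s) := by
          rw [Basis.equivFun_apply, Basis.equivFun_apply]
          exact h1.symm
        rw [h2]
        have h3 := hU _ ⟨⟨x, hx⟩, rfl⟩
        apply h3
        refine ⟨b.equivFun s, hs, ?_⟩
        rw [Matrix.toLin'_apply]
        exact congrArg (· *ᵥ b.equivFun s) (hρ ⟨x, hx⟩)
      · rw [coe_actOn, Matrix.toLin'_apply]
    let W : Submodule (nAlg N) (Fin n → F) := subOf N WF hWinv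
    have hWS : W ≤ S := by
      intro v hv
      obtain ⟨s, -, rfl⟩ := (hWmem v).mp hv
      exact s.2
    have hatom : IsAtom S := isSimpleModule_iff_isAtom.mp inferInstance
    rcases hatom.le_iff.mp hWS with h0 | h1
    · left
      rw [Submodule.eq_bot_iff]
      intro u hu
      have hmem : ((b.equivFun.symm u : ↥S) : Fin n → F) ∈ W := by
        show _ ∈ WF
        rw [hWmem]
        exact ⟨b.equivFun.symm u, by rw [LinearEquiv.apply_symm_apply]; exact hu, rfl⟩
      rw [h0, Submodule.mem_bot] at hmem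
      have h2 : (b.equivFun.symm u : ↥S) = 0 := Subtype.ext hmem
      have h3 := congrArg b.equivFun h2
      rwa [LinearEquiv.apply_symm_apply, map_zero] at h3
    · right
      rw [Submodule.eq_top_iff']
      intro u
      have hmem : ((b.equivFun.symm u : ↥S) : Fin n → F) ∈ W := by
        rw [h1]; exact (b.equivFun.symm u).2
      obtain ⟨s, hs, hs'⟩ := (hWmem _).mp hmem
      have h2 : s = b.equivFun.symm u := Subtype.ext hs'
      rw [h2, LinearEquiv.apply_symm_apply] at hs
      exact hs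
  refine ⟨⟨d, k, e, P, ρ, hirr, ?_⟩⟩
  intro x
  set X : Matrix (Fin n) (Fin n) F := ((x : GL (Fin n) F) : Matrix (Fin n) (Fin n) F) with hX
  set R : Matrix (Fin n) (Fin n) F := Matrix.reindex e.symm e.symm
    (((ρ x : GL (Fin d) F) : Matrix (Fin d) (Fin d) F) ⊗ₖ (1 : Matrix (Fin k) (Fin k) F)) with hR
  have hXC : X * C = C * R := by
    apply mul_toMatrix_eq
    intro l
    rw [hBn]
    rcases hl : e l with ⟨i, j⟩
    rw [key x i j]
    have h1 : ∑ l', R l' l • Bn l' = ∑ p : Fin d × Fin k, R (e.symm p) l • B p := by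
      rw [← Equiv.sum_comp e]
      refine Finset.sum_congr rfl fun l' _ => ?_
      rw [Equiv.symm_apply_apply, hBn]
    rw [h1, Fintype.sum_prod_type]
    refine Finset.sum_congr rfl fun i' _ => ?_
    have h2 : ∀ j', R (e.symm (i', j')) l =
        (LinearMap.toMatrix b b (actOn N S x)) i' i * (if j' = j then 1 else 0) := by
      intro j'
      rw [hR, Matrix.reindex_apply, Matrix.submatrix_apply]
      show Matrix.kroneckerMap (fun x1 x2 => x1 * x2) ((ρ x : GL (Fin d) F) : Matrix (Fin d) (Fin d) F)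
        (1 : Matrix (Fin k) (Fin k) F) (e (e.symm (i', j'))) (e l) = _
      rw [Equiv.apply_symm_apply, hl, Matrix.kroneckerMap_apply, hρ, Matrix.one_apply]
    simp only [h2, mul_ite, mul_one, mul_zero, ite_smul, zero_smul]
    rw [Finset.sum_ite_eq']
    simp
  have hval : ((P * (x : GL (Fin n) F) * P⁻¹ : GL (Fin n) F) : Matrix (Fin n) (Fin n) F) =
      Cinv * X * C := rfl
  rw [hval, Matrix.mul_assoc, hXC, ← Matrix.mul_assoc, hCC, Matrix.one_mul]

end Cfsg.Agent.Lib.H22.Asch
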