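/-
S5630 project, module M8 (helper26), piece M8.2: the case of one component (t = 1): residual class, or
class 5 / class 8.  (helper22)
-/
import Cfsg.Agent.Lib.H26.AschM8Defs
import Cfsg.Agent.Lib.Lead.AschDefs2
import Cfsg.Agent.Lib.H17.AschU2
import Cfsg.Agent.Lib.H6.AschU3a
import Cfsg.Agent.Lib.H3.AschU67

set_option autoImplicit false

namespace Cfsg.Agent.Lib.H22.Asch

open Cfsg Cfsg.Geo Cfsg.Agent.Lib.Lead.Asch Cfsg.Agent.Lib.H26.Asch
open scoped MatrixGroups Matrix Kronecker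

variable {F : Type*} [Field F] {n : ℕ}

/-- scalars are central in `GL`. -/
theorem m82_scalars_comm (z g : GL (Fin n) F) (hz : z ∈ scalars (Fin n) F) : z * g = g * z := by
  obtain ⟨c, hc⟩ := (mem_scalars_iff z).mp hz
  apply Units.ext
  rw [Units.val_mul, Units.val_mul, hc, Matrix.smul_mul, Matrix.mul_smul, Matrix.one_mul,
    Matrix.mul_one]

/-- If `h` commutes with every element of `P` modulo central elements (here: `[h,x] ∈ Z` with `Z`
central) and `P` is perfect, then `h` commutes with `P`. -/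
theorem m82_commute_of_perfect {G : Type*} [Group G] (P Z : Subgroup G)
    (hZ : ∀ z ∈ Z, ∀ g : G, z * g = g * z) (hperf : ⁅P, P⁆ = P) (h : G)
    (hc : ∀ x ∈ P, h * x * h⁻¹ * x⁻¹ ∈ Z) : ∀ x ∈ P, h * x = x * h := by
  have hle : ⁅P, P⁆ ≤ Subgroup.centralizer {h} := by
    rw [Subgroup.commutator_le]
    intro x hx y hy
    rw [Subgroup.mem_centralizer_iff]
    intro k hk
    rw [Set.mem_singleton_iff] at hk
    subst hk
    -- h x h⁻¹ = c x, h y h⁻¹ = d y with c, d central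
    set c := k * x * k⁻¹ * x⁻¹ with hcdef
    set d := k * y * k⁻¹ * y⁻¹ with hddef
    have hcZ : ∀ g : G, c * g = g * c := hZ c (hc x hx)
    have hdZ : ∀ g : G, d * g = g * d := hZ d (hc y hy)
    have hx' : k * x = c * x * k := by rw [hcdef]; group
    have hy' : k * y = d * y * k := by rw [hddef]; group
    have hxi : k * x⁻¹ = c⁻¹ * x⁻¹ * k := by
      have : k * x⁻¹ = (k * x * k⁻¹)⁻¹ * k := by group
      rw [this]
      have h2 : k * x * k⁻¹ = c * x := by rw [hcdef]; group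
      rw [h2, mul_inv_rev]
      have h3 : x⁻¹ * c⁻¹ = c⁻¹ * x⁻¹ := by
        have := hcZ x⁻¹
        calc x⁻¹ * c⁻¹ = c⁻¹ * (c * x⁻¹) * c⁻¹ := by group
          _ = c⁻¹ * (x⁻¹ * c) * c⁻¹ := by rw [this]
          _ = c⁻¹ * x⁻¹ := by group
      rw [h3]
    have hyi : k * y⁻¹ = d⁻¹ * y⁻¹ * k := by
      have : k * y⁻¹ = (k * y * k⁻¹)⁻¹ * k := by group
      rw [this]
      have h2 : k * y * k⁻¹ = d * y := by rw [hddef]; group
      rw [h2, mul_inv_rev]
      have h3 : y⁻¹ * d⁻¹ = d⁻¹ * y⁻¹ := by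
        have := hdZ y⁻¹
        calc y⁻¹ * d⁻¹ = d⁻¹ * (d * y⁻¹) * d⁻¹ := by group
          _ = d⁻¹ * (y⁻¹ * d) * d⁻¹ := by rw [this]
          _ = d⁻¹ * y⁻¹ := by group
      rw [h3]
    -- now compute
    rw [commutatorElement_def]
    have hci : ∀ g : G, c⁻¹ * g = g * c⁻¹ := by
      intro g
      have := hcZ g
      calc c⁻¹ * g = c⁻¹ * (g * c) * c⁻¹ := by group
        _ = c⁻¹ * (c * g) * c⁻¹ := by rw [this]
        _ = g * c⁻¹ := by group
    have hdi : ∀ g : G, d⁻¹ * g = g * d⁻¹ := by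
      intro g
      have := hdZ g
      calc d⁻¹ * g = d⁻¹ * (g * d) * d⁻¹ := by group
        _ = d⁻¹ * (d * g) * d⁻¹ := by rw [this]
        _ = g * d⁻¹ := by group
    calc k * (x * y * x⁻¹ * y⁻¹) = (k * x) * y * x⁻¹ * y⁻¹ := by group
      _ = c * x * (k * y) * x⁻¹ * y⁻¹ := by rw [hx']; group
      _ = c * x * (d * y) * (k * x⁻¹) * y⁻¹ := by rw [hy']; group
      _ = c * x * (d * y) * (c⁻¹ * x⁻¹) * (k * y⁻¹) := by rw [hxi]; group
      _ = c * x * (d * y) * (c⁻¹ * x⁻¹) * (d⁻¹ * y⁻¹) * k := by rw [hyi]; group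
      _ = x * y * x⁻¹ * y⁻¹ * k := by
        have e1 : c * x * (d * y) * (c⁻¹ * x⁻¹) * (d⁻¹ * y⁻¹)
            = c * (x * d) * y * c⁻¹ * (x⁻¹ * d⁻¹) * y⁻¹ := by group
        rw [e1, ← hdZ x, ← hdi x⁻¹]
        have e2 : c * (d * x) * y * c⁻¹ * (d⁻¹ * x⁻¹) * y⁻¹
            = c * d * (x * y * c⁻¹) * d⁻¹ * x⁻¹ * y⁻¹ := by group
        rw [e2, ← hci (x * y)]
        have e3 : c * d * (c⁻¹ * (x * y)) * d⁻¹ * x⁻¹ * y⁻¹
            = c * (d * c⁻¹) * (x * y * d⁻¹) * x⁻¹ * y⁻¹ := by group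
        rw [e3, ← hdi (x * y), hdZ c⁻¹]
        group
  intro x hx
  have hx2 : x ∈ ⁅P, P⁆ := by rw [hperf]; exact hx
  have := hle hx2
  rw [Subgroup.mem_centralizer_iff] at this
  exact this h rfl

/-- **M8.2** (t = 1: residual class, or C5 / C8). -/
theorem residual_of_components_one [Fintype F] (hn : 3 ≤ n) (H : Subgroup (GL (Fin n) F))
    (hgood : Good H) (L : Fin 1 → Subgroup (GL (Fin n) F)) (hL : Components H 1 L) :
    (TameC5 H ∨ TameC8 H) ∨ InLinearResidualClass H := by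
  have hnorm : NormalizedBy H (L 0) := by
    intro h hh x hx
    obtain ⟨σ, hσ⟩ := hL.perm h hh
    have h0 : σ 0 = 0 := Subsingleton.elim _ _
    have h1 := hσ 0
    rw [h0] at h1
    rw [← h1]
    exact ⟨x, hx, by simp [MulAut.conj_apply]⟩
  have habs : ActsAbsolutelyIrreducibly (matrixSet (L 0)) := by
    rcases hgood.star (L 0) (hL.le 0) hnorm with h | h
    · exact absurd h (hL.not_scal 0)
    · exact h
  by_cases hreal : ∃ F₀ : Subfield F, F₀ ≠ ⊤ ∧ RealisableOver F₀ (matrixSet (L 0))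
  · obtain ⟨F₀, hne, hr⟩ := hreal
    exact Or.inl (Or.inl (Cfsg.Agent.Lib.H17.Asch.tame_of_realisable H (L 0) hnorm habs F₀ hne hr))
  by_cases hq : ∃ Q : (Fin n → F) → F, IsNondegenerateQuadraticForm Q ∧
      FixesQuadForm (matrixSet (L 0)) Q
  · obtain ⟨Q, hQ, hfix⟩ := hq
    exact Or.inl (Or.inr (Cfsg.Agent.Lib.H6.Asch.tame_of_fixes_quad hn H (L 0) hnorm habs Q hQ hfix))
  by_cases hs : ∃ f : (Fin n → F) → (Fin n → F) → F, IsSymplecticForm f ∧
      FixesForm (matrixSet (L 0)) f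
  · obtain ⟨f, hf, hfix⟩ := hs
    exact Or.inl (Or.inr
      (Cfsg.Agent.Lib.H6.Asch.tame_of_fixes_symplectic hn H (L 0) hnorm habs f hf hfix))
  by_cases hu : ∃ (σ : F ≃+* F) (f : (Fin n → F) → (Fin n → F) → F), IsUnitaryForm σ f ∧
      FixesForm (matrixSet (L 0)) f
  · obtain ⟨σ, f, hf, hfix⟩ := hu
    exact Or.inl (Or.inr
      (Cfsg.Agent.Lib.H6.Asch.tame_of_fixes_unitary hn H (L 0) hnorm habs σ f hf hfix))
  refine Or.inr ⟨L 0, ⟨hL.le 0, hnorm, hL.perfect 0, hL.simple 0, hL.nonab 0, ?_, habs, ?_⟩,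
    hq, hs, hu⟩
  · intro h _ hcomm
    apply Cfsg.Agent.Lib.H3.Asch.mem_scalars_of_absIrr_of_commute (L 0) habs h
    exact m82_commute_of_perfect (L 0) (scalars (Fin n) F)
      (fun z hz g => m82_scalars_comm z g hz) (hL.perfect 0) h hcomm
  · intro F₀ hne hr
    exact hreal ⟨F₀, hne, hr⟩

end Cfsg.Agent.Lib.H22.Asch
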