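import Mathlib
import Cfsg.Agent.Lib.L0.AbelianInertial
import Cfsg.Agent.Lib.L0.BlockRankTrace
import Cfsg.Agent.Lib.L0.BlockCentralizerInd

/-!
# Subsections and Brauer pairs: basic transport lemmas (helper22)

* `blockRank_irrEquiv_image`, `blockRank_conjBlock`: `l(b)` is invariant under isomorphisms;
* `blockRank_pos`;
* `castB`: transport of a set of characters along an equality of subgroups;
* `toPair x b`: the pair `(⟨x⟩, b)` attached to a block `b` of `C_G(x)`;
* `isBrauerPairOf_iff_isInducedBlock`;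
* `finsum_induced_one`: the contribution of `x = 1` to Brauer's count is `l(B)`.
-/

set_option autoImplicit false

namespace Cfsg.Agent.Lib.H22.Subsec

open Cfsg MonoidAlgebra Cfsg.Agent.Lib.H23 Cfsg.Agent.Lib.H24 Cfsg.Agent.Lib.L0
  Cfsg.Agent.Lib.L0.BrauerPairHom Cfsg.Agent.Lib.L0.BrauerLam
  Cfsg.Agent.Lib.L0.BrauerNormal Cfsg.Agent.Lib.L0.BrauerSubpair Cfsg.Agent.Lib.L0.BrauerConj
  Cfsg.Agent.Lib.L0.BrauerDefect Cfsg.Agent.Lib.L0.BrauerSylow Cfsg.Agent.Lib.L0.BrauerCentric
  Cfsg.Agent.Lib.L0.BlockOrbitCover Cfsg.Agent.Lib.L0.BrauerNormalizer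
  Cfsg.Agent.Lib.L0.BrauerFully Cfsg.Agent.Lib.L0.BrauerRelative Cfsg.Agent.Lib.L0.BrauerStab
  Cfsg.Agent.Lib.L0.BrauerAutomizer Cfsg.Agent.Lib.L0.BrauerAbelian
  Cfsg.Agent.Lib.L0.BrauerNilpotent Cfsg.Agent.Lib.L0.BlockRankTrace
  Cfsg.Agent.Lib.L0.BlockCentralizerInd
open scoped ComplexConjugate

section Rank

theorem blockRank_irrEquiv_image {A B : Type*} [Group A] [Group B] [Fintype A] [Fintype B]
    (e : A ≃* B) (p : ℕ)
    (f : Set (IrrCharacter B)) : blockRank p (irrEquiv e '' f) = blockRank p f := by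
  classical
  unfold blockRank
  have himg : (fun χ : IrrCharacter A => pRegularPart p (χ : A → ℂ)) '' (irrEquiv e '' f) =
      (LinearEquiv.funCongrLeft ℂ ℂ e.toEquiv) ''
        ((fun χ : IrrCharacter B => pRegularPart p (χ : B → ℂ)) '' f) := by
    rw [Set.image_image, Set.image_image]
    refine Set.image_congr fun θ _ => ?_
    funext a
    show pRegularPart p (irrEquiv e θ : A → ℂ) a = pRegularPart p (θ : B → ℂ) (e a)
    rw [pRegularPart_apply, pRegularPart_apply, irrEquiv_apply, MulEquiv.orderOf_eq]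
  rw [himg]
  have h2 := Submodule.map_span
    (LinearEquiv.funCongrLeft ℂ ℂ e.toEquiv : (B → ℂ) →ₗ[ℂ] (A → ℂ))
    ((fun χ : IrrCharacter B => pRegularPart p (χ : B → ℂ)) '' f)
  rw [LinearEquiv.coe_coe] at h2
  rw [← h2]
  exact LinearEquiv.finrank_map_eq _ _

theorem blockRank_pos {K : Type*} [Group K] [Fintype K] {M : Ideal AlgInt} [M.IsPrime]
    {b : Set (IrrCharacter K)}
    (hb : IsPBlock M b) {p : ℕ} (hp : p.Prime) : 0 < blockRank p b := by
  obtain ⟨ξ, hξ⟩ := block_nonempty hb
  unfold blockRank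
  rw [Module.finrank_pos_iff_exists_ne_zero]
  refine ⟨⟨pRegularPart p (ξ : K → ℂ), Submodule.subset_span ⟨ξ, hξ, rfl⟩⟩, ?_⟩
  intro h
  have h1 := congrFun (congrArg Subtype.val h) 1
  simp only [ZeroMemClass.coe_zero, Pi.zero_apply] at h1
  rw [pRegularPart_apply, orderOf_one, if_neg (Nat.Prime.not_dvd_one hp)] at h1
  exact irr_one_ne_zero ξ h1

end Rank

section Cast

variable {G : Type*} [Group G]

/-- Transport of a set of irreducible characters along an equality of subgroups. -/
def castB {H H' : Subgroup G} (h : H = H') (b : Set (IrrCharacter H)) : Set (IrrCharacter H') :=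
  h ▸ b

theorem castB_rfl {H : Subgroup G} (b : Set (IrrCharacter H)) : castB rfl b = b := rfl

theorem castB_castB {H H' : Subgroup G} (h : H = H') (h' : H' = H) (b : Set (IrrCharacter H)) :
    castB h' (castB h b) = b := by
  subst h
  rfl

theorem castB_injective {H H' : Subgroup G} (h : H = H') :
    Function.Injective (castB h : Set (IrrCharacter H) → Set (IrrCharacter H')) := by
  subst h
  intro a b hab
  exact hab

theorem isPBlock_castB {M : Ideal AlgInt} {H H' : Subgroup G} (h : H = H')
    (b : Set (IrrCharacter H)) : IsPBlock M (castB h b) ↔ IsPBlock M b := by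
  subst h
  rfl

theorem isInducedBlock_castB {M : Ideal AlgInt} {H H' : Subgroup G} (h : H = H')
    (b : Set (IrrCharacter H)) (B : Set (IrrCharacter G)) :
    IsInducedBlock M H' (castB h b) B ↔ IsInducedBlock M H b B := by
  subst h
  rfl

theorem blockRank_castB {H H' : Subgroup G} (h : H = H') (p : ℕ)
    (b : Set (IrrCharacter H)) : blockRank p (castB h b) = blockRank p b := by
  subst h
  rfl

theorem centralizer_zpowers' (y : G) :
    Subgroup.centralizer ((Subgroup.zpowers y : Subgroup G) : Set G) =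
      Subgroup.centralizer ({y} : Set G) := by
  rw [Subgroup.zpowers_eq_closure, Subgroup.centralizer_closure]

/-- The pair `(⟨x⟩, b)` attached to a set `b` of characters of `C_G(x)`. -/
def toPair (x : G) (b : Set (IrrCharacter (Subgroup.centralizer ({x} : Set G)))) :
    BrauerPairIdx G :=
  ⟨Subgroup.zpowers x, castB (centralizer_zpowers' x).symm b⟩

theorem toPair_fst (x : G) (b : Set (IrrCharacter (Subgroup.centralizer ({x} : Set G)))) :
    (toPair x b).1 = Subgroup.zpowers x := rfl

theorem toPair_injective (x : G) : Function.Injective (toPair x) := by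
  intro b b' h
  unfold toPair at h
  have h1 := eq_of_heq (Sigma.mk.inj h).2
  exact castB_injective _ h1

theorem exists_toPair_eq (x : G) (a : BrauerPairIdx G) (ha : a.1 = Subgroup.zpowers x) :
    ∃ b, toPair x b = a := by
  obtain ⟨Q, f⟩ := a
  simp only at ha
  subst ha
  exact ⟨castB (centralizer_zpowers' x) f, by unfold toPair; rw [castB_castB]⟩

theorem isPBlock_toPair {M : Ideal AlgInt} (x : G)
    (b : Set (IrrCharacter (Subgroup.centralizer ({x} : Set G)))) :
    IsPBlock M (toPair x b).2 ↔ IsPBlock M b :=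
  isPBlock_castB _ b

theorem isInducedBlock_toPair {M : Ideal AlgInt} (x : G)
    (b : Set (IrrCharacter (Subgroup.centralizer ({x} : Set G)))) (B : Set (IrrCharacter G)) :
    IsInducedBlock M (Subgroup.centralizer ((toPair x b).1 : Set G)) (toPair x b).2 B ↔
      IsInducedBlock M (Subgroup.centralizer ({x} : Set G)) b B :=
  isInducedBlock_castB _ b B

theorem blockRank_toPair (p : ℕ) (x : G)
    (b : Set (IrrCharacter (Subgroup.centralizer ({x} : Set G)))) :
    blockRank p (toPair x b).2 = blockRank p b :=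
  blockRank_castB _ p b

end Cast

section Pairs

variable {G : Type*} [Group G] [Fintype G] {p : ℕ} {M : Ideal AlgInt}

theorem isBrauerPairOf_iff_isInducedBlock (hM : IsPModular p M) {B : Set (IrrCharacter G)}
    {Q : Subgroup G} (hQ : IsPGroup p Q)
    {f : Set (IrrCharacter (Subgroup.centralizer (Q : Set G)))} :
    IsBrauerPairOf p M B Q f ↔ IsInducedBlock M (Subgroup.centralizer (Q : Set G)) f B := by
  classical
  haveI hPr := isPrime_of_isPModular hM
  haveI : Fintype (Subgroup.centralizer (Q : Set G)) := Fintype.ofFinite _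
  constructor
  · exact isInducedBlock_of_pair hM
  · intro h
    obtain ⟨B₀, hB₀, _⟩ := exists_unique_block_of_brauerPair hM Q f ⟨hQ, h.1⟩
    have h1 := isInducedBlock_of_pair hM hB₀
    have h2 : B₀ = B := isInducedBlock_unique _ h1 h
    subst h2
    exact hB₀

theorem blockRank_conjBlock (x : G) (Q : Subgroup G)
    (f : Set (IrrCharacter (Subgroup.centralizer (Q : Set G)))) :
    blockRank p (conjBlock Q x f) = blockRank p f := by
  classical
  haveI : Fintype (Subgroup.centralizer (Q : Set G)) := Fintype.ofFinite _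
  haveI : Fintype (Subgroup.centralizer
    ((Q.map (MulAut.conj x).toMonoidHom : Subgroup G) : Set G)) := Fintype.ofFinite _
  have h1 : conjBlock Q x f = irrEquiv (centEquiv x Q).symm '' f := by
    ext ξ'
    rw [mem_conjBlock_iff]
    constructor
    · intro h
      refine ⟨_, h, ?_⟩
      apply Subtype.ext
      funext c
      rw [irrEquiv_apply, irrEquiv_apply, MulEquiv.apply_symm_apply]
    · rintro ⟨ξ, hξ, rfl⟩
      have h2 : irrEquiv (centEquiv x Q) (irrEquiv (centEquiv x Q).symm ξ) = ξ := by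
        apply Subtype.ext
        funext c
        rw [irrEquiv_apply, irrEquiv_apply, MulEquiv.symm_apply_apply]
      rw [h2]
      exact hξ
  rw [h1, blockRank_irrEquiv_image]

/-- The isomorphism from a subgroup containing every element to the whole group. -/
noncomputable def wholeEquiv (K : Subgroup G) (hK : ∀ g : G, g ∈ K) : K ≃* G :=
  MulEquiv.ofBijective K.subtype ⟨Subtype.val_injective, fun g => ⟨⟨g, hK g⟩, rfl⟩⟩

omit [Fintype G] in
theorem wholeEquiv_apply (K : Subgroup G) (hK : ∀ g : G, g ∈ K) (k : K) :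
    wholeEquiv K hK k = (k : G) := rfl

theorem inducedCentralChar_whole (K : Subgroup G) (hK : ∀ g : G, g ∈ K) (χ : IrrCharacter G)
    (g : G) :
    inducedCentralChar K (irrEquiv (wholeEquiv K hK) χ : K → ℂ) g =
      centralChar (χ : G → ℂ) g := by
  classical
  unfold inducedCentralChar centralChar
  rw [index_centralizer_eq_card_conj]
  have h1 : ∀ h ∈ {h : K | IsConj g (h : G)},
      (irrEquiv (wholeEquiv K hK) χ : K → ℂ) h / (irrEquiv (wholeEquiv K hK) χ : K → ℂ) 1 =
        (χ : G → ℂ) g / (χ : G → ℂ) 1 := by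
    intro h hh
    rw [irrEquiv_apply, irrEquiv_apply, map_one, wholeEquiv_apply]
    rw [irr_eq_of_isConj χ (hh : IsConj g (h : G))]
  rw [finsum_mem_congr rfl h1, finsum_mem_eq_finite_toFinset_sum _ (Set.toFinite _),
    Finset.sum_const, nsmul_eq_mul, ← Set.ncard_eq_toFinset_card, ← Nat.card_coe_set_eq]
  have h2 : Nat.card ↥{h : K | IsConj g (h : G)} = Nat.card {h : G // IsConj g h} :=
    Nat.card_congr (Equiv.subtypeEquiv (wholeEquiv K hK).toEquiv (fun h => Iff.rfl))
  rw [h2, mul_div_assoc]

theorem isInducedBlock_whole_iff [hPr : M.IsPrime] (K : Subgroup G) (hK : ∀ g : G, g ∈ K)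
    {b : Set (IrrCharacter K)} {B : Set (IrrCharacter G)} (hB : IsPBlock M B) :
    IsInducedBlock M K b B ↔ b = irrEquiv (wholeEquiv K hK) '' B := by
  classical
  haveI : Fintype K := Fintype.ofFinite _
  constructor
  · intro h
    refine block_eq_of_subset h.1 (isPBlock_irrEquiv_image _ hB) ?_
    intro ξ hξ
    obtain ⟨χ, hχ⟩ := block_nonempty hB
    refine ⟨(irrEquiv (wholeEquiv K hK)).symm ξ, ?_, Equiv.apply_symm_apply _ ξ⟩
    have h1 := h.2.2 ξ hξ χ hχ
    have hs : SameBlock M (((irrEquiv (wholeEquiv K hK)).symm ξ : IrrCharacter G) : G → ℂ)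
        (χ : G → ℂ) := by
      intro g
      have h2 := h1 g
      rw [← inducedCentralChar_whole K hK]
      rwa [Equiv.apply_symm_apply]
    obtain ⟨χ₀, rfl⟩ := hB
    exact sameBlock_trans hχ (sameBlock_symm hs)
  · rintro rfl
    refine ⟨isPBlock_irrEquiv_image _ hB, hB, ?_⟩
    rintro _ ⟨χ', hχ', rfl⟩ χ hχ g
    rw [inducedCentralChar_whole]
    obtain ⟨χ₀, rfl⟩ := hB
    exact sameBlock_trans (sameBlock_symm hχ') hχ g

/-- The contribution of `x = 1` to Brauer's count is `l(B)`. -/
theorem finsum_induced_one [hPr : M.IsPrime] {B : Set (IrrCharacter G)} (hB : IsPBlock M B) :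
    ∑ᶠ b ∈ {b : Set (IrrCharacter (Subgroup.centralizer ({(1 : G)} : Set G))) |
      IsInducedBlock M (Subgroup.centralizer ({(1 : G)} : Set G)) b B}, blockRank p b =
    blockRank p B := by
  classical
  haveI : Fintype (Subgroup.centralizer ({(1 : G)} : Set G)) := Fintype.ofFinite _
  have hK : ∀ g : G, g ∈ Subgroup.centralizer ({(1 : G)} : Set G) := by
    intro g
    rw [Subgroup.mem_centralizer_iff]
    intro h hh
    rw [Set.mem_singleton_iff.1 hh, one_mul, mul_one]
  have hset : {b : Set (IrrCharacter (Subgroup.centralizer ({(1 : G)} : Set G))) |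
      IsInducedBlock M (Subgroup.centralizer ({(1 : G)} : Set G)) b B} =
      {irrEquiv (wholeEquiv _ hK) '' B} := by
    ext b
    rw [Set.mem_ofPred_eq, isInducedBlock_whole_iff _ hK hB, Set.mem_singleton_iff]
  rw [hset, finsum_mem_singleton, blockRank_irrEquiv_image]

end Pairs

end Cfsg.Agent.Lib.H22.Subsec
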