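import Mathlib
import Cfsg.Prelude.Def_Blocks
import Cfsg.Agent.Lib.H4.PCOMPLcore
import Cfsg.Agent.Lib.H23.PPart

/-!
# S1950, piece PAIR (helper22): two elements of order `p` in a group with cyclic Sylow `p`-subgroups

`G` finite with a cyclic Sylow `p`-subgroup, `x`, `y` of order `p` generating a `p`-soluble subgroup `H`.
Then `H = K ⋊ ⟨x⟩` with `K = O_{p'}(H)` of index `p`; `y` is `H`-conjugate to `x ^ j` for a unique
`0 < j < p`; `x ^ a * y` is `p`-regular when `p ∣ a + j`, and otherwise its `p`-part is `H`-conjugate to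
`x ^ (a + j)`.
-/

set_option autoImplicit false

namespace Cfsg.Agent.Lib.H22.CY

open Cfsg

universe u

variable {G : Type u} [Group G] [Finite G] {p : ℕ} [Fact p.Prime]

/-- every `p`-subgroup of a group with a cyclic Sylow `p`-subgroup is cyclic. -/
theorem isCyclic_of_isPGroup (P : Sylow p G) (hP : IsCyclic ↥(P : Subgroup G)) (H : Subgroup G)
    (hH : IsPGroup p H) : IsCyclic H := by
  obtain ⟨Q, hQ⟩ := hH.exists_le_sylow
  let e : ↥(P : Subgroup G) ≃* ↥(Q : Subgroup G) := Sylow.equiv P Q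
  have hcQ : IsCyclic ↥(Q : Subgroup G) := isCyclic_of_surjective e e.surjective
  exact isCyclic_of_injective (Subgroup.inclusion hQ) (Subgroup.inclusion_injective hQ)

omit [Finite G] in
/-- elements of a cyclic subgroup commute. -/
theorem comm_of_isCyclic (P : Subgroup G) (hP : IsCyclic ↥P) :
    ∀ a ∈ P, ∀ b ∈ P, a * b = b * a := by
  intro a ha b hb
  obtain ⟨g, hg⟩ := hP.exists_generator
  obtain ⟨m, hm⟩ := Subgroup.mem_zpowers_iff.1 (hg ⟨a, ha⟩)
  obtain ⟨n, hn⟩ := Subgroup.mem_zpowers_iff.1 (hg ⟨b, hb⟩)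
  have h := (Commute.refl g).zpow_zpow m n
  rw [hm, hn] at h
  exact congrArg Subtype.val h.eq

/-- The structure of a `p`-soluble group `X` with cyclic Sylow `p`-subgroups generated by two elements
`x`, `y` of order `p`: a normal `p'`-subgroup `K` of index `p`. -/
theorem exists_normal_index_p {X : Type u} [Group X] [Finite X] (hsol : IsPSolvable p X)
    (hcyc : ∀ Q : Subgroup X, IsPGroup p Q → IsCyclic Q)
    (x y : X) (hx : orderOf x = p) (hy : orderOf y = p)
    (hgen : Subgroup.closure ({x, y} : Set X) = ⊤) :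
    ∃ K : Subgroup X, K.Normal ∧ (Nat.card K).Coprime p ∧ K.index = p ∧
      ∀ g : X, (orderOf g).Coprime p → g ∈ K := by
  have hp : p.Prime := Fact.out
  obtain ⟨S⟩ : Nonempty (Sylow p X) := inferInstance
  have hScyc : IsCyclic ↥(S : Subgroup X) := hcyc S S.2
  have hS : ∀ a ∈ (S : Subgroup X), ∀ b ∈ (S : Subgroup X), a * b = b * a :=
    comm_of_isCyclic (S : Subgroup X) hScyc
  have hT : ∀ t ∈ ({x, y} : Set X), ∃ k : ℕ, orderOf t = p ^ k := by
    rintro t (rfl | rfl)
    · exact ⟨1, by rw [hx, pow_one]⟩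
    · exact ⟨1, by rw [hy, pow_one]⟩
  obtain ⟨K, hKn, hKc, ⟨m, hm⟩, hK⟩ :=
    Cfsg.Agent.Lib.H4.PC.exists_pprime_normal_of_gen p hsol S hS ({x, y} : Set X) hT hgen
  have := hKn
  refine ⟨K, hKn, hKc, ?_, hK⟩
  -- the quotient is cyclic: `S` maps onto it
  have hcardX : Nat.card X = Nat.card K * p ^ m := by rw [← hm, Subgroup.card_mul_index]
  have hcardS : Nat.card (S : Subgroup X) = p ^ m := by
    rw [S.card_eq_multiplicity, hcardX, Nat.factorization_mul (Nat.card_pos.ne') (pow_pos hp.pos m).ne',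
      Finsupp.add_apply, Nat.factorization_eq_zero_of_not_dvd
        ((Nat.Prime.coprime_iff_not_dvd hp).1 hKc.symm), zero_add, hp.factorization_pow,
      Finsupp.single_eq_same]
  let f : ↥(S : Subgroup X) →* X ⧸ K := (QuotientGroup.mk' K).comp (S : Subgroup X).subtype
  have hfinj : Function.Injective f := by
    rw [injective_iff_map_eq_one]
    intro s hs
    have hsK : (s : X) ∈ K := by
      have : ((s : X) : X ⧸ K) = 1 := hs
      rwa [QuotientGroup.eq_one_iff] at this
    have h1 : orderOf (s : X) ∣ Nat.card K := by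
      have := orderOf_dvd_natCard (⟨(s : X), hsK⟩ : K)
      rwa [Subgroup.orderOf_mk] at this
    obtain ⟨k, hk⟩ := (IsPGroup.iff_orderOf.1 S.isPGroup') s
    rw [Subgroup.orderOf_coe] at h1
    have h2 : orderOf s ∣ p ^ k := hk ▸ dvd_rfl
    have h3 : orderOf s = 1 :=
      Nat.eq_one_of_dvd_coprimes (Nat.Coprime.pow_right k hKc) h1 h2
    exact orderOf_eq_one_iff.1 h3
  have hcardQ : Nat.card (X ⧸ K) = p ^ m := by rw [← Subgroup.index_eq_card, hm]
  have hfsurj : Function.Surjective f := by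
    have hb : Function.Bijective f := by
      rw [Nat.bijective_iff_injective_and_card]
      exact ⟨hfinj, by rw [hcardS, hcardQ]⟩
    exact hb.2
  have hQcyc : IsCyclic (X ⧸ K) := isCyclic_of_surjective f hfsurj
  -- every element of the quotient has `p`-th power one
  have hcomm : ∀ a b : X ⧸ K, a * b = b * a := by
    intro a b
    obtain ⟨g, hg⟩ := hQcyc.exists_generator
    obtain ⟨i, hi⟩ := Subgroup.mem_zpowers_iff.1 (hg a)
    obtain ⟨j, hj⟩ := Subgroup.mem_zpowers_iff.1 (hg b)
    rw [← hi, ← hj]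
    exact ((Commute.refl g).zpow_zpow i j).eq
  have hpow : ∀ g : X, ((g : X ⧸ K)) ^ p = 1 := by
    intro g
    have hmem : g ∈ Subgroup.closure ({x, y} : Set X) := by rw [hgen]; trivial
    induction hmem using Subgroup.closure_induction with
    | mem w hw =>
      rcases hw with rfl | rfl
      · rw [← QuotientGroup.mk_pow, ← hx, pow_orderOf_eq_one]; rfl
      · rw [← QuotientGroup.mk_pow, ← hy, pow_orderOf_eq_one]; rfl
    | one => simp
    | mul u v _ _ ihu ihv =>
      rw [QuotientGroup.mk_mul, (show Commute (u : X ⧸ K) (v : X ⧸ K) from hcomm _ _).mul_pow, ihu,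
        ihv, one_mul]
    | inv u _ ihu => rw [QuotientGroup.mk_inv, inv_pow, ihu, inv_one]
  have hexp : Monoid.exponent (X ⧸ K) ∣ p := by
    apply Monoid.exponent_dvd_of_forall_pow_eq_one
    intro q
    obtain ⟨g, rfl⟩ := QuotientGroup.mk_surjective q
    exact hpow g
  rw [IsCyclic.exponent_eq_card] at hexp
  rcases (Nat.dvd_prime hp).1 hexp with h1 | h1
  · exfalso
    -- then `x ∈ K`, impossible
    have hxK : x ∈ K := by
      rw [← QuotientGroup.eq_one_iff]
      have : Subsingleton (X ⧸ K) := (Nat.card_eq_one_iff_unique.1 h1).1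
      exact Subsingleton.elim _ _
    have h2 : orderOf x ∣ Nat.card K := by
      have := orderOf_dvd_natCard (⟨x, hxK⟩ : K)
      rwa [Subgroup.orderOf_mk] at this
    rw [hx] at h2
    exact (Nat.Prime.coprime_iff_not_dvd hp).1 hKc.symm h2
  · rw [Subgroup.index_eq_card]; exact h1

omit [Finite G] in
/-- the two generators generate `closure {x, y}` as a group. -/
theorem closure_pair_eq_top (x y : G) :
    Subgroup.closure ({⟨x, Subgroup.subset_closure (by simp)⟩, ⟨y, Subgroup.subset_closure (by simp)⟩} :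
      Set ↥(Subgroup.closure ({x, y} : Set G))) = ⊤ := by
  rw [eq_top_iff]
  rintro ⟨g, hg⟩ -
  have key : ∀ w (hw : w ∈ Subgroup.closure ({x, y} : Set G)),
      (⟨w, hw⟩ : ↥(Subgroup.closure ({x, y} : Set G))) ∈ Subgroup.closure
        ({⟨x, Subgroup.subset_closure (by simp)⟩, ⟨y, Subgroup.subset_closure (by simp)⟩} :
          Set ↥(Subgroup.closure ({x, y} : Set G))) := by
    intro w hw
    induction hw using Subgroup.closure_induction with
    | mem v hv =>
      apply Subgroup.subset_closure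
      rcases hv with h | h
      · left; exact Subtype.ext h
      · right; exact Subtype.ext h
    | one => exact Subgroup.one_mem _
    | mul u v hu hv ihu ihv => exact Subgroup.mul_mem _ ihu ihv
    | inv u hu ihu => exact Subgroup.inv_mem _ ihu
  exact key g hg

/-- **PAIR, K-form.** `G` finite with a cyclic Sylow `p`-subgroup, `z`, `y` of order `p` generating a
`p`-soluble subgroup `H`: there is a subgroup `K ≤ H`, normalised by `H`, of order prime to `p` and of
index `p` in `H`, containing every `p`-regular element of `H`. -/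
theorem exists_K (P : Sylow p G) (hP : IsCyclic ↥(P : Subgroup G)) {z y : G} (hz : orderOf z = p)
    (hy : orderOf y = p) (hsol : IsPSolvable p ↥(Subgroup.closure ({z, y} : Set G))) :
    ∃ K : Subgroup G, K ≤ Subgroup.closure ({z, y} : Set G) ∧
      (∀ h ∈ Subgroup.closure ({z, y} : Set G), ∀ k ∈ K, h * k * h⁻¹ ∈ K) ∧
      (Nat.card K).Coprime p ∧ K.relIndex (Subgroup.closure ({z, y} : Set G)) = p ∧
      ∀ g ∈ Subgroup.closure ({z, y} : Set G), (orderOf g).Coprime p → g ∈ K := by
  set X : Subgroup G := Subgroup.closure ({z, y} : Set G) with hX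
  have hcyc : ∀ Q : Subgroup X, IsPGroup p Q → IsCyclic Q := by
    intro Q hQ
    have h1 : IsCyclic ↥(Q.map X.subtype) := isCyclic_of_isPGroup P hP _ (hQ.map _)
    let e : Q ≃* ↥(Q.map X.subtype) := Q.equivMapOfInjective _ (Subgroup.subtype_injective X)
    exact isCyclic_of_surjective e.symm e.symm.surjective
  have hzX : z ∈ X := Subgroup.subset_closure (by simp)
  have hyX : y ∈ X := Subgroup.subset_closure (by simp)
  obtain ⟨K', hKn, hKc, hKi, hK⟩ := exists_normal_index_p hsol hcyc ⟨z, hzX⟩ ⟨y, hyX⟩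
    (by rw [← Subgroup.orderOf_coe]; exact hz) (by rw [← Subgroup.orderOf_coe]; exact hy)
    (closure_pair_eq_top z y)
  refine ⟨K'.map X.subtype, ?_, ?_, ?_, ?_, ?_⟩
  · rintro _ ⟨k, -, rfl⟩
    exact k.2
  · rintro h hh _ ⟨k, hk, rfl⟩
    refine ⟨⟨h, hh⟩ * k * ⟨h, hh⟩⁻¹, hKn.conj_mem k hk ⟨h, hh⟩, ?_⟩
    simp
  · rwa [← Nat.card_congr (K'.equivMapOfInjective _ (Subgroup.subtype_injective X)).toEquiv]
  · rw [Subgroup.relIndex, Subgroup.subgroupOf,
      Subgroup.comap_map_eq_self_of_injective (Subgroup.subtype_injective X)]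
    exact hKi
  · intro g hg hcop
    refine ⟨⟨g, hg⟩, hK ⟨g, hg⟩ ?_, rfl⟩
    rwa [← Subgroup.orderOf_coe]

end Cfsg.Agent.Lib.H22.CY
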