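import Mathlib
import Cfsg.Agent.Lib.H22.CYPAIR
import Cfsg.Agent.Lib.H23.PPart2

/-!
# S1950, piece PAIRC (helper22): the pair lemma, cyclic form, exact signature of
`tools/blueprints/S1950_sigs_h12.lean`.
-/

set_option autoImplicit false

namespace Cfsg.Agent.Lib.H22.CY

open Cfsg

universe u

variable {G : Type u} [Group G] [Finite G] {p : ℕ} [Fact p.Prime]

omit [Finite G] [Fact p.Prime] in
/-- a `p`-part of `w` is a power of `w`. -/
theorem isPPart_mem_zpowers (hp : p.Prime) {w s : G} (hs : IsPPart p w s) : s ∈ Subgroup.zpowers w := by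
  obtain ⟨c, e, hpc, -, -, hgc, -, hxe, -, -⟩ := Cfsg.Agent.Lib.H23.IsPPart.pow_data hp hs hs
  obtain ⟨m, hm⟩ := Cfsg.Agent.Lib.H23.exists_pow_pow_eq_self hp hpc hxe
  rw [← hm, ← hgc, ← pow_mul]
  exact Subgroup.npow_mem_zpowers w _

/-- PAIRC. The pair lemma, cyclic form. -/
theorem pairc (P : Sylow p G) (hP : IsCyclic ↥(P : Subgroup G)) {x y : G} (hx : orderOf x = p) (hy : orderOf y = p)
    (hH : Cfsg.IsPSolvable p ↥(Subgroup.closure ({x, y} : Set G))) :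
    ∃ j : ℕ, ¬ p ∣ j ∧ ∀ u v : ℕ,
      (p ∣ u + j * v → ¬ p ∣ orderOf (x ^ u * y ^ v)) ∧
      (¬ p ∣ u + j * v → ∃ s t : G, Cfsg.IsPPart p (x ^ u * y ^ v) s ∧ t * x ^ (u + j * v) * t⁻¹ = s) := by
  classical
  have hp : p.Prime := Fact.out
  obtain ⟨K, hKX, hKnorm, hKc, hKi, hKreg⟩ := exists_K P hP hx hy hH
  set X : Subgroup G := Subgroup.closure ({x, y} : Set G) with hX
  have hxX : x ∈ X := Subgroup.subset_closure (by simp)
  have hyX : y ∈ X := Subgroup.subset_closure (by simp)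
  -- elements of `K` are `p`-regular
  have hKord : ∀ g ∈ K, ¬ p ∣ orderOf g := by
    intro g hg hdvd
    have h1 : orderOf g ∣ Nat.card K := by
      have := orderOf_dvd_natCard (⟨g, hg⟩ : K)
      rwa [Subgroup.orderOf_mk] at this
    exact (Nat.Prime.coprime_iff_not_dvd hp).1 hKc.symm (hdvd.trans h1)
  have hxK : x ∉ K := fun h => hKord x h (by rw [hx])
  have hyK : y ∉ K := fun h => hKord y h (by rw [hy])
  -- the quotient
  haveI hK'n : (K.subgroupOf X).Normal := by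
    constructor
    intro k hk h
    rw [Subgroup.mem_subgroupOf] at hk ⊢
    simpa using hKnorm h h.2 k hk
  let φ : X →* X ⧸ K.subgroupOf X := QuotientGroup.mk' (K.subgroupOf X)
  have hφ1 : ∀ g : X, φ g = 1 ↔ (g : G) ∈ K := by
    intro g
    rw [QuotientGroup.mk'_apply, QuotientGroup.eq_one_iff, Subgroup.mem_subgroupOf]
  have hcardQ : Nat.card (X ⧸ K.subgroupOf X) = p := by
    rw [← Subgroup.index_eq_card]; exact hKi
  have hQcyc : IsCyclic (X ⧸ K.subgroupOf X) := isCyclic_of_prime_card hcardQ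
  have hcomm : ∀ a b : X ⧸ K.subgroupOf X, a * b = b * a := by
    intro a b
    obtain ⟨g, hg⟩ := hQcyc.exists_generator
    obtain ⟨i, hi⟩ := Subgroup.mem_zpowers_iff.1 (hg a)
    obtain ⟨j, hj⟩ := Subgroup.mem_zpowers_iff.1 (hg b)
    rw [← hi, ← hj]
    exact ((Commute.refl g).zpow_zpow i j).eq
  set xX : X := ⟨x, hxX⟩ with hxXdef
  set yX : X := ⟨y, hyX⟩ with hyXdef
  have hφx1 : φ xX ≠ 1 := fun h => hxK ((hφ1 xX).1 h)
  have hφy1 : φ yX ≠ 1 := fun h => hyK ((hφ1 yX).1 h)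
  have hordφx : orderOf (φ xX) = p := by
    have h1 : orderOf (φ xX) ∣ p := hcardQ ▸ orderOf_dvd_natCard (φ xX)
    rcases (Nat.dvd_prime hp).1 h1 with h | h
    · exact absurd (orderOf_eq_one_iff.1 h) hφx1
    · exact h
  have htop : Subgroup.zpowers (φ xX) = ⊤ := zpowers_eq_top_of_prime_card hcardQ hφx1
  have hymem : φ yX ∈ Subgroup.zpowers (φ xX) := by rw [htop]; trivial
  obtain ⟨j0, hj0⟩ := Subgroup.mem_zpowers_iff.1 hymem
  -- a natural exponent
  obtain ⟨j, hj⟩ : ∃ j : ℕ, φ xX ^ j = φ yX := by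
    refine ⟨(j0 % (p : ℤ)).toNat, ?_⟩
    have hpos : (0 : ℤ) ≤ j0 % (p : ℤ) := Int.emod_nonneg _ (by exact_mod_cast hp.pos.ne')
    rw [← zpow_natCast, Int.toNat_of_nonneg hpos, ← hordφx, zpow_mod_orderOf, hj0]
  have hpj : ¬ p ∣ j := by
    intro hdvd
    apply hφy1
    rw [← hj]
    obtain ⟨k, rfl⟩ := hdvd
    rw [pow_mul, ← hordφx, pow_orderOf_eq_one, one_pow]
  refine ⟨j, hpj, ?_⟩
  intro u v
  have hwX : x ^ u * y ^ v ∈ X := X.mul_mem (X.pow_mem hxX u) (X.pow_mem hyX v)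
  have hφw : φ ⟨x ^ u * y ^ v, hwX⟩ = φ xX ^ (u + j * v) := by
    have : (⟨x ^ u * y ^ v, hwX⟩ : X) = xX ^ u * yX ^ v := Subtype.ext (by simp [hxXdef, hyXdef])
    rw [this, map_mul, map_pow, map_pow, ← hj, ← pow_mul, ← pow_add]
  constructor
  · intro hdvd
    apply hKord
    rw [← hφ1 ⟨x ^ u * y ^ v, hwX⟩, hφw]
    obtain ⟨k, hk⟩ := hdvd
    rw [hk, pow_mul, ← hordφx, pow_orderOf_eq_one, one_pow]
  · intro hndvd
    have hφwne : φ ⟨x ^ u * y ^ v, hwX⟩ ≠ 1 := by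
      rw [hφw]
      intro h
      apply hndvd
      rw [← hordφx]
      exact orderOf_dvd_of_pow_eq_one h
    obtain ⟨s, hs⟩ := Cfsg.Agent.Lib.H23.exists_isPPart hp (x ^ u * y ^ v) (isOfFinOrder_of_finite _)
    have hsX : s ∈ X := by
      have h1 := isPPart_mem_zpowers hp hs
      exact (Subgroup.zpowers_le.2 hwX) h1
    obtain ⟨r, hsr, hcomm', ⟨k, hk⟩, hpr⟩ := hs
    have hrX : r ∈ X := by
      have : r = s⁻¹ * (x ^ u * y ^ v) := by rw [← hsr]; group
      rw [this]; exact X.mul_mem (X.inv_mem hsX) hwX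
    have hrK : r ∈ K := hKreg r hrX ((Nat.Prime.coprime_iff_not_dvd hp).2 hpr).symm
    -- `s` and `w` have the same image
    have hφs : φ ⟨s, hsX⟩ = φ xX ^ (u + j * v) := by
      rw [← hφw]
      have h1 : (⟨x ^ u * y ^ v, hwX⟩ : X) = ⟨s, hsX⟩ * ⟨r, hrX⟩ := Subtype.ext (by simp [hsr])
      rw [h1, map_mul, (hφ1 ⟨r, hrX⟩).2 hrK, mul_one]
    -- Sylow in `X`
    have hcardK' : Nat.card (K.subgroupOf X) = Nat.card K :=
      Nat.card_congr (Subgroup.subgroupOfEquivOfLe hKX).toEquiv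
    have hcardX : Nat.card X = Nat.card K * p := by
      rw [← hcardK', ← hKi, Subgroup.relIndex, Subgroup.card_mul_index]
    have hfac : (Nat.card X).factorization p = 1 := by
      rw [hcardX, Nat.factorization_mul (Nat.card_pos.ne') hp.pos.ne', Finsupp.add_apply,
        Nat.factorization_eq_zero_of_not_dvd ((Nat.Prime.coprime_iff_not_dvd hp).1 hKc.symm),
        zero_add, hp.factorization_self]
    have hordxX : orderOf xX = p := by rw [← Subgroup.orderOf_coe]; exact hx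
    have hSx : Nat.card (Subgroup.zpowers xX) = p ^ (Nat.card X).factorization p := by
      rw [Nat.card_zpowers, hordxX, hfac, pow_one]
    let Sx : Sylow p X := Sylow.ofCard (Subgroup.zpowers xX) hSx
    have hpg : IsPGroup p (Subgroup.zpowers (⟨s, hsX⟩ : X)) := by
      rw [IsPGroup.iff_card]
      refine ⟨k, ?_⟩
      rw [Nat.card_zpowers, ← Subgroup.orderOf_coe]
      exact hk
    obtain ⟨S', hS'⟩ := hpg.exists_le_sylow
    obtain ⟨h, hh⟩ := MulAction.exists_smul_eq X Sx S'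
    have hsS' : (⟨s, hsX⟩ : X) ∈ (S' : Subgroup X) := hS' (Subgroup.mem_zpowers _)
    rw [← hh, Sylow.coe_subgroup_smul, Subgroup.mem_pointwise_smul_iff_inv_smul_mem] at hsS'
    have hconj : h⁻¹ * ⟨s, hsX⟩ * h ∈ Subgroup.zpowers xX := by
      have : (MulAut.conj h)⁻¹ • (⟨s, hsX⟩ : X) = h⁻¹ * ⟨s, hsX⟩ * h := by
        rw [MulAut.smul_def, MulAut.conj_inv_apply]
      rw [← this]; exact hsS'
    obtain ⟨i0, hi0⟩ := Subgroup.mem_zpowers_iff.1 hconj
    -- compare images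
    have himg : φ xX ^ i0 = φ xX ^ ((u + j * v : ℕ) : ℤ) := by
      have h1 : φ (h⁻¹ * ⟨s, hsX⟩ * h) = φ ⟨s, hsX⟩ := by
        rw [map_mul, map_mul, hcomm (φ h⁻¹) _, mul_assoc, ← map_mul, inv_mul_cancel, map_one, mul_one]
      rw [← map_zpow, hi0, h1, hφs, zpow_natCast]
    have hmod : i0 ≡ ((u + j * v : ℕ) : ℤ) [ZMOD (p : ℤ)] := by
      rw [← hordφx]
      exact zpow_eq_zpow_iff_modEq.1 himg
    have hxi : x ^ i0 = x ^ (u + j * v) := by
      rw [← zpow_natCast]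
      apply zpow_eq_zpow_iff_modEq.2
      rw [hx]; exact hmod
    refine ⟨s, (h : G), ⟨r, hsr, hcomm', ⟨k, hk⟩, hpr⟩, ?_⟩
    rw [← hxi]
    have h2 : ((h⁻¹ * ⟨s, hsX⟩ * h : X) : G) = x ^ i0 := by
      rw [← hi0]; simp [hxXdef]
    have h3 : (h : G)⁻¹ * s * (h : G) = x ^ i0 := by
      rw [← h2]; simp
    rw [← h3]; group

end Cfsg.Agent.Lib.H22.CY
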