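import Mathlib
import Cfsg.Prelude.Def_OddOrderLocal
import Cfsg.Prelude.Def_CaseTheorems
import Cfsg.Agent.Lib.H19.R2Defs
import Cfsg.Agent.Lib.H16.Metacyclic
import Cfsg.Agent.Lib.H22.UniqueOrderP

/-!
# S3888 piece B1 (`mnm_index_LB`): for a minimal nonmetacyclic `p`-group, `G / LB` has order `p ^ 3`
and exponent `p` (helper22)
-/

set_option autoImplicit false

namespace Cfsg.Agent.Lib.H22.R2

open Cfsg Cfsg.Agent.Lib.H19.R2
open scoped commutatorElement

universe u

variable {p : ℕ} [Fact p.Prime] {G : Type u} [Group G] [Finite G]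

/-- B1. -/
theorem mnm_index_LB (hp2 : p ≠ 2) (hG : IsPGroup p G) (h : MNM G)
    (hq : ¬ Cfsg.IsMetacyclic (G ⧸ LB p G))
    (hup : (agemo p (G ⧸ LB p G)).index ≤ p ^ 2 → Cfsg.IsMetacyclic (G ⧸ LB p G)) :
    (LB p G).index = p ^ 3 ∧ ∀ g : G, g ^ p ∈ LB p G := by
  classical
  have hpp : p.Prime := Fact.out
  let f : G →* G ⧸ LB p G := QuotientGroup.mk' (LB p G)
  have hf : Function.Surjective f := QuotientGroup.mk'_surjective _
  have hf1 : ∀ g : G, g ∈ LB p G → f g = 1 := fun g hg => (QuotientGroup.eq_one_iff g).mpr hg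
  have hcm : ∀ a b : G, ⁅a, b⁆ ∈ commutator G := by
    intro a b
    rw [commutator_def]
    exact Subgroup.commutator_mem_commutator (Subgroup.mem_top a) (Subgroup.mem_top b)
  -- (1) class ≤ 2, commutators of exponent p
  have hcl : ∀ a b c : G ⧸ LB p G, ⁅⁅a, b⁆, c⁆ = 1 := by
    intro a b c
    obtain ⟨a, rfl⟩ := hf a
    obtain ⟨b, rfl⟩ := hf b
    obtain ⟨c, rfl⟩ := hf c
    rw [← map_commutatorElement, ← map_commutatorElement]
    apply hf1
    apply le_sup_right (a := agemoOf p (commutator G))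
    rw [Subgroup.lowerCentralSeries_succ, Subgroup.top_lowerCentralSeries_one]
    exact Subgroup.commutator_mem_commutator (hcm a b) (Subgroup.mem_top c)
  have hexp : ∀ a b : G ⧸ LB p G, ⁅a, b⁆ ^ p = 1 := by
    intro a b
    obtain ⟨a, rfl⟩ := hf a
    obtain ⟨b, rfl⟩ := hf b
    rw [← map_commutatorElement, ← map_pow]
    apply hf1
    apply le_sup_left (b := (⊤ : Subgroup G).lowerCentralSeries 2)
    exact pow_mem_agemoOf p (hcm a b)
  -- (2) the p-power map is multiplicative
  have hodd : p * (p - 1) / 2 = p * ((p - 1) / 2) := by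
    apply Nat.mul_div_assoc
    rcases hpp.eq_two_or_odd' with h2 | ho
    · exact absurd h2 hp2
    · obtain ⟨k, hk⟩ := ho
      exact ⟨k, by omega⟩
  have hmulpow : ∀ x y : G ⧸ LB p G, (x * y) ^ p = x ^ p * y ^ p := by
    intro x y
    have hc : ∀ g : G ⧸ LB p G, g * (y * x * y⁻¹ * x⁻¹) = (y * x * y⁻¹ * x⁻¹) * g := by
      intro g
      have := hcl y x g
      rw [commutatorElement_eq_one_iff_mul_comm, commutatorElement_def] at this
      exact this.symm
    rw [Cfsg.Agent.Lib.H22.mul_pow_of_central hc p]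
    have h1 : (y * x * y⁻¹ * x⁻¹) ^ (p * (p - 1) / 2) = 1 := by
      have h2 := hexp y x
      rw [commutatorElement_def] at h2
      rw [hodd, pow_mul, h2, one_pow]
    rw [h1, mul_one]
  let π : (G ⧸ LB p G) →* (G ⧸ LB p G) :=
    { toFun := fun q => q ^ p, map_one' := one_pow p, map_mul' := hmulpow }
  have hπ : ∀ q, π q = q ^ p := fun _ => rfl
  -- (3)
  have hrange_le : π.range ≤ agemo p (G ⧸ LB p G) := by
    rintro _ ⟨q, rfl⟩
    exact pow_mem_agemo p q
  have hnot : ¬ (agemo p (G ⧸ LB p G)).index ≤ p ^ 2 := fun hh => hq (hup hh)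
  have hidx_range : p ^ 2 < π.range.index := by
    have h1 : (agemo p (G ⧸ LB p G)).index ∣ π.range.index := Subgroup.index_dvd_of_le hrange_le
    have h2 : π.range.index ≠ 0 := Subgroup.index_ne_zero_of_finite
    have := Nat.le_of_dvd (Nat.pos_of_ne_zero h2) h1
    omega
  have hker_card : Nat.card π.ker = π.range.index := by
    have h1 := Subgroup.card_mul_index π.ker
    have h2 := Subgroup.card_mul_index π.range
    rw [Subgroup.index_ker] at h1
    have h3 : Nat.card π.range * Nat.card π.ker = Nat.card π.range * π.range.index := by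
      rw [h2, mul_comm, h1]
    exact Nat.eq_of_mul_eq_mul_left Nat.card_pos h3
  -- proper subgroups of the quotient are metacyclic
  have hprop : ∀ S : Subgroup (G ⧸ LB p G), S ≠ ⊤ → Cfsg.IsMetacyclic ↥S := by
    intro S hS
    have hne : S.comap f ≠ ⊤ := by
      intro htop
      apply hS
      rw [eq_top_iff]
      intro q _
      obtain ⟨g, rfl⟩ := hf q
      have : g ∈ S.comap f := by rw [htop]; trivial
      exact this
    have hm := h.2 _ hne
    exact Cfsg.Agent.Lib.H16.Meta.isMetacyclic_of_surjective hm (f.subgroupComap S)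
      (f.subgroupComap_surjective_of_surjective S hf)
  -- (6) the quotient has exponent p
  have hker_top : π.ker = ⊤ := by
    by_contra hne
    have hm := hprop _ hne
    have hle := Cfsg.Agent.Lib.H16.Meta.card_le_sq_of_pow_eq_one hm hpp.pos (fun x => by
      apply Subtype.ext
      rw [Subgroup.coe_pow, Subgroup.coe_one]
      exact x.2)
    omega
  have hexpQ : ∀ q : G ⧸ LB p G, q ^ p = 1 := by
    intro q
    have : q ∈ π.ker := by rw [hker_top]; trivial
    exact this
  have hpow : ∀ g : G, g ^ p ∈ LB p G := by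
    intro g
    rw [← QuotientGroup.eq_one_iff, QuotientGroup.mk_pow]
    exact hexpQ _
  -- (8) the order is p ^ 3
  have hQcard : p ^ 2 < Nat.card (G ⧸ LB p G) := by
    have : Nat.card π.ker = Nat.card (G ⧸ LB p G) := by rw [hker_top, Subgroup.card_top]
    omega
  have hQp : IsPGroup p (G ⧸ LB p G) := hG.to_quotient _
  obtain ⟨k, hk⟩ := IsPGroup.iff_card.mp hQp
  have hk3 : 3 ≤ k := by
    by_contra hlt
    have h2 : k ≤ 2 := by omega
    have := Nat.pow_le_pow_right hpp.pos h2
    omega
  obtain ⟨S, hS⟩ := Sylow.exists_subgroup_card_pow_prime p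
    (show p ^ 3 ∣ Nat.card (G ⧸ LB p G) by rw [hk]; exact pow_dvd_pow p hk3)
  have hStop : S = ⊤ := by
    by_contra hne
    have hm := hprop S hne
    have hle := Cfsg.Agent.Lib.H16.Meta.card_le_sq_of_pow_eq_one hm hpp.pos (fun x => by
      apply Subtype.ext
      rw [Subgroup.coe_pow, Subgroup.coe_one]
      exact hexpQ x)
    rw [hS] at hle
    have := Nat.pow_lt_pow_right hpp.one_lt (show 2 < 3 by norm_num)
    omega
  refine ⟨?_, hpow⟩
  rw [Subgroup.index_eq_card, ← hS, hStop, Subgroup.card_top]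

end Cfsg.Agent.Lib.H22.R2
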