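import Mathlib
import Cfsg.Prelude.Def_OddOrderLocal
import Cfsg.Prelude.Def_CaseTheorems
import Cfsg.Agent.Lib.H19.R2Defs
import Cfsg.Agent.Lib.H1.PGroupBasic
import Cfsg.Agent.Lib.H22.UniqueOrderP

/-!
# S3888 piece B3 (`mnm_gamma3`): `G / LB` nonabelian of order `p ^ 3` gives the `Gam` data (helper22)
-/

set_option autoImplicit false

namespace Cfsg.Agent.Lib.H22.R2

open Cfsg Cfsg.Agent.Lib.H19.R2
open scoped commutatorElement

universe u

/-- `⁅a ^ n, b⁆ = ⁅a, b⁆ ^ n` when `⁅a, b⁆` commutes with `a`. -/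
theorem b3_commutator_pow_left {H : Type*} [Group H] (a b : H) (h : Commute ⁅a, b⁆ a) (n : ℕ) :
    ⁅a ^ n, b⁆ = ⁅a, b⁆ ^ n := by
  induction n with
  | zero => simp
  | succ n ih =>
    have h1 : ⁅a ^ (n + 1), b⁆ = a * ⁅a ^ n, b⁆ * a⁻¹ * ⁅a, b⁆ := by
      simp only [commutatorElement_def, pow_succ']; group
    rw [h1, ih]
    have h2 : Commute (⁅a, b⁆ ^ n) a := h.pow_left n
    rw [← h2.eq, mul_inv_cancel_right, pow_succ]

/-- a group generated by two commuting elements is commutative -/
theorem b3_comm_of_closure_pair {H : Type*} [Group H] {a b : H} (hab : a * b = b * a)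
    (hcl : Subgroup.closure ({a, b} : Set H) = ⊤) : ∀ x y : H, x * y = y * x := by
  have hle : Subgroup.closure ({a, b} : Set H) ≤ Subgroup.centralizer ({a, b} : Set H) := by
    rw [Subgroup.closure_le]
    intro x hx
    rw [SetLike.mem_coe, Subgroup.mem_centralizer_iff]
    intro y hy
    simp only [Set.mem_insert_iff, Set.mem_singleton_iff] at hx hy
    rcases hx with rfl | rfl <;> rcases hy with rfl | rfl
    · rfl
    · exact hab.symm
    · exact hab
    · rfl
  have hall : ∀ x : H, a * x = x * a ∧ b * x = x * b := by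
    intro x
    have hx : x ∈ Subgroup.centralizer ({a, b} : Set H) := hle (by rw [hcl]; trivial)
    rw [Subgroup.mem_centralizer_iff] at hx
    exact ⟨hx a (by simp), hx b (by simp)⟩
  have hc : Subgroup.closure ({a, b} : Set H) ≤ Subgroup.center H := by
    rw [Subgroup.closure_le]
    intro x hx
    rw [SetLike.mem_coe, Subgroup.mem_center_iff]
    intro g
    simp only [Set.mem_insert_iff, Set.mem_singleton_iff] at hx
    rcases hx with rfl | rfl
    · exact ((hall g).1).symm
    · exact ((hall g).2).symm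
  intro x y
  have hy : y ∈ Subgroup.center H := hc (by rw [hcl]; trivial)
  rw [Subgroup.mem_center_iff] at hy
  exact hy x

variable {p : ℕ} [Fact p.Prime] {G : Type u} [Group G] [Finite G]

/-- B3. -/
theorem mnm_gamma3 (hp2 : p ≠ 2) (hG : IsPGroup p G) (hidx : (LB p G).index = p ^ 3)
    (hpow : ∀ g : G, g ^ p ∈ LB p G) (hag : ∀ M : Subgroup G, M.index = p → agemoOf p M = LB p G)
    (hne : ¬ commutator G ≤ LB p G) : ∃ u v : G, Gam p G u v := by
  classical
  have hpp : p.Prime := Fact.out
  have hγG' : (⊤ : Subgroup G).lowerCentralSeries 2 ≤ commutator G := by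
    rw [← Subgroup.top_lowerCentralSeries_one]
    exact Subgroup.lowerCentralSeries_antitone _ (by norm_num)
  have hLG' : LB p G ≤ commutator G := by
    rw [LB]
    exact sup_le (agemoOf_le fun d hd => pow_mem hd p) hγG'
  have hγL : (⊤ : Subgroup G).lowerCentralSeries 2 ≤ LB p G := le_sup_right
  have hLn : (LB p G).Normal := inferInstance
  have hγn : ((⊤ : Subgroup G).lowerCentralSeries 2).Normal := inferInstance
  -- commutators with elements of `G'` lie in `γ₃`
  have hcomm_mem : ∀ k ∈ commutator G, ∀ g : G, ⁅k, g⁆ ∈ (⊤ : Subgroup G).lowerCentralSeries 2 := by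
    intro k hk g
    rw [Subgroup.lowerCentralSeries_succ, Subgroup.top_lowerCentralSeries_one]
    exact Subgroup.commutator_mem_commutator hk (Subgroup.mem_top g)
  -- step 1
  obtain ⟨u, v, huv⟩ : ∃ u v : G, ⁅u, v⁆ ∉ LB p G := by
    by_contra hcon
    push Not at hcon
    apply hne
    rw [commutator_def, Subgroup.commutator_le]
    intro a _ b _
    exact hcon a b
  -- step 2
  have hgen : Subgroup.closure ({u, v} : Set G) = ⊤ := by
    by_contra hH
    obtain ⟨M, hMco, hHM⟩ :=
      (eq_top_or_exists_le_coatom (Subgroup.closure ({u, v} : Set G))).resolve_left hH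
    have hMidx : M.index = p := Cfsg.Agent.Lib.H1.isPGroup_coatom_index hG hMco
    have hG'M : commutator G ≤ M := Cfsg.Agent.Lib.H22.commutator_le_of_index_eq_prime hG M hMidx
    have hLM : LB p G ≤ M := hLG'.trans hG'M
    have huM : u ∈ M := hHM (Subgroup.subset_closure (by simp))
    have hvM : v ∈ M := hHM (Subgroup.subset_closure (by simp))
    have hrel : (LB p G).relIndex M = p ^ 2 := by
      have h1 := Subgroup.relIndex_mul_index hLM
      rw [hMidx, hidx] at h1
      have : (LB p G).relIndex M * p = p ^ 2 * p := by rw [h1]; ring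
      exact Nat.eq_of_mul_eq_mul_right hpp.pos this
    have hcard : Nat.card (↥M ⧸ (LB p G).subgroupOf M) = p ^ 2 := by
      rw [← Subgroup.index_eq_card]; exact hrel
    have hcomm := IsPGroup.commutative_of_card_eq_prime_sq hcard
    apply huv
    have h2 : (⁅(⟨u, huM⟩ : M), ⟨v, hvM⟩⁆ : M) ∈ (LB p G).subgroupOf M := by
      rw [← QuotientGroup.eq_one_iff, ← QuotientGroup.mk'_apply, map_commutatorElement,
        commutatorElement_eq_one_iff_mul_comm]
      exact hcomm _ _
    exact h2
  -- step 3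
  have hcG' : ⁅u, v⁆ ∈ commutator G := by
    rw [commutator_def]
    exact Subgroup.commutator_mem_commutator (Subgroup.mem_top u) (Subgroup.mem_top v)
  have hKG' : Subgroup.zpowers ⁅u, v⁆ ⊔ (⊤ : Subgroup G).lowerCentralSeries 2 ≤ commutator G :=
    sup_le ((Subgroup.zpowers_le).mpr hcG') hγG'
  have hKn : (Subgroup.zpowers ⁅u, v⁆ ⊔ (⊤ : Subgroup G).lowerCentralSeries 2).Normal := by
    constructor
    intro k hk g
    have h1 : g * k * g⁻¹ = ⁅k, g⁆⁻¹ * k := by simp only [commutatorElement_def]; group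
    rw [h1]
    exact Subgroup.mul_mem _ (Subgroup.inv_mem _ (le_sup_right (a := Subgroup.zpowers ⁅u, v⁆)
      (hcomm_mem k (hKG' hk) g))) hk
  have hG'K : commutator G ≤ Subgroup.zpowers ⁅u, v⁆ ⊔ (⊤ : Subgroup G).lowerCentralSeries 2 := by
    set K := Subgroup.zpowers ⁅u, v⁆ ⊔ (⊤ : Subgroup G).lowerCentralSeries 2 with hK
    have hcl : Subgroup.closure ({(QuotientGroup.mk' K u), (QuotientGroup.mk' K v)} : Set (G ⧸ K)) = ⊤ := by
      have := congrArg (Subgroup.map (QuotientGroup.mk' K)) hgen
      rw [MonoidHom.map_closure, Subgroup.map_top_of_surjective _ (QuotientGroup.mk'_surjective K),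
        Set.image_pair] at this
      exact this
    have hcK : ⁅u, v⁆ ∈ K := le_sup_left (a := Subgroup.zpowers ⁅u, v⁆) (Subgroup.mem_zpowers _)
    have huv' : QuotientGroup.mk' K u * QuotientGroup.mk' K v = QuotientGroup.mk' K v * QuotientGroup.mk' K u := by
      rw [← commutatorElement_eq_one_iff_mul_comm, ← map_commutatorElement, QuotientGroup.mk'_apply,
        QuotientGroup.eq_one_iff]
      exact hcK
    have hq := b3_comm_of_closure_pair huv' hcl
    rw [commutator_def, Subgroup.commutator_le]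
    intro a _ b _
    rw [← QuotientGroup.eq_one_iff, ← QuotientGroup.mk'_apply, map_commutatorElement,
      commutatorElement_eq_one_iff_mul_comm]
    exact hq _ _
  have hcommeq : commutator G = Subgroup.zpowers ⁅u, v⁆ ⊔ (⊤ : Subgroup G).lowerCentralSeries 2 :=
    le_antisymm hG'K hKG'
  -- step 4
  have hmk1 : ∀ g : G, g ∈ (⊤ : Subgroup G).lowerCentralSeries 2 →
      QuotientGroup.mk' ((⊤ : Subgroup G).lowerCentralSeries 2) g = 1 := by
    intro g hg
    rw [QuotientGroup.mk'_apply, QuotientGroup.eq_one_iff]; exact hg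
  have hcp1 : (QuotientGroup.mk' ((⊤ : Subgroup G).lowerCentralSeries 2) ⁅u, v⁆) ^ p = 1 := by
    set f := QuotientGroup.mk' ((⊤ : Subgroup G).lowerCentralSeries 2) with hf
    have hcu : Commute ⁅f u, f v⁆ (f u) := by
      have := hmk1 _ (hcomm_mem _ hcG' u)
      rw [map_commutatorElement, commutatorElement_eq_one_iff_mul_comm] at this
      rw [← map_commutatorElement]
      exact this
    have h1 := b3_commutator_pow_left (f u) (f v) hcu p
    have h2 : ⁅u ^ p, v⁆ ∈ (⊤ : Subgroup G).lowerCentralSeries 2 :=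
      hcomm_mem _ (hLG' (hpow u)) v
    have h3 := hmk1 _ h2
    rw [map_commutatorElement, map_pow, h1, ← map_commutatorElement] at h3
    exact h3
  have hcpow : ⁅u, v⁆ ^ p ∈ (⊤ : Subgroup G).lowerCentralSeries 2 := by
    rw [← QuotientGroup.eq_one_iff, ← QuotientGroup.mk'_apply, map_pow]
    exact hcp1
  -- step 5
  have hagle : agemoOf p (commutator G) ≤ (⊤ : Subgroup G).lowerCentralSeries 2 := by
    apply agemoOf_le
    intro d hd
    rw [hcommeq, Subgroup.mem_sup_of_normal_right] at hd
    obtain ⟨y, hy, z, hz, rfl⟩ := hd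
    obtain ⟨i, rfl⟩ := Subgroup.mem_zpowers_iff.mp hy
    rw [← QuotientGroup.eq_one_iff, ← QuotientGroup.mk'_apply, map_pow, map_mul, hmk1 z hz, mul_one,
      map_zpow, ← zpow_natCast, ← zpow_mul, mul_comm, zpow_mul, zpow_natCast, hcp1, one_zpow]
  have hLeq : LB p G = (⊤ : Subgroup G).lowerCentralSeries 2 := by
    rw [LB]; exact sup_eq_right.mpr hagle
  refine ⟨u, v, ⟨hgen, ?_, hcpow, hcommeq, ?_, ?_, ?_⟩⟩
  · rw [← hLeq]; exact huv
  · rw [← hLeq]; exact hidx
  · intro g; rw [← hLeq]; exact hpow g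
  · intro M hM; rw [← hLeq]; exact hag M hM

end Cfsg.Agent.Lib.H22.R2
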