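import Mathlib

set_option autoImplicit false

/-!
# Suzuki: a `p`-group with a self-centralizing subgroup of order `p²` has maximal class
-/

namespace Cfsg.Agent.Lib.H22

universe u

/-- card of a `p`-subgroup squeezed -/
theorem card_eq_prime_pow_of_isPGroup {p : ℕ} [hp : Fact p.Prime] {G : Type*} [Group G] [Finite G]
    (hG : IsPGroup p G) (H : Subgroup G) : ∃ i, Nat.card H = p ^ i :=
  (IsPGroup.iff_card).mp (hG.to_subgroup H)

/-- One step of Suzuki's theorem: pass to the quotient by the centre. -/
theorem suzuki_step {p : ℕ} [hp : Fact p.Prime] {G : Type u} [Group G] [Finite G] {n : ℕ}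
    (hn : 2 ≤ n) (hcard : Nat.card G = p ^ (n + 1)) (A : Subgroup G) (hA : Nat.card A = p ^ 2)
    (hCA : Subgroup.centralizer (A : Set G) = A) :
    Nat.card (Subgroup.center G) = p ∧
      ∃ B : Subgroup (G ⧸ Subgroup.center G), Nat.card B = p ^ 2 ∧
        Subgroup.centralizer (B : Set (G ⧸ Subgroup.center G)) = B := by
  have hp1 : 1 < p := hp.out.one_lt
  have hG : IsPGroup p G := IsPGroup.of_card hcard
  have hGnt : Nontrivial G := by
    rw [← Finite.one_lt_card_iff_nontrivial, hcard]
    exact Nat.one_lt_pow (by omega) hp1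
  have hZA : Subgroup.center G ≤ A := by
    rw [← hCA]; exact Subgroup.center_le_centralizer _
  have hZneA : Subgroup.center G ≠ A := by
    intro h
    have h1 : Subgroup.centralizer (A : Set G) = ⊤ := by
      rw [Subgroup.centralizer_eq_top_iff_subset, ← h]
    rw [hCA] at h1
    rw [h1, Subgroup.card_top, hcard] at hA
    have := Nat.pow_right_injective hp.out.two_le hA
    omega
  have hZnt : Nontrivial (Subgroup.center G) := hG.center_nontrivial
  obtain ⟨j, hj⟩ := card_eq_prime_pow_of_isPGroup hG (Subgroup.center G)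
  have hj1 : j = 1 := by
    have h1 : 1 ≤ j := by
      by_contra h
      have : j = 0 := by omega
      rw [this, pow_zero] at hj
      have := Finite.one_lt_card_iff_nontrivial.mpr hZnt
      omega
    have h2 : j ≤ 2 := by
      have := Subgroup.card_dvd_of_le hZA
      rw [hj, hA] at this
      exact (Nat.pow_dvd_pow_iff_le_right hp1).mp this
    have h3 : j ≠ 2 := by
      intro h
      apply hZneA
      apply Subgroup.eq_of_le_of_card_ge hZA
      rw [hj, hA, h]
    omega
  have hcZ : Nat.card (Subgroup.center G) = p := by rw [hj, hj1, pow_one]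
  refine ⟨hcZ, ?_⟩
  -- the quotient
  set π := QuotientGroup.mk' (Subgroup.center G) with hπ
  have hπs : Function.Surjective π := QuotientGroup.mk'_surjective _
  have hkerπ : π.ker = Subgroup.center G := QuotientGroup.ker_mk' _
  have hcQ : Nat.card (G ⧸ Subgroup.center G) = p ^ n := by
    have := Subgroup.card_eq_card_quotient_mul_card_subgroup (Subgroup.center G)
    rw [hcard, hcZ, pow_succ] at this
    exact (Nat.eq_of_mul_eq_mul_right hp.out.pos this).symm
  have hQ : IsPGroup p (G ⧸ Subgroup.center G) := IsPGroup.of_card hcQ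
  -- A is abelian
  have hAab : ∀ x ∈ A, ∀ y ∈ A, x * y = y * x := by
    intro x hx y hy
    have : y ∈ Subgroup.centralizer (A : Set G) := by rw [hCA]; exact hy
    rw [Subgroup.mem_centralizer_iff] at this
    exact this x hx
  -- the image of A
  set Abar := A.map π with hAbar
  have hcAbar : Nat.card Abar = p := by
    have h1 : Abar.index = A.index := Subgroup.index_map_eq _ hπs (by rw [hkerπ]; exact hZA)
    have h2 := Subgroup.card_mul_index Abar
    have h3 := Subgroup.card_mul_index A
    rw [h1, hcQ] at h2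
    rw [hA, hcard] at h3
    have hidx : A.index ≠ 0 := Subgroup.index_ne_zero_of_finite
    have h4 : p ^ 2 * A.index = (Nat.card Abar * p) * A.index := by
      rw [h3, mul_assoc, mul_comm p, ← mul_assoc, h2, pow_succ]
    have h5 := Nat.eq_of_mul_eq_mul_right (Nat.pos_of_ne_zero hidx) h4
    rw [pow_two] at h5
    exact (Nat.eq_of_mul_eq_mul_right hp.out.pos h5).symm
  have hAbarab : ∀ x ∈ Abar, ∀ y ∈ Abar, x * y = y * x := by
    rintro _ ⟨x, hx, rfl⟩ _ ⟨y, hy, rfl⟩
    rw [← map_mul, ← map_mul, hAab x hx y hy]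
  -- generator outside the centre
  obtain ⟨a₀, ha₀A, ha₀Z⟩ := SetLike.exists_of_lt (lt_of_le_of_ne hZA hZneA)
  have hAgen : Subgroup.zpowers a₀ ⊔ Subgroup.center G = A := by
    have hle : Subgroup.zpowers a₀ ⊔ Subgroup.center G ≤ A :=
      sup_le (by rw [Subgroup.zpowers_le]; exact ha₀A) hZA
    apply Subgroup.eq_of_le_of_card_ge hle
    obtain ⟨i, hi⟩ := card_eq_prime_pow_of_isPGroup hG (Subgroup.zpowers a₀ ⊔ Subgroup.center G)
    rw [hA, hi]
    apply Nat.pow_le_pow_right hp.out.pos
    by_contra hi2
    have hi1 : i ≤ 1 := by omega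
    have : Subgroup.center G = Subgroup.zpowers a₀ ⊔ Subgroup.center G := by
      apply Subgroup.eq_of_le_of_card_ge le_sup_right
      rw [hi, hcZ]
      calc p ^ i ≤ p ^ 1 := Nat.pow_le_pow_right hp.out.pos hi1
        _ = p := pow_one p
    apply ha₀Z
    rw [this]
    exact (le_sup_left : Subgroup.zpowers a₀ ≤ _) (Subgroup.mem_zpowers a₀)
  set Bbar := Subgroup.centralizer (Abar : Set (G ⧸ Subgroup.center G)) with hBbar
  have hAB : Abar ≤ Bbar := by
    intro x hx
    rw [hBbar, Subgroup.mem_centralizer_iff]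
    intro y hy
    exact hAbarab y hy x hx
  -- commutators with a₀ land in the centre
  have hcomm : ∀ g : G, π g ∈ Bbar → g * a₀ * g⁻¹ * a₀⁻¹ ∈ Subgroup.center G := by
    intro g hg
    rw [hBbar, Subgroup.mem_centralizer_iff] at hg
    have h1 := hg (π a₀) (Subgroup.mem_map_of_mem π ha₀A)
    rw [← hkerπ, MonoidHom.mem_ker]
    simp only [map_mul, map_inv]
    rw [← h1]
    group
  set B := Bbar.comap π with hB
  -- the homomorphism ψ
  let ψ : B →* G := MonoidHom.mk' (fun g => (g : G) * a₀ * (g : G)⁻¹ * a₀⁻¹) (by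
    intro g h
    have hc := hcomm (h : G) h.2
    rw [Subgroup.mem_center_iff] at hc
    calc ((g * h : B) : G) * a₀ * ((g * h : B) : G)⁻¹ * a₀⁻¹
        = (g : G) * ((h : G) * a₀ * (h : G)⁻¹ * a₀⁻¹) * a₀ * (g : G)⁻¹ * a₀⁻¹ := by
          simp only [Subgroup.coe_mul]; group
      _ = ((h : G) * a₀ * (h : G)⁻¹ * a₀⁻¹) * ((g : G) * a₀ * (g : G)⁻¹ * a₀⁻¹) := by
          rw [hc (g : G)]; group
      _ = _ := (hc _).symm)
  have hψ : ∀ g : B, ψ g = (g : G) * a₀ * (g : G)⁻¹ * a₀⁻¹ := fun _ => rfl
  have hrange : ψ.range ≤ Subgroup.center G := by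
    rintro _ ⟨g, rfl⟩
    exact hcomm (g : G) g.2
  have hker : ψ.ker.map B.subtype ≤ A := by
    rintro _ ⟨g, hg, rfl⟩
    rw [SetLike.mem_coe, MonoidHom.mem_ker, hψ] at hg
    have hga : (g : G) * a₀ = a₀ * g := by
      calc (g : G) * a₀ = ((g : G) * a₀ * (g : G)⁻¹ * a₀⁻¹) * a₀ * g := by group
        _ = a₀ * g := by rw [hg, one_mul]
    have hle : Subgroup.zpowers a₀ ⊔ Subgroup.center G ≤ Subgroup.centralizer {(g : G)} := by
      apply sup_le
      · rw [Subgroup.zpowers_le, Subgroup.mem_centralizer_iff]
        intro h hh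
        rw [Set.mem_singleton_iff] at hh
        rw [hh]; exact hga
      · intro z hz
        rw [Subgroup.mem_center_iff] at hz
        rw [Subgroup.mem_centralizer_iff]
        intro h hh
        rw [Set.mem_singleton_iff] at hh
        rw [hh]; exact hz _
    rw [hAgen] at hle
    show (g : G) ∈ A
    rw [← hCA, Subgroup.mem_centralizer_iff]
    intro x hx
    have := hle hx
    rw [Subgroup.mem_centralizer_iff] at this
    exact (this (g : G) rfl).symm
  have hcB : Nat.card B ≤ p ^ 2 * p := by
    have h1 := Subgroup.card_mul_index ψ.ker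
    rw [Subgroup.index_ker] at h1
    rw [← h1]
    apply Nat.mul_le_mul
    · rw [← Subgroup.card_map_of_injective (Subgroup.subtype_injective B), ← hA]
      exact Subgroup.card_le_of_le hker
    · rw [← hcZ]
      exact Subgroup.card_le_of_le hrange
  have hcB' : Nat.card B = Nat.card Bbar * p := by
    have h1 : B.index = Bbar.index := Subgroup.index_comap_of_surjective _ hπs
    have h2 := Subgroup.card_mul_index Bbar
    have h3 := Subgroup.card_mul_index B
    rw [h1, hcard] at h3
    rw [hcQ] at h2
    have hidx : Bbar.index ≠ 0 := Subgroup.index_ne_zero_of_finite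
    have h4 : Nat.card B * Bbar.index = (Nat.card Bbar * p) * Bbar.index := by
      rw [h3, mul_assoc, mul_comm p, ← mul_assoc, h2, pow_succ]
    exact Nat.eq_of_mul_eq_mul_right (Nat.pos_of_ne_zero hidx) h4
  have hcBbar_le : Nat.card Bbar ≤ p ^ 2 := by
    rw [hcB'] at hcB
    exact Nat.le_of_mul_le_mul_right hcB hp.out.pos
  obtain ⟨i, hi⟩ := card_eq_prime_pow_of_isPGroup hQ Bbar
  have hi2 : i ≤ 2 := by
    rw [hi] at hcBbar_le
    exact (Nat.pow_le_pow_iff_right hp1).mp hcBbar_le
  have hi1 : 1 ≤ i := by
    have := Subgroup.card_le_of_le hAB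
    rw [hcAbar, hi] at this
    by_contra h
    have : i = 0 := by omega
    subst this
    rw [pow_zero] at this
    omega
  have hine1 : i ≠ 1 := by
    intro h1
    have hBA : Abar = Bbar := by
      apply Subgroup.eq_of_le_of_card_ge hAB
      rw [hi, h1, hcAbar, pow_one]
    have hQnt : Nontrivial (G ⧸ Subgroup.center G) := by
      rw [← Finite.one_lt_card_iff_nontrivial, hcQ]
      exact Nat.one_lt_pow (by omega) hp1
    have hZQnt : Nontrivial (Subgroup.center (G ⧸ Subgroup.center G)) := hQ.center_nontrivial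
    have hZQle : Subgroup.center (G ⧸ Subgroup.center G) ≤ Abar := by
      rw [hBA, hBbar]; exact Subgroup.center_le_centralizer _
    have hZQeq : Subgroup.center (G ⧸ Subgroup.center G) = Abar := by
      apply Subgroup.eq_of_le_of_card_ge hZQle
      obtain ⟨k, hk⟩ := card_eq_prime_pow_of_isPGroup hQ (Subgroup.center (G ⧸ Subgroup.center G))
      rw [hcAbar, hk]
      have : k ≠ 0 := by
        intro h0
        rw [h0, pow_zero] at hk
        have := Finite.one_lt_card_iff_nontrivial.mpr hZQnt
        omega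
      calc p = p ^ 1 := (pow_one p).symm
        _ ≤ p ^ k := Nat.pow_le_pow_right hp.out.pos (by omega)
    have htop : Bbar = ⊤ := by
      rw [hBbar, Subgroup.centralizer_eq_top_iff_subset, ← hZQeq]
    rw [htop, Subgroup.card_top, hcQ, h1] at hi
    have := Nat.pow_right_injective hp.out.two_le hi
    omega
  have hi2' : i = 2 := by omega
  refine ⟨Bbar, by rw [hi, hi2'], ?_⟩
  apply le_antisymm
  · calc Subgroup.centralizer (Bbar : Set (G ⧸ Subgroup.center G))
        ≤ Subgroup.centralizer (Abar : Set (G ⧸ Subgroup.center G)) := Subgroup.centralizer_le hAB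
      _ = Bbar := rfl
  · have hcBb : Nat.card Bbar = p ^ 2 := by rw [hi, hi2']
    have : IsMulCommutative Bbar := IsPGroup.isMulCommutative_of_card_eq_prime_sq hcBb
    exact Subgroup.le_centralizer Bbar

/-- **Suzuki**: a group of order `p ^ n` with a self-centralizing subgroup of order `p²` has
nilpotency class `n - 1`. -/
theorem nilpotencyClass_of_selfCentralizing_sq {p : ℕ} [hp : Fact p.Prime] :
    ∀ (n : ℕ) (X : Type u) [Group X] [Finite X], Nat.card X = p ^ n →
      (∃ A : Subgroup X, Nat.card A = p ^ 2 ∧ Subgroup.centralizer (A : Set X) = A) →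
      Group.nilpotencyClass X = n - 1 := by
  intro n
  induction n with
  | zero =>
    intro X _ _ hX ⟨A, hA, _⟩
    exfalso
    have := Subgroup.card_subgroup_dvd_card A
    rw [hA, hX] at this
    have := (Nat.pow_dvd_pow_iff_le_right hp.out.one_lt).mp this
    omega
  | succ n ih =>
    intro X _ _ hX ⟨A, hA, hCA⟩
    have h2 : 2 ≤ n + 1 := by
      have := Subgroup.card_subgroup_dvd_card A
      rw [hA, hX] at this
      exact (Nat.pow_dvd_pow_iff_le_right hp.out.one_lt).mp this
    by_cases hn : n = 1
    · subst hn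
      have hXp : IsPGroup p X := IsPGroup.of_card hX
      have : Group.IsNilpotent X := hXp.isNilpotent
      have hc : IsMulCommutative X := IsPGroup.isMulCommutative_of_card_eq_prime_sq hX
      have h1 : Group.nilpotencyClass X ≤ 1 := Group.IsNilpotent.nilpotencyClass_le_one_iff.mpr hc
      have h0 : Group.nilpotencyClass X ≠ 0 := by
        intro h
        rw [Group.nilpotencyClass_zero_iff_subsingleton] at h
        have := Nat.card_eq_one_iff_unique.mpr ⟨h, ⟨1⟩⟩
        rw [hX] at this
        have h3 : 1 < p ^ (1 + 1) := Nat.one_lt_pow (by omega) hp.out.one_lt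
        omega
      omega
    · have hn2 : 2 ≤ n := by omega
      obtain ⟨-, B, hB, hCB⟩ := suzuki_step hn2 hX A hA hCA
      have hcQ : Nat.card (X ⧸ Subgroup.center X) = p ^ n := by
        obtain ⟨hcZ, -⟩ := suzuki_step hn2 hX A hA hCA
        have := Subgroup.card_eq_card_quotient_mul_card_subgroup (Subgroup.center X)
        rw [hX, hcZ, pow_succ] at this
        exact (Nat.eq_of_mul_eq_mul_right hp.out.pos this).symm
      have h1 := ih (X ⧸ Subgroup.center X) hcQ ⟨B, hB, hCB⟩
      rw [Group.nilpotencyClass_quotient_center] at h1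
      omega

end Cfsg.Agent.Lib.H22
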