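import Mathlib
import Cfsg.Prelude
import Cfsg.Agent.Lib.H24.GlaubGalois
import Cfsg.Agent.Lib.H23.Rational
import Cfsg.Agent.Lib.H23.BlockDefect
import Cfsg.Agent.Lib.H8.GaloisClassFun
import Cfsg.Agent.Lib.L0.PRegCongP
import Cfsg.Agent.Lib.L0.CharOps
import Cfsg.Agent.Lib.L0.CharBasic
import Cfsg.Agent.Lib.H12.LocalArith

/-!
# p-rational characters (helper22)

Characters with values in `ℚ(ζ_r)`:

* `fix_of_mem_adjoin`: an automorphism of `ℂ` fixing `ζ` fixes `ℚ(ζ)` pointwise;
* `char_pow_eq_of_rational`: if all values of `χ` lie in `ℚ(ζ_r)` and `x` has order coprime to `r`,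
  then `χ (x ^ j) = χ x` for all `j` coprime to the order of `x`;
* `exists_int_of_rational`: then `χ x` is a rational integer;
* `int_dvd_of_mem`, `cong_of_pow`: `χ x ≡ χ 1 (mod p)` for a `p`-element `x` with integer value;
* `lower_bound`: `0 ≤ χ 1 + (p - 1) χ x` for a nontrivial `p`-element with Galois-stable integer value;
* `isIntegral_average_aeval`: averages over a subgroup of integer polynomials in `χ` are
  algebraic integers.
-/

set_option autoImplicit false

namespace Cfsg.Agent.Lib.H22.PRat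

open Cfsg Cfsg.Agent.Lib.L0 Cfsg.Agent.Lib.H12
open scoped ComplexConjugate

/-- An automorphism of `ℂ` fixing `ζ` fixes `ℚ(ζ)` pointwise. -/
theorem fix_of_mem_adjoin (τ : ℂ ≃+* ℂ) (ζ : ℂ) (hζ : τ ζ = ζ) {z : ℂ}
    (hz : z ∈ IntermediateField.adjoin ℚ ({ζ} : Set ℂ)) : τ z = z := by
  let τ' : ℂ →ₐ[ℚ] ℂ := τ.toRingHom.toRatAlgHom
  let E : Subalgebra ℚ ℂ := AlgHom.equalizer τ' (AlgHom.id ℚ ℂ)
  let T : IntermediateField ℚ ℂ := E.toIntermediateField (fun x hx => by
    have h1 : τ' x = x := hx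
    show τ' x⁻¹ = x⁻¹
    rw [map_inv₀, h1])
  have hle : IntermediateField.adjoin ℚ ({ζ} : Set ℂ) ≤ T := by
    rw [IntermediateField.adjoin_le_iff]
    intro y hy
    rw [Set.mem_singleton_iff] at hy
    subst hy
    exact hζ
  exact hle hz

variable {G : Type*} [Group G] [Finite G]

/-- If all values of the character `χ` lie in `ℚ(ζ_r)` and the order of `x` is coprime to `r`, then
`χ` takes the same value on all generators of `⟨x⟩`. -/
theorem char_pow_eq_of_rational {χ : G → ℂ} (hχ : IsCharacter G χ) {r : ℕ} (hr : 0 < r)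
    (hrat : ∀ g : G, χ g ∈ IntermediateField.adjoin ℚ
      ({Complex.exp (2 * Real.pi * Complex.I / r)} : Set ℂ))
    (x : G) (hcop : (orderOf x).Coprime r) (j : ℕ) (hj : j.Coprime (orderOf x)) :
    χ (x ^ j) = χ x := by
  obtain ⟨d, ρ, rfl⟩ := hχ
  obtain ⟨k₀, hk₀o, hk₀r⟩ := Nat.chineseRemainder hcop j 1
  have hk₀co : k₀.Coprime (orderOf x) := by
    have h := hk₀o.gcd_eq
    unfold Nat.Coprime
    rw [h]
    exact hj
  have hk₀cr : k₀.Coprime r := by
    have h := hk₀r.gcd_eq
    unfold Nat.Coprime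
    rw [h]
    exact Nat.gcd_one_left r
  have hM : k₀.Coprime (orderOf x * r) := Nat.Coprime.mul_right hk₀co hk₀cr
  have hN : Nat.card G * r ≠ 0 := Nat.mul_ne_zero Nat.card_pos.ne' hr.ne'
  have hdvd : orderOf x * r ∣ Nat.card G * r := Nat.mul_dvd_mul_right (orderOf_dvd_natCard x) r
  obtain ⟨k, hkN, hkM⟩ := Cfsg.Agent.Lib.H8.exists_coprime_lift hN hdvd hM
  have hko : k ≡ j [MOD orderOf x] := (Nat.ModEq.of_mul_right r hkM).trans hk₀o
  have hkr : k ≡ 1 [MOD r] := (Nat.ModEq.of_mul_left (orderOf x) hkM).trans hk₀r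
  have : NeZero (Nat.card G * r) := ⟨hN⟩
  obtain ⟨τ, hτ⟩ := Cfsg.Agent.Lib.H24.Glaub.exists_aut_pow (Nat.card G * r) k hkN
  set ζ := Complex.exp (2 * Real.pi * Complex.I / r) with hζdef
  have hζr : ζ ^ r = 1 := (Complex.isPrimitiveRoot_exp r hr.ne').pow_eq_one
  have hζN : ζ ^ (Nat.card G * r) = 1 := by rw [mul_comm, pow_mul, hζr, one_pow]
  have hτζ : τ ζ = ζ := by
    rw [hτ ζ hζN, pow_eq_pow_mod k hζr, hkr, ← pow_eq_pow_mod 1 hζr, pow_one]
  have h1 : τ (ρ.character x) = ρ.character x := fix_of_mem_adjoin τ ζ hτζ (hrat x)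
  have hx : (ρ x) ^ (Nat.card G * r) = 1 := by
    rw [← map_pow, pow_mul, pow_card_eq_one', one_pow, map_one]
  have h2 := Cfsg.Agent.Lib.H24.Glaub.aut_trace_of_pow_eq_one τ (Nat.card G * r) k
    (Nat.pos_of_ne_zero hN) hτ (ρ x) hx
  have h3 : x ^ k = x ^ j := pow_eq_pow_iff_modEq.mpr hko
  have h4 : ρ.character (x ^ j) = LinearMap.trace ℂ _ ((ρ x) ^ k) := by
    rw [← h3]
    unfold Representation.character
    rw [map_pow]
  rw [h4, ← h2]
  exact h1

/-- Under the hypotheses of `char_pow_eq_of_rational`, the value `χ x` is a rational integer. -/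
theorem exists_int_of_rational {χ : G → ℂ} (hχ : IsCharacter G χ) {r : ℕ} (hr : 0 < r)
    (hrat : ∀ g : G, χ g ∈ IntermediateField.adjoin ℚ
      ({Complex.exp (2 * Real.pi * Complex.I / r)} : Set ℂ))
    (x : G) (hcop : (orderOf x).Coprime r) : ∃ z : ℤ, χ x = z := by
  have hχ' := hχ
  obtain ⟨d, ρ, rfl⟩ := hχ
  have h : ∀ m : ℕ, m.Coprime (Nat.card G) → ρ.character (x ^ m) = ρ.character x := fun m hm =>
    char_pow_eq_of_rational hχ' hr hrat x hcop m
      (Nat.Coprime.coprime_dvd_right (orderOf_dvd_natCard x) hm)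
  obtain ⟨q, hq⟩ := Cfsg.Agent.Lib.H23.char_rational_of_forall_char_pow_eq ρ x h
  have hint : IsIntegral ℤ (ρ.character x) := isIntegral_char ρ x
  rw [hq] at hint
  have hint' : IsIntegral ℤ q :=
    (isIntegral_algebraMap_iff (algebraMap ℚ ℂ).injective).mp hint
  obtain ⟨n, hn⟩ := IsIntegrallyClosed.isIntegral_iff.mp hint'
  refine ⟨n, ?_⟩
  rw [hq, ← hn]
  simp

/-- An integer lying in a maximal ideal of the algebraic integers over `p` is divisible by `p`. -/
theorem int_dvd_of_mem {p : ℕ} {M : Ideal AlgInt} (hM : IsPModular p M) (m : ℤ)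
    (h : ((m : ℤ) : AlgInt) ∈ M) : (p : ℤ) ∣ m := by
  have h1 : (((m.natAbs : ℕ) : ℤ) : AlgInt) ∈ M := by
    rcases Int.natAbs_eq m with h' | h'
    · rw [← h']
      exact h
    · have h2 : ((m.natAbs : ℕ) : ℤ) = -m := by omega
      rw [h2, Int.cast_neg]
      exact M.neg_mem h
  rw [Int.cast_natCast] at h1
  have h3 := (natCast_mem_iff hM m.natAbs).mp h1
  exact Int.natCast_dvd.mpr h3

/-- `χ x ≡ χ 1 (mod p)` for a `p`-element `x` on which `χ` is integer valued. -/
theorem cong_of_pow {p : ℕ} (hp : p.Prime) {χ : G → ℂ} (hχ : IsCharacter G χ)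
    (x : G) (k : ℕ) (hx : x ^ (p ^ k) = 1) (z n : ℤ) (hz : χ x = z) (hn : χ 1 = n) :
    (p : ℤ) ∣ z - n := by
  obtain ⟨M, hM⟩ := Cfsg.Agent.Lib.L0.PRegP.exists_isPModular hp
  obtain ⟨A, B, hA, hB, hAB⟩ := Cfsg.Agent.Lib.L0.PReg.char_pow_congr hM hχ x k
  rw [hx, hn] at hB
  rw [hz] at hA
  have hA' : A = ((z : ℤ) : AlgInt) := Subtype.ext (by rw [hA]; simp)
  have hB' : B = ((n : ℤ) : AlgInt) := Subtype.ext (by rw [hB]; simp)
  rw [hA', hB'] at hAB
  have h1 : (((z ^ (p ^ k) - n : ℤ)) : AlgInt) ∈ M := by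
    push_cast
    exact hAB
  have h2 := int_dvd_of_mem hM _ h1
  have h3 : (p : ℤ) ∣ z ^ (p ^ k) - z := by
    have := Fact.mk hp
    rw [← ZMod.intCast_zmod_eq_zero_iff_dvd]
    push_cast
    rw [ZMod.pow_card_pow, sub_self]
  have h4 : z - n = (z ^ (p ^ k) - n) - (z ^ (p ^ k) - z) := by ring
  rw [h4]
  exact dvd_sub h2 h3

/-- Lower bound for a Galois-stable integer value on a nontrivial `p`-element. -/
theorem lower_bound {p : ℕ} (hp : p.Prime) {χ : G → ℂ} (hχ : IsCharacter G χ)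
    (x : G) (k : ℕ) (hx : orderOf x = p ^ (k + 1)) (z : ℤ) (n : ℕ)
    (hz : ∀ j : ℕ, j.Coprime (orderOf x) → χ (x ^ j) = z) (hn : χ 1 = n) :
    0 ≤ (n : ℤ) + ((p : ℤ) - 1) * z := by
  classical
  set C := Subgroup.zpowers x with hC
  have : Fintype C := Fintype.ofFinite C
  have hψ : IsCharacter C (fun c : C => χ c) := isCharacter_restrict C hχ
  have h1 : IsCharacter C (1 : C → ℂ) := isCharacter_of_irr isIrrCharacter_one
  obtain ⟨s, hs⟩ := classInner_char_char_nat hψ h1
  unfold classInner at hs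
  have hcard : Nat.card C = orderOf x := Nat.card_zpowers x
  have hN0 : (orderOf x : ℂ) ≠ 0 := by
    exact_mod_cast (orderOf_pos x).ne'
  have hsum : ∑ c : C, χ c = (orderOf x : ℂ) * s := by
    rw [hcard] at hs
    have h2 : ∑ c : C, χ c = ∑ c : C, χ c * conj ((1 : C → ℂ) c) := by
      refine Finset.sum_congr rfl fun c _ => ?_
      simp
    rw [h2, ← hs, ← mul_assoc, mul_inv_cancel₀ hN0, one_mul]
  have hfin : IsOfFinOrder x := isOfFinOrder_of_finite x
  have hre : ∑ c : C, χ c = ∑ i ∈ Finset.range (orderOf x), χ (x ^ i) := by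
    rw [← Fin.sum_univ_eq_sum_range (fun i => χ (x ^ i)) (orderOf x)]
    exact (Fintype.sum_equiv (finEquivZPowers hfin) (fun i => χ (x ^ (i : ℕ))) (fun c => χ c)
      (fun i => by rw [finEquivZPowers_apply])).symm
  rw [hre, ← Finset.sum_filter_add_sum_filter_not (Finset.range (orderOf x))
    (fun i => (orderOf x).Coprime i)] at hsum
  have hA : ∑ i ∈ (Finset.range (orderOf x)).filter (fun i => (orderOf x).Coprime i),
      χ (x ^ i) = (Nat.totient (orderOf x) : ℂ) * z := by
    rw [Finset.sum_congr rfl (fun i hi => hz i (Finset.mem_filter.mp hi).2.symm),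
      Finset.sum_const, Nat.totient_eq_card_coprime, nsmul_eq_mul]
  have hB : (∑ i ∈ (Finset.range (orderOf x)).filter (fun i => ¬ (orderOf x).Coprime i),
      χ (x ^ i)).re ≤ ((orderOf x - Nat.totient (orderOf x) : ℕ) : ℝ) * n := by
    rw [Complex.re_sum]
    have hle : ∀ i ∈ (Finset.range (orderOf x)).filter (fun i => ¬ (orderOf x).Coprime i),
        (χ (x ^ i)).re ≤ (n : ℝ) := by
      intro i _
      have h3 := isCharacter_norm_le hχ (x ^ i)
      rw [hn, Complex.norm_natCast] at h3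
      exact (Complex.re_le_norm _).trans h3
    have h4 := Finset.sum_le_sum hle
    rw [Finset.sum_const, nsmul_eq_mul] at h4
    have h5 : ((Finset.range (orderOf x)).filter (fun i => ¬ (orderOf x).Coprime i)).card =
        orderOf x - Nat.totient (orderOf x) := by
      have h6 := Finset.card_filter_add_card_filter_not (s := Finset.range (orderOf x))
        (fun i => (orderOf x).Coprime i)
      rw [Finset.card_range, ← Nat.totient_eq_card_coprime] at h6
      omega
    rw [h5] at h4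
    exact h4
  rw [hA] at hsum
  have hreal := congrArg Complex.re hsum
  rw [Complex.add_re] at hreal
  have e1 : ((Nat.totient (orderOf x) : ℂ) * (z : ℂ)).re = (Nat.totient (orderOf x) : ℝ) * z := by
    rw [← Int.cast_natCast (R := ℂ), ← Int.cast_mul, Complex.intCast_re]
    push_cast
    ring
  have e2 : ((orderOf x : ℂ) * (s : ℂ)).re = (orderOf x : ℝ) * s := by
    rw [← Nat.cast_mul, Complex.natCast_re]
    push_cast
    ring
  rw [e1, e2] at hreal
  have htot : Nat.totient (orderOf x) = p ^ k * (p - 1) := by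
    rw [hx, Nat.totient_prime_pow_succ hp]
  have hsub : orderOf x - Nat.totient (orderOf x) = p ^ k := by
    rw [htot, hx, pow_succ]
    have hp1 : 1 ≤ p := hp.one_lt.le
    have : p ^ k * p = p ^ k * (p - 1) + p ^ k := by
      rw [← Nat.mul_succ, Nat.succ_eq_add_one, Nat.sub_add_cancel hp1]
    omega
  rw [hsub] at hB
  rw [htot] at hreal
  have hs0 : (0 : ℝ) ≤ (orderOf x : ℝ) * s := by positivity
  have hp1 : 1 ≤ p := hp.one_lt.le
  have hkey : (0 : ℝ) ≤ (p ^ k : ℝ) * ((n : ℝ) + ((p : ℝ) - 1) * z) := by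
    have h7 : ((p ^ k * (p - 1) : ℕ) : ℝ) = (p ^ k : ℝ) * ((p : ℝ) - 1) := by
      push_cast [Nat.cast_sub hp1]
      ring
    rw [h7] at hreal
    push_cast at hB
    nlinarith
  have hpk : (0 : ℝ) < (p ^ k : ℝ) := by
    have := hp.pos
    positivity
  have h8 : (0 : ℝ) ≤ (n : ℝ) + ((p : ℝ) - 1) * z := by
    by_contra hneg
    rw [not_le] at hneg
    have := mul_neg_of_pos_of_neg hpk hneg
    linarith
  have h9 : ((0 : ℤ) : ℝ) ≤ (((n : ℤ) + ((p : ℤ) - 1) * z : ℤ) : ℝ) := by
    push_cast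
    exact h8
  exact_mod_cast h9

omit [Finite G] in
/-- Powers of a character are characters. -/
theorem isCharacter_pow {χ : G → ℂ} (hχ : IsCharacter G χ) (i : ℕ) :
    IsCharacter G (fun g => χ g ^ i) := by
  induction i with
  | zero =>
    have h1 : IsCharacter G (1 : G → ℂ) := isCharacter_of_irr isIrrCharacter_one
    convert h1 using 1
    funext g
    simp
  | succ i ih =>
    have h1 := isCharacter_mul ih hχ
    convert h1 using 1
    funext g
    simp [pow_succ]

/-- The average over a subgroup of an integer polynomial in a character is an algebraic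
integer. -/
theorem isIntegral_average_aeval {χ : G → ℂ} (hχ : IsCharacter G χ) (D : Subgroup G) [Fintype D]
    (f : Polynomial ℤ) :
    IsIntegral ℤ ((Nat.card D : ℂ)⁻¹ * ∑ u : D, Polynomial.aeval (χ u) f) := by
  induction f using Polynomial.induction_on' with
  | add f g hf hg =>
    have h : (Nat.card D : ℂ)⁻¹ * ∑ u : D, Polynomial.aeval (χ u) (f + g) =
        (Nat.card D : ℂ)⁻¹ * ∑ u : D, Polynomial.aeval (χ u) f +
        (Nat.card D : ℂ)⁻¹ * ∑ u : D, Polynomial.aeval (χ u) g := by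
      simp only [map_add, Finset.sum_add_distrib, mul_add]
    rw [h]
    exact hf.add hg
  | monomial i c =>
    have h1 := Cfsg.Agent.Lib.H23.isIntegral_average_char (isCharacter_pow hχ i) D 1 (by simp)
    simp only [one_mul] at h1
    have h2 : (Nat.card D : ℂ)⁻¹ * ∑ u : D, Polynomial.aeval (χ u) (Polynomial.monomial i c) =
        (c : ℂ) * ((Nat.card D : ℂ)⁻¹ * ∑ u : D, χ u ^ i) := by
      simp only [Polynomial.aeval_monomial, Finset.mul_sum]
      refine Finset.sum_congr rfl fun u _ => ?_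
      simp only [eq_intCast]
      ring
    rw [h2]
    exact (isIntegral_algebraMap (R := ℤ) (A := ℂ) (x := c)).mul h1

end Cfsg.Agent.Lib.H22.PRat
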