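import Mathlib
import Cfsg.Agent.Lib.H12.SLMinDefs
import Cfsg.Agent.Lib.H29.WeilW9

/-!
# S2332 farm-out, piece RED (helper22, for helper12)

To bound the degrees of all non-trivial complex representations of a finite group from below it
suffices to bound the non-trivial irreducible ones: strong induction on the dimension, with
helper29's `isIrreducible_of_min`.
-/

set_option autoImplicit false

namespace Cfsg.Agent.Lib.H22.SLMin

open Module Cfsg.Agent.Lib.H12.SLMin

universe u in
/-- auxiliary form of `minDeg_of_irreducible`, by strong induction on the dimension -/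
theorem minDeg_aux {G : Type*} [Group G] [Finite G] (N : ℕ)
    (h : ∀ (V : Type u) [AddCommGroup V] [Module ℂ V] [FiniteDimensional ℂ V]
      (ρ : Representation ℂ G V), ρ.IsIrreducible → (∃ g, ρ g ≠ 1) → N ≤ Module.finrank ℂ V) :
    ∀ (d : ℕ) (V : Type u) [AddCommGroup V] [Module ℂ V] [FiniteDimensional ℂ V]
      (ρ : Representation ℂ G V), Module.finrank ℂ V = d → (∃ g, ρ g ≠ 1) →
      N ≤ Module.finrank ℂ V := by
  intro d
  induction d using Nat.strong_induction_on with
  | _ d ih =>
    intro V _ _ _ ρ hd hne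
    by_cases hsub : ∃ (U : Submodule ℂ V) (σ : G →* Module.End ℂ U), (∃ g, σ g ≠ 1) ∧
        Module.finrank ℂ U < Module.finrank ℂ V
    · obtain ⟨U, σ, hσ, hlt⟩ := hsub
      have h1 := ih (Module.finrank ℂ U) (hd ▸ hlt) U σ rfl hσ
      exact h1.trans hlt.le
    by_cases hquo : ∃ (U : Submodule ℂ V) (σ : G →* Module.End ℂ (V ⧸ U)), (∃ g, σ g ≠ 1) ∧
        Module.finrank ℂ (V ⧸ U) < Module.finrank ℂ V
    · obtain ⟨U, σ, hσ, hlt⟩ := hquo
      have h1 := ih (Module.finrank ℂ (V ⧸ U)) (hd ▸ hlt) (V ⧸ U) σ rfl hσ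
      exact h1.trans hlt.le
    have hirr : ρ.IsIrreducible := by
      refine Cfsg.Agent.Lib.H29.Weil.isIrreducible_of_min ρ hne ?_ ?_
      · intro U σ hσ
        by_contra hcon
        exact hsub ⟨U, σ, hσ, not_le.1 hcon⟩
      · intro U σ hσ
        by_contra hcon
        exact hquo ⟨U, σ, hσ, not_le.1 hcon⟩
    exact h V ρ hirr hne

universe u in
theorem minDeg_of_irreducible {G : Type*} [Group G] [Finite G] (N : ℕ)
    (h : ∀ (V : Type u) [AddCommGroup V] [Module ℂ V] [FiniteDimensional ℂ V]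
      (ρ : Representation ℂ G V), ρ.IsIrreducible → (∃ g, ρ g ≠ 1) → N ≤ Module.finrank ℂ V) :
    MinDeg.{u} G N := by
  intro V _ _ _ ρ hne
  exact minDeg_aux N h (Module.finrank ℂ V) V ρ rfl hne

end Cfsg.Agent.Lib.H22.SLMin
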