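/-
REE TORI project (architect helper12), fourth batch, task **REE-G1** (helper22): subgroups of a finite cyclic subgroup.
-/
import Mathlib

set_option autoImplicit false

namespace Cfsg.Agent.Lib.H22.Ree

/-- in a finite cyclic subgroup, subgroups of equal order are equal -/
theorem eq_of_card_eq_of_le_cyclic {Γ : Type*} [Group Γ] (C A₀ A₁ : Subgroup Γ) [Finite C] (hC : IsCyclic C)
    (h₀ : A₀ ≤ C) (h₁ : A₁ ≤ C) (h : Nat.card A₀ = Nat.card A₁) : A₀ = A₁ := by
  classical
  haveI : Fintype ↥C := Fintype.ofFinite _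
  have : Finite ↥A₀ := Finite.of_injective _ (Subgroup.inclusion_injective h₀)
  have : Finite ↥A₁ := Finite.of_injective _ (Subgroup.inclusion_injective h₁)
  set d := Nat.card A₀ with hd
  have hdpos : 0 < d := Nat.card_pos
  set S : Set ↥C := {a | a ^ d = 1} with hS
  have hScard : S.ncard ≤ d := by
    have h1 : S = ↑(Finset.univ.filter (fun a : ↥C => a ^ d = 1)) := by
      ext a
      simp [hS]
    rw [h1, Set.ncard_coe_finset]
    exact IsCyclic.card_pow_eq_one_le hdpos
  have key : ∀ A : Subgroup Γ, A ≤ C → Nat.card A = d → ((A.subgroupOf C : Subgroup ↥C) : Set ↥C) = S := by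
    intro A hA hAd
    apply Set.eq_of_subset_of_ncard_le
    · intro a ha
      have ha' : (a : Γ) ∈ A := ha
      have h2 : (⟨(a : Γ), ha'⟩ : ↥A) ^ Nat.card A = 1 := pow_card_eq_one'
      have h3 : (a : Γ) ^ d = 1 := by
        have := congrArg (fun z : ↥A => (z : Γ)) h2
        simpa [hAd] using this
      show a ^ d = 1
      exact Subtype.ext (by simpa using h3)
    · have h4 : ((A.subgroupOf C : Subgroup ↥C) : Set ↥C).ncard = d := by
        rw [← Nat.card_coe_set_eq]
        rw [← hAd]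
        exact Nat.card_congr (Subgroup.subgroupOfEquivOfLe hA).toEquiv
      rw [h4]
      exact hScard
    · exact Set.toFinite _
  have h5 : A₀.subgroupOf C = A₁.subgroupOf C := by
    apply SetLike.coe_injective
    rw [key A₀ h₀ rfl, key A₁ h₁ h.symm]
  rw [Subgroup.subgroupOf_inj, inf_eq_left.mpr h₀, inf_eq_left.mpr h₁] at h5
  exact h5

/-- subgroups of a cyclic subgroup are normalised by its normaliser -/
theorem normalizer_le_of_le_cyclic {Γ : Type*} [Group Γ] (C A₀ : Subgroup Γ) [Finite C] (hC : IsCyclic C)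
    (h₀ : A₀ ≤ C) : Subgroup.normalizer (C : Set Γ) ≤ Subgroup.normalizer (A₀ : Set Γ) := by
  intro g hg
  have hgC : ∀ h, h ∈ C ↔ g * h * g⁻¹ ∈ C := Subgroup.mem_normalizer_iff.mp hg
  set A₁ : Subgroup Γ := A₀.map (MulAut.conj g).toMonoidHom with hA₁
  have h₁ : A₁ ≤ C := by
    rintro _ ⟨h, hh, rfl⟩
    exact (hgC h).mp (h₀ hh)
  have hcard : Nat.card A₀ = Nat.card A₁ :=
    Nat.card_congr (Subgroup.equivMapOfInjective A₀ (MulAut.conj g).toMonoidHom
      (MulAut.conj g).injective).toEquiv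
  have heq : A₀ = A₁ := eq_of_card_eq_of_le_cyclic C A₀ A₁ hC h₀ h₁ hcard
  rw [Subgroup.mem_normalizer_iff]
  intro h
  constructor
  · intro hh
    rw [heq]
    exact ⟨h, hh, rfl⟩
  · intro hh
    rw [heq] at hh
    obtain ⟨h', hh', he⟩ := hh
    have : h' = h := (MulAut.conj g).injective he
    rw [← this]
    exact hh'

/-- a cyclic subgroup contains an element of every order dividing its order -/
theorem exists_orderOf_eq_of_dvd {Γ : Type*} [Group Γ] (C : Subgroup Γ) [Finite C] (hC : IsCyclic C) (d : ℕ)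
    (hd : d ∣ Nat.card C) : ∃ y ∈ C, orderOf y = d := by
  obtain ⟨g, hg⟩ := hC.exists_generator
  have hN : orderOf g = Nat.card C := orderOf_eq_card_of_forall_mem_zpowers hg
  have hNΓ : orderOf (g : Γ) = Nat.card C := by rw [Subgroup.orderOf_coe, hN]
  have hNpos : Nat.card C ≠ 0 := Nat.card_pos.ne'
  refine ⟨(g : Γ) ^ (Nat.card C / d), C.pow_mem g.2 _, ?_⟩
  have hne : Nat.card C / d ≠ 0 := by
    intro h0
    have h1 := Nat.div_mul_cancel hd
    rw [h0, zero_mul] at h1
    exact hNpos h1.symm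
  rw [orderOf_pow' _ hne, hNΓ, Nat.gcd_eq_right (Nat.div_dvd_of_dvd hd), Nat.div_div_self hd hNpos]

/-- the elements of order dividing `d` of a cyclic subgroup, `d ∣ |C|`, form a subgroup of order `d` -/
theorem exists_subgroup_of_dvd {Γ : Type*} [Group Γ] (C : Subgroup Γ) [Finite C] (hC : IsCyclic C) (d : ℕ)
    (hd : d ∣ Nat.card C) :
    ∃ A₀ : Subgroup Γ, A₀ ≤ C ∧ IsCyclic A₀ ∧ Nat.card A₀ = d ∧ ∀ u ∈ C, u ^ d = 1 → u ∈ A₀ := by
  obtain ⟨g, hg⟩ := hC.exists_generator
  have hN : orderOf g = Nat.card C := orderOf_eq_card_of_forall_mem_zpowers hg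
  have hNΓ : orderOf (g : Γ) = Nat.card C := by rw [Subgroup.orderOf_coe, hN]
  have hNpos : Nat.card C ≠ 0 := Nat.card_pos.ne'
  set y : Γ := (g : Γ) ^ (Nat.card C / d) with hy
  have hyord : orderOf y = d := by
    have hne : Nat.card C / d ≠ 0 := by
      intro h0
      have h1 := Nat.div_mul_cancel hd
      rw [h0, zero_mul] at h1
      exact hNpos h1.symm
    rw [hy, orderOf_pow' _ hne, hNΓ, Nat.gcd_eq_right (Nat.div_dvd_of_dvd hd), Nat.div_div_self hd hNpos]
  have hdpos : d ≠ 0 := by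
    rintro rfl
    exact hNpos (Nat.eq_zero_of_zero_dvd hd)
  refine ⟨Subgroup.zpowers y, ?_, Subgroup.isCyclic_zpowers y, ?_, ?_⟩
  · rw [Subgroup.zpowers_le]
    exact C.pow_mem g.2 _
  · rw [Nat.card_zpowers, hyord]
  · intro u hu hud
    obtain ⟨j, hj⟩ := Subgroup.mem_zpowers_iff.mp (hg ⟨u, hu⟩)
    have hu' : u = (g : Γ) ^ j := by
      have := congrArg (fun z : ↥C => (z : Γ)) hj
      simpa using this.symm
    have h1 : ((g : Γ) ^ j) ^ d = 1 := hu' ▸ hud
    rw [← zpow_natCast, ← zpow_mul] at h1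
    have h2 : ((Nat.card C : ℕ) : ℤ) ∣ j * (d : ℤ) := by
      rw [← hNΓ]
      exact orderOf_dvd_iff_zpow_eq_one.mpr h1
    obtain ⟨e, he⟩ := hd
    have hediv : Nat.card C / d = e := by
      rw [he]
      exact Nat.mul_div_cancel_left e (Nat.pos_of_ne_zero hdpos)
    have h3 : (e : ℤ) ∣ j := by
      rw [he] at h2
      push_cast at h2
      have h4 : (e : ℤ) * (d : ℤ) ∣ j * (d : ℤ) := by rwa [mul_comm (d : ℤ) (e : ℤ)] at h2
      exact Int.dvd_of_mul_dvd_mul_right (by exact_mod_cast hdpos) h4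
    obtain ⟨l, hl⟩ := h3
    have hye : y = (g : Γ) ^ e := by rw [hy, hediv]
    rw [hu', hl, zpow_mul, zpow_natCast, ← hye]
    exact Subgroup.zpow_mem_zpowers y l

end Cfsg.Agent.Lib.H22.Ree
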