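/-
REE TORI project (architect helper12), fourth batch, task **REE-H1** (helper22): the unipotent subgroup `U = {x t u v}`.
-/
import Cfsg.Agent.Lib.H12.ReeC1

set_option autoImplicit false

namespace Cfsg.Agent.Lib.H22.Ree

open Cfsg.Agent.Lib.H12.ReeC Cfsg.Agent.Lib.H12.ReeC.RSys

variable {G K : Type*} [Group G] [Field K]

theorem x_pow_three (R : RSys G K) (t u v : K) : R.x t u v ^ 3 = R.x 0 0 (-(R.σ t * t ^ 2)) := by
  rw [pow_three', R.x_mul, R.x_mul]
  apply R.x_congr
  · linear_combination t * R.three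
  · linear_combination (u - R.σ t * t) * R.three
  · linear_combination (v - t * u) * R.three

theorem x_zero_pow_three (R : RSys G K) (u v : K) : R.x 0 u v ^ 3 = 1 := by
  rw [x_pow_three, ← R.x_zero]
  apply R.x_congr rfl rfl
  rw [map_zero]
  ring

theorem pow_nine_of_mem_U (R : RSys G K) (g : G) (hg : g ∈ R.U) : g ^ 9 = 1 := by
  obtain ⟨t, u, v, rfl⟩ := hg
  have h9 : (9 : ℕ) = 3 * 3 := by norm_num
  rw [h9, pow_mul, x_pow_three, x_zero_pow_three]

theorem orderOf_x_one (R : RSys G K) : orderOf (R.x 1 0 0) = 9 := by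
  haveI : Fact (Nat.Prime 3) := ⟨Nat.prime_three⟩
  have h := orderOf_eq_prime_pow (x := R.x 1 0 0) (p := 3) (n := 1) ?_ ?_
  · simpa using h
  · rw [pow_one, x_pow_three]
    intro h1
    rw [← R.x_zero] at h1
    have h2 := (R.x_inj _ _ _ _ _ _ h1).2.2
    rw [map_one] at h2
    have h3 : (1 : K) = 0 := by linear_combination -h2
    exact one_ne_zero h3
  · have h9 : 3 ^ (1 + 1) = 9 := by norm_num
    rw [h9]
    exact pow_nine_of_mem_U R _ (R.x_mem_U 1 0 0)

theorem card_three_torsion_U [Fintype K] (R : RSys G K) :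
    Nat.card {g : G // g ∈ R.U ∧ g ^ 3 = 1} = Fintype.card K ^ 2 := by
  have hbij : Function.Bijective (fun p : K × K =>
      (⟨R.x 0 p.1 p.2, R.x_mem_U 0 p.1 p.2, x_zero_pow_three R p.1 p.2⟩ :
        {g : G // g ∈ R.U ∧ g ^ 3 = 1})) := by
    constructor
    · rintro ⟨u, v⟩ ⟨u', v'⟩ h
      have h1 : R.x 0 u v = R.x 0 u' v' := congrArg Subtype.val h
      obtain ⟨-, h2, h3⟩ := R.x_inj _ _ _ _ _ _ h1
      exact Prod.ext h2 h3
    · rintro ⟨g, ⟨t, u, v, rfl⟩, h3⟩
      rw [x_pow_three, ← R.x_zero] at h3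
      have h4 := (R.x_inj _ _ _ _ _ _ h3).2.2
      have h5 : R.σ t * t ^ 2 = 0 := by linear_combination -h4
      have ht : t = 0 := by
        rcases mul_eq_zero.mp h5 with h6 | h6
        · exact (map_eq_zero R.σ).mp h6
        · exact pow_eq_zero_iff (two_ne_zero) |>.mp h6
      refine ⟨(u, v), ?_⟩
      apply Subtype.ext
      show R.x 0 u v = R.x t u v
      rw [ht]
  rw [← Nat.card_congr (Equiv.ofBijective _ hbij), Nat.card_prod, Nat.card_eq_fintype_card, sq]

end Cfsg.Agent.Lib.H22.Ree
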