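import Mathlib
import Cfsg.Agent.Lib.H14.ThetaDefs

/-!
# S1632 piece LA (architect helper14): the Schur complement step, pure linear algebra (helper22)
-/

set_option autoImplicit false

namespace Cfsg.Agent.Lib.H22.Theta

open Complex Matrix
open Cfsg.Agent.Lib.H14.Theta

section generic

variable {K : Type*} [Field K] {n : ℕ}

/-- expansion of a symmetric quadratic form along the first coordinate -/
theorem la_expand (M : Matrix (Fin (n + 1)) (Fin (n + 1)) K) (hM : ∀ i j, M i j = M j i) (x₀ : K)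
    (x' : Fin n → K) :
    ∑ i, ∑ j, M i j * (Fin.cons x₀ x' : Fin (n + 1) → K) i * (Fin.cons x₀ x' : Fin (n + 1) → K) j
      = M 0 0 * x₀ ^ 2 + 2 * x₀ * (∑ j, M 0 j.succ * x' j) + ∑ i, ∑ j, M i.succ j.succ * x' i * x' j := by
  simp only [Fin.sum_univ_succ, Fin.cons_zero, Fin.cons_succ]
  rw [Finset.sum_add_distrib]
  have h1 : ∑ j, M 0 j.succ * x₀ * x' j = x₀ * ∑ j, M 0 j.succ * x' j := by
    rw [Finset.mul_sum]; exact Finset.sum_congr rfl (fun j _ => by ring)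
  have h2 : ∑ i, M i.succ 0 * x' i * x₀ = x₀ * ∑ j, M 0 j.succ * x' j := by
    rw [Finset.mul_sum]; exact Finset.sum_congr rfl (fun j _ => by rw [hM j.succ 0]; ring)
  rw [h1, h2]; ring

/-- the quadratic form of the Schur complement -/
theorem la_schur_sum (M : Matrix (Fin (n + 1)) (Fin (n + 1)) K) (hM : ∀ i j, M i j = M j i)
    (x' : Fin n → K) :
    ∑ i, ∑ j, (M i.succ j.succ - M i.succ 0 * M 0 j.succ / M 0 0) * x' i * x' j
      = ∑ i, ∑ j, M i.succ j.succ * x' i * x' j - (∑ j, M 0 j.succ * x' j) ^ 2 / M 0 0 := by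
  have h1 : ∀ i j, (M i.succ j.succ - M i.succ 0 * M 0 j.succ / M 0 0) * x' i * x' j
      = M i.succ j.succ * x' i * x' j - (M 0 i.succ * x' i) * (M 0 j.succ * x' j) / M 0 0 := by
    intro i j; rw [hM i.succ 0]; ring
  simp only [h1, Finset.sum_sub_distrib]
  congr 1
  rw [sq, Finset.sum_mul_sum, Finset.sum_div]
  refine Finset.sum_congr rfl (fun i _ => ?_)
  rw [Finset.sum_div]

end generic

section LA

variable {n : ℕ} (A C : Matrix (Fin (n + 1)) (Fin (n + 1)) ℝ)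

theorem la_qfR_single (A : Matrix (Fin (n + 1)) (Fin (n + 1)) ℝ) :
    qfR A (Pi.single 0 1) = A 0 0 := by
  unfold qfR
  rw [Finset.sum_eq_single 0]
  · rw [Finset.sum_eq_single 0]
    · simp
    · intro j _ hj; simp [Pi.single_eq_of_ne hj]
    · simp
  · intro i _ hi; simp [Pi.single_eq_of_ne hi]
  · simp

/-- **LA1**. -/
theorem schur_pos (hA : IsPD A) : 0 < A 0 0 := by
  have h := hA.2 (Pi.single 0 1) (by
    intro h0
    have := congrFun h0 0
    simp at this)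
  rwa [la_qfR_single] at h

theorem la_qfR_cons (hA : IsPD A) (x₀ : ℝ) (x' : Fin n → ℝ) :
    qfR A (Fin.cons x₀ x') =
      A 0 0 * x₀ ^ 2 + 2 * x₀ * (∑ j, A 0 j.succ * x' j) +
        (qfR (schurA A) x' + (∑ j, A 0 j.succ * x' j) ^ 2 / A 0 0) := by
  have hs : ∀ i j, A i j = A j i := fun i j => (hA.1.apply i j).symm
  unfold qfR
  rw [la_expand A hs x₀ x']
  have := la_schur_sum A hs x'
  unfold schurA
  rw [this]; ring

/-- **LA2**. -/
theorem schur_isPD (hA : IsPD A) : IsPD (schurA A) := by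
  have ha := schur_pos A hA
  have hs : ∀ i j, A i j = A j i := fun i j => (hA.1.apply i j).symm
  refine ⟨?_, ?_⟩
  · ext i j
    simp only [Matrix.transpose_apply, schurA]
    rw [hs j.succ i.succ, hs j.succ 0, hs 0 i.succ]; ring
  · intro x' hx'
    have hne : (Fin.cons (-(∑ j, A 0 j.succ * x' j) / A 0 0) x' : Fin (n + 1) → ℝ) ≠ 0 := by
      intro h0
      apply hx'
      funext j
      have := congrFun h0 j.succ
      simpa using this
    have h := hA.2 _ hne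
    rw [la_qfR_cons A hA] at h
    have e : A 0 0 * (-(∑ j, A 0 j.succ * x' j) / A 0 0) ^ 2 +
        2 * (-(∑ j, A 0 j.succ * x' j) / A 0 0) * (∑ j, A 0 j.succ * x' j) +
        (qfR (schurA A) x' + (∑ j, A 0 j.succ * x' j) ^ 2 / A 0 0) = qfR (schurA A) x' := by
      field_simp
      ring
    rwa [e] at h

theorem la_AC_succ (hAC : A * C = 1) (i j : Fin n) :
    A i.succ 0 * C 0 j.succ + ∑ k : Fin n, A i.succ k.succ * C k.succ j.succ = if i = j then 1 else 0 := by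
  have := congrFun (congrFun hAC i.succ) j.succ
  rw [Matrix.mul_apply, Fin.sum_univ_succ, Matrix.one_apply] at this
  rw [this]
  simp [Fin.succ_inj]

theorem la_AC_zero_succ (hAC : A * C = 1) (j : Fin n) :
    A 0 0 * C 0 j.succ + ∑ k : Fin n, A 0 k.succ * C k.succ j.succ = 0 := by
  have := congrFun (congrFun hAC 0) j.succ
  rw [Matrix.mul_apply, Fin.sum_univ_succ, Matrix.one_apply] at this
  rw [this]
  simp [(Fin.succ_ne_zero j).symm]

theorem la_AC_zero_zero (hAC : A * C = 1) :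
    A 0 0 * C 0 0 + ∑ k : Fin n, A 0 k.succ * C k.succ 0 = 1 := by
  have := congrFun (congrFun hAC 0) 0
  rw [Matrix.mul_apply, Fin.sum_univ_succ, Matrix.one_apply] at this
  rw [this]
  simp

/-- **LA3**. -/
theorem schur_inv (hA : IsPD A) (hAC : A * C = 1) : schurA A * lowerC C = 1 := by
  have ha := (schur_pos A hA).ne'
  ext i j
  rw [Matrix.mul_apply, Matrix.one_apply]
  have h1 := la_AC_succ A C hAC i j
  have h2 := la_AC_zero_succ A C hAC j
  have e : ∀ k : Fin n, schurA A i k * lowerC C k j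
      = A i.succ k.succ * C k.succ j.succ - A i.succ 0 / A 0 0 * (A 0 k.succ * C k.succ j.succ) := by
    intro k; simp only [schurA, lowerC]; ring
  simp only [e, Finset.sum_sub_distrib, ← Finset.mul_sum]
  have h3 : ∑ k : Fin n, A 0 k.succ * C k.succ j.succ = -(A 0 0 * C 0 j.succ) := by linarith
  rw [h3, ← h1]
  field_simp
  ring

theorem la_qfR_eq {m : ℕ} (A : Matrix (Fin m) (Fin m) ℝ) (x : Fin m → ℝ) :
    qfR A x = x ⬝ᵥ (A *ᵥ x) := by
  unfold qfR
  simp only [dotProduct, Matrix.mulVec, Finset.mul_sum]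
  refine Finset.sum_congr rfl (fun i _ => Finset.sum_congr rfl (fun j _ => by ring))

/-- **LA4**. -/
theorem isPD_inv {m : ℕ} (A C : Matrix (Fin m) (Fin m) ℝ) (hA : IsPD A) (hAC : A * C = 1) : IsPD C := by
  have hCA : C * A = 1 := mul_eq_one_comm.mp hAC
  refine ⟨?_, ?_⟩
  · -- Cᵀ = Cᵀ (A C) = (A C)ᵀ ... : Cᵀ A = 1 so Cᵀ = C
    have h1 : Cᵀ * A = 1 := by
      have := congrArg Matrix.transpose hAC
      rw [Matrix.transpose_mul, Matrix.transpose_one, hA.1.eq] at this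
      exact this
    have : Cᵀ = C := by
      calc Cᵀ = Cᵀ * (A * C) := by rw [hAC, Matrix.mul_one]
        _ = (Cᵀ * A) * C := by rw [Matrix.mul_assoc]
        _ = C := by rw [h1, Matrix.one_mul]
    exact this
  · intro y hy
    have hne : C *ᵥ y ≠ 0 := by
      intro h0
      apply hy
      have : A *ᵥ (C *ᵥ y) = y := by rw [Matrix.mulVec_mulVec, hAC, Matrix.one_mulVec]
      rw [← this, h0, Matrix.mulVec_zero]
    have h := hA.2 _ hne
    rw [la_qfR_eq, Matrix.mulVec_mulVec, hAC, Matrix.one_mulVec, dotProduct_comm] at h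
    rwa [la_qfR_eq]

/-- **LA5**. -/
theorem qf_cons (hA : IsPD A) (x₀ : ℂ) (x' : Fin n → ℂ) :
    qf A (Fin.cons x₀ x') =
      (A 0 0 : ℂ) * x₀ ^ 2 + 2 * x₀ * (∑ j, (A 0 j.succ : ℂ) * x' j) +
        (qf (schurA A) x' + (∑ j, (A 0 j.succ : ℂ) * x' j) ^ 2 / (A 0 0 : ℂ)) := by
  have hs : ∀ i j, (A.map (fun x : ℝ => (x : ℂ))) i j = (A.map (fun x : ℝ => (x : ℂ))) j i := fun i j => by
    rw [Matrix.map_apply, Matrix.map_apply, (hA.1.apply i j).symm]
  unfold qf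
  have h1 := la_expand (K := ℂ) (A.map (fun x : ℝ => (x : ℂ))) hs x₀ x'
  have h2 := la_schur_sum (K := ℂ) (A.map (fun x : ℝ => (x : ℂ))) hs x'
  simp only [Matrix.map_apply] at h1 h2
  rw [h1]
  have h3 : ∑ i, ∑ j, ((schurA A i j : ℝ) : ℂ) * x' i * x' j
      = ∑ i, ∑ j, (((A i.succ j.succ : ℝ) : ℂ) - ((A i.succ 0 : ℝ) : ℂ) * ((A 0 j.succ : ℝ) : ℂ) / ((A 0 0 : ℝ) : ℂ))
          * x' i * x' j := by
    refine Finset.sum_congr rfl (fun i _ => Finset.sum_congr rfl (fun j _ => ?_))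
    simp only [schurA]; push_cast; ring
  rw [h3, h2]; ring

/-- **LA6**. -/
theorem qf_inv_cons (hA : IsPD A) (hAC : A * C = 1) (v₀ : ℂ) (v' : Fin n → ℂ) :
    qf C (Fin.cons v₀ v') =
      v₀ ^ 2 / (A 0 0 : ℂ) + qf (lowerC C) (fun j => v' j - v₀ * (A 0 j.succ : ℂ) / (A 0 0 : ℂ)) := by
  have ha : ((A 0 0 : ℝ) : ℂ) ≠ 0 := by exact_mod_cast (schur_pos A hA).ne'
  have hCs := (isPD_inv A C hA hAC).1
  have hcs : ∀ i j, C i j = C j i := fun i j => (hCs.apply i j).symm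
  have hs : ∀ i j, (C.map (fun x : ℝ => (x : ℂ))) i j = (C.map (fun x : ℝ => (x : ℂ))) j i := fun i j => by
    rw [Matrix.map_apply, Matrix.map_apply, hcs i j]
  unfold qf
  have h1 := la_expand (K := ℂ) (C.map (fun x : ℝ => (x : ℂ))) hs v₀ v'
  simp only [Matrix.map_apply] at h1
  rw [h1]
  simp only [lowerC]
  -- the three basic sums
  set a : ℂ := ((A 0 0 : ℝ) : ℂ) with ha_def
  set Q : ℂ := ∑ i : Fin n, ∑ j : Fin n, ((C i.succ j.succ : ℝ) : ℂ) * v' i * v' j with hQ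
  set T : ℂ := ∑ i : Fin n, ∑ j : Fin n, ((C i.succ j.succ : ℝ) : ℂ) * ((A 0 i.succ : ℝ) : ℂ) * v' j with hT
  set S : ℂ := ∑ i : Fin n, ∑ j : Fin n,
    ((C i.succ j.succ : ℝ) : ℂ) * ((A 0 i.succ : ℝ) : ℂ) * ((A 0 j.succ : ℝ) : ℂ) with hS
  have F1 : ∀ j : Fin n, ((C 0 j.succ : ℝ) : ℂ)
      = -(∑ k : Fin n, ((A 0 k.succ : ℝ) : ℂ) * ((C k.succ j.succ : ℝ) : ℂ)) / a := by
    intro j
    have h0 := congrArg (fun x : ℝ => (x : ℂ)) (la_AC_zero_succ A C hAC j)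
    push_cast at h0
    field_simp
    linear_combination h0
  have F2 : a * ((C 0 0 : ℝ) : ℂ) + ∑ k : Fin n, ((A 0 k.succ : ℝ) : ℂ) * ((C 0 k.succ : ℝ) : ℂ) = 1 := by
    have h0 := congrArg (fun x : ℝ => (x : ℂ)) (la_AC_zero_zero A C hAC)
    push_cast at h0
    rw [← h0]
    congr 1
    refine Finset.sum_congr rfl (fun k _ => ?_)
    rw [hcs k.succ 0]
  have G1 : ∑ j : Fin n, ((C 0 j.succ : ℝ) : ℂ) * v' j = -T / a := by
    have e1 : ∀ j : Fin n, ((C 0 j.succ : ℝ) : ℂ) * v' j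
        = -(∑ k : Fin n, ((C k.succ j.succ : ℝ) : ℂ) * ((A 0 k.succ : ℝ) : ℂ) * v' j) / a := by
      intro j
      have e0 : (∑ k : Fin n, ((C k.succ j.succ : ℝ) : ℂ) * ((A 0 k.succ : ℝ) : ℂ) * v' j)
          = (∑ k : Fin n, ((A 0 k.succ : ℝ) : ℂ) * ((C k.succ j.succ : ℝ) : ℂ)) * v' j := by
        rw [Finset.sum_mul]; exact Finset.sum_congr rfl (fun k _ => by ring)
      rw [F1 j, e0]; ring
    simp only [e1]
    rw [← Finset.sum_div, Finset.sum_neg_distrib, Finset.sum_comm]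
  have G2 : ∑ k : Fin n, ((A 0 k.succ : ℝ) : ℂ) * ((C 0 k.succ : ℝ) : ℂ) = -S / a := by
    have e1 : ∀ k : Fin n, ((A 0 k.succ : ℝ) : ℂ) * ((C 0 k.succ : ℝ) : ℂ)
        = -(∑ l : Fin n, ((C l.succ k.succ : ℝ) : ℂ) * ((A 0 l.succ : ℝ) : ℂ) * ((A 0 k.succ : ℝ) : ℂ)) / a := by
      intro k
      have e0 : (∑ l : Fin n, ((C l.succ k.succ : ℝ) : ℂ) * ((A 0 l.succ : ℝ) : ℂ) * ((A 0 k.succ : ℝ) : ℂ))
          = (∑ l : Fin n, ((A 0 l.succ : ℝ) : ℂ) * ((C l.succ k.succ : ℝ) : ℂ)) * ((A 0 k.succ : ℝ) : ℂ) := by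
        rw [Finset.sum_mul]; exact Finset.sum_congr rfl (fun l _ => by ring)
      rw [F1 k, e0]; ring
    simp only [e1]
    rw [← Finset.sum_div, Finset.sum_neg_distrib, Finset.sum_comm]
  have G3 : ∑ i : Fin n, ∑ j : Fin n, ((C i.succ j.succ : ℝ) : ℂ) * (v' i - v₀ * ((A 0 i.succ : ℝ) : ℂ) / a) *
      (v' j - v₀ * ((A 0 j.succ : ℝ) : ℂ) / a) = Q - 2 * (v₀ / a) * T + (v₀ / a) ^ 2 * S := by
    have e1 : ∀ i j : Fin n, ((C i.succ j.succ : ℝ) : ℂ) * (v' i - v₀ * ((A 0 i.succ : ℝ) : ℂ) / a) *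
        (v' j - v₀ * ((A 0 j.succ : ℝ) : ℂ) / a)
        = ((C i.succ j.succ : ℝ) : ℂ) * v' i * v' j
          - (v₀ / a) * (((C i.succ j.succ : ℝ) : ℂ) * ((A 0 i.succ : ℝ) : ℂ) * v' j)
          - (v₀ / a) * (((C j.succ i.succ : ℝ) : ℂ) * ((A 0 j.succ : ℝ) : ℂ) * v' i)
          + (v₀ / a) ^ 2 * (((C i.succ j.succ : ℝ) : ℂ) * ((A 0 i.succ : ℝ) : ℂ) * ((A 0 j.succ : ℝ) : ℂ)) := by
      intro i j
      rw [hcs j.succ i.succ]
      ring
    simp only [e1, Finset.sum_add_distrib, Finset.sum_sub_distrib, ← Finset.mul_sum]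
    have e2 : ∑ i : Fin n, ∑ j : Fin n, ((C j.succ i.succ : ℝ) : ℂ) * ((A 0 j.succ : ℝ) : ℂ) * v' i = T := by
      rw [Finset.sum_comm]
    rw [e2]
    ring
  rw [G1, G3]
  have hc00 : ((C 0 0 : ℝ) : ℂ) = 1 / a + S / a ^ 2 := by
    rw [G2] at F2
    field_simp
    field_simp at F2
    linear_combination F2
  rw [hc00]
  field_simp
  ring

end LA

end Cfsg.Agent.Lib.H22.Theta
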