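/-
EO project (architect helper26), module **EM8.2** (helper22): one component ⇒ class 5 or residual class.
This file: the generic version (any class-5 predicate `C5`, the two class-5 tools ET5 / ET5' for this `H` as hypotheses);
copy of helper21's `ores_of_components_one_aux` (Lib/H21/AschOM82a).  The exact-signature wrapper is `AschEEM82.lean`.
-/
import Cfsg.Agent.Lib.H26.AschEDefs
import Cfsg.Agent.Lib.H26.AschM8Defs
import Cfsg.Agent.Lib.H21.AschM82

set_option autoImplicit false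

namespace Cfsg.Agent.Lib.H22.AschE

open Cfsg Cfsg.Geo Cfsg.Agent.Lib.Lead.Asch Cfsg.Agent.Lib.H26.Asch Cfsg.Agent.Lib.H21.Asch
open scoped MatrixGroups Matrix Kronecker commutatorElement

variable {F : Type*} [Field F] [Fintype F] {n : ℕ}

/-- **EM8.2**, generic: one component gives the class-5 conclusion `C5` or the orthogonal residual class, given the two
class-5 tools (realisable over a proper subfield ⇒ `C5`; fixes a unitary form ⇒ `C5`) for this `H`. -/
theorem res_of_components_one_gen (C5 : Prop)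
    (H : Subgroup (GL (Fin n) F)) (hgood : Good H)
    (L : Fin 1 → Subgroup (GL (Fin n) F)) (hL : Components H 1 L)
    (hT5 : ∀ N : Subgroup (GL (Fin n) F), N ≤ H → NormalizedBy H N →
      ActsAbsolutelyIrreducibly (matrixSet N) →
      ∀ F₁ : Subfield F, F₁ ≠ ⊤ → RealisableOver F₁ (matrixSet N) → C5)
    (hT5p : ∀ N : Subgroup (GL (Fin n) F), N ≤ H → NormalizedBy H N →
      ActsAbsolutelyIrreducibly (matrixSet N) →
      ∀ (σ : F ≃+* F) (g : (Fin n → F) → (Fin n → F) → F), IsUnitaryForm σ g →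
        FixesForm (matrixSet N) g → C5) :
    C5 ∨ InOrthogonalResidualClass H := by
  have hnorm : NormalizedBy H (L 0) := by
    intro h hh x hx
    obtain ⟨σ, hσ⟩ := hL.perm h hh
    have h0 : (L 0).map (MulAut.conj h).toMonoidHom = L 0 := by
      rw [hσ 0]
      congr 1
      exact Subsingleton.elim _ _
    rw [← h0]
    exact ⟨x, hx, by simp [MulAut.conj_apply]⟩
  have habs : ActsAbsolutelyIrreducibly (matrixSet (L 0)) :=
    (hgood.star (L 0) (hL.le 0) hnorm).resolve_left (hL.not_scal 0)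
  by_cases h5 : ∃ F₀ : Subfield F, F₀ ≠ ⊤ ∧ RealisableOver F₀ (matrixSet (L 0))
  · obtain ⟨F₀, hne, hreal⟩ := h5
    exact Or.inl (hT5 (L 0) (hL.le 0) hnorm habs F₀ hne hreal)
  by_cases hu : ∃ (σ : F ≃+* F) (f : (Fin n → F) → (Fin n → F) → F), IsUnitaryForm σ f ∧
      FixesForm (matrixSet (L 0)) f
  · obtain ⟨σ, f, hf, hfix⟩ := hu
    exact Or.inl (hT5p (L 0) (hL.le 0) hnorm habs σ f hf hfix)
  refine Or.inr ⟨L 0, ⟨hL.le 0, hnorm, hL.perfect 0, hL.simple 0, hL.nonab 0, ?_, habs, ?_⟩, hu⟩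
  · intro h _ hcomm
    exact Cfsg.Agent.Lib.H3.Asch.mem_scalars_of_absIrr_of_commute (L 0) habs h
      (commute_of_commutator_scalar (L 0) (hL.perfect 0) h hcomm)
  · intro F₀ hne hreal
    exact h5 ⟨F₀, hne, hreal⟩

/-- **EM8.2** with ET5 and ET5' (for this `H`) as hypotheses. -/
theorem eres_of_components_one_aux (Q : (Fin n → F) → F)
    (H : Subgroup (GL (Fin n) F)) (hgood : Good H)
    (L : Fin 1 → Subgroup (GL (Fin n) F)) (hL : Components H 1 L)
    (hT5 : ∀ N : Subgroup (GL (Fin n) F), N ≤ H → NormalizedBy H N →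
      ActsAbsolutelyIrreducibly (matrixSet N) →
      ∀ F₁ : Subfield F, F₁ ≠ ⊤ → RealisableOver F₁ (matrixSet N) → Cfsg.Agent.Lib.H26.AschE.EC5 Q H)
    (hT5p : ∀ N : Subgroup (GL (Fin n) F), N ≤ H → NormalizedBy H N →
      ActsAbsolutelyIrreducibly (matrixSet N) →
      ∀ (σ : F ≃+* F) (g : (Fin n → F) → (Fin n → F) → F), IsUnitaryForm σ g →
        FixesForm (matrixSet N) g → Cfsg.Agent.Lib.H26.AschE.EC5 Q H) :
    Cfsg.Agent.Lib.H26.AschE.EC5 Q H ∨ InOrthogonalResidualClass H :=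
  res_of_components_one_gen _ H hgood L hL hT5 hT5p

end Cfsg.Agent.Lib.H22.AschE
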