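/-
EO project (architect helper26), module **EM8.2** with the EXACT signature of tools/blueprints/EO_sigs.lean (helper22):
one component ⇒ class 5 or the orthogonal residual class.  = `eres_of_components_one_aux` (Lib/H22/AschEEM82a) + helper25's
ET5 (`ec5_of_realisable`) + helper6's ET5' (`ec5_of_fixes_unitary_aux`).
-/
import Cfsg.Agent.Lib.H22.AschEEM82a
import Cfsg.Agent.Lib.H25.AschEET5
import Cfsg.Agent.Lib.H6.AschET5p

set_option autoImplicit false

namespace Cfsg.Agent.Lib.H22.AschE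

open Cfsg Cfsg.Geo Cfsg.Agent.Lib.Lead.Asch Cfsg.Agent.Lib.H26.AschE
open scoped MatrixGroups Matrix Kronecker

variable {F : Type*} [Field F] [Fintype F] {n : ℕ}

/-- **ET5'** with the exact signature of EO_sigs (helper6's `ec5_of_fixes_unitary_aux` + helper25's ET5). -/
theorem ec5_of_fixes_unitary' (Q : (Fin n → F) → F) (hQ : IsNondegenerateQuadraticForm Q) (hn : 2 ≤ n)
    (H N : Subgroup (GL (Fin n) F)) (hH : H ≤ isometryGroup F Q) (hNH : N ≤ H)
    (hnorm : NormalizedBy H N) (habs : ActsAbsolutelyIrreducibly (matrixSet N))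
    (σ : F ≃+* F) (g : (Fin n → F) → (Fin n → F) → F) (hg : IsUnitaryForm σ g)
    (hfix : FixesForm (matrixSet N) g) : EC5 Q H :=
  Cfsg.Agent.Lib.H6.AschE.ec5_of_fixes_unitary_aux Q hQ hn H N hH hNH hnorm habs
    (fun F₁ hne hreal =>
      Cfsg.Agent.Lib.H25.AschE.ec5_of_realisable Q hQ hn H N hH hNH hnorm habs F₁ hne hreal)
    σ g hg hfix

/-- **EM8.2** one component: residual class, or class 5. -/
theorem eres_of_components_one (Q : (Fin n → F) → F) (hQ : IsNondegenerateQuadraticForm Q) (hn : 5 ≤ n)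
    (H : Subgroup (GL (Fin n) F)) (hH : H ≤ isometryGroup F Q) (hgood : Good H)
    (L : Fin 1 → Subgroup (GL (Fin n) F)) (hL : Cfsg.Agent.Lib.H26.Asch.Components H 1 L) :
    EC5 Q H ∨ InOrthogonalResidualClass H :=
  eres_of_components_one_aux Q H hgood L hL
    (fun N hNH hnorm habs F₁ hne hreal =>
      Cfsg.Agent.Lib.H25.AschE.ec5_of_realisable Q hQ (by omega) H N hH hNH hnorm habs F₁ hne hreal)
    (fun N hNH hnorm habs σ g hg hfix =>
      ec5_of_fixes_unitary' Q hQ (by omega) H N hH hNH hnorm habs σ g hg hfix)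

end Cfsg.Agent.Lib.H22.AschE
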