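/-
EO project (Aschbacher for even-dimensional orthogonal groups, architect helper26), module **EM3** (helper22):
a homogeneous normal subgroup whose constituent is NOT absolutely irreducible gives class 3.
Def-independent form, ALL `q`, any `n ≥ 3`.  Built on helper4's `cc` / `sadj` machinery (Lib/H4/AschM3, AschUM3, AschSM3,
AschOM3).
-/
import Mathlib
import Cfsg.Agent.Lib.H24.AschOBasic
import Cfsg.Agent.Lib.H4.AschM3
import Cfsg.Agent.Lib.H4.AschUM3
import Cfsg.Agent.Lib.H4.AschSM3
import Cfsg.Agent.Lib.H4.AschOM3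

set_option autoImplicit false
set_option maxHeartbeats 800000

namespace Cfsg.Agent.Lib.H22.AschE

open Cfsg Cfsg.Geo Cfsg.Agent.Lib.Lead.Asch Cfsg.Agent.Lib.H24.Asch Cfsg.Agent.Lib.H4.AschS
  Cfsg.Agent.Lib.H4.Asch
open scoped MatrixGroups Matrix Kronecker

variable {F : Type*} [Field F] [Fintype F] {n : ℕ}

/-- Over a finite field of characteristic 2, two additive maps `φ : F^n → F` with `φ (a • v) = a² φ v` have a common
non-zero zero as soon as `3 ≤ n` (their square roots are linear functionals). -/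
theorem exists_ne_zero_of_semilinear (h2 : (2 : F) = 0) (hn : 3 ≤ n) (φ₁ φ₂ : (Fin n → F) → F)
    (hadd₁ : ∀ u v, φ₁ (u + v) = φ₁ u + φ₁ v) (hsm₁ : ∀ (a : F) v, φ₁ (a • v) = a ^ 2 * φ₁ v)
    (hadd₂ : ∀ u v, φ₂ (u + v) = φ₂ u + φ₂ v) (hsm₂ : ∀ (a : F) v, φ₂ (a • v) = a ^ 2 * φ₂ v) :
    ∃ v : Fin n → F, v ≠ 0 ∧ φ₁ v = 0 ∧ φ₂ v = 0 := by
  classical
  haveI : CharP F 2 := CharTwo.of_one_ne_zero_of_two_eq_zero one_ne_zero h2
  set s : F ≃+* F := (frobeniusEquiv F 2).symm with hs
  have hs2 : ∀ x, (s x) ^ 2 = x := fun x => frobeniusEquiv_symm_pow_p F 2 x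
  have hsinj : ∀ x y : F, x ^ 2 = y ^ 2 → x = y := by
    intro x y hxy
    have := (frobeniusEquiv F 2).injective (a₁ := x) (a₂ := y) (by
      rw [frobeniusEquiv_apply, frobeniusEquiv_apply]; exact hxy)
    exact this
  have hsmul : ∀ a x : F, s (a ^ 2 * x) = a * s x := by
    intro a x
    apply hsinj
    rw [hs2, mul_pow, hs2]
  let mk : ∀ φ : (Fin n → F) → F, (∀ u v, φ (u + v) = φ u + φ v) →
      (∀ (a : F) v, φ (a • v) = a ^ 2 * φ v) → ((Fin n → F) →ₗ[F] F) := fun φ hadd hsm =>
    { toFun := fun v => s (φ v)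
      map_add' := fun u v => by rw [hadd, map_add]
      map_smul' := fun a v => by
        rw [hsm, hsmul, RingHom.id_apply, smul_eq_mul] }
  set ψ₁ := mk φ₁ hadd₁ hsm₁ with hψ₁
  set ψ₂ := mk φ₂ hadd₂ hsm₂ with hψ₂
  set L : (Fin n → F) →ₗ[F] F × F := ψ₁.prod ψ₂ with hL
  have hrk := LinearMap.finrank_range_add_finrank_ker L
  rw [Module.finrank_fin_fun] at hrk
  have hrange : Module.finrank F (LinearMap.range L) ≤ 2 := by
    have := Submodule.finrank_le (LinearMap.range L)
    rw [Module.finrank_prod, Module.finrank_self] at this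
    exact this
  have hker : 0 < Module.finrank F (LinearMap.ker L) := by omega
  obtain ⟨⟨v, hvk⟩, hv0⟩ := Module.finrank_pos_iff_exists_ne_zero.mp hker
  have hv0' : v ≠ 0 := fun h => hv0 (Subtype.ext h)
  have hLv : L v = 0 := hvk
  have h1 : s (φ₁ v) = 0 := congrArg Prod.fst hLv
  have h2' : s (φ₂ v) = 0 := congrArg Prod.snd hLv
  refine ⟨v, hv0', ?_, ?_⟩
  · have := hs2 (φ₁ v)
    rw [h1] at this
    rw [← this]; ring
  · have := hs2 (φ₂ v)
    rw [h2'] at this
    rw [← this]; ring

/-- **EM3** (class 3 for orthogonal groups, all `q`, any parity of `n`): a homogeneous normal subgroup with a constituent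
that is not absolutely irreducible gives a field subalgebra `K` of prime degree normalised by `H` which is either
self-adjoint for the polar form, or of degree 2, adjoint-closed, not self-adjoint and acting by similarities of `Q`. -/
theorem class3_of_homog_not_absIrr (Q : (Fin n → F) → F) (hQ : IsNondegenerateQuadraticForm Q) (hn : 3 ≤ n)
    (H N : Subgroup (GL (Fin n) F)) (hH : H ≤ isometryGroup F Q)
    (hirr : ActsIrreducibly (matrixSet H)) (hNH : N ≤ H)
    (hnorm : NormalizedBy H N) (D : HomogData N)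
    (hna : ¬ ActsAbsolutelyIrreducibly (repSet D.ρ)) :
    (∃ (r : ℕ) (K : Subalgebra F (Matrix (Fin n) (Fin n) F)), r.Prime ∧ IsFieldSubalgebra r K ∧
        IsSelfAdjointFor (QuadraticMap.polar Q) K ∧
        (¬ Odd (Fintype.card F) → ∀ k ∈ K, ∀ v : Fin n → F, QuadraticMap.polar Q (k *ᵥ v) v = 0) ∧
        H ≤ subalgebraNormalizer K) ∨
    (∃ K : Subalgebra F (Matrix (Fin n) (Fin n) F), IsFieldSubalgebra 2 K ∧
        IsAdjointClosedFor (QuadraticMap.polar Q) K ∧ ¬ IsSelfAdjointFor (QuadraticMap.polar Q) K ∧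
        (∀ k ∈ K, ∃ c : F, ∀ v : Fin n → F, Q (k *ᵥ v) = c * Q v) ∧ H ≤ subalgebraNormalizer K) := by
  classical
  have hn0 : 0 < n := by omega
  have : Nonempty (Fin n) := ⟨⟨0, hn0⟩⟩
  set f := QuadraticMap.polar Q with hfdef
  have hb : IsBilinearForm f := hQ.polar_bilinear
  have hnd : IsNondegenerateForm f := hQ.nondegenerate
  have hsymm : ∀ u v, f u v = f v u := fun u v => QuadraticMap.polar_comm Q u v
  have hinvol : ∀ a, sadj f (sadj f a) = a := sadj_sadj_of_symm hb hnd hsymm
  obtain ⟨hcomm, hinv, hdim⟩ := cc_field_props hn0 N D hna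
  set Z := cc F (matrixSet N) with hZ
  have hHadj : ∀ h ∈ H, sadj f (h : Matrix (Fin n) (Fin n) F) =
      ((h⁻¹ : GL (Fin n) F) : Matrix (Fin n) (Fin n) F) := by
    intro h hh
    exact sadj_eq_inv_of_isometry hb hnd h (polar_isometry Q h (hH hh))
  have hSadj : ∀ s ∈ matrixSet N, sadj f s ∈ matrixSet N := by
    rintro _ ⟨x, hx, rfl⟩
    exact ⟨x⁻¹, N.inv_mem hx, (hHadj x (hNH hx)).symm⟩
  have hZadj : ∀ z ∈ Z, sadj f z ∈ Z := fun z hz => sadj_mem_cc_of_invol hb hnd hinvol _ hSadj z hz
  have hconj : ∀ h ∈ H, ∀ z : Matrix (Fin n) (Fin n) F,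
      sadj f ((h : Matrix (Fin n) (Fin n) F) * z * ((h⁻¹ : GL (Fin n) F) : Matrix (Fin n) (Fin n) F)) =
        (h : Matrix (Fin n) (Fin n) F) * sadj f z * ((h⁻¹ : GL (Fin n) F) : Matrix (Fin n) (Fin n) F) := by
    intro h hh z
    rw [sadj_mul hb hnd, sadj_mul hb hnd, hHadj h hh, hHadj h⁻¹ (H.inv_mem hh), inv_inv, mul_assoc]
  -- the self-adjoint part of `Z`
  let Zp : Subalgebra F (Matrix (Fin n) (Fin n) F) :=
    { carrier := {z | z ∈ Z ∧ sadj f z = z}
      mul_mem' := fun {a b} ha hb' => ⟨Z.mul_mem ha.1 hb'.1, by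
        show sadj f (a * b) = a * b
        rw [sadj_mul hb hnd, ha.2, hb'.2]; exact hcomm _ hb'.1 _ ha.1⟩
      add_mem' := fun {a b} ha hb' => ⟨Z.add_mem ha.1 hb'.1, by
        show sadj f (a + b) = a + b
        rw [sadj_add, ha.2, hb'.2]⟩
      algebraMap_mem' := fun c => ⟨Z.algebraMap_mem c, sadj_algebraMap hb hnd c⟩ }
  have hZp : ∀ z, z ∈ Zp ↔ z ∈ Z ∧ sadj f z = z := fun z => Iff.rfl
  by_cases hcase : Zp = ⊥
  · -- the fixed field of the adjoint is `F`: degree 2, unitary type
    right
    have hscal : ∀ z ∈ Z, sadj f z = z → ∃ c : F, z = algebraMap F _ c := by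
      intro z hz hzz
      have hmem : z ∈ Zp := ⟨hz, hzz⟩
      rw [hcase, Algebra.mem_bot] at hmem
      obtain ⟨c, hc⟩ := hmem
      exact ⟨c, hc.symm⟩
    have hnonself : ∃ k ∈ Z, sadj f k ≠ k := by
      by_contra hcon
      push Not at hcon
      have hbot : Z = ⊥ := by
        rw [eq_bot_iff]
        intro z hz
        obtain ⟨c, hc⟩ := hscal z hz (hcon z hz)
        exact Algebra.mem_bot.mpr ⟨c, hc.symm⟩
      have h1 : Module.finrank F Z = 1 := Subalgebra.finrank_eq_one_iff.mpr hbot
      omega
    obtain ⟨k₀, hk₀Z, hk₀⟩ := hnonself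
    have hfin2 : Module.finrank F Z = 2 := by
      have hZf : IsField Z := by
        refine ⟨⟨0, 1, zero_ne_one⟩, ?_, ?_⟩
        · rintro ⟨x, hx⟩ ⟨y, hy⟩
          exact Subtype.ext (hcomm x hx y hy)
        · rintro ⟨x, hx⟩ hx0
          have hx0' : x ≠ 0 := fun h => hx0 (Subtype.ext h)
          obtain ⟨y, hy, hxy⟩ := hinv x hx hx0'
          exact ⟨⟨y, hy⟩, Subtype.ext hxy⟩
      letI : Field Z := hZf.toField
      let τ : Z ≃ₐ[F] Z :=
        { toFun := fun x => ⟨sadj f x.1, hZadj x.1 x.2⟩
          invFun := fun x => ⟨sadj f x.1, hZadj x.1 x.2⟩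
          left_inv := fun x => Subtype.ext (hinvol x.1)
          right_inv := fun x => Subtype.ext (hinvol x.1)
          map_mul' := fun x y => by
            apply Subtype.ext
            show sadj f (x.1 * y.1) = sadj f x.1 * sadj f y.1
            rw [sadj_mul hb hnd]
            exact hcomm _ (hZadj y.1 y.2) _ (hZadj x.1 x.2)
          map_add' := fun x y => Subtype.ext (sadj_add x.1 y.1)
          commutes' := fun c => Subtype.ext (sadj_algebraMap hb hnd c) }
      refine finrank_eq_two_of_involution τ (fun x => Subtype.ext (hinvol x.1)) ?_ ?_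
      · intro h1
        apply hk₀
        have h2 : τ ⟨k₀, hk₀Z⟩ = ⟨k₀, hk₀Z⟩ := by rw [h1]; rfl
        exact congrArg Subtype.val h2
      · intro x hx
        have h2 : sadj f x.1 = x.1 := congrArg Subtype.val hx
        obtain ⟨c, hc⟩ := hscal x.1 x.2 h2
        exact Algebra.mem_bot.mpr ⟨c, Subtype.ext hc.symm⟩
    have hfieldZ : IsFieldSubalgebra 2 Z := ⟨hcomm, hinv, hfin2⟩
    have hnormZ : H ≤ subalgebraNormalizer Z := fun h hh k' => cc_conj_iff H N hnorm h hh k'
    -- the norm of `k ∈ Z`
    have hnormk : ∀ k ∈ Z, ∃ c : F, sadj f k * k = algebraMap F _ c := by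
      intro k hk
      refine hscal _ (Z.mul_mem (hZadj k hk) hk) ?_
      rw [sadj_mul hb hnd, hinvol]
    have hfkk : ∀ k ∈ Z, ∀ c : F, sadj f k * k = algebraMap F _ c →
        ∀ u v, f (k *ᵥ u) (k *ᵥ v) = c * f u v := by
      intro k hk c hc u v
      rw [form_sadj hb hnd, Matrix.mulVec_mulVec, hc, Algebra.algebraMap_eq_smul_one,
        Matrix.smul_mulVec, Matrix.one_mulVec, hb.smul_right]
    refine ⟨Z, hfieldZ, ?_, ?_, ?_, hnormZ⟩
    · intro k hk
      exact ⟨sadj f k, hZadj k hk, fun u v => form_sadj hb hnd k u v⟩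
    · intro hself
      apply hk₀
      apply eq_of_form_eq hb hnd
      intro u v
      rw [← form_sadj hb hnd, hself k₀ hk₀Z]
    · -- similarity clause
      by_cases h2 : (2 : F) = 0
      · -- characteristic 2
        have hF2 : ∀ x : F, x + x = 0 := fun x => by rw [← two_mul, h2, zero_mul]
        have hM2 : ∀ M : Matrix (Fin n) (Fin n) F, M + M = 0 := fun M => by
          rw [← two_smul F M, h2, zero_smul]
        have hfvv : ∀ v, f v v = 0 := fun v => by
          rw [hfdef, polar_self hQ, h2, zero_mul]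
        have hQ0 : Q 0 = 0 := by
          have := hQ.smul 0 (0 : Fin n → F)
          rw [zero_smul] at this
          rw [this]; ring
        have hQadd : ∀ u v, Q (u + v) = Q u + Q v + f u v := fun u v => by
          rw [hfdef]; unfold QuadraticMap.polar; ring
        obtain ⟨c₀, hc₀⟩ := hnormk k₀ hk₀Z
        obtain ⟨τ₀, hτ₀⟩ := hscal (k₀ + sadj f k₀) (Z.add_mem hk₀Z (hZadj k₀ hk₀Z)) (by
          rw [sadj_add, hinvol, add_comm])
        have hτ₀0 : τ₀ ≠ 0 := by
          rintro rfl
          rw [map_zero] at hτ₀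
          apply hk₀
          have h3 : sadj f k₀ = -k₀ := eq_neg_of_add_eq_zero_right hτ₀
          rw [h3, neg_eq_iff_add_eq_zero, hM2]
        -- every element of `Z` is `a + b k₀`
        have hspan : ∀ z ∈ Z, ∃ a b : F, z = a • (1 : Matrix (Fin n) (Fin n) F) + b • k₀ := by
          intro z hz
          obtain ⟨s₂, hs₂⟩ := hscal (z + sadj f z) (Z.add_mem hz (hZadj z hz)) (by
            rw [sadj_add, hinvol, add_comm])
          obtain ⟨s₁, hs₁⟩ := hscal (z * sadj f k₀ + sadj f z * k₀)
            (Z.add_mem (Z.mul_mem hz (hZadj k₀ hk₀Z)) (Z.mul_mem (hZadj z hz) hk₀Z)) (by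
            rw [sadj_add, sadj_mul hb hnd, sadj_mul hb hnd, hinvol, hinvol,
              hcomm k₀ hk₀Z _ (hZadj z hz), hcomm _ (hZadj k₀ hk₀Z) z hz, add_comm])
          -- `sadj z = s₂ + z`
          have hsz : sadj f z = algebraMap F _ s₂ + z := by
            have : sadj f z = algebraMap F _ s₂ - z := by rw [← hs₂]; abel
            rw [this, sub_eq_add_neg]
            congr 1
            rw [neg_eq_iff_add_eq_zero, hM2]
          have hsk : sadj f k₀ = algebraMap F _ τ₀ + k₀ := by
            have : sadj f k₀ = algebraMap F _ τ₀ - k₀ := by rw [← hτ₀]; abel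
            rw [this, sub_eq_add_neg]
            congr 1
            rw [neg_eq_iff_add_eq_zero, hM2]
          -- `τ₀ z = s₁ + s₂ k₀`
          have h5 : τ₀ • z = s₁ • (1 : Matrix (Fin n) (Fin n) F) + s₂ • k₀ := by
            have h6 := hs₁
            rw [hsz, hsk, Algebra.algebraMap_eq_smul_one, Algebra.algebraMap_eq_smul_one,
              Algebra.algebraMap_eq_smul_one] at h6
            have h7 : z * (τ₀ • (1 : Matrix (Fin n) (Fin n) F) + k₀) +
                (s₂ • (1 : Matrix (Fin n) (Fin n) F) + z) * k₀ =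
                τ₀ • z + s₂ • k₀ + (z * k₀ + z * k₀) := by
              rw [mul_add, add_mul, Matrix.mul_smul, mul_one, Matrix.smul_mul, one_mul]
              abel
            rw [h7, hM2, add_zero] at h6
            have h8 : τ₀ • z = s₁ • (1 : Matrix (Fin n) (Fin n) F) - s₂ • k₀ := by
              rw [← h6]; abel
            rw [h8, sub_eq_add_neg]
            congr 1
            rw [neg_eq_iff_add_eq_zero, hM2]
          refine ⟨τ₀⁻¹ * s₁, τ₀⁻¹ * s₂, ?_⟩
          calc z = τ₀⁻¹ • (τ₀ • z) := by rw [smul_smul, inv_mul_cancel₀ hτ₀0, one_smul]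
            _ = _ := by rw [h5, smul_add, smul_smul, smul_smul]
        -- the two defects
        have hA : ∀ u v, f (k₀ *ᵥ u) (k₀ *ᵥ v) = c₀ * f u v := hfkk k₀ hk₀Z c₀ hc₀
        have hB : ∀ u v, f u (k₀ *ᵥ v) + f v (k₀ *ᵥ u) = τ₀ * f u v := by
          intro u v
          have h3 : f v (k₀ *ᵥ u) = f u (sadj f k₀ *ᵥ v) := by
            rw [hsymm v, form_sadj hb hnd]
          rw [h3, ← hb.add_right, ← Matrix.add_mulVec, hτ₀, Algebra.algebraMap_eq_smul_one,
            Matrix.smul_mulVec, Matrix.one_mulVec, hb.smul_right]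
        set φ₁ : (Fin n → F) → F := fun v => Q (k₀ *ᵥ v) - c₀ * Q v with hφ₁
        set φ₂ : (Fin n → F) → F := fun v => f v (k₀ *ᵥ v) - τ₀ * Q v with hφ₂
        have hadd₁ : ∀ u v, φ₁ (u + v) = φ₁ u + φ₁ v := by
          intro u v
          simp only [hφ₁]
          rw [Matrix.mulVec_add, hQadd, hQadd u v, hA]
          ring
        have hsm₁ : ∀ (a : F) v, φ₁ (a • v) = a ^ 2 * φ₁ v := by
          intro a v
          simp only [hφ₁]
          rw [Matrix.mulVec_smul, hQ.smul, hQ.smul]
          ring
        have hadd₂ : ∀ u v, φ₂ (u + v) = φ₂ u + φ₂ v := by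
          intro u v
          simp only [hφ₂]
          rw [Matrix.mulVec_add, hb.add_left, hb.add_right, hb.add_right, hQadd u v]
          have := hB u v
          linear_combination this
        have hsm₂ : ∀ (a : F) v, φ₂ (a • v) = a ^ 2 * φ₂ v := by
          intro a v
          simp only [hφ₂]
          rw [Matrix.mulVec_smul, hb.smul_left, hb.smul_right, hQ.smul]
          ring
        -- the common zero set is an `H`-invariant subspace
        let W : Submodule F (Fin n → F) :=
          { carrier := {v | φ₁ v = 0 ∧ φ₂ v = 0}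
            add_mem' := fun {u v} hu hv => ⟨by rw [hadd₁, hu.1, hv.1, add_zero],
              by rw [hadd₂, hu.2, hv.2, add_zero]⟩
            zero_mem' := by
              constructor
              · simp only [hφ₁]; rw [Matrix.mulVec_zero, hQ0]; ring
              · simp only [hφ₂]; rw [Matrix.mulVec_zero, hQ0]
                have : f 0 0 = 0 := hfvv 0
                rw [this]; ring
            smul_mem' := fun a v hv => ⟨by rw [hsm₁, hv.1, mul_zero], by rw [hsm₂, hv.2, mul_zero]⟩ }
        have hWmem : ∀ v, v ∈ W ↔ φ₁ v = 0 ∧ φ₂ v = 0 := fun v => Iff.rfl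
        have hWinv : ∀ s ∈ matrixSet H, W.map (Matrix.toLin' s) ≤ W := by
          rintro _ ⟨h, hh, rfl⟩
          rintro _ ⟨v, hv, rfl⟩
          have hv' := (hWmem v).mp hv
          rw [Matrix.toLin'_apply]
          set hm : Matrix (Fin n) (Fin n) F := (h : Matrix (Fin n) (Fin n) F) with hhm
          set hi : Matrix (Fin n) (Fin n) F := ((h⁻¹ : GL (Fin n) F) : Matrix (Fin n) (Fin n) F) with hhi
          have hih : hi * hm = 1 := by rw [hhi, hhm, ← Units.val_mul, inv_mul_cancel, Units.val_one]
          have hhi' : hm * hi = 1 := by rw [hhi, hhm, ← Units.val_mul, mul_inv_cancel, Units.val_one]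
          set k' := hi * k₀ * hm with hk'
          have hk'Z : k' ∈ Z := by
            have := (cc_conj_iff H N hnorm h⁻¹ (H.inv_mem hh) k₀).mp hk₀Z
            rwa [inv_inv] at this
          have hhk : k₀ * hm = hm * k' := by
            rw [hk', ← mul_assoc, ← mul_assoc, hhi', one_mul]
          have hsk' : sadj f k' = hi * sadj f k₀ * hm := by
            have h5 := hconj h⁻¹ (H.inv_mem hh) k₀
            rw [inv_inv] at h5
            exact h5
          obtain ⟨a, b, hab⟩ := hspan k' hk'Z
          -- trace and norm of `k'`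
          have htr : k' + sadj f k' = algebraMap F _ τ₀ := by
            rw [hsk', hk', ← add_mul, ← mul_add, hτ₀, Algebra.algebraMap_eq_smul_one, Matrix.mul_smul,
              mul_one, Matrix.smul_mul, hih]
          have hnm : sadj f k' * k' = algebraMap F _ c₀ := by
            rw [hsk', hk']
            calc hi * sadj f k₀ * hm * (hi * k₀ * hm) = hi * (sadj f k₀ * (hm * hi) * k₀) * hm := by
                  simp only [mul_assoc]
              _ = hi * (sadj f k₀ * k₀) * hm := by rw [hhi', mul_one]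
              _ = _ := by
                  rw [hc₀, Algebra.algebraMap_eq_smul_one, Matrix.mul_smul, mul_one, Matrix.smul_mul, hih]
          have hskab : sadj f k' = a • (1 : Matrix (Fin n) (Fin n) F) + b • sadj f k₀ := by
            rw [hab, sadj_add, sadj_smul, sadj_smul, sadj_one hb hnd]
          have hone : (1 : Matrix (Fin n) (Fin n) F) ≠ 0 := one_ne_zero
          have hinjsc : ∀ x y : F, x • (1 : Matrix (Fin n) (Fin n) F) = y • 1 → x = y := by
            intro x y hxy
            have := congrFun (congrFun hxy ⟨0, hn0⟩) ⟨0, hn0⟩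
            simpa using this
          -- `b τ₀ = τ₀`
          have hbτ : b * τ₀ = τ₀ := by
            apply hinjsc
            have h6 : k' + sadj f k' = (b * τ₀) • (1 : Matrix (Fin n) (Fin n) F) := by
              rw [hskab]
              nth_rewrite 1 [hab]
              have : a • (1 : Matrix (Fin n) (Fin n) F) + b • k₀ + (a • 1 + b • sadj f k₀) =
                  (a • (1 : Matrix (Fin n) (Fin n) F) + a • 1) + b • (k₀ + sadj f k₀) := by
                rw [smul_add]; abel
              rw [this, hM2, zero_add, hτ₀, Algebra.algebraMap_eq_smul_one, smul_smul]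
            rw [← h6, htr, Algebra.algebraMap_eq_smul_one]
          -- `a² + a b τ₀ + b² c₀ = c₀`
          have hnorm' : a ^ 2 + a * b * τ₀ + b ^ 2 * c₀ = c₀ := by
            apply hinjsc
            have h6 : sadj f k' * k' =
                (a ^ 2 + a * b * τ₀ + b ^ 2 * c₀) • (1 : Matrix (Fin n) (Fin n) F) := by
              rw [hskab]
              nth_rewrite 1 [hab]
              have : (a • (1 : Matrix (Fin n) (Fin n) F) + b • sadj f k₀) * (a • 1 + b • k₀) =
                  (a * a) • (1 : Matrix (Fin n) (Fin n) F) + (a * b) • (k₀ + sadj f k₀) +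
                    (b * b) • (sadj f k₀ * k₀) := by
                simp only [add_mul, mul_add, Matrix.smul_mul, Matrix.mul_smul, one_mul, mul_one, smul_smul,
                  smul_add]
                rw [mul_comm b a]
                abel
              rw [this, hτ₀, hc₀, Algebra.algebraMap_eq_smul_one, Algebra.algebraMap_eq_smul_one,
                smul_smul, smul_smul, ← add_smul, ← add_smul]
              congr 1
              ring
            rw [← h6, hnm, Algebra.algebraMap_eq_smul_one]
          have hQh : ∀ w, Q (hm *ᵥ w) = Q w := fun w => (mem_isometryGroup_iff Q h).mp (hH hh) w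
          have hfh : ∀ u w, f (hm *ᵥ u) (hm *ᵥ w) = f u w := fun u w => polar_isometry Q h (hH hh) u w
          have hk'v : k' *ᵥ v = a • v + b • (k₀ *ᵥ v) := by
            rw [hab, Matrix.add_mulVec, Matrix.smul_mulVec, Matrix.one_mulVec, Matrix.smul_mulVec]
          have h1v : Q (k₀ *ᵥ v) = c₀ * Q v := sub_eq_zero.mp hv'.1
          have h2v : f v (k₀ *ᵥ v) = τ₀ * Q v := sub_eq_zero.mp hv'.2
          rw [hWmem]
          constructor
          · simp only [hφ₁]
            rw [Matrix.mulVec_mulVec, hhk, ← Matrix.mulVec_mulVec, hQh, hQh, hk'v, hQadd, hQ.smul,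
              hQ.smul, hb.smul_left, hb.smul_right, h1v, h2v]
            linear_combination (Q v) * hnorm'
          · simp only [hφ₂]
            rw [Matrix.mulVec_mulVec, hhk, ← Matrix.mulVec_mulVec, hfh, hQh, hk'v, hb.add_right,
              hb.smul_right, hb.smul_right, hfvv, h2v]
            linear_combination (Q v) * hbτ
        obtain ⟨v₀, hv₀, hv₁, hv₂⟩ := exists_ne_zero_of_semilinear h2 hn φ₁ φ₂ hadd₁ hsm₁ hadd₂ hsm₂
        have hWtop : W = ⊤ := by
          rcases hirr W hWinv with hbot | htop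
          · exfalso
            apply hv₀
            have : v₀ ∈ W := (hWmem v₀).mpr ⟨hv₁, hv₂⟩
            rw [hbot] at this
            exact (Submodule.mem_bot F).mp this
          · exact htop
        have hall : ∀ v, Q (k₀ *ᵥ v) = c₀ * Q v ∧ f v (k₀ *ᵥ v) = τ₀ * Q v := by
          intro v
          have : v ∈ W := by rw [hWtop]; exact Submodule.mem_top
          exact ⟨sub_eq_zero.mp this.1, sub_eq_zero.mp this.2⟩
        intro k hk
        obtain ⟨a, b, hab⟩ := hspan k hk
        refine ⟨a ^ 2 + a * b * τ₀ + b ^ 2 * c₀, fun v => ?_⟩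
        rw [hab, Matrix.add_mulVec, Matrix.smul_mulVec, Matrix.one_mulVec, Matrix.smul_mulVec, hQadd,
          hQ.smul, hQ.smul, hb.smul_left, hb.smul_right, (hall v).1, (hall v).2]
        ring
      · -- odd characteristic
        intro k hk
        obtain ⟨c, hc⟩ := hnormk k hk
        refine ⟨c, fun v => ?_⟩
        have h3 := hfkk k hk c hc v v
        rw [hfdef, polar_self hQ, polar_self hQ] at h3
        have h4 : (2 : F) * (Q (k *ᵥ v) - c * Q v) = 0 := by
          rw [mul_sub, h3]; ring
        exact sub_eq_zero.mp ((mul_eq_zero.mp h4).resolve_left h2)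
  · -- the fixed field of the adjoint is bigger than `F`: a self-adjoint subfield of prime degree
    left
    have hcomm' : ∀ x ∈ Zp, ∀ y ∈ Zp, x * y = y * x := fun x hx y hy => hcomm x hx.1 y hy.1
    have hinv' : ∀ x ∈ Zp, x ≠ 0 → ∃ y ∈ Zp, x * y = 1 := by
      intro x hx hx0
      obtain ⟨y, hy, hxy⟩ := hinv x hx.1 hx0
      refine ⟨y, ⟨hy, ?_⟩, hxy⟩
      have h1 : sadj f y * x = 1 := by
        have := congrArg (sadj f) hxy
        rw [sadj_mul hb hnd, hx.2, sadj_one hb hnd] at this
        exact this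
      calc sadj f y = sadj f y * (x * y) := by rw [hxy, mul_one]
        _ = y := by rw [← mul_assoc, h1, one_mul]
    have hdim' : 2 ≤ Module.finrank F Zp := by
      have hpos : 0 < Module.finrank F Zp := Module.finrank_pos
      have hne1 : Module.finrank F Zp ≠ 1 := fun h => hcase (Subalgebra.finrank_eq_one_iff.mp h)
      omega
    obtain ⟨r, K, hrp, hK, hKr⟩ := exists_frobenius_fixed_subalgebra Zp hcomm' hinv' hdim'
    set m := Fintype.card F ^ r with hm
    have hfield : IsFieldSubalgebra r K := by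
      refine ⟨?_, ?_, hKr⟩
      · intro x hx y hy
        exact hcomm' x ((hK x).mp hx).1 y ((hK y).mp hy).1
      · intro x hx hx0
        obtain ⟨hxZ, hxm⟩ := (hK x).mp hx
        obtain ⟨y, hyZ, hxy⟩ := hinv' x hxZ hx0
        refine ⟨y, (hK y).mpr ⟨hyZ, ?_⟩, hxy⟩
        have hyx : y * x = 1 := by rw [← hcomm' x hxZ y hyZ, hxy]
        have hc : Commute x y := hcomm' x hxZ y hyZ
        have h1 : x * y ^ m = 1 := by
          have := hc.mul_pow m
          rw [hxy, one_pow, hxm] at this
          exact this.symm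
        calc y ^ m = (y * x) * y ^ m := by rw [hyx, one_mul]
          _ = y * (x * y ^ m) := mul_assoc _ _ _
          _ = y := by rw [h1, mul_one]
    have hKself : ∀ k ∈ K, sadj f k = k := fun k hk => ((hK k).mp hk).1.2
    refine ⟨r, K, hrp, hfield, ?_, ?_, ?_⟩
    · intro k hk u v
      show f (k *ᵥ u) v = f u (k *ᵥ v)
      rw [form_sadj hb hnd, hKself k hk]
    · intro hodd k hk v
      have h2 : (2 : F) = 0 := by
        have hch : ringChar F = 2 := by
          rw [FiniteField.even_card_iff_char_two]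
          rcases Nat.mod_two_eq_zero_or_one (Fintype.card F) with h | h
          · exact h
          · exact absurd (Nat.odd_iff.mpr h) hodd
        have := ringChar.Nat.cast_ringChar (R := F)
        rw [hch] at this
        exact_mod_cast this
      obtain ⟨m', hm'K, hmm⟩ := exists_sq_of_char_two h2 K hfield.comm hfield.inv k hk
      show f (k *ᵥ v) v = 0
      rw [← hmm, ← Matrix.mulVec_mulVec, form_sadj hb hnd, hKself m' hm'K, hfdef, polar_self hQ, h2,
        zero_mul]
    · intro h hh
      show ∀ k' : Matrix (Fin n) (Fin n) F, k' ∈ K ↔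
        (h : Matrix (Fin n) (Fin n) F) * k' * ((h⁻¹ : GL (Fin n) F) : Matrix (Fin n) (Fin n) F) ∈ K
      intro k'
      have hZconj := cc_conj_iff H N hnorm h hh k'
      rw [hK, hK, hZp, hZp, ← hZconj, hconj h hh, conj_eq_conj_iff, Units.conj_pow, conj_eq_conj_iff]

end Cfsg.Agent.Lib.H22.AschE
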