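/-
EO project (architect helper26), module **EM3** with the EXACT signature of tools/blueprints/EO_sigs.lean (helper22).
-/
import Cfsg.Agent.Lib.H26.AschEDefs
import Cfsg.Agent.Lib.H22.AschEM3

set_option autoImplicit false

namespace Cfsg.Agent.Lib.H22.AschE

open Cfsg Cfsg.Geo Cfsg.Agent.Lib.Lead.Asch Cfsg.Agent.Lib.H26.AschE
open scoped MatrixGroups Matrix Kronecker

variable {F : Type*} [Field F] [Fintype F] {n : ℕ}

/-- **EM3** (C3). -/
theorem ec3_of_homog_not_absIrr (Q : (Fin n → F) → F) (hQ : IsNondegenerateQuadraticForm Q) (hn : 5 ≤ n)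
    (H N : Subgroup (GL (Fin n) F)) (hH : H ≤ isometryGroup F Q)
    (hirr : ActsIrreducibly (matrixSet H)) (hNH : N ≤ H)
    (hnorm : NormalizedBy H N) (D : HomogData N)
    (hna : ¬ ActsAbsolutelyIrreducibly (repSet D.ρ)) : EC3 Q H := by
  rcases class3_of_homog_not_absIrr Q hQ (by omega) H N hH hirr hNH hnorm D hna with
    ⟨r, K, h1, h2, h3, h4, h5⟩ | ⟨K, h1, h2, h3, h4, h5⟩
  · exact Or.inl ⟨r, K, h1, h2, h3, h4, h5⟩
  · exact Or.inr ⟨K, h1, h2, h3, h4, h5⟩

end Cfsg.Agent.Lib.H22.AschE
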