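/-
EO phase 2 (architect helper21), tasks **EO2-T4** `plus_of_ts_pair` and **EO2-X1** `plus_of_sp_tensor_two` (helper22).
-/
import Cfsg.Prelude.Def_GeometricClasses
import Cfsg.Agent.Lib.H17.AschSP2F1

set_option autoImplicit false

namespace Cfsg.Agent.Lib.H22.EOP2

open Cfsg Cfsg.Geo
open scoped MatrixGroups Matrix Kronecker

variable {F : Type*} [Field F] [Fintype F] {n : ℕ}

/-- **EO2-T4** (a pair of complementary totally singular subspaces forces plus type). -/
theorem plus_of_ts_pair (Q : (Fin n → F) → F) (k : ℕ) (D : Fin 2 → Submodule F (Fin n → F))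
    (hD : IsMDecomposition k D) (hts : ∀ i, IsTotallySingularQuad Q (D i)) : IsPlusTypeOn Q ⊤ := by
  refine ⟨D 0, le_top, hts 0, ?_⟩
  have h1 := Cfsg.Agent.Lib.H17.AschSP2.mul_eq_of_isMDecomposition D hD
  rw [Fintype.card_fin] at h1
  rw [hD.finrank_eq 0, finrank_top, Module.finrank_fin_fun]
  exact h1

/-- **EO2-X1**.  Symplectic ⊗ symplectic with first factor of dimension 2 and `Q` vanishing on the pure tensors. -/
theorem plus_of_sp_tensor_two (Q : (Fin n → F) → F) (hQ : IsNondegenerateQuadraticForm Q) (n₂ : ℕ)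
    (e : Fin n ≃ Fin 2 × Fin n₂) (P : GL (Fin n) F)
    (hpure : ∀ (x₁ : Fin 2 → F) (x₂ : Fin n₂ → F),
      Q ((P : Matrix (Fin n) (Fin n) F) *ᵥ ((fun a : Fin 2 × Fin n₂ => x₁ a.1 * x₂ a.2) ∘ e)) = 0) :
    IsPlusTypeOn Q ⊤ := by
  classical
  have hcard : n = 2 * n₂ := by
    have := Fintype.card_congr e
    simpa using this
  -- the linear map `y ↦ P ((e₀ ⊗ y) ∘ e)`
  set x₁ : Fin 2 → F := Pi.single 0 1 with hx₁
  let φ : (Fin n₂ → F) →ₗ[F] (Fin n → F) :=
    { toFun := fun y => (P : Matrix (Fin n) (Fin n) F) *ᵥ ((fun a : Fin 2 × Fin n₂ => x₁ a.1 * y a.2) ∘ e)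
      map_add' := fun y y' => by
        rw [← Matrix.mulVec_add]
        congr 1
        funext i
        simp only [Function.comp_apply, Pi.add_apply]
        ring
      map_smul' := fun c y => by
        rw [RingHom.id_apply, ← Matrix.mulVec_smul]
        congr 1
        funext i
        simp only [Function.comp_apply, Pi.smul_apply, smul_eq_mul]
        ring }
  have hφ : ∀ y, φ y = (P : Matrix (Fin n) (Fin n) F) *ᵥ
      ((fun a : Fin 2 × Fin n₂ => x₁ a.1 * y a.2) ∘ e) := fun y => rfl
  have hinj : Function.Injective φ := by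
    rw [injective_iff_map_eq_zero]
    intro y hy
    rw [hφ] at hy
    have hP : ((P⁻¹ : GL (Fin n) F) : Matrix (Fin n) (Fin n) F) * (P : Matrix (Fin n) (Fin n) F) = 1 := by
      rw [← Units.val_mul, inv_mul_cancel, Units.val_one]
    have h0 : ((fun a : Fin 2 × Fin n₂ => x₁ a.1 * y a.2) ∘ e) = 0 := by
      have := congrArg (fun v => ((P⁻¹ : GL (Fin n) F) : Matrix (Fin n) (Fin n) F) *ᵥ v) hy
      simp only [Matrix.mulVec_mulVec, hP, Matrix.one_mulVec, Matrix.mulVec_zero] at this
      exact this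
    funext j
    have := congrFun h0 (e.symm (0, j))
    simp only [Function.comp_apply, Equiv.apply_symm_apply, Pi.zero_apply, hx₁, Pi.single_eq_same,
      one_mul] at this
    exact this
  refine ⟨LinearMap.range φ, le_top, ?_, ?_⟩
  · rintro _ ⟨y, rfl⟩
    exact hpure x₁ y
  · rw [LinearMap.finrank_range_of_inj hinj, finrank_top, Module.finrank_fin_fun, Module.finrank_fin_fun]
    exact hcard.symm

end Cfsg.Agent.Lib.H22.EOP2
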