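import Cfsg.Agent.Lib.H22.HSP10a
import Cfsg.Agent.Lib.H20.HSP9

/-!
# S2536 piece P10 (EXISTENCE): the three exceptional Hall subgroups of the symmetric groups, exact signatures.
-/

set_option autoImplicit false

namespace Cfsg.Agent.Lib.H22.HS

open Equiv MulAction Cfsg.Agent.Lib.H13.HS
open scoped Pointwise

theorem p10_card_stabilizer_point {α : Type*} [Finite α] (x : α) :
    Nat.card (stabilizer (Perm α) x) = (Nat.card α - 1).factorial := by
  have h := Cfsg.Agent.Lib.H20.HS.p9_card_stabilizer_set ({x} : Set α)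
  rw [MulAction.stabilizer_singleton] at h
  rw [h, Set.ncard_singleton]
  have hc : ({x} : Set α)ᶜ.ncard = Nat.card α - 1 := by
    have := Set.ncard_add_ncard_compl ({x} : Set α)
    rw [Set.ncard_singleton] at this
    omega
  rw [hc]; simp

theorem hall_stabilizer_point {α : Type*} [Finite α] {π : Set ℕ} (h : Below π (Nat.card α)) (x : α) :
    Cfsg.IsPiHall π (stabilizer (Perm α) x) :=
  hall_stabilizer_point_of h x (p10_card_stabilizer_point x)

theorem hall_stabilizer_three {α : Type*} [Finite α] {π : Set ℕ} (h7 : Nat.card α = 7)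
    (h : TwoThree π 7) (s : Set α) (hs : s.ncard = 3) :
    Cfsg.IsPiHall π (stabilizer (Perm α) s) :=
  hall_stabilizer_three_of h7 h s hs (Cfsg.Agent.Lib.H20.HS.p9_card_stabilizer_set s)

theorem hall_partStab {α : Type*} [Finite α] {π : Set ℕ} (h8 : Nat.card α = 8)
    (h : TwoThree π 8) (s : Set α) (hs : s.ncard = 4) :
    Cfsg.IsPiHall π (partStab s) := by
  have hcompl : sᶜ.ncard = 4 := by
    have := Set.ncard_add_ncard_compl s
    rw [hs, h8] at this; omega
  exact hall_partStab_of h8 h s hs
    (Cfsg.Agent.Lib.H20.HS.card_partStab s (by rw [hs, hcompl]) (by rw [hs]; norm_num))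

end Cfsg.Agent.Lib.H22.HS
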