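import Mathlib

/-!
# S2535 piece A5, core: in a solvable transitive permutation group of prime degree a point stabilizer has at most
one involution.

`G` acts faithfully and transitively on `α`, `|α|` prime, `G` solvable.  A minimal term `A` of the derived series is
abelian and normal, hence (primitivity) transitive, hence regular of prime order; an involution `t` fixing `b` inverts
`A`, so the product of two such involutions centralizes `A` and fixes `b`, hence is trivial.
-/

set_option autoImplicit false
set_option linter.style.haveILetI false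

namespace Cfsg.Agent.Lib.H22.HS

open MulAction
open scoped commutatorElement

section core

variable {G α : Type*} [Group G] [MulAction G α]

/-- an element fixing `b` and commuting with a transitive subgroup fixes everything. -/
theorem a5_fix_all (A : Subgroup G) (hA : IsPretransitive A α) (b : α) (g : G) (hb : g • b = b)
    (hc : ∀ k ∈ A, g * k = k * g) (y : α) : g • y = y := by
  obtain ⟨k, hk⟩ := hA.exists_smul_eq b y
  have hk' : (k : G) • b = y := hk
  rw [← hk', ← mul_smul, hc k k.2, mul_smul, hb]

/-- a nontrivial abelian normal subgroup of a nontrivial finite solvable group. -/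
theorem a5_exists_abelian_normal [Nontrivial G] [hs : Group.IsSolvable G] :
    ∃ A : Subgroup G, A.Normal ∧ A ≠ ⊥ ∧ ∀ x ∈ A, ∀ y ∈ A, x * y = y * x := by
  classical
  obtain ⟨k, hk⟩ := hs.solvable
  have hex : ∃ k, derivedSeries G k = ⊥ := ⟨k, hk⟩
  have hmin : ∀ {i : ℕ}, i < Nat.find hex → ¬ derivedSeries G i = ⊥ := fun {i} hi => Nat.find_min hex hi
  have hfind := Nat.find_spec hex
  set m := Nat.find hex with hm
  have hm0 : m ≠ 0 := by
    intro h0
    rw [h0, derivedSeries_zero] at hfind
    exact top_ne_bot hfind
  obtain ⟨j, hj⟩ := Nat.exists_eq_succ_of_ne_zero hm0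
  refine ⟨derivedSeries G j, inferInstance, ?_, ?_⟩
  · exact hmin (by omega)
  · intro x hx y hy
    have hcomm : ⁅derivedSeries G j, derivedSeries G j⁆ = ⊥ := by
      rw [hj, derivedSeries_succ] at hfind
      exact hfind
    have hmem : ⁅x, y⁆ ∈ ⁅derivedSeries G j, derivedSeries G j⁆ := Subgroup.commutator_mem_commutator hx hy
    rw [hcomm, Subgroup.mem_bot, commutatorElement_eq_one_iff_mul_comm] at hmem
    exact hmem

/-- the unique-involution lemma. -/
theorem a5_involution_unique (hfaith : ∀ g : G, (∀ x : α, g • x = x) → g = 1)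
    [htr : IsPretransitive G α] (hn : (Nat.card α).Prime) [hs : Group.IsSolvable G]
    (b : α) (t t' : G) (htb : t • b = b) (htb' : t' • b = b) (ht2 : t * t = 1) (ht2' : t' * t' = 1)
    (ht : t ≠ 1) (ht' : t' ≠ 1) : t = t' := by
  classical
  haveI : Finite α := (Nat.card_ne_zero.mp hn.ne_zero).2
  haveI : Nontrivial G := ⟨⟨t, 1, ht⟩⟩
  obtain ⟨A, hAn, hAne, hAc⟩ := a5_exists_abelian_normal (G := G)
  haveI := hAn
  haveI hprim : IsPreprimitive G α := IsPreprimitive.of_prime_card hn
  -- `A` is transitive
  have hAtr : IsPretransitive A α := by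
    apply IsQuasiPreprimitive.isPretransitive_of_normal (G := G) (X := α)
    intro huniv
    apply hAne
    rw [Subgroup.eq_bot_iff_forall]
    intro k hk
    apply hfaith
    intro x
    have hx : x ∈ fixedPoints A α := by rw [huniv]; exact Set.mem_univ x
    exact hx ⟨k, hk⟩
  -- `A` acts freely
  have hfree : ∀ k ∈ A, ∀ x : α, k • x = x → k = 1 := by
    intro k hk x hx
    apply hfaith
    intro y
    exact a5_fix_all A hAtr x k hx (fun l hl => hAc k hk l hl) y
  -- `|A| = |α|`
  have hcard : Nat.card A = Nat.card α := by
    apply Nat.card_congr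
    refine Equiv.ofBijective (fun k : A => (k : G) • b) ⟨?_, ?_⟩
    · intro k l hkl
      have hkl' : (k : G) • b = (l : G) • b := hkl
      have h1 : ((l : G)⁻¹ * (k : G)) • b = b := by
        rw [mul_smul, hkl', ← mul_smul, inv_mul_cancel, one_smul]
      have h2 := hfree ((l : G)⁻¹ * (k : G)) (A.mul_mem (A.inv_mem l.2) k.2) b h1
      apply Subtype.ext
      have : (k : G) = (l : G) := by
        have := congrArg (fun z => (l : G) * z) h2
        simpa [mul_assoc] using this
      exact this
    · intro y
      obtain ⟨k, hk⟩ := hAtr.exists_smul_eq b y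
      exact ⟨k, hk⟩
  haveI : Fact (Nat.card A).Prime := ⟨hcard ▸ hn⟩
  -- an involution fixing `b` inverts `A`
  have hinv : ∀ s : G, s • b = b → s * s = 1 → s ≠ 1 → ∀ k ∈ A, s * k * s⁻¹ = k⁻¹ := by
    intro s hsb hs2 hs1 k hk
    have hsinv : s⁻¹ = s := by
      have := congrArg (fun z => s⁻¹ * z) hs2
      simpa [← mul_assoc] using this.symm
    set C : Subgroup A := (Subgroup.centralizer ({s} : Set G)).subgroupOf A with hC
    rcases C.eq_bot_or_eq_top_of_prime_card with hbot | htop
    · -- `w = k * (s k s⁻¹)` is centralized by `s`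
      have hskA : s * k * s⁻¹ ∈ A := hAn.conj_mem k hk s
      set w : G := k * (s * k * s⁻¹) with hw
      have hwA : w ∈ A := A.mul_mem hk hskA
      have hws : s * w * s⁻¹ = w := by
        have e1 : s * w * s⁻¹ = (s * k * s⁻¹) * (s * (s * k * s⁻¹) * s⁻¹) := by
          rw [hw]; group
        have e2 : s * (s * k * s⁻¹) * s⁻¹ = k := by
          rw [hsinv]
          calc s * (s * k * s) * s = (s * s) * k * (s * s) := by group
            _ = k := by rw [hs2]; simp
        rw [e1, e2, hw]
        exact hAc _ hskA _ hk
      have hwC : (⟨w, hwA⟩ : A) ∈ C := by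
        rw [hC, Subgroup.mem_subgroupOf, Subgroup.mem_centralizer_iff]
        intro z hz
        rw [Set.mem_singleton_iff] at hz
        subst hz
        have := congrArg (fun u => u * z) hws
        simpa [mul_assoc] using this
      rw [hbot, Subgroup.mem_bot] at hwC
      have hw1 : w = 1 := congrArg Subtype.val hwC
      rw [hw] at hw1
      exact (eq_inv_of_mul_eq_one_right hw1)
    · exfalso
      apply hs1
      apply hfaith
      intro y
      apply a5_fix_all A hAtr b s hsb _ y
      intro l hl
      have hlC : (⟨l, hl⟩ : A) ∈ C := by rw [htop]; exact Subgroup.mem_top _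
      rw [hC, Subgroup.mem_subgroupOf, Subgroup.mem_centralizer_iff] at hlC
      exact hlC s (Set.mem_singleton s)
  -- `t * t'` centralizes `A` and fixes `b`
  have htt : t * t' = 1 := by
    apply hfaith
    intro y
    apply a5_fix_all A hAtr b (t * t') (by rw [mul_smul, htb', htb]) _ y
    intro k hk
    have h1 := hinv t' htb' ht2' ht' k hk
    have h2 := hinv t htb ht2 ht k⁻¹ (A.inv_mem hk)
    rw [inv_inv] at h2
    -- t (t' k t'⁻¹) t⁻¹ = k
    have h3 : t * (t' * k * t'⁻¹) * t⁻¹ = k := by rw [h1, h2]
    have h4 : (t * t') * k * (t * t')⁻¹ = k := by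
      have e : (t * t') * k * (t * t')⁻¹ = t * (t' * k * t'⁻¹) * t⁻¹ := by group
      rw [e, h3]
    have := congrArg (fun u => u * (t * t')) h4
    simpa [mul_assoc] using this
  have : t' = t⁻¹ := (eq_inv_of_mul_eq_one_right htt)
  rw [this]
  have := congrArg (fun z => t⁻¹ * z) ht2
  simpa [← mul_assoc] using this

end core

end Cfsg.Agent.Lib.H22.HS
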