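import Cfsg.Agent.Lib.H13.HSDefs2
import Cfsg.Agent.Lib.H22.HSA5a
import Cfsg.Agent.Lib.H1.HSP1
import Cfsg.Agent.Lib.H23.BurnsidePQ

/-!
# S2535 piece A5 `caseA_alt`: prime degree `n ≥ 5`, `π ∩ [1,n] ⊆ {2, n}`, no transitive Hall `π`-subgroup of `A_n`.

Route (different from the blueprint's Witt argument): `|M| = 2^a n^c`, so `M` is solvable (Burnside, landed S0144 lib);
by `a5_involution_unique` a point stabilizer of `M` has at most one involution; but `M` contains a conjugate of the
Klein four-group on four points (it contains a Sylow 2-subgroup of `A_n`), whose three involutions fix a common point.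
-/

set_option autoImplicit false
set_option linter.style.haveILetI false

namespace Cfsg.Agent.Lib.H22.HS

open Equiv MulAction Cfsg.Agent.Lib.H13.HS
open scoped Pointwise

/-- a number all of whose prime divisors are `2` or `n` is `2^a n^c`. -/
theorem a5_card_two_prime {m n : ℕ} (hm : m ≠ 0) (hn2 : n ≠ 2)
    (h : ∀ p : ℕ, p.Prime → p ∣ m → p = 2 ∨ p = n) :
    m = 2 ^ (m.factorization 2) * n ^ (m.factorization n) := by
  have h1 := Nat.prod_factorization_pow_eq_self hm
  have hsub : m.factorization.support ⊆ ({2, n} : Finset ℕ) := by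
    intro p hp
    rw [Nat.support_factorization] at hp
    have hpp := Nat.prime_of_mem_primeFactors hp
    have hpd := Nat.dvd_of_mem_primeFactors hp
    rcases h p hpp hpd with rfl | rfl <;> simp
  rw [Finsupp.prod_of_support_subset _ hsub _ (fun i _ => pow_zero i),
    Finset.prod_pair (Ne.symm hn2)] at h1
  exact h1.symm

/-- the Klein four-group generated by two commuting involutions is a `2`-group. -/
theorem a5_klein_isPGroup {G : Type*} [Group G] (u v : G) (hu : u * u = 1) (hv : v * v = 1)
    (huv : u * v = v * u) : IsPGroup 2 (Subgroup.closure ({u, v} : Set G)) := by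
  have hcomm : ∀ x ∈ ({u, v} : Set G), ∀ y ∈ ({u, v} : Set G), x * y = y * x := by
    intro x hx y hy
    rcases hx with rfl | rfl <;> rcases hy with rfl | rfl
    · rfl
    · exact huv
    · exact huv.symm
    · rfl
  have hle := Subgroup.closure_le_centralizer_centralizer ({u, v} : Set G)
  have hc : ∀ x ∈ Subgroup.closure ({u, v} : Set G), ∀ y ∈ Subgroup.closure ({u, v} : Set G),
      x * y = y * x := fun x hx y hy =>
    Set.centralizer_centralizer_comm_of_comm hcomm x (hle hx) y (hle hy)
  have hsq : ∀ x ∈ Subgroup.closure ({u, v} : Set G), x * x = 1 := by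
    intro x hx
    induction hx using Subgroup.closure_induction with
    | mem x hx =>
      rcases hx with rfl | rfl
      · exact hu
      · exact hv
    | one => simp
    | mul x y hx hy ihx ihy =>
      calc x * y * (x * y) = x * (y * x) * y := by group
        _ = x * (x * y) * y := by rw [hc y hy x hx]
        _ = (x * x) * (y * y) := by group
        _ = 1 := by rw [ihx, ihy, one_mul]
    | inv x hx ih =>
      calc x⁻¹ * x⁻¹ = (x * x)⁻¹ := by group
        _ = 1 := by rw [ih, inv_one]
  intro g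
  refine ⟨1, ?_⟩
  apply Subtype.ext
  rw [pow_one, pow_two]
  exact hsq g g.2

theorem caseA_alt {α : Type*} [Finite α] {π : Set ℕ} {M : Subgroup (Perm α)}
    (hM : Cfsg.IsPiHallOf π M (altSub α)) (htr : IsPretransitive M α)
    (hn : (Nat.card α).Prime) (h5 : 5 ≤ Nat.card α) (h2 : 2 ∈ π)
    (hfew : ∀ s : ℕ, s.Prime → s ∈ π → s ≤ Nat.card α → s = 2 ∨ s = Nat.card α) : False := by
  classical
  letI : Fintype α := Fintype.ofFinite α
  obtain ⟨hMA, hnum, hfree⟩ := hM
  -- `M` is solvable
  have hdiv : ∀ p : ℕ, p.Prime → p ∣ Nat.card M → p = 2 ∨ p = Nat.card α := by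
    intro p hp hpd
    have hpπ := hnum p hp hpd
    have hpf : p ∣ (Nat.card α).factorial := by
      rw [← Nat.card_perm]
      exact hpd.trans (Subgroup.card_subgroup_dvd_card M)
    exact hfew p hp hpπ ((hp.dvd_factorial).1 hpf)
  have hsol : Group.IsSolvable M :=
    Cfsg.Agent.Lib.H23.isSolvable_of_card_eq_prime_pow_mul_prime_pow 2 (Nat.card α) _ _ Nat.prime_two hn
      (a5_card_two_prime Nat.card_pos.ne' (by omega) hdiv)
  -- the Klein four-group
  have hcard5 : Fintype.card (Fin 5) ≤ Fintype.card α := by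
    rw [Fintype.card_fin, ← Nat.card_eq_fintype_card]; exact h5
  obtain ⟨e⟩ := Function.Embedding.nonempty_of_card_le hcard5
  set ψ : Perm (Fin 5) →* Perm α := Equiv.Perm.viaEmbeddingHom e with hψ
  have hψinj : Function.Injective ψ := Equiv.Perm.viaEmbeddingHom_injective e
  set u0 : Perm (Fin 5) := Equiv.swap 0 1 * Equiv.swap 2 3 with hu0
  set v0 : Perm (Fin 5) := Equiv.swap 0 2 * Equiv.swap 1 3 with hv0
  have hu0sq : u0 * u0 = 1 := by decide
  have hv0sq : v0 * v0 = 1 := by decide
  have huv0 : u0 * v0 = v0 * u0 := by decide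
  have hu01 : u0 ≠ 1 := by decide
  have hv01 : v0 ≠ 1 := by decide
  have huv0ne : u0 ≠ v0 := by decide
  have hu04 : u0 4 = 4 := by decide
  have hv04 : v0 4 = 4 := by decide
  have hsu0 : Equiv.Perm.sign u0 = 1 := by
    rw [hu0, Equiv.Perm.sign_mul, Equiv.Perm.sign_swap (by decide), Equiv.Perm.sign_swap (by decide)]
    decide
  have hsv0 : Equiv.Perm.sign v0 = 1 := by
    rw [hv0, Equiv.Perm.sign_mul, Equiv.Perm.sign_swap (by decide), Equiv.Perm.sign_swap (by decide)]
    decide
  have hsign : ∀ σ : Perm (Fin 5), Equiv.Perm.sign (ψ σ) = Equiv.Perm.sign σ := by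
    intro σ
    exact @Equiv.Perm.sign_extendDomain (Fin 5) _ α _ _ _ σ (fun x => x ∈ Set.range e.1)
      (fun a => Classical.propDecidable _) (Equiv.ofInjective e.1 e.2)
  have halt : ∀ σ : Perm (Fin 5), Equiv.Perm.sign σ = 1 → ψ σ ∈ altSub α := by
    intro σ hσ
    have h := hsign σ
    rw [hσ] at h
    have hmem : ψ σ ∈ alternatingGroup α := Equiv.Perm.mem_alternatingGroup.2 h
    rw [← altSub_eq α] at hmem
    exact hmem
  set u : Perm α := ψ u0 with hu
  set v : Perm α := ψ v0 with hv
  have husq : u * u = 1 := by rw [hu, ← map_mul, hu0sq, map_one]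
  have hvsq : v * v = 1 := by rw [hv, ← map_mul, hv0sq, map_one]
  have huv : u * v = v * u := by rw [hu, hv, ← map_mul, ← map_mul, huv0]
  have hu1 : u ≠ 1 := fun h => hu01 (hψinj (by rw [map_one]; exact h))
  have hv1 : v ≠ 1 := fun h => hv01 (hψinj (by rw [map_one]; exact h))
  have huvne : u ≠ v := fun h => huv0ne (hψinj h)
  have hu4 : u (e 4) = e 4 := by
    rw [hu, hψ, Equiv.Perm.viaEmbeddingHom_apply, Equiv.Perm.viaEmbedding_apply, hu04]
  have hv4 : v (e 4) = e 4 := by
    rw [hv, hψ, Equiv.Perm.viaEmbeddingHom_apply, Equiv.Perm.viaEmbedding_apply, hv04]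
  have huA : u ∈ altSub α := halt u0 hsu0
  have hvA : v ∈ altSub α := halt v0 hsv0
  -- conjugate it into `M`
  have hHall : Cfsg.IsPiHall π (M.subgroupOf (altSub α)) := by
    refine ⟨?_, ?_⟩
    · intro p hp hpd
      rw [Nat.card_congr (Subgroup.subgroupOfEquivOfLe hMA).toEquiv] at hpd
      exact hnum p hp hpd
    · intro p hp hpπ hpd
      exact hfree p hp hpπ hpd
  set X : Subgroup (altSub α) := (Subgroup.closure ({u, v} : Set (Perm α))).subgroupOf (altSub α) with hX
  have hXp : IsPGroup 2 X := (a5_klein_isPGroup u v husq hvsq huv).comap_subtype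
  obtain ⟨g, hg⟩ := Cfsg.Agent.Lib.H1.HS.hall_conj_pgroup hHall Nat.prime_two h2 X hXp
  have huX : (⟨u, huA⟩ : altSub α) ∈ X := by
    rw [hX, Subgroup.mem_subgroupOf]
    exact Subgroup.subset_closure (by simp)
  have hvX : (⟨v, hvA⟩ : altSub α) ∈ X := by
    rw [hX, Subgroup.mem_subgroupOf]
    exact Subgroup.subset_closure (by simp)
  have hw1 : (g : Perm α) * u * (g : Perm α)⁻¹ ∈ M := by
    have := hg _ huX
    rw [Subgroup.mem_subgroupOf] at this
    simpa using this
  have hw2 : (g : Perm α) * v * (g : Perm α)⁻¹ ∈ M := by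
    have := hg _ hvX
    rw [Subgroup.mem_subgroupOf] at this
    simpa using this
  set γ : Perm α := (g : Perm α) with hγ
  set b : α := γ (e 4) with hb
  -- apply the unique-involution lemma in `M`
  have hfaith : ∀ m : M, (∀ x : α, m • x = x) → m = 1 := by
    intro m hm
    apply Subtype.ext
    apply Equiv.Perm.ext
    intro x
    exact hm x
  have key := a5_involution_unique (G := M) (α := α) hfaith hn b
    ⟨γ * u * γ⁻¹, hw1⟩ ⟨γ * v * γ⁻¹, hw2⟩
    (by
      change (γ * u * γ⁻¹) b = b
      rw [hb]; simp [Equiv.Perm.mul_apply, hu4])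
    (by
      change (γ * v * γ⁻¹) b = b
      rw [hb]; simp [Equiv.Perm.mul_apply, hv4])
    (by
      apply Subtype.ext
      change (γ * u * γ⁻¹) * (γ * u * γ⁻¹) = 1
      calc (γ * u * γ⁻¹) * (γ * u * γ⁻¹) = γ * (u * u) * γ⁻¹ := by group
        _ = 1 := by rw [husq]; group)
    (by
      apply Subtype.ext
      change (γ * v * γ⁻¹) * (γ * v * γ⁻¹) = 1
      calc (γ * v * γ⁻¹) * (γ * v * γ⁻¹) = γ * (v * v) * γ⁻¹ := by group
        _ = 1 := by rw [hvsq]; group)
    (by
      intro h
      apply hu1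
      have h' : γ * u * γ⁻¹ = 1 := congrArg Subtype.val h
      calc u = γ⁻¹ * (γ * u * γ⁻¹) * γ := by group
        _ = 1 := by rw [h']; group)
    (by
      intro h
      apply hv1
      have h' : γ * v * γ⁻¹ = 1 := congrArg Subtype.val h
      calc v = γ⁻¹ * (γ * v * γ⁻¹) * γ := by group
        _ = 1 := by rw [h']; group)
  apply huvne
  have h' : γ * u * γ⁻¹ = γ * v * γ⁻¹ := congrArg Subtype.val key
  calc u = γ⁻¹ * (γ * u * γ⁻¹) * γ := by group
    _ = γ⁻¹ * (γ * v * γ⁻¹) * γ := by rw [h']
    _ = v := by group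

end Cfsg.Agent.Lib.H22.HS
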