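import Mathlib
import Cfsg.Prelude.Def_Blocks
import Cfsg.Prelude.Def_CharExt
import Cfsg.Agent.Lib.H21.AD.Defs
import Cfsg.Agent.Lib.H28.NT.Defs
import Cfsg.Agent.Lib.H21.AD.LC1
import Cfsg.Agent.Lib.H13.ADPEXP
import Cfsg.Agent.Lib.L0.SigmaResidualA
import Cfsg.Agent.Lib.H23.ExtGeneral
import Cfsg.Agent.Lib.H28.NT.KEYF

/-!
# S4892 piece (UNIQ): good extensions are unique (helper22)

`goodE_unique_of_key` takes the statement of (KEYF) as a hypothesis; `goodE_unique` (exact signature of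
`tools/blueprints/S4892_sigs.lean`) plugs in the landed `keyF`.
-/

set_option autoImplicit false
open Cfsg.Agent.Lib.H21.AD Cfsg.Agent.Lib.H28.NT

namespace Cfsg.Agent.Lib.H22.NT

variable {G : Type*} [Group G] [Finite G] {p : ℕ} {M : Ideal Cfsg.AlgInt} {N Q : Subgroup G} {θ : G → ℂ}

/-- `θ` is irreducible on `N.subgroupOf J` -/
theorem irr_subgroupOf (hirr : Cfsg.IsIrrCharacter N (fun n : N => θ n)) {J : Subgroup G} (hNJ : N ≤ J) :
    Cfsg.IsIrrCharacter (N.subgroupOf J) (fun n : N.subgroupOf J => θ ((n : J) : G)) :=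
  Cfsg.Agent.Lib.L0.isIrrCharacter_comp_of_surjective
    (Subgroup.subgroupOfEquivOfLe hNJ).toMonoidHom (Subgroup.subgroupOfEquivOfLe hNJ).surjective hirr

/-- restriction of an extension to an intermediate subgroup -/
theorem isExt_restrict (hirr : Cfsg.IsIrrCharacter N (fun n : N => θ n)) {J H : Subgroup G}
    (hNJ : N ≤ J) (hJH : J ≤ H) {f : G → ℂ} (hf : IsExt N θ H f) : IsExt N θ J f := by
  refine ⟨?_, hf.2⟩
  have hchar : Cfsg.IsCharacter J (fun y : J => f y) :=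
    Cfsg.Agent.Lib.L0.isCharacter_comp (Subgroup.inclusion hJH)
      (Cfsg.Agent.Lib.L0.isCharacter_of_irr hf.1)
  apply Cfsg.Agent.Lib.H23.isIrrCharacter_of_restrict_irr (N.subgroupOf J) hchar
  have h2 : (fun n : N.subgroupOf J => (fun y : J => f y) n) =
      (fun n : N.subgroupOf J => θ ((n : J) : G)) := by
    funext n
    exact hf.2 _ (Subgroup.mem_subgroupOf.1 n.2)
  rw [h2]
  exact irr_subgroupOf hirr hNJ

/-- an element of `ℂˣ` killed by two coprime exponents is `1` -/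
theorem unit_eq_one_of_coprime (u : ℂˣ) (a b : ℕ) (hab : a.Coprime b) (ha : u ^ a = 1) (hb : u ^ b = 1) :
    u = 1 := by
  have h1 : orderOf u ∣ a := orderOf_dvd_of_pow_eq_one ha
  have h2 : orderOf u ∣ b := orderOf_dvd_of_pow_eq_one hb
  have h3 : orderOf u = 1 := Nat.eq_one_of_dvd_coprimes hab h1 h2
  exact orderOf_eq_one_iff.1 h3

/-- (UNIQ), with (KEYF) as a hypothesis -/
theorem goodE_unique_of_key [N.Normal] (h : Hyp p M N Q θ)
    (key : ∀ (J₁ J₂ : Subgroup G), N ≤ J₁ → J₁ ≤ J₂ → ¬ p ∣ N.relIndex J₂ → ∀ (f₁ f₂ : G → ℂ),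
      GoodA p N θ J₁ f₁ → GoodA p N θ J₂ f₂ → ∀ g ∈ J₁, f₁ g = f₂ g)
    (H : Subgroup G) (hNH : N ≤ H) (f₁ f₂ : G → ℂ)
    (h₁ : GoodE p N θ H f₁) (h₂ : GoodE p N θ H f₂) : ∀ g ∈ H, f₁ g = f₂ g := by
  classical
  have := Fintype.ofFinite ↥H
  have hpp : p.Prime := h.hp
  -- Gallagher in `↥H`
  have hηN : Cfsg.IsIrrCharacter (N.subgroupOf H)
      (fun n : N.subgroupOf H => (fun y : H => f₁ y) n) := by
    have h2 : (fun n : N.subgroupOf H => (fun y : H => f₁ y) n) =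
        (fun n : N.subgroupOf H => θ ((n : H) : G)) := by
      funext n
      exact h₁.1.2 _ (Subgroup.mem_subgroupOf.1 n.2)
    rw [h2]
    exact irr_subgroupOf h.hirr hNH
  have hres : ∀ n : N.subgroupOf H, (fun y : H => f₂ y) n = (fun y : H => f₁ y) n := by
    intro n
    have hn : ((n : H) : G) ∈ N := Subgroup.mem_subgroupOf.1 n.2
    change f₂ ((n : H) : G) = f₁ ((n : H) : G)
    rw [h₂.1.2 _ hn, h₁.1.2 _ hn]
  obtain ⟨β, hβN, hβ⟩ := Cfsg.Agent.Lib.H23.exists_hom_of_restrict_eq (N.subgroupOf H)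
    h₁.1.1 h₂.1.1 hηN hres
  have hval : ∀ y : H, f₂ y = f₁ y * (β y : ℂ) := by
    intro y
    have := congrFun hβ y
    simpa [Cfsg.Agent.Lib.H23.homToFun_apply] using this
  -- `β` is trivial on `p`-regular elements
  have hreg : ∀ c : H, ¬ p ∣ orderOf c → β c = 1 := by
    intro c hc
    have hcG : ¬ p ∣ orderOf (c : G) := by rwa [Subgroup.orderOf_coe]
    set J : Subgroup G := N ⊔ Subgroup.zpowers (c : G) with hJ
    have hNJ : N ≤ J := le_sup_left
    have hJH : J ≤ H := sup_le hNH ((Subgroup.zpowers_le).2 c.2)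
    have hpJ : ¬ p ∣ N.relIndex J := not_dvd_relIndex_sup_zpowers N (c : G) hcG
    have hA₁ : GoodA p N θ J f₁ := ⟨isExt_restrict h.hirr hNJ hJH h₁.1, h₁.2.1 (c : G) c.2 hcG⟩
    have hA₂ : GoodA p N θ J f₂ := ⟨isExt_restrict h.hirr hNJ hJH h₂.1, h₂.2.1 (c : G) c.2 hcG⟩
    have hkey := key J J hNJ le_rfl hpJ f₁ f₂ hA₁ hA₂
    -- Gallagher uniqueness in `↥J`
    have := Fintype.ofFinite ↥J
    set βJ : J →* ℂˣ := β.comp (Subgroup.inclusion hJH) with hβJ
    have hβJN : ∀ n : N.subgroupOf J, βJ n = 1 := by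
      intro n
      have hn : ((n : J) : G) ∈ N := Subgroup.mem_subgroupOf.1 n.2
      have := hβN ⟨Subgroup.inclusion hJH (n : J), Subgroup.mem_subgroupOf.2 hn⟩
      exact this
    have hirrJ : Cfsg.IsIrrCharacter J (fun y : J => f₁ y) := hA₁.1.1
    have hirrJN : Cfsg.IsIrrCharacter (N.subgroupOf J)
        (fun n : N.subgroupOf J => (fun y : J => f₁ y) n) := by
      have h2 : (fun n : N.subgroupOf J => (fun y : J => f₁ y) n) =
          (fun n : N.subgroupOf J => θ ((n : J) : G)) := by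
        funext n
        exact h₁.1.2 _ (Subgroup.mem_subgroupOf.1 n.2)
      rw [h2]
      exact irr_subgroupOf h.hirr hNJ
    have heq : (fun y : J => f₁ y) * Cfsg.Agent.Lib.H23.homToFun J βJ =
        (fun y : J => f₁ y) * Cfsg.Agent.Lib.H23.homToFun J 1 := by
      funext y
      simp only [Pi.mul_apply, Cfsg.Agent.Lib.H23.homToFun_apply, MonoidHom.one_apply, Units.val_one,
        mul_one]
      have h3 := hval (Subgroup.inclusion hJH y)
      have h4 := hkey (y : G) y.2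
      have h5 : ((Subgroup.inclusion hJH y : H) : G) = (y : G) := rfl
      rw [h5] at h3
      rw [hβJ, MonoidHom.comp_apply, ← h3, h4]
    have h6 := Cfsg.Agent.Lib.L0.SigmaRes.hom_eq_of_mul_eq (N.subgroupOf J) hirrJ hirrJN βJ 1 hβJN
      (fun _ => rfl) heq
    have hcJ : (c : G) ∈ J := (le_sup_right : Subgroup.zpowers (c : G) ≤ J) (Subgroup.mem_zpowers _)
    have h7 : βJ ⟨(c : G), hcJ⟩ = 1 := by rw [h6]; rfl
    have h8 : Subgroup.inclusion hJH ⟨(c : G), hcJ⟩ = c := Subtype.ext rfl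
    rw [hβJ, MonoidHom.comp_apply, h8] at h7
    exact h7
  -- `β` is trivial on `p`-elements
  obtain ⟨d, hd, hpd⟩ := h.hdeg
  have hpel : ∀ x : H, (∃ k : ℕ, orderOf x = p ^ k) → β x = 1 := by
    intro x hx
    obtain ⟨k, hk⟩ := hx
    have hη1 : (fun y : H => f₁ y) 1 = (d : ℂ) := by
      change f₁ ((1 : H) : G) = d
      rw [Subgroup.coe_one, h₁.1.2 1 N.one_mem, hd]
    have hdet := Cfsg.Agent.Lib.H23.detChar_mul_homToFun
      (Cfsg.Agent.Lib.L0.isCharacter_of_irr h₁.1.1) d hη1 β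
    rw [← hβ] at hdet
    have hx1 := h₁.2.2 x ⟨k, hk⟩
    have hx2 := h₂.2.2 x ⟨k, hk⟩
    have h3 := congrFun hdet x
    rw [hx2, Pi.mul_apply, hx1, one_mul, Pi.pow_apply, Cfsg.Agent.Lib.H23.homToFun_apply] at h3
    have h4 : (β x) ^ d = 1 := by
      apply Units.ext
      rw [Units.val_pow_eq_pow_val, Units.val_one]
      exact h3.symm
    have h5 : (β x) ^ (p ^ k) = 1 := by
      rw [← map_pow, ← hk, pow_orderOf_eq_one, map_one]
    have hcop : d.Coprime (p ^ k) :=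
      (((Nat.Prime.coprime_iff_not_dvd hpp).2 hpd).symm).pow_right k
    exact unit_eq_one_of_coprime (β x) d (p ^ k) hcop h4 h5
  -- split `g = g_p g_{p'}`
  obtain ⟨e, he1, _, _, he4⟩ := Cfsg.Agent.Lib.H13.AD.exists_pexp p hpp ↥H
  intro g hg
  have hβg : β ⟨g, hg⟩ = 1 := by
    have h1 : (⟨g, hg⟩ : H) = (⟨g, hg⟩ * ((⟨g, hg⟩ : H) ^ e)⁻¹) * (⟨g, hg⟩ : H) ^ e := by group
    rw [h1, map_mul, hpel _ (he4 ⟨g, hg⟩), hreg _ (he1 ⟨g, hg⟩), one_mul]
  have h2 := hval ⟨g, hg⟩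
  rw [hβg, Units.val_one, mul_one] at h2
  exact h2.symm

/-- (UNIQ) good extensions are unique on every `H ⊇ N` -/
theorem goodE_unique [N.Normal] (h : Hyp p M N Q θ) (H : Subgroup G) (hNH : N ≤ H) (f₁ f₂ : G → ℂ)
    (h₁ : GoodE p N θ H f₁) (h₂ : GoodE p N θ H f₂) : ∀ g ∈ H, f₁ g = f₂ g :=
  goodE_unique_of_key h
    (fun J₁ J₂ hN1 h12 hp2 g₁ g₂ hg₁ hg₂ => Cfsg.Agent.Lib.H28.NT.keyF h J₁ J₂ hN1 h12 hp2 g₁ g₂ hg₁ hg₂)
    H hNH f₁ f₂ h₁ h₂

end Cfsg.Agent.Lib.H22.NT
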