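/-
S5634 farm-out (architect helper14), task **A3** `colWt_cases` (helper22): column weights are 1, 2 or n.
-/
import Cfsg.Agent.Lib.H14.C2Defs

set_option autoImplicit false

namespace Cfsg.Agent.Lib.H22.C2

open Matrix Cfsg.Agent.Lib.H14.C2

variable {ι : Type} [Fintype ι] [DecidableEq ι] {F : Type*} [Field F] [Fintype F]

open Classical in
/-- **A3** (column weights are 1, 2 or n). -/
theorem colWt_cases (hn : 6 ≤ Fintype.card ι) (G : Subgroup (GL ι F))
    (hG : HasMonP G) (hST : STprop G) (hKL : KLprop G) :
    ∀ g ∈ G, ∀ l, colWt (g : Matrix ι ι F) l = 1 ∨ colWt (g : Matrix ι ι F) l = 2 ∨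
      colWt (g : Matrix ι ι F) l = Fintype.card ι := by
  intro g hg l
  set C : Finset ι := Finset.univ.filter fun k => (g : Matrix ι ι F) k l ≠ 0 with hC
  have hcw : colWt (g : Matrix ι ι F) l = C.card := rfl
  have hmemC : ∀ k, k ∈ C ↔ (g : Matrix ι ι F) k l ≠ 0 := by
    intro k; rw [hC, Finset.mem_filter]; simp
  have hinvrow : ∀ a, ((g⁻¹ : GL ι F) : Matrix ι ι F) l a ≠ 0 ↔ (g : Matrix ι ι F) a l ≠ 0 :=
    fun a => ((hST g hg a l).1).symm
  -- the column is not zero
  have hpos : 0 < C.card := by
    rw [Finset.card_pos]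
    by_contra hne
    rw [Finset.not_nonempty_iff_eq_empty] at hne
    have hcol : ∀ k, (g : Matrix ι ι F) k l = 0 := by
      intro k
      by_contra h
      have : k ∈ C := (hmemC k).mpr h
      rw [hne] at this
      exact absurd this (Finset.notMem_empty k)
    have hdet : (g : Matrix ι ι F).det = 0 := Matrix.det_eq_zero_of_column_eq_zero l hcol
    have : IsUnit (g : Matrix ι ι F).det := by
      rw [← Matrix.isUnit_iff_isUnit_det]; exact g.isUnit
    rw [hdet] at this
    exact not_isUnit_zero this
  -- the key lemma for `(g⁻¹, g)`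
  have hQ1 : (Finset.univ.filter fun a => ((g⁻¹ : GL ι F) : Matrix ι ι F) l a ≠ 0 ∧
      (g : Matrix ι ι F) a l ≠ 0) = C := by
    rw [hC]
    apply Finset.filter_congr
    intro a _
    rw [hinvrow]
    exact and_self_iff
  have hKL1 := hKL g⁻¹ (G.inv_mem hg) g hg l l
  rw [hQ1] at hKL1
  rw [hcw]
  by_cases h3 : C.card = 3 ∨ 5 ≤ C.card
  · right; right; exact hKL1 h3
  · push Not at h3
    have hc : C.card = 1 ∨ C.card = 2 ∨ C.card = 4 := by omega
    rcases hc with h | h | h
    · left; exact h
    · right; left; exact h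
    · exfalso
      obtain ⟨k1, hk1⟩ : C.Nonempty := Finset.card_pos.mp hpos
      obtain ⟨a, ha⟩ : ∃ a, a ∉ C := by
        by_contra hcon
        push Not at hcon
        have : C = Finset.univ := Finset.eq_univ_iff_forall.mpr hcon
        rw [this, Finset.card_univ] at h
        omega
      have hk1a : k1 ≠ a := fun hh => ha (hh ▸ hk1)
      set cc : ι → Fˣ := fun j => if j = a then -1 else 1 with hcc
      set ν : GL ι F := monGL (Equiv.swap k1 a) cc with hν
      have hνG : ν ∈ G := by
        apply monGL_mem_of_hasMonP hG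
        rw [Equiv.Perm.sign_swap hk1a]
        have hprod : ∏ j, ((cc j : Fˣ) : F) = -1 := by
          rw [Finset.prod_eq_single a]
          · simp [hcc]
          · intro b _ hb
            simp [hcc, hb]
          · intro h'; exact absurd (Finset.mem_univ a) h'
        rw [hprod]
        simp
      have hνg : ν * g ∈ G := G.mul_mem hνG hg
      have hentry : ∀ p, ((ν * g : GL ι F) : Matrix ι ι F) p l ≠ 0 ↔ Equiv.swap k1 a p ∈ C := by
        intro p
        have h1 : ((ν * g : GL ι F) : Matrix ι ι F) p l =
            ((ν : Matrix ι ι F) *ᵥ (fun r => (g : Matrix ι ι F) r l)) p := by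
          rw [Units.val_mul, Matrix.mul_apply]; rfl
        rw [h1, hν, monGL_mulVec, Equiv.symm_swap, hmemC]
        constructor
        · intro hh; exact right_ne_zero_of_mul hh
        · intro hh; exact mul_ne_zero (Units.ne_zero _) hh
      have hQ2 : (Finset.univ.filter fun a' => ((g⁻¹ : GL ι F) : Matrix ι ι F) l a' ≠ 0 ∧
          ((ν * g : GL ι F) : Matrix ι ι F) a' l ≠ 0) = C.erase k1 := by
        ext a'
        rw [Finset.mem_filter, Finset.mem_erase, hinvrow, hentry, ← hmemC]
        constructor
        · rintro ⟨_, h1, h2⟩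
          refine ⟨?_, h1⟩
          rintro rfl
          rw [Equiv.swap_apply_left] at h2
          exact ha h2
        · rintro ⟨h1, h2⟩
          refine ⟨Finset.mem_univ _, h2, ?_⟩
          have h3 : a' ≠ a := fun hh => ha (hh ▸ h2)
          rw [Equiv.swap_apply_of_ne_of_ne h1 h3]
          exact h2
      have hKL2 := hKL g⁻¹ (G.inv_mem hg) (ν * g) hνg l l
      rw [hQ2, Finset.card_erase_of_mem hk1, h] at hKL2
      have := hKL2 (Or.inl rfl)
      omega

end Cfsg.Agent.Lib.H22.C2
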