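/-
S5634 farm-out (architect helper14), tasks **B0** `blockStab_inf_sl_lt` and **B4** `mem_blockStab_one_iff` (helper22).
-/
import Cfsg.Agent.Lib.H14.C2Defs

set_option autoImplicit false

namespace Cfsg.Agent.Lib.H22.C2

open Matrix Cfsg.Agent.Lib.H14.C2

variable {F : Type*} [Field F]

/-- membership in the stabiliser of the standard block decomposition gives a permutation of the blocks such that
the entry `(p, r)` vanishes unless the block of `p` is the image of the block of `r` -/
theorem blockStab_entry {t m : ℕ} (g : GL (Fin t × Fin m) F) (hg : g ∈ blockStab t m F) :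
    ∃ σ : Equiv.Perm (Fin t), ∀ p r : Fin t × Fin m, p.1 ≠ σ r.1 → (g : Matrix _ _ F) p r = 0 := by
  obtain ⟨σ, hσ⟩ := hg
  refine ⟨σ, fun p r hp => ?_⟩
  have h1 : (Pi.single r (1 : F) : Fin t × Fin m → F) ∈ stdD (F := F) t m r.1 := by
    rw [mem_stdD]
    intro p' hp'
    rw [Pi.single_apply, if_neg]
    intro h; apply hp'; rw [h]
  have h2 : Matrix.toLin' (g : Matrix _ _ F) (Pi.single r 1) ∈ stdD (F := F) t m (σ r.1) := by
    rw [← hσ r.1]
    exact Submodule.mem_map_of_mem h1
  rw [Matrix.toLin'_apply, Matrix.mulVec_single_one] at h2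
  exact (mem_stdD _ _).mp h2 p hp

/-- **B0** (properness). -/
theorem blockStab_inf_sl_lt [Fintype F] (t m : ℕ) (ht : 2 ≤ t) (hm : 1 ≤ m) :
    blockStab t m F ⊓ Cfsg.Geo.specialLinear (Fin t × Fin m) F <
      Cfsg.Geo.specialLinear (Fin t × Fin m) F := by
  refine lt_of_le_of_ne inf_le_right ?_
  intro heq
  set a : Fin t × Fin m := (⟨0, by omega⟩, ⟨0, by omega⟩) with ha
  set b : Fin t × Fin m := (⟨1, by omega⟩, ⟨0, by omega⟩) with hb
  have hab : a ≠ b := by
    intro h
    have := congrArg (fun p : Fin t × Fin m => (p.1 : ℕ)) h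
    simp [ha, hb] at this
  have hx : elemGL hab (1 : F) ∈ Cfsg.Geo.specialLinear (Fin t × Fin m) F := elemGL_mem_sl hab 1
  rw [← heq] at hx
  obtain ⟨σ, hσ⟩ := blockStab_entry _ hx.1
  -- entries `(a, b)` and `(b, b)` of `x` are both non-zero
  have h1 : ((elemGL hab (1 : F) : GL _ F) : Matrix _ _ F) a b = 1 := by
    rw [elemGL_val, Matrix.add_apply, Matrix.one_apply_ne hab, Matrix.single_apply_same, zero_add]
  have h2 : ((elemGL hab (1 : F) : GL _ F) : Matrix _ _ F) b b = 1 := by
    rw [elemGL_val, Matrix.add_apply, Matrix.one_apply_eq, Matrix.single_apply_of_ne, add_zero]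
    intro h; exact hab h.1
  have h3 : a.1 = σ b.1 := by
    by_contra hne
    have := hσ a b hne
    rw [h1] at this
    exact one_ne_zero this
  have h4 : b.1 = σ b.1 := by
    by_contra hne
    have := hσ b b hne
    rw [h2] at this
    exact one_ne_zero this
  have h5 : a.1 = b.1 := h3.trans h4.symm
  have := congrArg (fun i : Fin t => (i : ℕ)) h5
  simp [ha, hb] at this

/-- **B4** (blocks of dimension one: the stabiliser is the monomial group). -/
theorem mem_blockStab_one_iff [Fintype F] (t : ℕ) (g : GL (Fin t × Fin 1) F) :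
    g ∈ blockStab t 1 F ↔ IsMono (g : Matrix (Fin t × Fin 1) (Fin t × Fin 1) F) := by
  have hfst : ∀ p q : Fin t × Fin 1, p.1 = q.1 → p = q := by
    intro p q h
    exact Prod.ext h (Subsingleton.elim _ _)
  constructor
  · intro hg
    obtain ⟨σ, hσ⟩ := blockStab_entry g hg
    intro j i i' hi hi'
    have h1 : i.1 = σ j.1 := by
      by_contra hne; exact hi (hσ i j hne)
    have h2 : i'.1 = σ j.1 := by
      by_contra hne; exact hi' (hσ i' j hne)
    exact hfst i i' (h1.trans h2.symm)
  · intro hg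
    -- the key inclusion for a monomial element
    have key : ∀ (σ : Equiv.Perm (Fin t × Fin 1)) (c : Fin t × Fin 1 → Fˣ) (i : Fin t),
        (stdD (F := F) t 1 i).map (Matrix.toLin' ((monGL σ c : GL _ F) : Matrix _ _ F)) ≤
          stdD (F := F) t 1 (σ (i, 0)).1 := by
      intro σ c i
      rintro _ ⟨v, hv, rfl⟩
      have hv' := (mem_stdD i v).mp hv
      rw [mem_stdD]
      intro p hp
      rw [Matrix.toLin'_apply, monGL_mulVec]
      have : (σ.symm p).1 ≠ i := by
        intro h
        apply hp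
        have h2 : σ.symm p = (i, 0) := hfst _ _ h
        rw [← h2, Equiv.apply_symm_apply]
      rw [hv' _ this, mul_zero]
    obtain ⟨σ, c, rfl⟩ := exists_eq_monGL g hg
    set σ' : Equiv.Perm (Fin t) :=
      { toFun := fun i => (σ (i, 0)).1
        invFun := fun i => (σ.symm (i, 0)).1
        left_inv := fun i => by
          have : ((σ (i, 0)).1, (0 : Fin 1)) = σ (i, 0) := hfst _ _ rfl
          show (σ.symm ((σ (i, 0)).1, 0)).1 = i
          rw [this, Equiv.symm_apply_apply]
        right_inv := fun i => by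
          have : ((σ.symm (i, 0)).1, (0 : Fin 1)) = σ.symm (i, 0) := hfst _ _ rfl
          show (σ ((σ.symm (i, 0)).1, 0)).1 = i
          rw [this, Equiv.apply_symm_apply] } with hσ'
    refine ⟨σ', fun i => le_antisymm (key σ c i) ?_⟩
    -- the reverse inclusion through the inverse
    intro w hw
    have hinv := key σ⁻¹ (fun j => (c (σ⁻¹ j))⁻¹) (σ' i)
    rw [← monGL_inv] at hinv
    have h1 : Matrix.toLin' (((monGL σ c)⁻¹ : GL _ F) : Matrix _ _ F) w ∈ stdD (F := F) t 1 i := by
      have h2 := hinv (Submodule.mem_map_of_mem hw)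
      have h3 : (σ⁻¹ (σ' i, 0)).1 = i := by
        have : ((σ (i, 0)).1, (0 : Fin 1)) = σ (i, 0) := hfst _ _ rfl
        show (σ⁻¹ ((σ (i, 0)).1, 0)).1 = i
        rw [this, Equiv.Perm.inv_def, Equiv.symm_apply_apply]
      rwa [h3] at h2
    refine ⟨_, h1, ?_⟩
    rw [Matrix.toLin'_apply, Matrix.toLin'_apply, Matrix.mulVec_mulVec, ← Units.val_mul, mul_inv_cancel,
      Units.val_one, Matrix.one_mulVec]

end Cfsg.Agent.Lib.H22.C2
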