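import Mathlib
import Cfsg.Agent.Lib.H22.Q8Aut
import Cfsg.Agent.Lib.H22.SL23Recog
import Cfsg.Agent.Lib.H22.UniqueInvolution
import Cfsg.Agent.Lib.H22.NilpotentCoprime
import Cfsg.Agent.Lib.H16.AutIndexTwo
import Cfsg.Agent.S4370

/-!
# Towards: quaternion Sylow 2-subgroups give a normal 2-complement or an `SL(2,3)` section (helper22)
-/

set_option autoImplicit false

namespace Cfsg.Agent.Lib.H22

open Matrix

variable {G : Type*} [Group G]

/-- an element of odd order normalizing `Q` with `Aut(Q)` a 2-group centralizes `Q` -/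
theorem mem_centralizer_of_isPGroup_mulAut (Q : Subgroup G) {g : G}
    (hgN : g ∈ Subgroup.normalizer (Q : Set G)) (hodd : Nat.Coprime (orderOf g) 2)
    (hA : IsPGroup 2 (MulAut Q)) : g ∈ Subgroup.centralizer (Q : Set G) := by
  obtain ⟨a, ha⟩ := hA (Q.normalizerMonoidHom ⟨g, hgN⟩)
  have hm : (Q.normalizerMonoidHom ⟨g, hgN⟩) ^ orderOf g = 1 := by
    rw [← map_pow]
    have : (⟨g, hgN⟩ : Subgroup.normalizer (Q : Set G)) ^ orderOf g = 1 :=
      Subtype.ext (by simp)
    rw [this, map_one]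
  have h1 : orderOf (Q.normalizerMonoidHom ⟨g, hgN⟩) ∣ 2 ^ a := orderOf_dvd_of_pow_eq_one ha
  have h2 : orderOf (Q.normalizerMonoidHom ⟨g, hgN⟩) ∣ orderOf g := orderOf_dvd_of_pow_eq_one hm
  have hcop : Nat.Coprime (2 ^ a) (orderOf g) := (Nat.Coprime.pow_right a hodd).symm
  have h3 : orderOf (Q.normalizerMonoidHom ⟨g, hgN⟩) = 1 :=
    Nat.eq_one_of_dvd_coprimes hcop h1 h2
  have h4 : (⟨g, hgN⟩ : Subgroup.normalizer (Q : Set G)) ∈ Q.normalizerMonoidHom.ker := by
    rw [MonoidHom.mem_ker]; exact orderOf_eq_one_iff.mp h3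
  rw [Subgroup.normalizerMonoidHom_ker, Subgroup.mem_subgroupOf] at h4
  exact h4

open QuaternionGroup in
/-- a generalized quaternion group has a unique involution -/
theorem quaternion_unique_involution (m : ℕ) [NeZero m] (u v : QuaternionGroup m)
    (hu : u ^ 2 = 1) (hu1 : u ≠ 1) (hv : v ^ 2 = 1) (hv1 : v ≠ 1) : u = v := by
  have key : ∀ w : QuaternionGroup m, w ^ 2 = 1 → w ≠ 1 → w = a (m : ZMod (2 * m)) := by
    intro w hw hw1
    rw [pow_two] at hw
    rcases w with i | i
    · rw [a_mul_a, one_def] at hw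
      have h0 : i + i = 0 := by injection hw
      rcases Cfsg.Agent.S4370.zmod_add_self_eq_zero m i h0 with rfl | rfl
      · exact absurd rfl hw1
      · rfl
    · exfalso
      rw [xa_mul_xa, one_def] at hw
      have h0 : (m : ZMod (2 * m)) + i - i = 0 := by injection hw
      rw [add_sub_cancel_right] at h0
      have h1 := (ZMod.natCast_eq_zero_iff m (2 * m)).mp h0
      have hpos := NeZero.pos m
      have := Nat.le_of_dvd hpos h1
      omega
  rw [key u hu hu1, key v hv hv1]

/-- the automorphism group of a generalized quaternion group of order at least 16 is a 2-group -/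
theorem isPGroup_mulAut_quaternion (n : ℕ) (hn : 2 ≤ n) :
    IsPGroup 2 (MulAut (QuaternionGroup (2 ^ n))) := by
  have : NeZero (2 ^ n) := ⟨by positivity⟩
  have hcard : Nat.card (QuaternionGroup (2 ^ n)) = 2 ^ (n + 2) := by
    rw [Nat.card_eq_fintype_card, QuaternionGroup.card]; ring
  have h2 : IsPGroup 2 (QuaternionGroup (2 ^ n)) := IsPGroup.of_card hcard
  apply Cfsg.Agent.Lib.H16.isPGroup_mulAut_of_cyclic_index_two h2 (QuaternionGroup.a 1)
  · rw [hcard, QuaternionGroup.orderOf_a_one]; ring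
  · intro g hg
    rcases g with i | i
    · exfalso
      apply hg
      refine Subgroup.mem_zpowers_iff.mpr ⟨(i.val : ℤ), ?_⟩
      rw [zpow_natCast, QuaternionGroup.a_one_pow, ZMod.natCast_zmod_val]
    · rw [QuaternionGroup.orderOf_xa, QuaternionGroup.orderOf_a_one]
      have : 4 ≤ 2 ^ n := by
        calc 4 = 2 ^ 2 := by norm_num
          _ ≤ 2 ^ n := Nat.pow_le_pow_right (by norm_num) hn
      omega

/-- **the `SL(2,3)` section** built from an `SL₂(3)`-like triple `(i, j, g)` where `g` has odd order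
(and `g ^ 3` need not be trivial). -/
theorem exists_sl23_section [Finite G] {i j g : G} (hi4 : i ^ 4 = 1) (hi2 : i ^ 2 ≠ 1)
    (hjj : j * j = i ^ 2) (hji : j * i * j⁻¹ = i⁻¹) (hgi : g * i * g⁻¹ = j)
    (hgj : g * j * g⁻¹ = i * j) (hg : Odd (orderOf g)) :
    ∃ (H K : Subgroup G) (hK : (K.subgroupOf H).Normal),
      Nonempty ((H ⧸ K.subgroupOf H) ≃* SpecialLinearGroup (Fin 2) (ZMod 3)) := by
  -- `g³` centralizes `i` and `j`
  have hjij : j * i * j = i := by
    calc j * i * j = (j * i * j⁻¹) * (j * j) := by group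
      _ = i⁻¹ * i ^ 2 := by rw [hji, hjj]
      _ = i := by group
  have h3i : g ^ 3 * i * (g ^ 3)⁻¹ = i := by
    calc g ^ 3 * i * (g ^ 3)⁻¹ = g * (g * (g * i * g⁻¹) * g⁻¹) * g⁻¹ := by
          rw [pow_succ, pow_two]; group
      _ = g * (g * j * g⁻¹) * g⁻¹ := by rw [hgi]
      _ = g * (i * j) * g⁻¹ := by rw [hgj]
      _ = (g * i * g⁻¹) * (g * j * g⁻¹) := by group
      _ = j * (i * j) := by rw [hgi, hgj]
      _ = i := by rw [← mul_assoc, hjij]
  have h3j : g ^ 3 * j * (g ^ 3)⁻¹ = j := by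
    calc g ^ 3 * j * (g ^ 3)⁻¹ = g ^ 3 * (g * i * g⁻¹) * (g ^ 3)⁻¹ := by rw [hgi]
      _ = g * (g ^ 3 * i * (g ^ 3)⁻¹) * g⁻¹ := by rw [pow_succ, pow_two]; group
      _ = g * i * g⁻¹ := by rw [h3i]
      _ = j := hgi
  have hci : Commute i (g ^ 3) := by
    show i * g ^ 3 = g ^ 3 * i
    calc i * g ^ 3 = (g ^ 3 * i * (g ^ 3)⁻¹) * g ^ 3 := by rw [h3i]
      _ = g ^ 3 * i := by group
  have hcj : Commute j (g ^ 3) := by
    show j * g ^ 3 = g ^ 3 * j
    calc j * g ^ 3 = (g ^ 3 * j * (g ^ 3)⁻¹) * g ^ 3 := by rw [h3j]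
      _ = g ^ 3 * j := by group
  have hcg : Commute g (g ^ 3) := Commute.self_pow g 3
  obtain ⟨H, hHdef⟩ : ∃ H : Subgroup G, H = Subgroup.closure ({i, j, g} : Set G) := ⟨_, rfl⟩
  obtain ⟨K, hKdef⟩ : ∃ K : Subgroup G, K = Subgroup.zpowers (g ^ 3) := ⟨_, rfl⟩
  have hiH : i ∈ H := by rw [hHdef]; exact Subgroup.subset_closure (by simp)
  have hjH : j ∈ H := by rw [hHdef]; exact Subgroup.subset_closure (by simp)
  have hgH : g ∈ H := by rw [hHdef]; exact Subgroup.subset_closure (by simp)
  have hcent : ∀ h ∈ H, ∀ k ∈ K, Commute h k := by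
    intro h hh k hk
    rw [hKdef] at hk
    obtain ⟨z, rfl⟩ := Subgroup.mem_zpowers_iff.mp hk
    apply Commute.zpow_right
    have hle : H ≤ Subgroup.centralizer {g ^ 3} := by
      rw [hHdef, Subgroup.closure_le]
      rintro w (rfl | rfl | rfl)
      · exact Subgroup.mem_centralizer_singleton_iff.mpr hci.eq
      · exact Subgroup.mem_centralizer_singleton_iff.mpr hcj.eq
      · exact Subgroup.mem_centralizer_singleton_iff.mpr hcg.eq
    exact Subgroup.mem_centralizer_singleton_iff.mp (hle hh)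
  have hKn : (K.subgroupOf H).Normal := by
    constructor
    intro n hn h
    rw [Subgroup.mem_subgroupOf] at hn ⊢
    have hc := hcent h.1 h.2 n.1 hn
    have : ((h * n * h⁻¹ : H) : G) = n.1 := by
      show h.1 * n.1 * h.1⁻¹ = n.1
      rw [hc.eq]; group
    rw [this]; exact hn
  -- elements of `K` have odd order
  have hKodd : ∀ k ∈ K, k ^ orderOf g = 1 := by
    intro k hk
    rw [hKdef] at hk
    obtain ⟨z, rfl⟩ := Subgroup.mem_zpowers_iff.mp hk
    rw [← zpow_natCast, ← _root_.zpow_mul, mul_comm, _root_.zpow_mul, zpow_natCast, ← pow_mul,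
      mul_comm, pow_mul, pow_orderOf_eq_one, one_pow, _root_.one_zpow]
  have hi2K : i ^ 2 ∉ K := by
    intro hmem
    apply hi2
    have h1 : orderOf (i ^ 2) ∣ orderOf g := orderOf_dvd_of_pow_eq_one (hKodd _ hmem)
    have h2 : orderOf (i ^ 2) ∣ 2 := orderOf_dvd_of_pow_eq_one (by rw [← pow_mul]; exact hi4)
    have hcop : Nat.Coprime (orderOf g) 2 := Nat.coprime_two_right.mpr hg
    exact orderOf_eq_one_iff.mp (Nat.eq_one_of_dvd_coprimes hcop h1 h2)
  have hgK : g ∉ K := by
    intro hmem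
    apply hi2
    have hc := hcent i hiH g hmem
    have h1 : j = i := by
      rw [← hgi, ← hc.eq]; group
    rw [h1] at hji
    have h2 : i = i⁻¹ := by
      calc i = i * i * i⁻¹ := by group
        _ = i⁻¹ := hji
    calc i ^ 2 = i * i := pow_two i
      _ = i * i⁻¹ := by rw [← h2]
      _ = 1 := mul_inv_cancel i
  refine ⟨H, K, hKn, ?_⟩
  have htriple : SL23Triple (QuotientGroup.mk' (K.subgroupOf H) ⟨i, hiH⟩)
      (QuotientGroup.mk' (K.subgroupOf H) ⟨j, hjH⟩) (QuotientGroup.mk' (K.subgroupOf H) ⟨g, hgH⟩) :=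
    { i4 := by
        rw [← map_pow]
        have : (⟨i, hiH⟩ : H) ^ 4 = 1 := Subtype.ext (by simpa using hi4)
        rw [this, map_one]
      i2 := by
        rw [← map_pow, QuotientGroup.mk'_apply, Ne, QuotientGroup.eq_one_iff,
          Subgroup.mem_subgroupOf]
        simpa using hi2K
      jj := by
        rw [← map_pow, ← map_mul]
        congr 1
        exact Subtype.ext (by simpa using hjj)
      ji := by
        rw [← map_inv, ← map_inv, ← map_mul, ← map_mul]
        congr 1
        exact Subtype.ext (by simpa using hji)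
      w3 := by
        rw [← map_pow, QuotientGroup.mk'_apply, QuotientGroup.eq_one_iff, Subgroup.mem_subgroupOf]
        rw [hKdef]
        simp
      w1 := by
        rw [QuotientGroup.mk'_apply, Ne, QuotientGroup.eq_one_iff, Subgroup.mem_subgroupOf]
        simpa using hgK
      wi := by
        rw [← map_inv, ← map_mul, ← map_mul]
        congr 1
        exact Subtype.ext (by simpa using hgi)
      wj := by
        rw [← map_inv, ← map_mul, ← map_mul, ← map_mul]
        congr 1
        exact Subtype.ext (by simpa using hgj) }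
  apply htriple.nonempty_mulEquiv_sl23
  have htop : Subgroup.closure ({⟨i, hiH⟩, ⟨j, hjH⟩, ⟨g, hgH⟩} : Set H) = ⊤ := by
    apply Subgroup.map_injective H.subtype_injective
    rw [MonoidHom.map_closure, ← MonoidHom.range_eq_map, Subgroup.range_subtype]
    conv_rhs => rw [hHdef]
    congr 1
    simp [Set.image_insert_eq]
  have hsurj := QuotientGroup.mk'_surjective (K.subgroupOf H)
  have := Subgroup.map_top_of_surjective _ hsurj
  rw [← htop, MonoidHom.map_closure] at this
  rw [← this]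
  congr 1
  simp [Set.image_insert_eq]

end Cfsg.Agent.Lib.H22
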