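import Mathlib

/-!
# Orders of elements in `(N7 × N3) ⋊ K` (Mazurov's groups isospectral to `A₁₀`)

`K` acts on the abelian groups `N7` (exponent 7, all nonidentity elements of `K` fixed point free)
and `N3` (exponent 3, a central involution `z` acting as `-1`).  If every element of `K` has
order dividing `8`, `10` or `12`, then the semidirect product has spectrum
`{1,…,10,12,15,21}` (given the obvious witnesses).
-/

set_option autoImplicit false

namespace Cfsg.Agent.Lib.H22.A10Sd

open Multiplicative

/-- The spectrum of `A₁₀`. -/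
def T : Set ℕ := {1, 2, 3, 4, 5, 6, 7, 8, 9, 10, 12, 15, 21}

theorem exists_orderOf_of_dvd {G : Type*} [Group G] {x : G} {N n : ℕ} (hx : orderOf x = N)
    (hN : 0 < N) (hn : n ∣ N) : ∃ y : G, orderOf y = n := by
  obtain ⟨k, rfl⟩ := hn
  have hk : k ≠ 0 := by rintro rfl; simp at hN
  refine ⟨x ^ k, ?_⟩
  rw [orderOf_pow_of_dvd hk (by rw [hx]; exact Dvd.intro_left n rfl), hx]
  exact Nat.mul_div_cancel _ (Nat.pos_of_ne_zero hk)

section sd

variable (K N : Type*) [Group K] [AddCommGroup N] [DistribMulAction K N]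

/-- The action homomorphism `K →* MulAut (Multiplicative N)`. -/
def phi : K →* MulAut (Multiplicative N) where
  toFun g :=
    { toFun := fun n => ofAdd (g • toAdd n)
      invFun := fun n => ofAdd (g⁻¹ • toAdd n)
      left_inv := fun n => by simp
      right_inv := fun n => by simp
      map_mul' := fun a b => by simp [smul_add] }
  map_one' := by ext n; simp
  map_mul' := fun a b => by ext n; simp [mul_smul]

/-- The semidirect product `N ⋊ K`. -/
abbrev SD := Multiplicative N ⋊[phi K N] K

variable {K N}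

theorem phi_apply (g : K) (n : Multiplicative N) : phi K N g n = ofAdd (g • toAdd n) := rfl

/-- The element `(n, g)`. -/
def mk (n : N) (g : K) : SD K N := ⟨ofAdd n, g⟩

@[simp] theorem mk_left (n : N) (g : K) : (mk n g).left = ofAdd n := rfl
@[simp] theorem mk_right (n : N) (g : K) : (mk n g).right = g := rfl

theorem mk_surj (h : SD K N) : ∃ n g, h = mk n g := ⟨toAdd h.left, h.right, rfl⟩

theorem mk_eq_one_iff (n : N) (g : K) : mk n g = 1 ↔ n = 0 ∧ g = 1 := by
  constructor
  · intro h
    have h1 := congrArg SemidirectProduct.left h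
    have h2 := congrArg SemidirectProduct.right h
    simp only [mk_left, mk_right, SemidirectProduct.one_left, SemidirectProduct.one_right] at h1 h2
    exact ⟨by simpa using h1, h2⟩
  · rintro ⟨rfl, rfl⟩
    rfl

theorem mk_mul (n n' : N) (g g' : K) : mk n g * mk n' g' = mk (n + g • n') (g * g') := by
  ext
  · simp [SemidirectProduct.mul_left, phi_apply]
  · simp [SemidirectProduct.mul_right]

theorem mk_pow (n : N) (g : K) (m : ℕ) :
    (mk n g) ^ m = mk (∑ i ∈ Finset.range m, g ^ i • n) (g ^ m) := by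
  induction m with
  | zero => simp [mk]
  | succ m ih =>
    rw [pow_succ, ih, mk_mul, Finset.sum_range_succ, pow_succ]

theorem orderOf_right_dvd (n : N) (g : K) : orderOf g ∣ orderOf (mk n g) := by
  have := orderOf_map_dvd (SemidirectProduct.rightHom : SD K N →* K) (mk n g)
  simpa [SemidirectProduct.rightHom] using this

theorem orderOf_mk_zero (g : K) : orderOf (mk (0 : N) g) = orderOf g := by
  have : mk (0 : N) g = (SemidirectProduct.inr g : SD K N) := rfl
  rw [this]
  exact orderOf_injective _ SemidirectProduct.inr_injective g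

theorem smul_sum_pow (g : K) (n : N) (m : ℕ) (hm : g ^ m = 1) :
    g • (∑ i ∈ Finset.range m, g ^ i • n) = ∑ i ∈ Finset.range m, g ^ i • n := by
  rw [Finset.smul_sum]
  have h1 : ∑ i ∈ Finset.range m, g • g ^ i • n = ∑ i ∈ Finset.range m, g ^ (i + 1) • n := by
    refine Finset.sum_congr rfl fun i _ => ?_
    rw [pow_succ', mul_smul]
  rw [h1]
  have h2 := Finset.sum_range_succ' (fun i => g ^ i • n) m
  have h3 := Finset.sum_range_succ (fun i => g ^ i • n) m
  simp only [pow_zero, one_smul, hm] at h2 h3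
  exact add_right_cancel (h2.symm.trans h3)

instance [Finite K] [Finite N] : Finite (SD K N) :=
  Finite.of_equiv _ (SemidirectProduct.equivProd (φ := phi K N)).symm

end sd

section main

variable {K N7 N3 : Type*} [Group K] [Finite K] [AddCommGroup N7] [AddCommGroup N3]
  [DistribMulAction K N7] [DistribMulAction K N3]

theorem sum_prod (g : K) (a : N7) (w : N3) (m : ℕ) :
    ∑ i ∈ Finset.range m, g ^ i • ((a, w) : N7 × N3) =
      (∑ i ∈ Finset.range m, g ^ i • a, ∑ i ∈ Finset.range m, g ^ i • w) := by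
  refine Prod.ext ?_ ?_
  · simp [Prod.fst_sum]
  · simp [Prod.snd_sum]

theorem mem_T_of_dvd_8_10_12 {m : ℕ} (h : m ∣ 8 ∨ m ∣ 10 ∨ m ∣ 12) : m ∈ T := by
  have h8 : Nat.divisors 8 = {1, 2, 4, 8} := by decide
  have h10 : Nat.divisors 10 = {1, 2, 5, 10} := by decide
  have h12 : Nat.divisors 12 = {1, 2, 3, 4, 6, 12} := by decide
  rcases h with h | h | h
  · have := Nat.mem_divisors.2 ⟨h, by norm_num⟩
    rw [h8] at this
    simp only [Finset.mem_insert, Finset.mem_singleton] at this
    rcases this with rfl | rfl | rfl | rfl <;> simp [T]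
  · have := Nat.mem_divisors.2 ⟨h, by norm_num⟩
    rw [h10] at this
    simp only [Finset.mem_insert, Finset.mem_singleton] at this
    rcases this with rfl | rfl | rfl | rfl <;> simp [T]
  · have := Nat.mem_divisors.2 ⟨h, by norm_num⟩
    rw [h12] at this
    simp only [Finset.mem_insert, Finset.mem_singleton] at this
    rcases this with rfl | rfl | rfl | rfl | rfl | rfl <;> simp [T]

theorem odd_dvd_8_10_12 {m : ℕ} (h : m ∣ 8 ∨ m ∣ 10 ∨ m ∣ 12) (hodd : Odd m) :
    m = 1 ∨ m = 3 ∨ m = 5 := by
  have h8 : Nat.divisors 8 = {1, 2, 4, 8} := by decide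
  have h10 : Nat.divisors 10 = {1, 2, 5, 10} := by decide
  have h12 : Nat.divisors 12 = {1, 2, 3, 4, 6, 12} := by decide
  rcases h with h | h | h
  · have := Nat.mem_divisors.2 ⟨h, by norm_num⟩
    rw [h8] at this
    simp only [Finset.mem_insert, Finset.mem_singleton] at this
    rcases this with rfl | rfl | rfl | rfl <;> first | (exfalso; revert hodd; decide) | simp
  · have := Nat.mem_divisors.2 ⟨h, by norm_num⟩
    rw [h10] at this
    simp only [Finset.mem_insert, Finset.mem_singleton] at this
    rcases this with rfl | rfl | rfl | rfl <;> first | (exfalso; revert hodd; decide) | simp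
  · have := Nat.mem_divisors.2 ⟨h, by norm_num⟩
    rw [h12] at this
    simp only [Finset.mem_insert, Finset.mem_singleton] at this
    rcases this with rfl | rfl | rfl | rfl | rfl | rfl <;>
      first | (exfalso; revert hodd; decide) | simp

variable (h7 : ∀ a : N7, (7 : ℕ) • a = 0) (hnt7 : ∃ a : N7, a ≠ 0)
  (fpf : ∀ g : K, g ≠ 1 → ∀ a : N7, g • a = a → a = 0)
  (z : K) (hz7 : ∀ a : N7, z • a = -a) (hz3 : ∀ w : N3, z • w = -w)
  (h3 : ∀ w : N3, (3 : ℕ) • w = 0)
  (ho : ∀ g : K, g ^ 8 = 1 ∨ g ^ 10 = 1 ∨ g ^ 12 = 1)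

include hnt7 fpf hz7 in
theorem eq_z (y : K) (hy2 : y ^ 2 = 1) (hy : y ≠ 1) : y = z := by
  by_contra hne
  have hne' : z⁻¹ * y ≠ 1 := by
    intro h
    apply hne
    have := eq_of_inv_mul_eq_one h
    exact this.symm
  obtain ⟨a, ha⟩ := hnt7
  apply ha
  apply fpf _ hne' a
  have hya : y • a = -a := by
    have hfix : y • (y • a + a) = y • a + a := by
      rw [smul_add, ← mul_smul, ← pow_two, hy2, one_smul, add_comm]
    have := fpf y hy _ hfix
    exact eq_neg_of_add_eq_zero_left this
  have hz : z⁻¹ • (-a) = a := by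
    rw [← hz7 a, inv_smul_smul]
  rw [mul_smul, hya, hz]

include hz3 in
theorem sum_even_eq_zero (g : K) (j : ℕ) (hj : g ^ j = z) (w : N3) :
    ∑ i ∈ Finset.range (j + j), g ^ i • w = 0 := by
  rw [Finset.sum_range_add]
  have : ∑ x ∈ Finset.range j, g ^ (j + x) • w = ∑ x ∈ Finset.range j, -(g ^ x • w) := by
    refine Finset.sum_congr rfl fun i _ => ?_
    rw [pow_add, hj, mul_smul, hz3]
  rw [this, Finset.sum_neg_distrib, add_neg_cancel]

include h7 hnt7 fpf hz7 hz3 h3 ho in
theorem orderOf_mem_T (h : SD K (N7 × N3)) : orderOf h ∈ T := by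
  obtain ⟨⟨a, w⟩, g, rfl⟩ := mk_surj h
  by_cases hg : g = 1
  · subst hg
    have h21 : (mk ((a, w) : N7 × N3) (1 : K)) ^ 21 = 1 := by
      rw [mk_pow, mk_eq_one_iff]
      refine ⟨?_, one_pow _⟩
      simp only [one_pow, one_smul, Finset.sum_const, Finset.card_range]
      refine Prod.ext ?_ ?_
      · show (21 : ℕ) • a = 0
        have : (21 : ℕ) • a = (3 : ℕ) • ((7 : ℕ) • a) := by rw [← mul_smul]; norm_num
        rw [this, h7, smul_zero]
      · show (21 : ℕ) • w = 0
        have : (21 : ℕ) • w = (7 : ℕ) • ((3 : ℕ) • w) := by rw [← mul_smul]; norm_num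
        rw [this, h3, smul_zero]
    have hd := orderOf_dvd_of_pow_eq_one h21
    have h21d : Nat.divisors 21 = {1, 3, 7, 21} := by decide
    have := Nat.mem_divisors.2 ⟨hd, by norm_num⟩
    rw [h21d] at this
    simp only [Finset.mem_insert, Finset.mem_singleton] at this
    rcases this with h | h | h | h <;> rw [h] <;> simp [T]
  · have hm : 0 < orderOf g := orderOf_pos g
    have hgm : g ^ orderOf g = 1 := pow_orderOf_eq_one g
    have hdvd : orderOf g ∣ 8 ∨ orderOf g ∣ 10 ∨ orderOf g ∣ 12 := by
      rcases ho g with h | h | h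
      · exact Or.inl (orderOf_dvd_of_pow_eq_one h)
      · exact Or.inr (Or.inl (orderOf_dvd_of_pow_eq_one h))
      · exact Or.inr (Or.inr (orderOf_dvd_of_pow_eq_one h))
    have h7sum : ∑ i ∈ Finset.range (orderOf g), g ^ i • a = 0 :=
      fpf g hg _ (smul_sum_pow g a _ hgm)
    have hpow : (mk ((a, w) : N7 × N3) g) ^ orderOf g =
        mk ((0, ∑ i ∈ Finset.range (orderOf g), g ^ i • w) : N7 × N3) 1 := by
      rw [mk_pow, sum_prod, h7sum, hgm]
    rcases Nat.even_or_odd (orderOf g) with he | hodd
    · obtain ⟨j, hj⟩ := he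
      have hj0 : 0 < j := by omega
      have hjlt : j < orderOf g := by omega
      have hy1 : g ^ j ≠ 1 := pow_ne_one_of_lt_orderOf hj0.ne' hjlt
      have hy2 : (g ^ j) ^ 2 = 1 := by
        rw [← pow_mul, mul_two, ← hj, hgm]
      have hyz : g ^ j = z := eq_z hnt7 fpf z hz7 _ hy2 hy1
      have hsum : ∑ i ∈ Finset.range (orderOf g), g ^ i • w = 0 := by
        rw [hj]
        exact sum_even_eq_zero z hz3 g j hyz w
      have h1 : (mk ((a, w) : N7 × N3) g) ^ orderOf g = 1 := by
        rw [hpow, hsum, mk_eq_one_iff]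
        exact ⟨rfl, rfl⟩
      have heq : orderOf (mk ((a, w) : N7 × N3) g) = orderOf g :=
        Nat.dvd_antisymm (orderOf_dvd_of_pow_eq_one h1) (orderOf_right_dvd _ _)
      rw [heq]
      exact mem_T_of_dvd_8_10_12 hdvd
    · have hcases := odd_dvd_8_10_12 hdvd hodd
      have hne1 : orderOf g ≠ 1 := by
        intro h
        exact hg (orderOf_eq_one_iff.1 h)
      have h3m : (mk ((a, w) : N7 × N3) g) ^ (orderOf g * 3) = 1 := by
        rw [pow_mul, hpow, mk_pow, mk_eq_one_iff]
        refine ⟨?_, one_pow _⟩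
        simp only [one_pow, one_smul, Finset.sum_const, Finset.card_range]
        refine Prod.ext ?_ ?_
        · show (3 : ℕ) • (0 : N7) = 0
          exact smul_zero _
        · exact h3 _
      have hd1 := orderOf_dvd_of_pow_eq_one h3m
      have hd2 := orderOf_right_dvd ((a, w) : N7 × N3) g
      rcases hcases with h | h | h
      · exact absurd h hne1
      · rw [h] at hd1 hd2
        have h9d : Nat.divisors 9 = {1, 3, 9} := by decide
        have := Nat.mem_divisors.2 ⟨hd1, by norm_num⟩
        rw [h9d] at this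
        simp only [Finset.mem_insert, Finset.mem_singleton] at this
        rcases this with h' | h' | h'
        · rw [h'] at hd2; omega
        · rw [h']; simp [T]
        · rw [h']; simp [T]
      · rw [h] at hd1 hd2
        have h15d : Nat.divisors 15 = {1, 3, 5, 15} := by decide
        have := Nat.mem_divisors.2 ⟨hd1, by norm_num⟩
        rw [h15d] at this
        simp only [Finset.mem_insert, Finset.mem_singleton] at this
        rcases this with h' | h' | h' | h'
        · rw [h'] at hd2; omega
        · rw [h'] at hd2; omega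
        · rw [h']; simp [T]
        · rw [h']; simp [T]

include h7 h3 in
theorem exists_orderOf_of_mem_T
    (g8 g10 g12 : K) (hg8 : orderOf g8 = 8) (hg10 : orderOf g10 = 10) (hg12 : orderOf g12 = 12)
    (a7 : N7) (ha7 : a7 ≠ 0)
    (w9 : N3) (x3 : K) (hx3 : orderOf x3 = 3)
    (hw9 : ∑ i ∈ Finset.range 3, x3 ^ i • w9 ≠ 0)
    (w15 : N3) (x5 : K) (hx5 : orderOf x5 = 5) (hw15 : x5 • w15 = w15) (hw15' : w15 ≠ 0)
    {n : ℕ} (hn : n ∈ T) : ∃ h : SD K (N7 × N3), orderOf h = n := by
  -- elements of order 8, 10, 12, 9, 15, 21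
  have e8 : orderOf (mk (0 : N7 × N3) g8) = 8 := by rw [orderOf_mk_zero, hg8]
  have e10 : orderOf (mk (0 : N7 × N3) g10) = 10 := by rw [orderOf_mk_zero, hg10]
  have e12 : orderOf (mk (0 : N7 × N3) g12) = 12 := by rw [orderOf_mk_zero, hg12]
  have e21 : orderOf (mk ((a7, w15) : N7 × N3) (1 : K)) = 21 := by
    have hp : ∀ m : ℕ, (mk ((a7, w15) : N7 × N3) (1 : K)) ^ m = mk ((m • a7, m • w15) : N7 × N3) 1 := by
      intro m
      rw [mk_pow, sum_prod]
      simp
    refine orderOf_eq_of_pow_and_pow_div_prime (by norm_num) ?_ ?_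
    · rw [hp, mk_eq_one_iff]
      refine ⟨Prod.ext ?_ ?_, rfl⟩
      · show (21 : ℕ) • a7 = 0
        have : (21 : ℕ) • a7 = (3 : ℕ) • ((7 : ℕ) • a7) := by rw [← mul_smul]; norm_num
        rw [this, h7, smul_zero]
      · show (21 : ℕ) • w15 = 0
        have : (21 : ℕ) • w15 = (7 : ℕ) • ((3 : ℕ) • w15) := by rw [← mul_smul]; norm_num
        rw [this, h3, smul_zero]
    · intro p hp' hpd
      have hp21 : p = 3 ∨ p = 7 := by
        have h21d : Nat.divisors 21 = {1, 3, 7, 21} := by decide
        have := Nat.mem_divisors.2 ⟨hpd, by norm_num⟩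
        rw [h21d] at this
        simp only [Finset.mem_insert, Finset.mem_singleton] at this
        rcases this with h | h | h | h
        · rw [h] at hp'; exact absurd hp' (by decide)
        · exact Or.inl h
        · exact Or.inr h
        · rw [h] at hp'; exact absurd hp' (by decide)
      rcases hp21 with rfl | rfl
      · -- 21 / 3 = 7 : second component 7 • w15 = w15 ≠ 0
        rw [show (21 / 3 : ℕ) = 7 from rfl, hp, Ne, mk_eq_one_iff]
        rintro ⟨h, -⟩
        have h2 := congrArg Prod.snd h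
        simp only [Prod.snd_zero] at h2
        have : (7 : ℕ) • w15 = w15 := by
          have : (7 : ℕ) • w15 = (2 : ℕ) • ((3 : ℕ) • w15) + w15 := by abel
          rw [this, h3, smul_zero, zero_add]
        rw [this] at h2
        exact hw15' h2
      · -- 21 / 7 = 3 : first component 3 • a7 ≠ 0
        rw [show (21 / 7 : ℕ) = 3 from rfl, hp, Ne, mk_eq_one_iff]
        rintro ⟨h, -⟩
        have h2 := congrArg Prod.fst h
        simp only [Prod.fst_zero] at h2
        -- 3 a = 0 and 7 a = 0 → a = 0
        have : a7 = (7 : ℕ) • a7 - (2 : ℕ) • ((3 : ℕ) • a7) := by abel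
        rw [h7, h2, smul_zero, sub_zero] at this
        exact ha7 this
  have e9 : orderOf (mk ((0, w9) : N7 × N3) x3) = 9 := by
    have hx33 : x3 ^ 3 = 1 := by rw [← hx3]; exact pow_orderOf_eq_one x3
    have hp3 : (mk ((0, w9) : N7 × N3) x3) ^ 3 =
        mk ((0, ∑ i ∈ Finset.range 3, x3 ^ i • w9) : N7 × N3) 1 := by
      rw [mk_pow, sum_prod, hx33]
      simp
    have : orderOf (mk ((0, w9) : N7 × N3) x3) = 3 ^ (1 + 1) := by
      refine orderOf_eq_prime_pow ?_ ?_
      · rw [pow_one, hp3, mk_eq_one_iff]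
        rintro ⟨h, -⟩
        exact hw9 (congrArg Prod.snd h)
      · rw [show (3 : ℕ) ^ (1 + 1) = 3 * 3 from rfl, pow_mul, hp3, mk_pow, mk_eq_one_iff]
        refine ⟨?_, one_pow _⟩
        simp only [one_pow, one_smul, Finset.sum_const, Finset.card_range]
        refine Prod.ext ?_ ?_
        · show (3 : ℕ) • (0 : N7) = 0
          exact smul_zero _
        · exact h3 _
    rw [this]; norm_num
  have e15 : orderOf (mk ((0, w15) : N7 × N3) x5) = 15 := by
    have hx55 : x5 ^ 5 = 1 := by rw [← hx5]; exact pow_orderOf_eq_one x5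
    have hfix : ∀ i : ℕ, x5 ^ i • w15 = w15 := by
      intro i
      induction i with
      | zero => simp
      | succ i ih => rw [pow_succ, mul_smul, hw15, ih]
    have hp5 : (mk ((0, w15) : N7 × N3) x5) ^ 5 = mk ((0, (5 : ℕ) • w15) : N7 × N3) 1 := by
      rw [mk_pow, sum_prod, hx55]
      simp [hfix]
    refine orderOf_eq_of_pow_and_pow_div_prime (by norm_num) ?_ ?_
    · rw [show (15 : ℕ) = 5 * 3 from rfl, pow_mul, hp5, mk_pow, mk_eq_one_iff]
      refine ⟨?_, one_pow _⟩
      simp only [one_pow, one_smul, Finset.sum_const, Finset.card_range]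
      refine Prod.ext ?_ ?_
      · show (3 : ℕ) • (0 : N7) = 0
        exact smul_zero _
      · exact h3 _
    · intro p hp' hpd
      have hp15 : p = 3 ∨ p = 5 := by
        have h15d : Nat.divisors 15 = {1, 3, 5, 15} := by decide
        have := Nat.mem_divisors.2 ⟨hpd, by norm_num⟩
        rw [h15d] at this
        simp only [Finset.mem_insert, Finset.mem_singleton] at this
        rcases this with h | h | h | h
        · rw [h] at hp'; exact absurd hp' (by decide)
        · exact Or.inl h
        · exact Or.inr h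
        · rw [h] at hp'; exact absurd hp' (by decide)
      rcases hp15 with rfl | rfl
      · -- 15 / 3 = 5
        rw [show (15 / 3 : ℕ) = 5 from rfl, hp5, Ne, mk_eq_one_iff]
        rintro ⟨h, -⟩
        have h2 := congrArg Prod.snd h
        simp only [Prod.snd_zero] at h2
        have : (5 : ℕ) • w15 = (3 : ℕ) • w15 + (2 : ℕ) • w15 := by abel
        rw [this, h3, zero_add] at h2
        -- 2 w = 0 and 3 w = 0 → w = 0
        have : w15 = (3 : ℕ) • w15 - (2 : ℕ) • w15 := by abel
        rw [h3, h2, sub_zero] at this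
        exact hw15' this
      · -- 15 / 5 = 3 : right component x5^3 ≠ 1
        rw [show (15 / 5 : ℕ) = 3 from rfl, mk_pow, Ne, mk_eq_one_iff]
        rintro ⟨-, h⟩
        have := orderOf_dvd_of_pow_eq_one h
        rw [hx5] at this
        omega
  simp only [T, Set.mem_insert_iff, Set.mem_singleton_iff] at hn
  rcases hn with rfl | rfl | rfl | rfl | rfl | rfl | rfl | rfl | rfl | rfl | rfl | rfl | rfl
  · exact exists_orderOf_of_dvd e8 (by norm_num) (by norm_num)
  · exact exists_orderOf_of_dvd e8 (by norm_num) (by norm_num)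
  · exact exists_orderOf_of_dvd e12 (by norm_num) (by norm_num)
  · exact exists_orderOf_of_dvd e8 (by norm_num) (by norm_num)
  · exact exists_orderOf_of_dvd e10 (by norm_num) (by norm_num)
  · exact exists_orderOf_of_dvd e12 (by norm_num) (by norm_num)
  · exact exists_orderOf_of_dvd e21 (by norm_num) (by norm_num)
  · exact ⟨_, e8⟩
  · exact ⟨_, e9⟩
  · exact ⟨_, e10⟩
  · exact ⟨_, e12⟩
  · exact ⟨_, e15⟩
  · exact ⟨_, e21⟩

end main

end Cfsg.Agent.Lib.H22.A10Sd
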