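import Mathlib

/-!
# S3901: statement shapes of the pieces (helper22, architect)

`LLStmt` (local lemma), `PropAStmt`, `StepBStmt`; the FINAL assembles them with the landed
Burnside two-prime theorem.
-/

set_option autoImplicit false

namespace Cfsg.Agent.Lib.H22.S3901Defs

universe u

/-- LOCAL LEMMA: `L ≤ M` normal in `T`, `|T : M| = q`, `M / L` a nontrivial `p`-group, every element
outside `L` of prime-power order, `V ≤ L` a nontrivial abelian normal `r`-subgroup: impossible. -/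
def LLStmt : Prop :=
  ∀ (T : Type u) [Group T] [Finite T] (L M V : Subgroup T) [L.Normal] [M.Normal] [V.Normal]
    (p q r : ℕ), p.Prime → q.Prime → r.Prime → p ≠ q → p ≠ r → q ≠ r →
    L ≤ M → M.index = q →
    (∀ m ∈ M, ∃ k : ℕ, m ^ (p ^ k) ∈ L) → (∃ m ∈ M, m ∉ L) →
    (∀ x : T, x ∉ L → IsPrimePow (orderOf x)) →
    V ≤ L → V ≠ ⊥ → (∀ a ∈ V, ∀ b ∈ V, a * b = b * a) → (∀ v ∈ V, ∃ k : ℕ, v ^ (r ^ k) = 1) →
    False

/-- PROP A: `N ≤ K` normal in `G`, `|G : K| = q`, `K / N` a nontrivial `p`-group, every element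
outside `N` of prime-power order: every prime divisor of `|N|` is `p` or `q`. -/
def PropAStmt : Prop :=
  ∀ (G : Type u) [Group G] [Finite G] (N K : Subgroup G) [N.Normal] [K.Normal]
    (p q : ℕ), p.Prime → q.Prime → p ≠ q →
    N ≤ K → K.index = q →
    (∀ k ∈ K, ∃ j : ℕ, k ^ (p ^ j) ∈ N) → (∃ k ∈ K, k ∉ N) →
    (∀ x : G, x ∉ N → IsPrimePow (orderOf x)) →
    ∀ r : ℕ, r.Prime → r ∣ Nat.card N → r = p ∨ r = q

/-- STEP B: a finite group whose order is not a prime power (nor `1`) has a nontrivial `p`-subgroup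
normalised by an element of prime order `q ≠ p`. -/
def StepBStmt : Prop :=
  ∀ (X : Type u) [Group X] [Finite X],
    (¬ ∃ p k : ℕ, p.Prime ∧ Nat.card X = p ^ k) →
    ∃ p q : ℕ, p.Prime ∧ q.Prime ∧ p ≠ q ∧ ∃ H : Subgroup X, IsPGroup p H ∧ H ≠ ⊥ ∧
      ∃ y : X, y ∈ Subgroup.normalizer (H : Set X) ∧ orderOf y = q

end Cfsg.Agent.Lib.H22.S3901Defs
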