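import Mathlib
import Cfsg.Prelude.Def_SylowChains
import Cfsg.Agent.Lib.H15.Conj
import Cfsg.Agent.Lib.H15.SylowControl

/-!
helper22 library: regularity of a normalizer functor `f` (Def_SylowChains), ambient reformulation:
chains of full Sylow subgroups of `G` linked through normalizers `N_M(F)`, `F ∈ f P`.
-/

set_option autoImplicit false
set_option linter.unusedSectionVars false

namespace Cfsg.Agent.Lib.H22.FunctorRegular

open Cfsg.Agent.Lib.H15

variable {G : Type*} [Group G]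

section

variable [Finite G] (p : ℕ) [Fact p.Prime]

/-- `R` has the order of a Sylow `p`-subgroup of `G`. -/
def IsSyl (R : Subgroup G) : Prop := Nat.card R = p ^ (Nat.card G).factorization p

theorem isSyl_coe (P : Sylow p G) : IsSyl p (P : Subgroup G) := P.card_eq_multiplicity

variable {p}

theorem IsSyl.isPGroup {R : Subgroup G} (h : IsSyl p R) : IsPGroup p R := IsPGroup.of_card h

theorem IsSyl.conj {R : Subgroup G} (h : IsSyl p R) (a : G) : IsSyl p (cj a R) := by
  unfold IsSyl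
  rw [card_cj]
  exact h

theorem IsSyl.exists_cj {R R' : Subgroup G} (h : IsSyl p R) (h' : IsSyl p R') :
    ∃ a : G, R' = cj a R := by
  obtain ⟨a, ha⟩ := MulAction.exists_smul_eq G (Sylow.ofCard R h) (Sylow.ofCard R' h')
  refine ⟨a, ?_⟩
  have := congrArg (fun Q : Sylow p G => (Q : Subgroup G)) ha
  simp only [coe_smul_sylow_eq_cj] at this
  exact this.symm

theorem factorization_eq {S M : Subgroup G} (hS : IsSyl p S) (hSM : S ≤ M) :
    (Nat.card M).factorization p = (Nat.card G).factorization p := by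
  have hp : p.Prime := Fact.out
  have hM0 : Nat.card M ≠ 0 := Nat.card_pos.ne'
  have hG0 : Nat.card G ≠ 0 := Nat.card_pos.ne'
  apply le_antisymm
  · have h1 : Nat.card M ∣ Nat.card G := Subgroup.card_subgroup_dvd_card M
    exact (Nat.factorization_le_iff_dvd hM0 hG0).mpr h1 p
  · have h1 : Nat.card S ∣ Nat.card M := Subgroup.card_dvd_of_le hSM
    rw [hS] at h1
    exact (hp.pow_dvd_iff_le_factorization hM0).mp h1

theorem isSyl_amb {S M : Subgroup G} (hS : IsSyl p S) (hSM : S ≤ M) (P : Sylow p ↥M) :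
    IsSyl p ((P : Subgroup ↥M).map M.subtype) := by
  unfold IsSyl
  rw [Subgroup.card_map_of_injective M.subtype_injective, P.card_eq_multiplicity,
    factorization_eq hS hSM]

theorem exists_sylow {S M R : Subgroup G} (hS : IsSyl p S) (hSM : S ≤ M) (hR : IsSyl p R)
    (hRM : R ≤ M) : ∃ P : Sylow p ↥M, (P : Subgroup ↥M).map M.subtype = R := by
  have hc : Nat.card (R.subgroupOf M) = p ^ (Nat.card M).factorization p := by
    rw [Nat.card_congr (Subgroup.subgroupOfEquivOfLe hRM).toEquiv, factorization_eq hS hSM]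
    exact hR
  refine ⟨Sylow.ofCard (R.subgroupOf M) hc, ?_⟩
  rw [Sylow.coe_ofCard]
  exact Subgroup.map_subgroupOf_eq_of_le hRM

theorem amb_injective {M : Subgroup G} {P P' : Sylow p ↥M}
    (h : (P : Subgroup ↥M).map M.subtype = (P' : Subgroup ↥M).map M.subtype) : P = P' :=
  Sylow.ext (Subgroup.map_injective M.subtype_injective h)

variable {f : Subgroup G → Set (Subgroup G)}

/-- membership in `𝓕_M(c)` forces containment. -/
theorem le_of_mem_sylowMembers (hf : Cfsg.IsNormalizerFunctor p f) {M : Subgroup G}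
    (c : Sylow p ↥M) (Y : Subgroup ↥M)
    (hY : Y ∈ Cfsg.sylowMembers p
      ((fun X : Subgroup G => X.subgroupOf M) '' Cfsg.functorFamily p f M) (c : Subgroup ↥M)) :
    ∃ (F : Subgroup G) (P₀ : Sylow p ↥M), F ∈ f ((P₀ : Subgroup ↥M).map M.subtype) ∧
      Y = (M ⊓ Subgroup.normalizer (F : Set G)).subgroupOf M ∧ (c : Subgroup ↥M) ≤ Y := by
  obtain ⟨⟨X', ⟨P₀, F, hF, rfl⟩, rfl⟩, ⟨P', hP'⟩⟩ := hY
  refine ⟨F, P₀, hF, rfl, ?_⟩
  have hp : p.Prime := Fact.out
  have hpg : IsPGroup p ↥((P₀ : Subgroup ↥M).map M.subtype) := P₀.isPGroup'.map _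
  have hP₀Y : (P₀ : Subgroup ↥M) ≤ (M ⊓ Subgroup.normalizer (F : Set G)).subgroupOf M := by
    intro y hy
    rw [Subgroup.mem_subgroupOf]
    refine ⟨y.2, ?_⟩
    have hamb : (y : G) ∈ (P₀ : Subgroup ↥M).map M.subtype := ⟨y, hy, rfl⟩
    exact ((hf _ hpg).1 F hF).2 (Subgroup.le_normalizer hamb)
  have e1 : Nat.card ↥((c : Subgroup ↥M) ⊓ (M ⊓ Subgroup.normalizer (F : Set G)).subgroupOf M)
      = Nat.card P' := by
    rw [← hP']
    exact Subgroup.card_map_of_injective (Subgroup.subtype_injective _)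
  have e2 := P'.card_eq_multiplicity
  have e3 : Nat.card (P₀ : Subgroup ↥M) ∣
      Nat.card ↥((M ⊓ Subgroup.normalizer (F : Set G)).subgroupOf M) :=
    Subgroup.card_dvd_of_le hP₀Y
  rw [P₀.card_eq_multiplicity] at e3
  have e4 := (hp.pow_dvd_iff_le_factorization Nat.card_pos.ne').mp e3
  have e5 : Nat.card (c : Subgroup ↥M) ≤
      Nat.card ↥((c : Subgroup ↥M) ⊓ (M ⊓ Subgroup.normalizer (F : Set G)).subgroupOf M) := by
    rw [e1, e2, c.card_eq_multiplicity]
    exact Nat.pow_le_pow_right hp.pos e4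
  have e6 := Subgroup.eq_of_le_of_card_ge
    (inf_le_left : (c : Subgroup ↥M) ⊓ (M ⊓ Subgroup.normalizer (F : Set G)).subgroupOf M ≤ _) e5
  exact inf_eq_left.mp e6

/-- containment gives membership in `𝓕_M(c)`. -/
theorem mem_sylowMembers_of_le {M : Subgroup G} (c P₀ : Sylow p ↥M) (F : Subgroup G)
    (hF : F ∈ f ((P₀ : Subgroup ↥M).map M.subtype))
    (hle : (c : Subgroup ↥M) ≤ (M ⊓ Subgroup.normalizer (F : Set G)).subgroupOf M) :
    (M ⊓ Subgroup.normalizer (F : Set G)).subgroupOf M ∈ Cfsg.sylowMembers p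
      ((fun X : Subgroup G => X.subgroupOf M) '' Cfsg.functorFamily p f M) (c : Subgroup ↥M) := by
  refine ⟨⟨M ⊓ Subgroup.normalizer (F : Set G), ⟨P₀, F, hF, rfl⟩, rfl⟩, ⟨c.subtype hle, ?_⟩⟩
  rw [Sylow.coe_subtype, Subgroup.subgroupOf_map_subtype]

variable (p f)

/-- one link of a chain of full Sylow subgroups (ambient form). -/
def Link (M D S S' : Subgroup G) : Prop :=
  IsSyl p S ∧ IsSyl p S' ∧ S ≤ M ∧ S' ≤ M ∧ ∃ (F P : Subgroup G) (x : G),
    IsSyl p P ∧ P ≤ M ∧ F ∈ f P ∧ S ≤ Subgroup.normalizer (F : Set G) ∧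
    S' ≤ Subgroup.normalizer (F : Set G) ∧ x ∈ M ∧ x ∈ Subgroup.normalizer (F : Set G) ∧
    cj x⁻¹ S' = S ∧ D ≤ S'

/-- chains of links. -/
inductive AC (M D : Subgroup G) : Subgroup G → Subgroup G → Prop
  | refl (S : Subgroup G) : AC M D S S
  | step {S S' T : Subgroup G} : Link p f M D S S' → AC M D S' T → AC M D S T

variable {p f}

theorem Link.mono {M M' D D' S S' : Subgroup G} (h : Link p f M D S S') (hM : M ≤ M')
    (hD : D' ≤ D) : Link p f M' D' S S' := by
  obtain ⟨h1, h2, h3, h4, F, P, x, h5, h6, h7, h8, h9, h10, h11, h12, h13⟩ := h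
  exact ⟨h1, h2, h3.trans hM, h4.trans hM, F, P, x, h5, h6.trans hM, h7, h8, h9, hM h10, h11, h12,
    hD.trans h13⟩

theorem AC.mono {M M' D D' S T : Subgroup G} (h : AC p f M D S T) (hM : M ≤ M') (hD : D' ≤ D) :
    AC p f M' D' S T := by
  induction h with
  | refl S => exact AC.refl S
  | step hl _ ih => exact AC.step (hl.mono hM hD) ih

theorem AC.trans {M D S T U : Subgroup G} (h : AC p f M D S T) (h' : AC p f M D T U) :
    AC p f M D S U := by
  induction h with
  | refl S => exact h'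
  | step hl _ ih => exact AC.step hl (ih h')

theorem Link.conj (hf : Cfsg.IsNormalizerFunctor p f) {D S S' : Subgroup G}
    (h : Link p f ⊤ D S S') (a : G) : Link p f ⊤ (cj a D) (cj a S) (cj a S') := by
  obtain ⟨h1, h2, _, _, F, P, x, h5, _, h7, h8, h9, _, h11, h12, h13⟩ := h
  refine ⟨h1.conj a, h2.conj a, le_top, le_top, cj a F, cj a P, a * x * a⁻¹, h5.conj a, le_top, ?_, ?_, ?_,
    Subgroup.mem_top _, ?_, ?_, cj_mono a h13⟩
  · have := (hf P h5.isPGroup).2 a
    rw [this]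
    exact ⟨F, h7, rfl⟩
  · rw [normalizer_cj]; exact cj_mono a h8
  · rw [normalizer_cj]; exact cj_mono a h9
  · rw [normalizer_cj]; exact conj_mem_cj h11
  · rw [cj_cj, ← h12, cj_cj]
    congr 1
    group

theorem AC.conj (hf : Cfsg.IsNormalizerFunctor p f) {D S T : Subgroup G}
    (h : AC p f ⊤ D S T) (a : G) : AC p f ⊤ (cj a D) (cj a S) (cj a T) := by
  induction h with
  | refl S => exact AC.refl _
  | step hl _ ih => exact AC.step (hl.conj hf a) ih

theorem map_subgroupConjRight {M : Subgroup G} (y : ↥M) (H : Subgroup ↥M) :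
    (Cfsg.subgroupConjRight y H).map M.subtype = cj (y : G)⁻¹ (H.map M.subtype) := by
  unfold Cfsg.subgroupConjRight cj
  rw [Subgroup.map_map, Subgroup.map_map]
  congr 1

/-- extraction of an ambient chain from chain data in `↥M`. -/
theorem ac_of_data (hf : Cfsg.IsNormalizerFunctor p f) {S₀ M : Subgroup G} (hS₀ : IsSyl p S₀)
    (hS₀M : S₀ ≤ M) (D : Subgroup ↥M) :
    ∀ (n : ℕ) (c : Fin (n + 1) → Sylow p ↥M) (X : Fin n → Subgroup ↥M) (x : Fin n → ↥M),
      (∀ i : Fin n,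
        X i ∈ Cfsg.sylowMembers p
          ((fun X : Subgroup G => X.subgroupOf M) '' Cfsg.functorFamily p f M)
          (c i.castSucc : Subgroup ↥M) ∧
        X i ∈ Cfsg.sylowMembers p
          ((fun X : Subgroup G => X.subgroupOf M) '' Cfsg.functorFamily p f M)
          (c i.succ : Subgroup ↥M) ∧
        x i ∈ X i ∧
        Cfsg.subgroupConjRight (x i) (c i.succ : Subgroup ↥M) = (c i.castSucc : Subgroup ↥M) ∧
        D ≤ (c i.succ : Subgroup ↥M) ⊓ X i) →
      AC p f M (D.map M.subtype) ((c 0 : Subgroup ↥M).map M.subtype)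
        ((c (Fin.last n) : Subgroup ↥M).map M.subtype) := by
  intro n
  induction n with
  | zero =>
    intro c X x _
    exact AC.refl _
  | succ n ih =>
    intro c X x h
    obtain ⟨hm1, hm2, hx, hconj, hD⟩ := h 0
    obtain ⟨F, P₀, hF, hXeq, hle1⟩ := le_of_mem_sylowMembers hf _ (X 0) hm1
    obtain ⟨_, _, _, _, hle2⟩ := le_of_mem_sylowMembers hf _ (X 0) hm2
    have hnorm : ∀ (Q : Subgroup ↥M), Q ≤ X 0 →
        Q.map M.subtype ≤ Subgroup.normalizer (F : Set G) := by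
      rintro Q hQ _ ⟨y, hy, rfl⟩
      have := hQ hy
      rw [hXeq, Subgroup.mem_subgroupOf] at this
      exact this.2
    have hx' : ((x 0 : ↥M) : G) ∈ Subgroup.normalizer (F : Set G) := by
      have := hx
      rw [hXeq, Subgroup.mem_subgroupOf] at this
      exact this.2
    have hlink : Link p f M (D.map M.subtype)
        ((c (0 : Fin (n + 1)).castSucc : Subgroup ↥M).map M.subtype)
        ((c (0 : Fin (n + 1)).succ : Subgroup ↥M).map M.subtype) := by
      refine ⟨isSyl_amb hS₀ hS₀M _, isSyl_amb hS₀ hS₀M _, Subgroup.map_subtype_le _,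
        Subgroup.map_subtype_le _, F, (P₀ : Subgroup ↥M).map M.subtype, ((x 0 : ↥M) : G),
        isSyl_amb hS₀ hS₀M _, Subgroup.map_subtype_le _, hF, hnorm _ hle1, hnorm _ hle2,
        (x 0).2, hx', ?_, Subgroup.map_mono (hD.trans inf_le_left)⟩
      rw [← map_subgroupConjRight, hconj]
    have htail := ih (fun j => c j.succ) (fun i => X i.succ) (fun i => x i.succ)
      (fun i => by
        have := h i.succ
        rw [← Fin.succ_castSucc] at this
        exact this)
    rw [Fin.succ_last] at htail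
    exact AC.step hlink htail

/-- regularity of `M` gives ambient chains. -/
theorem ac_of_regular (hf : Cfsg.IsNormalizerFunctor p f) {S₀ M : Subgroup G} (hS₀ : IsSyl p S₀)
    (hS₀M : S₀ ≤ M) (hr : Cfsg.IsFunctorRegular p f M) {S' T' : Subgroup G} (hS' : IsSyl p S')
    (hT' : IsSyl p T') (hS'M : S' ≤ M) (hT'M : T' ≤ M) (hne : S' ≠ T') (hD : S' ⊓ T' ≠ ⊥) :
    AC p f M (S' ⊓ T') S' T' := by
  obtain ⟨PS, hPS⟩ := exists_sylow hS₀ hS₀M hS' hS'M
  obtain ⟨PT, hPT⟩ := exists_sylow hS₀ hS₀M hT' hT'M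
  have hne' : PS ≠ PT := by
    intro h
    apply hne
    rw [← hPS, ← hPT, h]
  have hmap : ((PS : Subgroup ↥M) ⊓ (PT : Subgroup ↥M)).map M.subtype = S' ⊓ T' := by
    rw [Subgroup.map_inf _ _ _ M.subtype_injective, hPS, hPT]
  have hD' : (PS : Subgroup ↥M) ⊓ (PT : Subgroup ↥M) ≠ ⊥ := by
    intro h
    apply hD
    rw [← hmap, h, Subgroup.map_bot]
  obtain ⟨n, c, X, x, hc0, hcl, hall⟩ := hr PS PT hne' hD'
  have := ac_of_data hf hS₀ hS₀M ((PS : Subgroup ↥M) ⊓ (PT : Subgroup ↥M)) n c X x hall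
  rw [hc0, hcl, hmap, hPS, hPT] at this
  exact this

/-- construction of chain data in `↥⊤` from an ambient chain. -/
theorem data_of_ac (_hf : Cfsg.IsNormalizerFunctor p f) {D A B : Subgroup G}
    (h : AC p f ⊤ D A B) :
    ∀ (S T : Sylow p ↥(⊤ : Subgroup G)),
      (S : Subgroup ↥(⊤ : Subgroup G)).map (⊤ : Subgroup G).subtype = A →
      (T : Subgroup ↥(⊤ : Subgroup G)).map (⊤ : Subgroup G).subtype = B →
      ∃ (n : ℕ) (c : Fin (n + 1) → Sylow p ↥(⊤ : Subgroup G))
        (X : Fin n → Subgroup ↥(⊤ : Subgroup G)) (x : Fin n → ↥(⊤ : Subgroup G)),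
        c 0 = S ∧ c (Fin.last n) = T ∧ ∀ i : Fin n,
          X i ∈ Cfsg.sylowMembers p
            ((fun X : Subgroup G => X.subgroupOf (⊤ : Subgroup G)) ''
              Cfsg.functorFamily p f (⊤ : Subgroup G))
            (c i.castSucc : Subgroup ↥(⊤ : Subgroup G)) ∧
          X i ∈ Cfsg.sylowMembers p
            ((fun X : Subgroup G => X.subgroupOf (⊤ : Subgroup G)) ''
              Cfsg.functorFamily p f (⊤ : Subgroup G))
            (c i.succ : Subgroup ↥(⊤ : Subgroup G)) ∧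
          x i ∈ X i ∧
          Cfsg.subgroupConjRight (x i) (c i.succ : Subgroup ↥(⊤ : Subgroup G)) =
            (c i.castSucc : Subgroup ↥(⊤ : Subgroup G)) ∧
          D.subgroupOf (⊤ : Subgroup G) ≤ (c i.succ : Subgroup ↥(⊤ : Subgroup G)) ⊓ X i := by
  induction h with
  | refl A =>
    intro S T hS hT
    have : S = T := amb_injective (hS.trans hT.symm)
    subst this
    exact ⟨0, fun _ => S, Fin.elim0, Fin.elim0, rfl, rfl, fun i => Fin.elim0 i⟩
  | @step A A' B hl _ ih =>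
    intro S T hS hT
    obtain ⟨h1, h2, _, _, F, P, x, h5, _, h7, h8, h9, _, h11, h12, h13⟩ := hl
    obtain ⟨S'', hS''⟩ := exists_sylow h2 le_top h2 le_top
    obtain ⟨P₀, hP₀⟩ := exists_sylow h2 le_top h5 le_top
    obtain ⟨n, c, X, xs, hc0, hcl, hall⟩ := ih S'' T hS'' hT
    have hF : F ∈ f ((P₀ : Subgroup ↥(⊤ : Subgroup G)).map (⊤ : Subgroup G).subtype) := by
      rw [hP₀]; exact h7
    have hle : ∀ (Q : Subgroup ↥(⊤ : Subgroup G)),
        Q.map (⊤ : Subgroup G).subtype ≤ Subgroup.normalizer (F : Set G) →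
        Q ≤ ((⊤ : Subgroup G) ⊓ Subgroup.normalizer (F : Set G)).subgroupOf (⊤ : Subgroup G) := by
      intro Q hQ y hy
      rw [Subgroup.mem_subgroupOf]
      exact ⟨Subgroup.mem_top _, hQ ⟨y, hy, rfl⟩⟩
    have hleS : (S : Subgroup ↥(⊤ : Subgroup G)) ≤
        ((⊤ : Subgroup G) ⊓ Subgroup.normalizer (F : Set G)).subgroupOf (⊤ : Subgroup G) :=
      hle _ (by rw [hS]; exact h8)
    have hleS'' : (S'' : Subgroup ↥(⊤ : Subgroup G)) ≤
        ((⊤ : Subgroup G) ⊓ Subgroup.normalizer (F : Set G)).subgroupOf (⊤ : Subgroup G) :=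
      hle _ (by rw [hS'']; exact h9)
    refine ⟨n + 1, Fin.cons S c,
      Fin.cons (((⊤ : Subgroup G) ⊓ Subgroup.normalizer (F : Set G)).subgroupOf (⊤ : Subgroup G)) X,
      Fin.cons ⟨x, Subgroup.mem_top x⟩ xs, rfl, ?_, ?_⟩
    · rw [← Fin.succ_last, Fin.cons_succ]; exact hcl
    · intro i
      refine Fin.cases ?_ ?_ i
      · rw [Fin.castSucc_zero, Fin.cons_zero, Fin.cons_zero, Fin.cons_zero, Fin.cons_succ, hc0]
        refine ⟨mem_sylowMembers_of_le S P₀ F hF hleS, mem_sylowMembers_of_le S'' P₀ F hF hleS'',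
          ?_, ?_, ?_⟩
        · rw [Subgroup.mem_subgroupOf]
          exact ⟨Subgroup.mem_top _, h11⟩
        · apply Subgroup.map_injective (⊤ : Subgroup G).subtype_injective
          rw [map_subgroupConjRight, hS'', hS]
          exact h12
        · intro y hy
          rw [Subgroup.mem_subgroupOf] at hy
          refine ⟨?_, hleS'' ?_⟩
          · have : (y : G) ∈ (S'' : Subgroup ↥(⊤ : Subgroup G)).map (⊤ : Subgroup G).subtype := by
              rw [hS'']; exact h13 hy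
            obtain ⟨y', hy', hyy'⟩ := this
            have : y' = y := Subtype.ext hyy'
            rw [← this]; exact hy'
          · have : (y : G) ∈ (S'' : Subgroup ↥(⊤ : Subgroup G)).map (⊤ : Subgroup G).subtype := by
              rw [hS'']; exact h13 hy
            obtain ⟨y', hy', hyy'⟩ := this
            have : y' = y := Subtype.ext hyy'
            rw [← this]; exact hy'
      · intro j
        rw [← Fin.succ_castSucc, Fin.cons_succ, Fin.cons_succ, Fin.cons_succ, Fin.cons_succ]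
        exact hall j

theorem cj_le_of_mem {M R : Subgroup G} {g : G} (hg : g ∈ M) (hR : R ≤ M) : cj g R ≤ M := by
  rintro _ ⟨r, hr, rfl⟩
  exact M.mul_mem (M.mul_mem hg (hR hr)) (M.inv_mem hg)

/-- the key chain: `G = G₁ G₂`, both regular and containing a full Sylow subgroup. -/
theorem main_ac (hf : Cfsg.IsNormalizerFunctor p f) {S : Subgroup G} (hS : IsSyl p S)
    {G₁ G₂ : Subgroup G} (h₁ : S ≤ G₁) (h₂ : S ≤ G₂)
    (hprod : ∀ g : G, ∃ g₁ ∈ G₁, ∃ g₂ ∈ G₂, g = g₁ * g₂)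
    (hr₁ : Cfsg.IsFunctorRegular p f G₁) (hr₂ : Cfsg.IsFunctorRegular p f G₂)
    {A B : Subgroup G} (hA : IsSyl p A) (hB : IsSyl p B) (hD : A ⊓ B ≠ ⊥) :
    AC p f ⊤ (A ⊓ B) A B := by
  obtain ⟨a, ha⟩ := hS.exists_cj hA
  obtain ⟨b, hb⟩ := hS.exists_cj hB
  obtain ⟨g₁, hg₁, g₂, hg₂, hg⟩ := hprod (b⁻¹ * a)
  obtain ⟨w, hw⟩ : ∃ w, w = g₂ * a⁻¹ := ⟨_, rfl⟩
  have hwa : w * a = g₂ := by rw [hw]; group
  have hwb : w * b = g₁⁻¹ := by
    have : b = a * g₂⁻¹ * g₁⁻¹ := by
      have : a = b * (g₁ * g₂) := by rw [← hg]; group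
      rw [this]; group
    rw [hw, this]; group
  have hA'' : cj w A = cj g₂ S := by rw [ha, cj_cj, hwa]
  have hB'' : cj w B = cj g₁⁻¹ S := by rw [hb, cj_cj, hwb]
  have hA''G : cj w A ≤ G₂ := by rw [hA'']; exact cj_le_of_mem hg₂ h₂
  have hB''G : cj w B ≤ G₁ := by rw [hB'']; exact cj_le_of_mem (G₁.inv_mem hg₁) h₁
  have hsylA : IsSyl p (cj w A) := hA.conj w
  have hsylB : IsSyl p (cj w B) := hB.conj w
  have hD'' : cj w (A ⊓ B) = cj w A ⊓ cj w B := cj_inf w A B
  have hD''ne : cj w A ⊓ cj w B ≠ ⊥ := by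
    rw [← hD'']
    intro h
    apply hD
    exact (Subgroup.map_eq_bot_iff_of_injective _ (MulAut.conj w).injective).mp h
  -- a full Sylow subgroup inside `G₁ ⊓ G₂` containing `D''`
  have hSH : S ≤ G₁ ⊓ G₂ := le_inf h₁ h₂
  have hDH : cj w A ⊓ cj w B ≤ G₁ ⊓ G₂ := le_inf (inf_le_right.trans hB''G) (inf_le_left.trans hA''G)
  have hDp : IsPGroup p ↥((cj w A ⊓ cj w B).subgroupOf (G₁ ⊓ G₂)) := by
    have h1 : IsPGroup p ↥(cj w A ⊓ cj w B) := hsylA.isPGroup.to_le inf_le_left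
    exact h1.comap_subtype
  obtain ⟨Q, hQ⟩ := hDp.exists_le_sylow
  obtain ⟨R, hRdef⟩ : ∃ R, R = (Q : Subgroup ↥(G₁ ⊓ G₂)).map (G₁ ⊓ G₂).subtype := ⟨_, rfl⟩
  have hRsyl : IsSyl p R := by rw [hRdef]; exact isSyl_amb hS hSH Q
  have hRH : R ≤ G₁ ⊓ G₂ := by rw [hRdef]; exact Subgroup.map_subtype_le _
  have hDR : cj w A ⊓ cj w B ≤ R := by
    intro d hd
    rw [hRdef]
    exact ⟨⟨d, hDH hd⟩, hQ (Subgroup.mem_subgroupOf.mpr hd), rfl⟩
  -- chain in `G₂`
  have hAC2 : AC p f ⊤ (cj w A ⊓ cj w B) (cj w A) R := by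
    by_cases heq : cj w A = R
    · rw [← heq]; exact AC.refl _
    · have hne : cj w A ⊓ R ≠ ⊥ := by
        intro h
        apply hD''ne
        exact le_bot_iff.mp (h ▸ le_inf inf_le_left hDR)
      have := ac_of_regular hf hS h₂ hr₂ hsylA hRsyl hA''G (hRH.trans inf_le_right) heq hne
      exact this.mono le_top (le_inf inf_le_left hDR)
  have hAC1 : AC p f ⊤ (cj w A ⊓ cj w B) R (cj w B) := by
    by_cases heq : R = cj w B
    · rw [← heq]; exact AC.refl _
    · have hne : R ⊓ cj w B ≠ ⊥ := by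
        intro h
        apply hD''ne
        exact le_bot_iff.mp (h ▸ le_inf hDR inf_le_right)
      have := ac_of_regular hf hS h₁ hr₁ hRsyl hsylB (hRH.trans inf_le_left) hB''G heq hne
      exact this.mono le_top (le_inf hDR inf_le_right)
  have hAC := (hAC2.trans hAC1).conj hf w⁻¹
  rw [← hD'', cj_inv_cj, cj_inv_cj, cj_inv_cj] at hAC
  exact hAC

end

end Cfsg.Agent.Lib.H22.FunctorRegular
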