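/-
S5663 project (Aschbacher, unitary case), UM4 sub-farm (lead), task UM4-E: any two non-degenerate unitary
forms on `F^d` (`|F| = q²`) are isometric.  (helper22)
Also: basic calculus of `IsUnitaryFormPow` forms (additivity / semilinearity in the second variable, expansion
in a basis, orthonormal bases via S0755).
-/
import Cfsg.Agent.Lib.Lead.AschUDefs
import Cfsg.Agent.Lib.H4.Herm
import Cfsg.Agent.Lib.H25.AschUT5e
import Cfsg.Agent.Lib.H28.GLBasic
import Cfsg.Agent.S0755

set_option autoImplicit false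

namespace Cfsg.Agent.Lib.H22.Asch

open Cfsg Cfsg.Geo Cfsg.Agent.Lib.Lead.Asch Cfsg.Agent.Lib.H28
open scoped MatrixGroups Matrix Kronecker

variable {F : Type*} [Field F] {q d : ℕ}

section calculus

variable (φ : F →+* F) (hφ : ∀ x, φ x = x ^ q) {f : (Fin d → F) → (Fin d → F) → F}
  (h : IsUnitaryFormPow q f)

include hφ h

theorem ufp_add_right (v x y : Fin d → F) : f v (x + y) = f v x + f v y := by
  rw [h.herm v (x + y), h.add_left, ← hφ, map_add, hφ, hφ, ← h.herm, ← h.herm]

theorem ufp_smul_right (c : F) (v x : Fin d → F) : f v (c • x) = φ c * f v x := by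
  rw [h.herm v (c • x), h.smul_left, mul_pow, ← h.herm, hφ]

omit hφ in
theorem ufp_zero_left (v : Fin d → F) : f 0 v = 0 := by
  have := h.smul_left 0 0 v
  rwa [zero_smul, zero_mul] at this

theorem ufp_zero_right (v : Fin d → F) : f v 0 = 0 := by
  have := ufp_smul_right φ hφ h 0 v 0
  rwa [zero_smul, map_zero, zero_mul] at this

/-- The form as a map linear in the first and `φ`-semilinear in the second variable. -/
noncomputable def ufpSesq : (Fin d → F) →ₗ[F] (Fin d → F) →ₛₗ[φ] F :=
  LinearMap.mk₂'ₛₗ (RingHom.id F) φ f h.add_left (fun c x v => by rw [h.smul_left]; rfl)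
    (ufp_add_right φ hφ h) (fun c v x => by rw [ufp_smul_right φ hφ h]; rfl)

theorem ufpSesq_apply (x y : Fin d → F) : ufpSesq φ hφ h x y = f x y := rfl

/-- Expansion of the form in a basis. -/
theorem ufp_expand (b : Module.Basis (Fin d) F (Fin d → F)) (u v : Fin d → F) :
    f u v = ∑ i, ∑ j, b.repr u i * f (b i) (b j) * φ (b.repr v j) := by
  have hu : u = ∑ i, b.repr u i • b i := (b.sum_repr u).symm
  have hv : v = ∑ j, b.repr v j • b j := (b.sum_repr v).symm
  have h1 : ∀ w : Fin d → F, f u w = ∑ i, b.repr u i * f (b i) w := by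
    intro w
    calc f u w = ufpSesq φ hφ h (∑ i, b.repr u i • b i) w := by rw [ufpSesq_apply, ← hu]
      _ = ∑ i, b.repr u i * f (b i) w := by
        rw [map_sum, LinearMap.sum_apply]
        refine Finset.sum_congr rfl fun i _ => ?_
        rw [map_smul, LinearMap.smul_apply, ufpSesq_apply, smul_eq_mul]
  have h2 : ∀ w : Fin d → F, f w v = ∑ j, φ (b.repr v j) * f w (b j) := by
    intro w
    calc f w v = ufpSesq φ hφ h w (∑ j, b.repr v j • b j) := by rw [ufpSesq_apply, ← hv]
      _ = ∑ j, φ (b.repr v j) * f w (b j) := by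
        rw [map_sum]
        refine Finset.sum_congr rfl fun j _ => ?_
        rw [map_smulₛₗ, ufpSesq_apply, smul_eq_mul]
  rw [h1 v]
  refine Finset.sum_congr rfl fun i _ => ?_
  rw [h2 (b i), Finset.mul_sum]
  refine Finset.sum_congr rfl fun j _ => ?_
  ring

/-- Expansion in the standard basis: the form is the form of its Gram matrix. -/
theorem ufp_formOfGram (u v : Fin d → F) : f u v = formOfGram φ (gramMatrix f) u v := by
  rw [ufp_expand φ hφ h (Pi.basisFun F (Fin d)) u v]
  unfold formOfGram gramMatrix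
  refine Finset.sum_congr rfl fun i _ => Finset.sum_congr rfl fun j _ => ?_
  simp [Pi.basisFun_repr, Pi.basisFun_apply]

/-- bilinear expansion of a combination of two vectors on each side -/
theorem ufp_lin2 (a b c e : F) (x y z t : Fin d → F) :
    f (a • x + b • y) (c • z + e • t) =
      a * φ c * f x z + a * φ e * f x t + b * φ c * f y z + b * φ e * f y t := by
  rw [h.add_left, ufp_add_right φ hφ h, ufp_add_right φ hφ h, ufp_smul_right φ hφ h,
    ufp_smul_right φ hφ h, ufp_smul_right φ hφ h, ufp_smul_right φ hφ h, h.smul_left, h.smul_left,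
    h.smul_left, h.smul_left]
  ring

end calculus

variable [Fintype F]

/-- A non-degenerate unitary form has an orthonormal basis (from S0755). -/
theorem exists_onb (hF : Fintype.card F = q ^ 2) (φ : F →+* F) (hφ : ∀ x, φ x = x ^ q)
    (hφ2 : ∀ x, φ (φ x) = x) (f : (Fin d → F) → (Fin d → F) → F) (h : IsUnitaryFormPow q f) :
    ∃ b : Module.Basis (Fin d) F (Fin d → F), ∀ i j, f (b i) (b j) = if i = j then 1 else 0 := by
  classical
  have hφne : φ ≠ RingHom.id F := by
    obtain ⟨x, hx⟩ := Cfsg.Agent.Lib.H25.Asch.exists_pow_ne hF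
    intro hid
    apply hx
    rw [← hφ, hid]
    rfl
  set B : (Fin d → F) →ₛₗ[φ] (Fin d → F) →ₗ[F] F :=
    LinearMap.mk₂'ₛₗ φ (RingHom.id F) (fun u v => f v u)
      (fun m₁ m₂ n => ufp_add_right φ hφ h n m₁ m₂)
      (fun c m n => by rw [ufp_smul_right φ hφ h]; rfl)
      (fun m n₁ n₂ => h.add_left n₁ n₂ m)
      (fun c m n => by rw [h.smul_left]; rfl) with hB
  have hBf : ∀ u v, B u v = f v u := fun u v => rfl
  have hS : B.IsSymm := by
    refine ⟨fun x y => ?_⟩
    rw [hBf, hBf, hφ, ← h.herm]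
  have hnd : B.Nondegenerate := by
    constructor
    · intro x hx
      by_contra hx0
      obtain ⟨y, hy⟩ := (h.nondegenerate x hx0).1
      exact hy (hx y)
    · intro y hy
      by_contra hy0
      obtain ⟨x, hx⟩ := (h.nondegenerate y hy0).2
      exact hx (hy x)
  obtain ⟨b, hb⟩ := Cfsg.Agent.S0755.result φ hφne hφ2 B hS hnd
  have hfin : Module.finrank F (Fin d → F) = d := Module.finrank_fin_fun F
  refine ⟨b.reindex (finCongr hfin), fun i j => ?_⟩
  rw [Module.Basis.reindex_apply, Module.Basis.reindex_apply, ← hBf, hb]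
  by_cases hij : i = j
  · subst hij; simp
  · rw [if_neg hij, if_neg]
    intro h2
    exact hij ((finCongr hfin).symm.injective h2).symm

omit [Fintype F] in
/-- With an orthonormal basis the form is the standard one in coordinates. -/
theorem ufp_onb (φ : F →+* F) (hφ : ∀ x, φ x = x ^ q) {f : (Fin d → F) → (Fin d → F) → F}
    (h : IsUnitaryFormPow q f) (b : Module.Basis (Fin d) F (Fin d → F))
    (hb : ∀ i j, f (b i) (b j) = if i = j then 1 else 0) (u v : Fin d → F) :
    f u v = ∑ i, b.repr u i * φ (b.repr v i) := by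
  classical
  rw [ufp_expand φ hφ h b u v]
  refine Finset.sum_congr rfl fun i _ => ?_
  rw [Finset.sum_eq_single i]
  · rw [hb, if_pos rfl, mul_one]
  · intro j _ hji
    rw [hb, if_neg (Ne.symm hji), mul_zero, zero_mul]
  · intro hi; exact absurd (Finset.mem_univ i) hi

/-- **UM4-E**. -/
theorem exists_isometry_unitary (hF : Fintype.card F = q ^ 2) {d : ℕ}
    (f₁ f₂ : (Fin d → F) → (Fin d → F) → F) (h₁ : IsUnitaryFormPow q f₁) (h₂ : IsUnitaryFormPow q f₂) :
    ∃ T : GL (Fin d) F, ∀ u v : Fin d → F,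
      f₂ ((T : Matrix (Fin d) (Fin d) F) *ᵥ u) ((T : Matrix (Fin d) (Fin d) F) *ᵥ v) = f₁ u v := by
  classical
  obtain ⟨φ, hφ, hφ2⟩ := Cfsg.Agent.Lib.H4.exists_frob hF
  obtain ⟨b₁, hb₁⟩ := exists_onb hF φ hφ hφ2 f₁ h₁
  obtain ⟨b₂, hb₂⟩ := exists_onb hF φ hφ hφ2 f₂ h₂
  set E : (Fin d → F) ≃ₗ[F] (Fin d → F) := b₁.equivFun.trans b₂.equivFun.symm with hE
  refine ⟨glOfEquiv E, fun u v => ?_⟩
  rw [glOfEquiv_mulVec, glOfEquiv_mulVec, ufp_onb φ hφ h₂ b₂ hb₂, ufp_onb φ hφ h₁ b₁ hb₁]
  have hrepr : ∀ (w : Fin d → F) (i : Fin d), b₂.repr (E w) i = b₁.repr w i := by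
    intro w i
    rw [hE, LinearEquiv.trans_apply, ← Module.Basis.equivFun_apply, LinearEquiv.apply_symm_apply,
      Module.Basis.equivFun_apply]
  refine Finset.sum_congr rfl fun i _ => ?_
  rw [hrepr, hrepr]

end Cfsg.Agent.Lib.H22.Asch
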