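/-
S5663 project (Aschbacher, unitary case), UM4 sub-farm (lead), task UM4-22, part a (helper22):
hyperbolic bases of 2-dimensional unitary forms, similitudes of `ζ J` are scalar multiples of matrices over
the fixed field, membership in a subfield group.
-/
import Cfsg.Agent.Lib.H22.AschUM4E
import Cfsg.Agent.Lib.H20.AschTensorTools
import Cfsg.Agent.Lib.H25.AschUT5c

set_option autoImplicit false

namespace Cfsg.Agent.Lib.H22.Asch

open Cfsg Cfsg.Geo Cfsg.Agent.Lib.Lead.Asch Cfsg.Agent.Lib.H28 Cfsg.Agent.Lib.H20.Asch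
  Cfsg.Agent.Lib.H6.Asch Cfsg.Agent.Lib.H17.Asch Cfsg.Agent.Lib.H25.Asch
open scoped MatrixGroups Matrix Kronecker

variable {F : Type*} [Field F] {q : ℕ}

/-- The standard alternating `2 × 2` matrix. -/
def J2 : Matrix (Fin 2) (Fin 2) F := !![0, 1; -1, 0]

theorem formOf_smul_J2 (φ : F →+* F) (ζ : F) (x y : Fin 2 → F) :
    formOf φ (ζ • (J2 : Matrix (Fin 2) (Fin 2) F)) x y = ζ * (x 0 * φ (y 1) - x 1 * φ (y 0)) := by
  unfold formOf
  simp only [dotProduct, Matrix.mulVec, Fin.sum_univ_two, J2, Matrix.smul_apply, Matrix.of_apply,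
    Matrix.cons_val', Matrix.cons_val_zero, Matrix.cons_val_one, Matrix.cons_val_fin_one, smul_eq_mul]
  ring

theorem formOf_smul (φ : F →+* F) {ι : Type} [Fintype ι] (c : F) (B : Matrix ι ι F) (u v : ι → F) :
    formOf φ (c • B) u v = c * formOf φ B u v := by
  unfold formOf
  rw [Matrix.smul_mulVec, dotProduct_smul, smul_eq_mul]

/-- Kronecker algebra: congruence of a Kronecker product by a Kronecker product. -/
theorem kron_congr (φ : F →+* F) {d k : ℕ} (A B X : Matrix (Fin d) (Fin d) F)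
    (A' B' X' : Matrix (Fin k) (Fin k) F) :
    (A ⊗ₖ A')ᵀ * (X ⊗ₖ X') * (B ⊗ₖ B').map φ = (Aᵀ * X * B.map φ) ⊗ₖ (A'ᵀ * X' * B'.map φ) := by
  have h1 : (A ⊗ₖ A')ᵀ = Aᵀ ⊗ₖ A'ᵀ := Matrix.kroneckerMap_transpose _ A A'
  have h2 : (B ⊗ₖ B').map φ = B.map φ ⊗ₖ B'.map φ := by
    ext ⟨i, j⟩ ⟨i', j'⟩
    simp [Matrix.kroneckerMap_apply]
  rw [h1, h2, ← Matrix.mul_kronecker_mul, ← Matrix.mul_kronecker_mul]

section hyp

variable [Fintype F]

/-- A 2-dimensional non-degenerate unitary form has a basis with Gram matrix `ζ J`, for any given `ζ ≠ 0` of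
trace zero. -/
theorem exists_hyp (hF : Fintype.card F = q ^ 2) (φ : F →+* F) (hφ : ∀ x, φ x = x ^ q)
    (hφ2 : ∀ x, φ (φ x) = x) (f : (Fin 2 → F) → (Fin 2 → F) → F) (h : IsUnitaryFormPow q f)
    (ζ : F) (hζ : φ ζ = -ζ) (hζ0 : ζ ≠ 0) :
    ∃ T : GL (Fin 2) F, (T : Matrix (Fin 2) (Fin 2) F)ᵀ * gramMatrix f *
      (T : Matrix (Fin 2) (Fin 2) F).map φ = ζ • (J2 : Matrix (Fin 2) (Fin 2) F) := by
  classical
  obtain ⟨b, hb⟩ := exists_onb hF φ hφ hφ2 f h
  obtain ⟨t, ht⟩ := exists_pow_ne hF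
  have hd : t - φ t ≠ 0 := by
    intro h0
    apply ht
    rw [← hφ]
    exact (sub_eq_zero.mp h0).symm
  obtain ⟨ω, -, hω⟩ := exists_norm_eq hF (-1 : F) (neg_ne_zero.mpr one_ne_zero)
    (by rw [← hφ, map_neg, map_one])
  rw [← hφ] at hω
  set r : F := -t / (t - φ t) with hr
  have hφr : φ r = φ t / (t - φ t) := by
    rw [hr, map_div₀, map_neg, map_sub, hφ2]
    rw [neg_div, ← div_neg, neg_sub]
  have hrr : r + φ r + 1 = 0 := by
    rw [hφr, hr]
    field_simp
    ring
  have h00 : f (b 0) (b 0) = 1 := by rw [hb]; simp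
  have h11 : f (b 1) (b 1) = 1 := by rw [hb]; simp
  have h01 : f (b 0) (b 1) = 0 := by rw [hb]; simp
  have h10 : f (b 1) (b 0) = 0 := by rw [hb]; simp
  set u : Fin 2 → F := (1 : F) • b 0 + ω • b 1 with hu
  have huu : f u u = 0 := by
    rw [hu, ufp_lin2 φ hφ h, h00, h01, h10, h11, map_one]
    linear_combination hω
  have hub : f u ((1 : F) • b 0 + (0 : F) • b 0) = 1 := by
    rw [hu, ufp_lin2 φ hφ h, h00, h10, map_one, map_zero]
    ring
  have hbu : f ((1 : F) • b 0 + (0 : F) • b 0) u = 1 := by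
    rw [hu, ufp_lin2 φ hφ h, h00, h01, map_one]
    ring
  have hb0 : (1 : F) • b 0 + (0 : F) • b 0 = b 0 := by rw [one_smul, zero_smul, add_zero]
  rw [hb0] at hub hbu
  set v : Fin 2 → F := r • u + (1 : F) • b 0 with hv
  have hvv : f v v = 0 := by
    rw [hv, ufp_lin2 φ hφ h, huu, hub, hbu, h00, map_one]
    linear_combination hrr
  have hlinL : ∀ (a c : F) (x y z : Fin 2 → F), f (a • x + c • y) z = a * f x z + c * f y z := by
    intro a c x y z
    rw [h.add_left, h.smul_left, h.smul_left]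
  have hlinR : ∀ (a c : F) (x y z : Fin 2 → F),
      f z (a • x + c • y) = φ a * f z x + φ c * f z y := by
    intro a c x y z
    rw [ufp_add_right φ hφ h, ufp_smul_right φ hφ h, ufp_smul_right φ hφ h]
  have huv : f u v = 1 := by
    rw [hv, hlinR, huu, hub, map_one]
    ring
  have hvu : f v u = 1 := by
    rw [hv, hlinL, huu, hbu]
    ring
  set w : Fin 2 → F := (-ζ) • v with hw
  have hww : f w w = 0 := by
    rw [hw, h.smul_left, ufp_smul_right φ hφ h, hvv]
    ring
  have huw : f u w = ζ := by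
    rw [hw, ufp_smul_right φ hφ h, huv, map_neg, hζ]
    ring
  have hwu : f w u = -ζ := by
    rw [hw, h.smul_left, hvu]
    ring
  -- the linear map
  set Tl : (Fin 2 → F) →ₗ[F] (Fin 2 → F) :=
    (LinearMap.proj 0 : (Fin 2 → F) →ₗ[F] F).smulRight u +
      (LinearMap.proj 1 : (Fin 2 → F) →ₗ[F] F).smulRight w with hTl
  have hTlapp : ∀ x, Tl x = x 0 • u + x 1 • w := by
    intro x
    rw [hTl, LinearMap.add_apply, LinearMap.smulRight_apply, LinearMap.smulRight_apply,
      LinearMap.proj_apply, LinearMap.proj_apply]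
  have hform : ∀ x y, f (Tl x) (Tl y) = ζ * (x 0 * φ (y 1) - x 1 * φ (y 0)) := by
    intro x y
    rw [hTlapp, hTlapp, ufp_lin2 φ hφ h, huu, huw, hwu, hww]
    ring
  have hinj : Function.Injective Tl := by
    rw [injective_iff_map_eq_zero]
    intro x hx
    have e1 := hform x (Pi.single 1 1)
    have e0 := hform x (Pi.single 0 1)
    rw [hx, ufp_zero_left h] at e1 e0
    simp only [Pi.single_eq_same, Pi.single_eq_of_ne (show (0 : Fin 2) ≠ 1 by decide),
      Pi.single_eq_of_ne (show (1 : Fin 2) ≠ 0 by decide), map_one, map_zero, mul_one, mul_zero,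
      sub_zero, zero_sub] at e1 e0
    funext i
    fin_cases i
    · rcases mul_eq_zero.mp e1.symm with h3 | h3
      · exact absurd h3 hζ0
      · exact h3
    · rcases mul_eq_zero.mp e0.symm with h3 | h3
      · exact absurd h3 hζ0
      · exact neg_eq_zero.mp h3
  set E : (Fin 2 → F) ≃ₗ[F] (Fin 2 → F) := LinearEquiv.ofInjectiveEndo Tl hinj with hE
  have hEapp : ∀ x, E x = Tl x := fun x => by rw [hE, LinearEquiv.coe_ofInjectiveEndo]
  refine ⟨glOfEquiv E, ?_⟩
  apply congr_of_isometry φ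
  intro x y
  rw [glOfEquiv_mulVec, glOfEquiv_mulVec, hEapp, hEapp, formOf_smul_J2,
    ← formOfGram_eq_formOf, ← ufp_formOfGram φ hφ h, hform]

end hyp

/-- A similitude of the form `x₀ φ(y₁) - x₁ φ(y₀)` is a scalar multiple of a matrix over the fixed field of `φ`. -/
theorem smul_mem_of_similitude (φ : F →+* F) (F₀ : Subfield F) (hF₀ : ∀ x, x ∈ F₀ ↔ φ x = x)
    (a : Matrix (Fin 2) (Fin 2) F) (hdet : a.det ≠ 0) (lam : F)
    (h00 : a 0 0 * φ (a 1 0) - a 1 0 * φ (a 0 0) = 0)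
    (h01 : a 0 0 * φ (a 1 1) - a 1 0 * φ (a 0 1) = lam)
    (h10 : a 0 1 * φ (a 1 0) - a 1 1 * φ (a 0 0) = -lam)
    (h11 : a 0 1 * φ (a 1 1) - a 1 1 * φ (a 0 1) = 0) :
    ∃ μ : F, μ ≠ 0 ∧ ∀ i j, μ * a i j ∈ F₀ := by
  set D : F := a 0 0 * a 1 1 - a 0 1 * a 1 0 with hD
  have hD0 : D ≠ 0 := by rwa [Matrix.det_fin_two] at hdet
  have k00 : D * φ (a 0 0) = lam * a 0 0 := by
    rw [hD]; linear_combination (-(a 0 0)) * h10 + (a 0 1) * h00
  have k10 : D * φ (a 1 0) = lam * a 1 0 := by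
    rw [hD]; linear_combination (a 1 1) * h00 - (a 1 0) * h10
  have k01 : D * φ (a 0 1) = lam * a 0 1 := by
    rw [hD]; linear_combination (-(a 0 0)) * h11 + (a 0 1) * h01
  have k11 : D * φ (a 1 1) = lam * a 1 1 := by
    rw [hD]; linear_combination (a 1 1) * h01 - (a 1 0) * h11
  have kall : ∀ i j, D * φ (a i j) = lam * a i j := by
    intro i j
    fin_cases i <;> fin_cases j
    · exact k00
    · exact k01
    · exact k10
    · exact k11
  -- a non-zero entry
  obtain ⟨i₀, j₀, hne⟩ : ∃ i j, a i j ≠ 0 := by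
    by_contra hcon
    push Not at hcon
    apply hD0
    rw [hD, hcon 0 0, hcon 0 1]
    ring
  refine ⟨(a i₀ j₀)⁻¹, inv_ne_zero hne, fun i j => ?_⟩
  rw [hF₀, map_mul, map_inv₀]
  have hφne : φ (a i₀ j₀) ≠ 0 := (map_ne_zero φ).mpr hne
  have hcross : φ (a i j) * a i₀ j₀ = a i j * φ (a i₀ j₀) := by
    have h1 := kall i j
    have h2 := kall i₀ j₀
    have : D * (φ (a i j) * a i₀ j₀ - a i j * φ (a i₀ j₀)) = 0 := by
      linear_combination (a i₀ j₀) * h1 - (a i j) * h2
    rcases mul_eq_zero.mp this with h3 | h3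
    · exact absurd h3 hD0
    · exact sub_eq_zero.mp h3
  field_simp
  linear_combination hcross

/-- Membership in a subfield group from a rational multiple of the conjugated matrix. -/
theorem mem_subfieldSubgroup_of_smul {n : ℕ} (F₀ : Subfield F) (B h : GL (Fin n) F) (k : F)
    (hk : k ≠ 0)
    (hrat : ∀ i j, k * ((B * h * B⁻¹ : GL (Fin n) F) : Matrix (Fin n) (Fin n) F) i j ∈ F₀) :
    h ∈ subfieldSubgroup F₀ B⁻¹ := by
  classical
  set C : Matrix (Fin n) (Fin n) F := ((B * h * B⁻¹ : GL (Fin n) F) : Matrix (Fin n) (Fin n) F)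
    with hC
  set T0 : Matrix (Fin n) (Fin n) F₀ := Matrix.of fun i j => ⟨k * C i j, hrat i j⟩ with hT0def
  have hT0 : T0.map F₀.subtype = k • C := by
    ext i j
    simp [hT0def]
  have hdet : T0.det ≠ 0 := by
    intro h0
    have h1 : (T0.map F₀.subtype).det = 0 := by
      have h5 := (RingHom.map_det F₀.subtype T0).symm
      rw [h0, map_zero] at h5
      exact h5
    rw [hT0, Matrix.det_smul] at h1
    have h2 : C.det ≠ 0 := Matrix.GeneralLinearGroup.det_ne_zero (B * h * B⁻¹)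
    rcases mul_eq_zero.mp h1 with h3 | h3
    · exact pow_ne_zero _ hk h3
    · exact h2 h3
  let g₀ : GL (Fin n) F₀ := Matrix.GeneralLinearGroup.mkOfDetNeZero T0 hdet
  let sc : GL (Fin n) F :=
    Units.map (Matrix.scalar (Fin n) : F →+* Matrix (Fin n) (Fin n) F).toMonoidHom
      (Units.mk0 k⁻¹ (inv_ne_zero hk))
  have hsc : sc ∈ scalars (Fin n) F := ⟨_, rfl⟩
  have hg : Matrix.GeneralLinearGroup.map F₀.subtype g₀ * sc = B * h * B⁻¹ := by
    apply Units.ext
    rw [Units.val_mul]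
    change T0.map F₀.subtype * Matrix.scalar (Fin n) k⁻¹ = C
    rw [hT0, Matrix.scalar_apply, ← Matrix.smul_one_eq_diagonal, Matrix.mul_smul, Matrix.mul_one,
      smul_smul, inv_mul_cancel₀ hk, one_smul]
  unfold subfieldSubgroup
  rw [Subgroup.mem_map]
  refine ⟨B * h * B⁻¹, ?_, ?_⟩
  · rw [← hg]
    exact Subgroup.mul_mem_sup (MonoidHom.mem_range.mpr ⟨g₀, rfl⟩) hsc
  · simp only [MulEquiv.coe_toMonoidHom, MulAut.conj_apply]
    group

/-- A symmetric matrix with zero diagonal gives an alternating form in characteristic two. -/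
theorem sum_symm_zero_diag {ι : Type*} [Fintype ι] [DecidableEq ι] (h2 : (2 : F) = 0)
    (G : ι → ι → F) (hs : ∀ i j, G i j = G j i) (hd : ∀ i, G i i = 0) (u : ι → F) :
    ∑ i, ∑ j, u i * G i j * u j = 0 := by
  rw [← Finset.sum_product']
  refine Finset.sum_involution (fun p _ => p.swap) ?_ ?_ ?_ ?_
  · intro p _
    simp only [Prod.fst_swap, Prod.snd_swap]
    rw [hs p.2 p.1]
    linear_combination (u p.1 * G p.1 p.2 * u p.2) * h2
  · intro p _ hne hsw
    apply hne
    have h1 : p.2 = p.1 := by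
      have := congrArg Prod.fst hsw
      simpa using this
    rw [h1, hd]
    ring
  · intro p _
    simp
  · intro p _
    exact Prod.swap_swap p

end Cfsg.Agent.Lib.H22.Asch
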