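import Mathlib
import Cfsg.Agent.Lib.H1.JordanC

/-!
# S4484 part (X), piece (KI): the key inequality of Blichfeldt's 60-degree theorem (helper22)

`T` an isometry of a finite-dimensional complex inner product space, `ε` a unit complex number such that every
eigenvalue `δ` of `T` has `Re (conj ε * δ) ≥ 1/2`, `F = ker (T - ε)`, `P` the orthogonal projection onto `F`.
Then `Re (conj ε * ⟪w, T w⟫) ≥ (‖w‖² + ‖P w‖²) / 2` for every `w`; for a unit vector `w` with `‖P w‖ < 1`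
this gives `‖P w‖ < ‖⟪w, T w⟫‖`.
-/

set_option autoImplicit false

namespace Cfsg.Agent.Lib.H22.B60

open Cfsg.Agent.Lib.H1.Jordan
open scoped ComplexConjugate

variable {E : Type*} [NormedAddCommGroup E] [InnerProductSpace ℂ E]

/-- expansion of `⟪w, T w⟫` in an orthonormal eigenbasis -/
theorem inner_apply_eq_sum {n : ℕ} (T : E ≃ₗᵢ[ℂ] E) (b : OrthonormalBasis (Fin n) ℂ E) (a : Fin n → ℂ)
    (ha : ∀ k, T (b k) = a k • b k) (w : E) :
    inner ℂ w (T w) = ∑ k, a k * ((‖inner ℂ (b k) w‖ ^ 2 : ℝ) : ℂ) := by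
  rw [← b.sum_inner_mul_inner w (T w)]
  refine Finset.sum_congr rfl fun k _ => ?_
  rw [inner_eig ha k w, ← inner_conj_symm w (b k)]
  have h : conj (inner ℂ (b k) w) * inner ℂ (b k) w = ((‖inner ℂ (b k) w‖ ^ 2 : ℝ) : ℂ) := by
    rw [Complex.conj_mul']
    push_cast
    rfl
  rw [← h]
  ring

/-- the coordinates of the projection onto the `ε`-eigenspace -/
theorem inner_proj_eq {n : ℕ} (T : E ≃ₗᵢ[ℂ] E) (b : OrthonormalBasis (Fin n) ℂ E) (a : Fin n → ℂ)
    (ha : ∀ k, T (b k) = a k • b k) (ε : ℂ) (F : Submodule ℂ E) [F.HasOrthogonalProjection]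
    (hF : ∀ v, v ∈ F ↔ T v = ε • v) (w : E) (k : Fin n) :
    inner ℂ (b k) (F.starProjection w) = if a k = ε then inner ℂ (b k) w else 0 := by
  by_cases hk : a k = ε
  · rw [if_pos hk]
    have hb : b k ∈ F := by rw [hF, ha k, hk]
    have h1 := Submodule.starProjection_inner_eq_zero (K := F) w (b k) hb
    rw [inner_sub_left, sub_eq_zero] at h1
    rw [← inner_conj_symm, ← h1, inner_conj_symm]
  · rw [if_neg hk]
    have hm : F.starProjection w ∈ F := Submodule.starProjection_apply_mem F w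
    have h1 := inner_eig ha k (F.starProjection w)
    rw [(hF _).1 hm, inner_smul_right] at h1
    have h2 : (ε - a k) * inner ℂ (b k) (F.starProjection w) = 0 := by
      rw [sub_mul, h1, sub_self]
    rcases mul_eq_zero.1 h2 with h3 | h3
    · exact absurd (sub_eq_zero.1 h3).symm hk
    · exact h3

/-- (KI), eigenbasis form -/
theorem key_ineq_basis {n : ℕ} (T : E ≃ₗᵢ[ℂ] E) (b : OrthonormalBasis (Fin n) ℂ E) (a : Fin n → ℂ)
    (ha : ∀ k, T (b k) = a k • b k) (ε : ℂ) (hε : ‖ε‖ = 1)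
    (hspec : ∀ k, 1 / 2 ≤ (conj ε * a k).re) (F : Submodule ℂ E) [F.HasOrthogonalProjection]
    (hF : ∀ v, v ∈ F ↔ T v = ε • v) (w : E) :
    (‖w‖ ^ 2 + ‖F.starProjection w‖ ^ 2) / 2 ≤ (conj ε * inner ℂ w (T w)).re := by
  classical
  have h1 := inner_apply_eq_sum T b a ha w
  have h2 : ‖w‖ ^ 2 = ∑ k, ‖inner ℂ (b k) w‖ ^ 2 := (b.sum_sq_norm_inner_right w).symm
  have h3 : ‖F.starProjection w‖ ^ 2 = ∑ k, if a k = ε then ‖inner ℂ (b k) w‖ ^ 2 else 0 := by
    rw [← b.sum_sq_norm_inner_right (F.starProjection w)]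
    refine Finset.sum_congr rfl fun k _ => ?_
    rw [inner_proj_eq T b a ha ε F hF w k]
    by_cases hk : a k = ε
    · rw [if_pos hk, if_pos hk]
    · rw [if_neg hk, if_neg hk, norm_zero]
      norm_num
  have h4 : (conj ε * inner ℂ w (T w)).re = ∑ k, (conj ε * a k).re * ‖inner ℂ (b k) w‖ ^ 2 := by
    rw [h1, Finset.mul_sum, Complex.re_sum]
    refine Finset.sum_congr rfl fun k _ => ?_
    rw [← mul_assoc, Complex.re_mul_ofReal]
  rw [h4, h2, h3, ← Finset.sum_add_distrib, Finset.sum_div]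
  refine Finset.sum_le_sum fun k _ => ?_
  have hc : 0 ≤ ‖inner ℂ (b k) w‖ ^ 2 := by positivity
  by_cases hk : a k = ε
  · rw [if_pos hk, hk]
    have h5 : (conj ε * ε).re = 1 := by
      rw [Complex.conj_mul']
      rw [hε]
      norm_num
    rw [h5]
    linarith
  · rw [if_neg hk, add_zero]
    have := hspec k
    nlinarith

/-- (KI), general form -/
theorem key_ineq [FiniteDimensional ℂ E] (T : E ≃ₗᵢ[ℂ] E) (ε : ℂ) (hε : ‖ε‖ = 1)
    (hspec : ∀ (δ : ℂ) (v : E), v ≠ 0 → T v = δ • v → 1 / 2 ≤ (conj ε * δ).re)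
    (F : Submodule ℂ E) (hF : ∀ v, v ∈ F ↔ T v = ε • v) (w : E) :
    (‖w‖ ^ 2 + ‖F.starProjection w‖ ^ 2) / 2 ≤ (conj ε * inner ℂ w (T w)).re := by
  obtain ⟨b, hb⟩ := exists_joint_eigenbasis (fun _ : Unit => T) (fun _ _ => rfl)
    (rfl : Module.finrank ℂ E = Module.finrank ℂ E)
  choose a ha using fun k => hb () k
  refine key_ineq_basis T b a ha ε hε (fun k => ?_) F hF w
  refine hspec (a k) (b k) ?_ (ha k)
  intro h0
  have := b.orthonormal.1 k
  rw [h0, norm_zero] at this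
  exact zero_ne_one this

/-- (KI), corollary for unit vectors: `a = ‖P w‖ < 1` implies `a < |⟪w, T w⟫|` -/
theorem key_ineq_unit [FiniteDimensional ℂ E] (T : E ≃ₗᵢ[ℂ] E) (ε : ℂ) (hε : ‖ε‖ = 1)
    (hspec : ∀ (δ : ℂ) (v : E), v ≠ 0 → T v = δ • v → 1 / 2 ≤ (conj ε * δ).re)
    (F : Submodule ℂ E) (hF : ∀ v, v ∈ F ↔ T v = ε • v) (w : E) (hw : ‖w‖ = 1)
    (hlt : ‖F.starProjection w‖ < 1) :
    ‖F.starProjection w‖ < ‖inner ℂ w (T w)‖ := by
  have h1 := key_ineq T ε hε hspec F hF w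
  rw [hw] at h1
  have h2 : (conj ε * inner ℂ w (T w)).re ≤ ‖inner ℂ w (T w)‖ := by
    calc (conj ε * inner ℂ w (T w)).re ≤ ‖conj ε * inner ℂ w (T w)‖ := Complex.re_le_norm _
      _ = ‖inner ℂ w (T w)‖ := by rw [norm_mul, RCLike.norm_conj, hε, one_mul]
  have h3 : 0 ≤ ‖F.starProjection w‖ := norm_nonneg _
  nlinarith

end Cfsg.Agent.Lib.H22.B60
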