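import Mathlib
import Cfsg.Prelude.Def_CaseTheorems
import Cfsg.Prelude.Def_TwoFusion
import Cfsg.Agent.S4593

/-!
# S3206, piece INN: an abelian 2-subgroup of `E` containing a Sylow 2-subgroup `V` of `N ⊴ E` equals `V`
(uses the landed `Cfsg.Agent.S4593.result`)
-/

set_option autoImplicit false

namespace Cfsg.Agent.Lib.H22.JRINN

theorem INN {E : Type*} [Group E] [Finite E] (N : Subgroup E) [N.Normal]
    (hNc : Subgroup.centralizer (N : Set E) = ⊥) (hZ : Subgroup.center ↥N = ⊥)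
    (hcore : Cfsg.pPrimeCore 2 ↥N = ⊥) (V : Sylow 2 ↥N)
    (hVc : Subgroup.centralizer (((V : Subgroup ↥N)) : Set ↥N) ≤ V)
    (Q : Subgroup E) (hQ2 : IsPGroup 2 ↥Q) (hQab : ∀ a ∈ Q, ∀ b ∈ Q, a * b = b * a)
    (hVQ : (V : Subgroup ↥N).map N.subtype ≤ Q) : Q ≤ (V : Subgroup ↥N).map N.subtype := by
  intro s hs
  -- elements of `V` lie in `Q`
  have hVmem : ∀ x : ↥N, x ∈ (V : Subgroup ↥N) → (x : E) ∈ Q := fun x hx =>
    hVQ (Subgroup.mem_map.mpr ⟨x, hx, rfl⟩)
  -- `V` is abelian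
  have hab : IsMulCommutative (V : Subgroup ↥N) := by
    refine ⟨⟨?_⟩⟩
    rintro ⟨a, ha⟩ ⟨b, hb⟩
    apply Subtype.ext
    apply Subtype.ext
    exact hQab _ (hVmem a ha) _ (hVmem b hb)
  -- the automorphism induced by `s`
  set α : MulAut ↥N := MulAut.conjNormal s with hα
  have h2 : ∃ j : ℕ, orderOf α = 2 ^ j := by
    obtain ⟨k, hk⟩ := hQ2 ⟨s, hs⟩
    have hk' : s ^ 2 ^ k = 1 := by
      have := congrArg (Subtype.val) hk
      simpa using this
    have h1 : orderOf α ∣ orderOf s := orderOf_map_dvd (MulAut.conjNormal (H := N)) s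
    have h3 : orderOf s ∣ 2 ^ k := orderOf_dvd_of_pow_eq_one hk'
    obtain ⟨j, _, hj⟩ := (Nat.dvd_prime_pow Nat.prime_two).mp (h1.trans h3)
    exact ⟨j, hj⟩
  have hfix : ∀ x ∈ (V : Subgroup ↥N), α x = x := by
    intro x hx
    apply Subtype.ext
    rw [hα, MulAut.conjNormal_apply]
    have := hQab s hs (x : E) (hVmem x hx)
    rw [this, mul_inv_cancel_right]
  obtain ⟨n, hn⟩ := Cfsg.Agent.S4593.result hZ hcore V hab α h2 hfix
  -- `n⁻¹ s` centralizes `N`
  have hcen : (n : E)⁻¹ * s ∈ Subgroup.centralizer (N : Set E) := by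
    rw [Subgroup.mem_centralizer_iff]
    intro x hx
    have h1 := congrArg (Subtype.val) (hn ⟨x, hx⟩)
    rw [hα, MulAut.conjNormal_apply] at h1
    simp only [Subgroup.coe_mul, Subgroup.coe_inv] at h1
    -- h1 : s * x * s⁻¹ = n * x * n⁻¹
    have h4 : s * x = (n : E) * x * (n : E)⁻¹ * s := by
      rw [← h1]; group
    calc x * ((n : E)⁻¹ * s) = (n : E)⁻¹ * ((n : E) * x * (n : E)⁻¹ * s) := by group
      _ = (n : E)⁻¹ * (s * x) := by rw [h4]
      _ = (n : E)⁻¹ * s * x := by group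
  rw [hNc, Subgroup.mem_bot] at hcen
  have hsn : s = (n : E) := by
    have := congrArg (fun y => (n : E) * y) hcen
    simpa using this
  -- `n` centralizes `V`
  have hnV : n ∈ Subgroup.centralizer (((V : Subgroup ↥N)) : Set ↥N) := by
    rw [Subgroup.mem_centralizer_iff]
    intro x hx
    apply Subtype.ext
    simp only [Subgroup.coe_mul]
    rw [← hsn]
    exact (hQab s hs (x : E) (hVmem x hx)).symm
  exact Subgroup.mem_map.mpr ⟨n, hVc hnV, hsn.symm⟩

end Cfsg.Agent.Lib.H22.JRINN
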