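import Mathlib
import Cfsg.Prelude.Def_CaseTheorems
import Cfsg.Prelude.Def_TwoFusion

/-!
# S3206, piece TRANSPORT: move the `PSL₂(F)` facts along an isomorphism (Mathlib only)
-/

set_option autoImplicit false

namespace Cfsg.Agent.Lib.H22.JRTRANSPORT

theorem TRANSPORT {M M' : Type*} [Group M] [Group M'] [Finite M'] (e : M ≃* M')
    (hZ : Subgroup.center M' = ⊥) (hcore : Cfsg.pPrimeCore 2 M' = ⊥)
    (P' : Sylow 2 M') (hc4 : Nat.card ↥(P' : Subgroup M') = 4) (hexp : ∀ v ∈ (P' : Subgroup M'), v * v = 1)
    (hcen : Subgroup.centralizer ((P' : Subgroup M') : Set M') ≤ P') :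
    Subgroup.center M = ⊥ ∧ Cfsg.pPrimeCore 2 M = ⊥ ∧
    ∃ P : Sylow 2 M, Nat.card ↥(P : Subgroup M) = 4 ∧ (∀ v ∈ (P : Subgroup M), v * v = 1) ∧
      Subgroup.centralizer ((P : Subgroup M) : Set M) ≤ P := by
  refine ⟨?_, ?_, ?_⟩
  · -- centre
    rw [eq_bot_iff]
    intro x hx
    rw [Subgroup.mem_bot]
    have h1 : e x ∈ Subgroup.center M' := by
      rw [Subgroup.mem_center_iff]
      intro y
      have := Subgroup.mem_center_iff.mp hx (e.symm y)
      have h2 := congrArg e this
      simpa using h2
    rw [hZ, Subgroup.mem_bot] at h1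
    exact e.map_eq_one_iff.mp h1
  · -- odd core
    unfold Cfsg.pPrimeCore
    rw [eq_bot_iff]
    apply sSup_le
    rintro N ⟨hN, hNc⟩
    have hmapN : (N.map e.toMonoidHom).Normal := hN.map e.toMonoidHom e.surjective
    have hcard : Nat.card ↥(N.map e.toMonoidHom) = Nat.card ↥N :=
      Subgroup.card_map_of_injective e.injective
    have hle : N.map e.toMonoidHom ≤ Cfsg.pPrimeCore 2 M' := by
      unfold Cfsg.pPrimeCore
      apply le_sSup
      exact ⟨hmapN, by rw [hcard]; exact hNc⟩
    rw [hcore] at hle
    intro x hx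
    rw [Subgroup.mem_bot]
    have : e x ∈ (⊥ : Subgroup M') := hle (Subgroup.mem_map_of_mem _ hx)
    rw [Subgroup.mem_bot] at this
    exact e.map_eq_one_iff.mp this
  · -- the Sylow subgroup
    have hrange : (P' : Subgroup M') ≤ e.toMonoidHom.range := by
      intro y _
      exact ⟨e.symm y, by simp⟩
    have hinj : Function.Injective e.toMonoidHom := e.injective
    refine ⟨P'.comapOfInjective e.toMonoidHom hinj hrange, ?_, ?_, ?_⟩
    · rw [Sylow.coe_comapOfInjective]
      have : (P' : Subgroup M').comap e.toMonoidHom = (P' : Subgroup M').map e.symm.toMonoidHom :=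
        Subgroup.comap_equiv_eq_map_symm e _
      rw [this, Subgroup.card_map_of_injective e.symm.injective, hc4]
    · intro v hv
      rw [Sylow.coe_comapOfInjective, Subgroup.mem_comap] at hv
      have := hexp _ hv
      have h2 : e (v * v) = 1 := by simpa using this
      exact e.map_eq_one_iff.mp h2
    · intro c hc
      rw [Sylow.coe_comapOfInjective, Subgroup.mem_comap]
      apply hcen
      rw [Subgroup.mem_centralizer_iff]
      intro y hy
      rw [Subgroup.mem_centralizer_iff] at hc
      have hy' : e.symm y ∈ ((P'.comapOfInjective e.toMonoidHom hinj hrange : Sylow 2 M) :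
          Subgroup M) := by
        rw [Sylow.coe_comapOfInjective, Subgroup.mem_comap]
        have : e.toMonoidHom (e.symm y) = y := by simp
        rw [this]
        exact hy
      have := hc (e.symm y) hy'
      have h2 := congrArg e this
      simpa using h2

end Cfsg.Agent.Lib.H22.JRTRANSPORT
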