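import Mathlib
import Cfsg.Agent.S1001

/-!
helper22 library (S0977, piece (O1)): Sylow 5-data of a simple group of order 4320 = 2^5 * 3^3 * 5:
a subgroup `K` of order 5 with `C_G(K) = K` and `|N_G(K)| = 20`.  Exact signature of
`tools/blueprints/S0977_sigs.lean`.
-/

set_option autoImplicit false

namespace Cfsg.Agent.Lib.H22.O4320

universe u

theorem factorization_4320_five : (4320 : ℕ).factorization 5 = 1 := by
  have h : (4320 : ℕ) = 5 ^ 1 * 864 := by norm_num
  rw [h, Nat.factorization_mul (by norm_num) (by norm_num),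
    Nat.Prime.factorization_pow (by norm_num)]
  simp [Nat.factorization_eq_zero_of_not_dvd]

/-- a self-centralizing subgroup `K` of prime order `p`: `|N_G(K)| = p * r` with `r ∣ p - 1`. -/
theorem card_normalizer_of_self_centralizing {G : Type u} [Group G] [Finite G] (K : Subgroup G)
    {p : ℕ} (hp : p.Prime) (hK : Nat.card K = p)
    (hC : Subgroup.centralizer (K : Set G) = K) :
    ∃ r : ℕ, r ∣ p - 1 ∧ Nat.card (Subgroup.normalizer (K : Set G)) = p * r := by
  classical
  have hcyc : IsCyclic K := by
    haveI : Fact p.Prime := ⟨hp⟩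
    exact isCyclic_of_prime_card hK
  have key := Subgroup.card_dvd_of_injective _
    (QuotientGroup.kerLift_injective K.normalizerMonoidHom)
  rw [Subgroup.normalizerMonoidHom_ker, hC, IsCyclic.card_mulAut, hK, Nat.totient_prime hp] at key
  have hle : K ≤ Subgroup.normalizer (K : Set G) := Subgroup.le_normalizer
  have h1 : Nat.card (K.subgroupOf (Subgroup.normalizer (K : Set G))) = p := by
    rw [Nat.card_congr (Subgroup.subgroupOfEquivOfLe hle).toEquiv, hK]
  have h2 := (K.subgroupOf (Subgroup.normalizer (K : Set G))).card_mul_index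
  rw [h1] at h2
  refine ⟨(K.subgroupOf (Subgroup.normalizer (K : Set G))).index, ?_, h2.symm⟩
  exact key

/-- (O1) Sylow 5-data of a simple group of order 4320. -/
theorem sylow_data {G : Type u} [Group G] [Finite G] [IsSimpleGroup G] (hG : Nat.card G = 4320) :
    ∃ K : Subgroup G, Nat.card K = 5 ∧ Subgroup.centralizer (K : Set G) = K ∧
      Nat.card (Subgroup.normalizer (K : Set G)) = 20 := by
  classical
  haveI : Fact (Nat.Prime 5) := ⟨by norm_num⟩
  obtain ⟨x, hx⟩ := exists_prime_orderOf_dvd_card' (G := G) 5 (by rw [hG]; norm_num)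
  have hKcard : Nat.card (Subgroup.zpowers x) = 5 := by rw [Nat.card_zpowers, hx]
  have hcx : Subgroup.centralizer ({x} : Set G) = Subgroup.zpowers x :=
    Cfsg.Agent.S1001.result 5 3 5 (by norm_num) (by rw [hG]; norm_num) x hx
  have hCK : Subgroup.centralizer ((Subgroup.zpowers x : Subgroup G) : Set G) =
      Subgroup.zpowers x := by
    apply le_antisymm
    · have h1 : Subgroup.centralizer ((Subgroup.zpowers x : Subgroup G) : Set G) ≤
          Subgroup.centralizer ({x} : Set G) := by
        apply Subgroup.centralizer_le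
        intro y hy
        rw [Set.mem_singleton_iff] at hy
        subst hy
        exact Subgroup.mem_zpowers y
      exact h1.trans hcx.le
    · rw [Subgroup.zpowers_le]
      intro z hz
      obtain ⟨n, rfl⟩ := Subgroup.mem_zpowers_iff.1 hz
      exact ((Commute.refl x).zpow_left n).eq
  refine ⟨Subgroup.zpowers x, hKcard, hCK, ?_⟩
  obtain ⟨r, hr, hN⟩ := card_normalizer_of_self_centralizing (Subgroup.zpowers x)
    (by norm_num : Nat.Prime 5) hKcard hCK
  -- Sylow counting
  have hcardeq : Nat.card (Subgroup.zpowers x) = 5 ^ (Nat.card G).factorization 5 := by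
    rw [hKcard, hG, factorization_4320_five, pow_one]
  have hmod := card_sylow_modEq_one 5 G
  have hidx : Nat.card (Sylow 5 G) =
      (Subgroup.normalizer ((Subgroup.zpowers x : Subgroup G) : Set G)).index :=
    (Sylow.ofCard (Subgroup.zpowers x) hcardeq).card_eq_index_normalizer
  have hmul := (Subgroup.normalizer ((Subgroup.zpowers x : Subgroup G) : Set G)).card_mul_index
  rw [hG, hN, ← hidx] at hmul
  have hmod' : Nat.card (Sylow 5 G) % 5 = 1 := hmod
  have hr4 : r ∣ 4 := hr
  have hrle : r ≤ 4 := Nat.le_of_dvd (by norm_num) hr4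
  rw [hN]
  interval_cases r
  · omega
  · omega
  · omega
  · omega
  · rfl
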