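import Mathlib
import Cfsg.Agent.Lib.L0.SFDefs

set_option autoImplicit false

/-!
S4130-C1: the rank-one lemma (pure group theory, no `SFClass`).
-/

namespace Cfsg.Agent.Lib.H22.SF

open Cfsg.Agent.Lib.L0.SF

section prime

variable {H : Type*} [Group H] [Finite H]

theorem inf_eq_bot_or_le_of_card_prime {r : ℕ} (hr : r.Prime) (R K : Subgroup H)
    (hR : Nat.card R = r) : R ⊓ K = ⊥ ∨ R ≤ K := by
  have hdvd : Nat.card ↥(R ⊓ K) ∣ r := hR ▸ Subgroup.card_dvd_of_le inf_le_left
  rcases (Nat.dvd_prime hr).1 hdvd with h1 | h1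
  · left
    exact Subgroup.card_eq_one.1 h1
  · right
    have : R ⊓ K = R := Subgroup.eq_of_le_of_card_ge inf_le_left (by rw [h1, hR])
    exact this ▸ inf_le_right

end prime

section cm

variable {G : Type*} [Group G] (U : Subgroup G) [U.Normal]
  (hab : ∀ a ∈ U, ∀ b ∈ U, a * b = b * a)

/-- the commutator homomorphism `u ↦ g u g⁻¹ u⁻¹` of the abelian normal subgroup `U` -/
def cm (g : G) : U →* U where
  toFun u := ⟨g * u * g⁻¹ * (u : G)⁻¹,
    U.mul_mem (‹U.Normal›.conj_mem _ u.2 g) (U.inv_mem u.2)⟩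
  map_one' := by
    ext
    simp
  map_mul' u v := by
    ext
    have ha : g * (u : G) * g⁻¹ ∈ U := ‹U.Normal›.conj_mem _ u.2 g
    have hb : g * (v : G) * g⁻¹ ∈ U := ‹U.Normal›.conj_mem _ v.2 g
    have h1 : (u : G)⁻¹ * (g * (v : G) * g⁻¹ * (v : G)⁻¹) =
        (g * (v : G) * g⁻¹ * (v : G)⁻¹) * (u : G)⁻¹ :=
      hab _ (U.inv_mem u.2) _ (U.mul_mem hb (U.inv_mem v.2))
    simp only [Subgroup.coe_mul, mul_inv_rev]
    calc g * ((u : G) * (v : G)) * g⁻¹ * ((v : G)⁻¹ * (u : G)⁻¹)
        = (g * (u : G) * g⁻¹) * ((g * (v : G) * g⁻¹ * (v : G)⁻¹) * (u : G)⁻¹) := by group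
      _ = (g * (u : G) * g⁻¹) * ((u : G)⁻¹ * (g * (v : G) * g⁻¹ * (v : G)⁻¹)) := by rw [h1]
      _ = g * (u : G) * g⁻¹ * (u : G)⁻¹ * (g * (v : G) * g⁻¹ * (v : G)⁻¹) := by group

theorem cm_coe (g : G) (u : U) : ((cm U hab g u : U) : G) = g * u * g⁻¹ * (u : G)⁻¹ := rfl

theorem mem_ker_cm (g : G) (u : U) : u ∈ (cm U hab g).ker ↔ g * (u : G) = (u : G) * g := by
  rw [MonoidHom.mem_ker, Subtype.ext_iff, cm_coe, Subgroup.coe_one]
  constructor
  · intro h
    have : g * (u : G) * g⁻¹ = (u : G) := by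
      rw [mul_inv_eq_one] at h
      exact h
    calc g * (u : G) = g * (u : G) * g⁻¹ * g := by group
      _ = (u : G) * g := by rw [this]
  · intro h
    rw [h]
    group

theorem ker_cm_eq (g : G) :
    (cm U hab g).ker = (Subgroup.centralizer ({g} : Set G)).subgroupOf U := by
  ext u
  rw [mem_ker_cm, Subgroup.mem_subgroupOf, Subgroup.mem_centralizer_singleton_iff]
  exact eq_comm

end cm

section main

variable {G : Type*} [Group G] [Finite G] {r : ℕ} [Fact r.Prime] (U : Subgroup G) [U.Normal]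
  (hab : ∀ a ∈ U, ∀ b ∈ U, a * b = b * a)

theorem card_range_cm (g : G) :
    Nat.card (cm U hab g).range = (Subgroup.centralizer ({g} : Set G)).relIndex U := by
  rw [Subgroup.relIndex, ← ker_cm_eq U hab g, Subgroup.index_ker]

theorem card_ker_cm_mul (g : G) :
    Nat.card (cm U hab g).ker * Nat.card (cm U hab g).range = Nat.card U := by
  have h := Subgroup.card_mul_index (cm U hab g).ker
  rw [Subgroup.index_ker] at h
  exact h

/-- the dichotomy: two elements acting non-trivially have the same commutator group or the same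
centraliser in `U` -/
theorem range_eq_or_ker_eq (g h : G) (hg : Nat.card (cm U hab g).range = r)
    (hh : Nat.card (cm U hab h).range = r) (hgh : Nat.card (cm U hab (g * h)).range ∣ r) :
    (cm U hab g).range = (cm U hab h).range ∨ (cm U hab g).ker = (cm U hab h).ker := by
  have hrp : r.Prime := Fact.out
  by_contra hcon
  push Not at hcon
  obtain ⟨hA, hC⟩ := hcon
  have hcard : Nat.card (cm U hab g).ker = Nat.card (cm U hab h).ker := by
    have h1 := card_ker_cm_mul U hab g
    have h2 := card_ker_cm_mul U hab h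
    rw [hg] at h1
    rw [hh] at h2
    exact Nat.eq_of_mul_eq_mul_right hrp.pos (h1.trans h2.symm)
  -- elements in one kernel but not in the other
  have hex1 : ∃ u, u ∈ (cm U hab h).ker ∧ u ∉ (cm U hab g).ker := by
    by_contra hne
    push Not at hne
    exact hC (Subgroup.eq_of_le_of_card_ge hne hcard.le).symm
  have hex2 : ∃ u, u ∈ (cm U hab g).ker ∧ u ∉ (cm U hab h).ker := by
    by_contra hne
    push Not at hne
    exact hC (Subgroup.eq_of_le_of_card_ge hne hcard.ge)
  obtain ⟨u, huh, hug⟩ := hex1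
  obtain ⟨u', hu'g, hu'h⟩ := hex2
  -- step (i)
  have h1 : cm U hab (g * h) u = cm U hab g u := by
    apply Subtype.ext
    rw [cm_coe, cm_coe]
    have hc := (mem_ker_cm U hab h u).1 huh
    calc g * h * (u : G) * (g * h)⁻¹ * (u : G)⁻¹
        = g * (h * (u : G)) * h⁻¹ * g⁻¹ * (u : G)⁻¹ := by group
      _ = g * ((u : G) * h) * h⁻¹ * g⁻¹ * (u : G)⁻¹ := by rw [hc]
      _ = g * (u : G) * g⁻¹ * (u : G)⁻¹ := by group
  have hrange : (cm U hab (g * h)).range = (cm U hab g).range := by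
    have hle : (cm U hab g).range ≤ (cm U hab (g * h)).range := by
      rcases inf_eq_bot_or_le_of_card_prime hrp (cm U hab g).range (cm U hab (g * h)).range hg
        with hb | hle
      · exfalso
        have hmem : cm U hab g u ∈ (cm U hab g).range ⊓ (cm U hab (g * h)).range :=
          ⟨⟨u, rfl⟩, ⟨u, h1⟩⟩
        rw [hb, Subgroup.mem_bot] at hmem
        exact hug hmem
      · exact hle
    refine (Subgroup.eq_of_le_of_card_ge hle ?_).symm
    rw [hg]
    exact Nat.le_of_dvd hrp.pos hgh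
  -- step (ii)
  set b := cm U hab h u' with hb
  have hb1 : b ≠ 1 := fun h0 => hu'h h0
  have h2 : cm U hab (g * h) u' = cm U hab g b * b := by
    apply Subtype.ext
    rw [Subgroup.coe_mul, cm_coe, cm_coe, hb, cm_coe]
    have hc := (mem_ker_cm U hab g u').1 hu'g
    have hc' : g⁻¹ * (u' : G) = (u' : G) * g⁻¹ := by
      calc g⁻¹ * (u' : G) = g⁻¹ * ((u' : G) * g) * g⁻¹ := by group
        _ = g⁻¹ * (g * (u' : G)) * g⁻¹ := by rw [hc]
        _ = (u' : G) * g⁻¹ := by group
    calc g * h * (u' : G) * (g * h)⁻¹ * (u' : G)⁻¹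
        = g * (h * (u' : G) * h⁻¹ * (u' : G)⁻¹) * ((u' : G) * g⁻¹) * (u' : G)⁻¹ := by group
      _ = g * (h * (u' : G) * h⁻¹ * (u' : G)⁻¹) * (g⁻¹ * (u' : G)) * (u' : G)⁻¹ := by rw [hc']
      _ = g * (h * (u' : G) * h⁻¹ * (u' : G)⁻¹) * g⁻¹ * (h * (u' : G) * h⁻¹ * (u' : G)⁻¹)⁻¹ *
          (h * (u' : G) * h⁻¹ * (u' : G)⁻¹) := by group
  have hbg : b ∈ (cm U hab g).range := by
    have h3 : b = (cm U hab g b)⁻¹ * cm U hab (g * h) u' := by
      rw [h2]
      group
    rw [h3]
    refine Subgroup.mul_mem _ (Subgroup.inv_mem _ ⟨b, rfl⟩) ?_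
    rw [← hrange]
    exact ⟨u', rfl⟩
  rcases inf_eq_bot_or_le_of_card_prime hrp (cm U hab g).range (cm U hab h).range hg with hbot | hle
  · have hmem : b ∈ (cm U hab g).range ⊓ (cm U hab h).range := ⟨hbg, ⟨u', rfl⟩⟩
    rw [hbot, Subgroup.mem_bot] at hmem
    exact hb1 hmem
  · exact hA (Subgroup.eq_of_le_of_card_ge hle (by rw [hg, hh]))

/-- **S4130-C1** (the rank-one lemma). -/
theorem exists_normal_card_prime_of_relIndex_dvd {G : Type*} [Group G] [Finite G] {r : ℕ} [Fact r.Prime]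
    (U : Subgroup G) [U.Normal] (hU : U ≠ ⊥) (hab : ∀ a ∈ U, ∀ b ∈ U, a * b = b * a)
    (hexp : ∀ a ∈ U, a ^ r = 1)
    (hr : ∀ g : G, (Subgroup.centralizer ({g} : Set G)).relIndex U ∣ r) :
    ∃ V : Subgroup G, V.Normal ∧ V ≤ U ∧ Nat.card V = r := by
  have hrp : r.Prime := Fact.out
  have hcr : ∀ g : G, Nat.card (cm U hab g).range ∣ r := fun g => by
    rw [card_range_cm]
    exact hr g
  have hcr' : ∀ g : G, ∀ u : U, cm U hab g u ≠ 1 → Nat.card (cm U hab g).range = r := by
    intro g u hu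
    rcases (Nat.dvd_prime hrp).1 (hcr g) with h1 | h1
    · exfalso
      have hb : (cm U hab g).range = ⊥ := Subgroup.card_eq_one.1 h1
      have : cm U hab g u ∈ (cm U hab g).range := ⟨u, rfl⟩
      rw [hb, Subgroup.mem_bot] at this
      exact hu this
    · exact h1
  by_cases hZ : ∃ z ∈ U, z ≠ 1 ∧ ∀ g : G, g * z = z * g
  · obtain ⟨z, hzU, hz1, hzc⟩ := hZ
    refine ⟨Subgroup.zpowers z, ?_, ?_, ?_⟩
    · refine ⟨fun y hy x => ?_⟩
      obtain ⟨k, rfl⟩ := Subgroup.mem_zpowers_iff.1 hy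
      have : x * z ^ k * x⁻¹ = z ^ k := by
        have hc : Commute x z := hzc x
        have := (hc.zpow_right k).eq
        rw [this]
        group
      rw [this]
      exact Subgroup.zpow_mem_zpowers z k
    · rw [Subgroup.zpowers_le]
      exact hzU
    · rw [Nat.card_zpowers]
      have hd : orderOf z ∣ r := orderOf_dvd_of_pow_eq_one (hexp z hzU)
      rcases (Nat.dvd_prime hrp).1 hd with h1 | h1
      · exact absurd (orderOf_eq_one_iff.1 h1) hz1
      · exact h1
  · push Not at hZ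
    obtain ⟨z, hzU, hz1⟩ : ∃ z ∈ U, z ≠ 1 := by
      by_contra hne
      push Not at hne
      exact hU ((Subgroup.eq_bot_iff_forall U).2 hne)
    obtain ⟨g0, hg0⟩ := hZ z hzU hz1
    have hz0 : cm U hab g0 ⟨z, hzU⟩ ≠ 1 := by
      intro h0
      exact hg0 ((mem_ker_cm U hab g0 ⟨z, hzU⟩).1 h0)
    have hg0r := hcr' g0 _ hz0
    by_cases hN : ∀ x : G, (cm U hab (x * g0 * x⁻¹)).range = (cm U hab g0).range
    · refine ⟨(cm U hab g0).range.map U.subtype, ?_, Subgroup.map_subtype_le _, ?_⟩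
      · refine ⟨fun y hy x => ?_⟩
        obtain ⟨w, ⟨u, rfl⟩, rfl⟩ := hy
        have hxu : x * (u : G) * x⁻¹ ∈ U := ‹U.Normal›.conj_mem _ u.2 x
        have hmem : cm U hab (x * g0 * x⁻¹) ⟨x * (u : G) * x⁻¹, hxu⟩ ∈ (cm U hab g0).range := by
          rw [← hN x]
          exact ⟨_, rfl⟩
        refine ⟨_, hmem, ?_⟩
        rw [Subgroup.coe_subtype, cm_coe, cm_coe]
        group
      · rw [Nat.card_congr (Subgroup.equivMapOfInjective _ _ U.subtype_injective).symm.toEquiv]
        exact hg0r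
    · push Not at hN
      obtain ⟨x, hx⟩ := hN
      set h := x * g0 * x⁻¹ with hh
      have hxz : x * z * x⁻¹ ∈ U := ‹U.Normal›.conj_mem _ hzU x
      have hhz : cm U hab h ⟨x * z * x⁻¹, hxz⟩ ≠ 1 := by
        intro h0
        have h1 := (mem_ker_cm U hab h ⟨x * z * x⁻¹, hxz⟩).1 h0
        apply hg0
        simp only [hh] at h1
        have : g0 * z = x⁻¹ * (x * g0 * x⁻¹ * (x * z * x⁻¹)) * x := by group
        rw [this, h1]
        group
      have hhr := hcr' h _ hhz
      have hker : (cm U hab g0).ker = (cm U hab h).ker := by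
        rcases range_eq_or_ker_eq U hab g0 h hg0r hhr (hcr _) with h1 | h1
        · exact absurd h1.symm hx
        · exact h1
      have hbot : (cm U hab g0).ker = ⊥ := by
        rw [Subgroup.eq_bot_iff_forall]
        intro c hc
        by_contra hc1
        have hc1' : (c : G) ≠ 1 := fun h0 => hc1 (Subtype.ext h0)
        obtain ⟨k, hk⟩ := hZ c c.2 hc1'
        have hck : c ∉ (cm U hab k).ker := fun h0 => hk ((mem_ker_cm U hab k c).1 h0)
        have hkr := hcr' k c hck
        have e1 : (cm U hab k).range = (cm U hab g0).range := by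
          rcases range_eq_or_ker_eq U hab k g0 hkr hg0r (hcr _) with h1 | h1
          · exact h1
          · exact absurd (h1 ▸ hc) hck
        have e2 : (cm U hab k).range = (cm U hab h).range := by
          rcases range_eq_or_ker_eq U hab k h hkr hhr (hcr _) with h1 | h1
          · exact h1
          · exact absurd (h1 ▸ hker ▸ hc) hck
        exact hx (e2.symm.trans e1)
      refine ⟨U, inferInstance, le_rfl, ?_⟩
      have := card_ker_cm_mul U hab g0
      rw [hbot, hg0r, Subgroup.card_bot, one_mul] at this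
      exact this.symm

end main

end Cfsg.Agent.Lib.H22.SF
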