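import Mathlib
import Cfsg.Agent.Lib.H1.LieGe

/-!
# S3782 piece EIGSUM (helper22): with the scalar `c = 1` the operators `eE ω T 1 k` sum to multiplication by `p`.
-/

set_option autoImplicit false

namespace Cfsg.Agent.Lib.H22.ALP

open Cfsg.Agent.Lib.H1

variable {p : ℕ} [hp : Fact p.Prime]

/-- **EIGSUM**: with the scalar `c = 1` the operators `eE ω T 1 k` sum to multiplication by `p`. -/
theorem sum_eE_one {A : Type*} [CommRing A] {M : Type*} [AddCommGroup M] [Module A M]
    {ω : A} {T : Module.End A M} (hs : ∑ k ∈ Finset.range p, ω ^ k = 0) (x : M) :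
    ∑ k : ZMod p, Eig.eE ω T (1 : A) k x = (p : A) • x := by
  simp only [Eig.eE_apply]
  rw [← Finset.smul_sum, Finset.sum_comm, one_smul]
  have h1 : ∀ j : ZMod p, ∑ k : ZMod p, Eig.wz ω (-(j * k)) • Eig.Tz T j x =
      (if j = 0 then (p : A) else 0) • Eig.Tz T j x := by
    intro j
    rw [← Finset.sum_smul]
    congr 1
    have h := Eig.sum_wz_mul' hs (-j)
    simp only [neg_eq_zero] at h
    rw [← h]
    refine Finset.sum_congr rfl fun k _ => ?_
    congr 1
    ring
  simp only [h1]
  rw [Finset.sum_eq_single (0 : ZMod p)]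
  · rw [if_pos rfl, Eig.Tz_zero, Module.End.one_apply]
  · intro j _ hj
    rw [if_neg hj, zero_smul]
  · intro h
    exact absurd (Finset.mem_univ _) h

end Cfsg.Agent.Lib.H22.ALP
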