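import Mathlib

/-!
# S3782 piece DLCARD (helper22): a finite solvable group has derived length at most its order.
-/

set_option autoImplicit false

namespace Cfsg.Agent.Lib.H22.ALP

universe u

variable {G : Type u} [Group G]

/-- once the derived series is stationary it stays stationary -/
theorem derivedSeries_stationary {k : ℕ} (h : derivedSeries G (k + 1) = derivedSeries G k) (m : ℕ) :
    derivedSeries G (k + m) = derivedSeries G k := by
  induction m with
  | zero => rfl
  | succ m ih =>
    rw [← add_assoc, derivedSeries_succ, ih, ← derivedSeries_succ, h]

/-- **DLCARD**: a finite solvable group has derived length at most its order. -/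
theorem derivedSeries_card_eq_bot [Finite G] (hs : Group.IsSolvable G) :
    derivedSeries G (Nat.card G) = ⊥ := by
  obtain ⟨n, hn⟩ := hs.solvable
  have key : ∀ k : ℕ, derivedSeries G k = ⊥ ∨ Nat.card (derivedSeries G k) + k ≤ Nat.card G := by
    intro k
    induction k with
    | zero =>
      right
      rw [derivedSeries_zero, Subgroup.card_top, add_zero]
    | succ k ih =>
      rcases ih with h | h
      · left
        rw [derivedSeries_succ, h, Subgroup.commutator_bot_left]
      · by_cases hb : derivedSeries G k = ⊥
        · left
          rw [derivedSeries_succ, hb, Subgroup.commutator_bot_left]
        · right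
          have hle : derivedSeries G (k + 1) ≤ derivedSeries G k := by
            rw [derivedSeries_succ]
            exact Subgroup.commutator_le_left _ _
          have hne : derivedSeries G (k + 1) ≠ derivedSeries G k := by
            intro he
            apply hb
            rcases le_total k n with hkn | hkn
            · have := derivedSeries_stationary he (n - k)
              rw [Nat.add_sub_cancel' hkn, hn] at this
              exact this.symm
            · exact eq_bot_iff.mpr (hn ▸ derivedSeries_antitone G hkn)
          have hlt : derivedSeries G (k + 1) < derivedSeries G k := lt_of_le_of_ne hle hne
          have hc : Nat.card (derivedSeries G (k + 1)) < Nat.card (derivedSeries G k) := by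
            have h1 := Set.ncard_lt_ncard (s := (derivedSeries G (k + 1) : Set G)) (t := (derivedSeries G k : Set G))
              (SetLike.coe_ssubset_coe.mpr hlt) (Set.toFinite _)
            rwa [← Nat.card_coe_set_eq, ← Nat.card_coe_set_eq] at h1
          omega
  rcases key (Nat.card G) with h | h
  · exact h
  · exfalso
    have hpos : 0 < Nat.card (derivedSeries G (Nat.card G)) := Nat.card_pos
    omega

end Cfsg.Agent.Lib.H22.ALP
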