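import Mathlib

/-!
# S3782 piece DLEXT (helper22): the derived length of an extension.
-/

set_option autoImplicit false

namespace Cfsg.Agent.Lib.H22.ALP

universe u

variable {G : Type u} [Group G]

/-- **DLEXT**: derived length of an extension. -/
theorem derivedSeries_add_eq_bot (N : Subgroup G) [N.Normal] (a b : ℕ)
    (hN : derivedSeries N a = ⊥) (hQ : derivedSeries (G ⧸ N) b = ⊥) :
    derivedSeries G (b + a) = ⊥ := by
  have h1 : derivedSeries G b ≤ N := by
    have hm := map_derivedSeries_eq (f := QuotientGroup.mk' N) (QuotientGroup.mk'_surjective N) b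
    rw [hQ] at hm
    intro x hx
    have : QuotientGroup.mk' N x ∈ (derivedSeries G b).map (QuotientGroup.mk' N) := Subgroup.mem_map_of_mem _ hx
    rw [hm, Subgroup.mem_bot] at this
    rwa [← QuotientGroup.ker_mk' N, MonoidHom.mem_ker]
  have key : ∀ k : ℕ, derivedSeries G (b + k) ≤ (derivedSeries N k).map N.subtype := by
    intro k
    induction k with
    | zero =>
      rw [derivedSeries_zero, add_zero, ← MonoidHom.range_eq_map, Subgroup.range_subtype]
      exact h1
    | succ k ih =>
      rw [← add_assoc, derivedSeries_succ, derivedSeries_succ, Subgroup.map_commutator]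
      exact Subgroup.commutator_mono ih ih
  have := key a
  rw [hN, Subgroup.map_bot] at this
  exact eq_bot_iff.mpr this

end Cfsg.Agent.Lib.H22.ALP
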