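import Mathlib
import Cfsg.Agent.Lib.H19.AlpDefs
import Cfsg.Agent.Lib.H1.LieGh
import Cfsg.Agent.Lib.H22.PPrimeCore
import Cfsg.Agent.Lib.H22.PPrimeCoreSub

/-!
# S3782 piece SD1 (helper22): `O_{p'}(G)` has derived length at most `hkk p` when the fixed points of an automorphism of
order dividing `p` form a `p`-group.
-/

set_option autoImplicit false

namespace Cfsg.Agent.Lib.H22.ALP

open Cfsg.Agent.Lib.H19.ALP
open Cfsg.Agent.Lib.H1 Cfsg.Agent.Lib.H1.LieG

universe u

variable {p : ℕ} [hp : Fact p.Prime] {G : Type u} [Group G]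

/-- the subgroup of the fixed points of an automorphism -/
def fixSub (α : MulAut G) : Subgroup G where
  carrier := {g | α g = g}
  mul_mem' := by
    intro a b ha hb
    simp only [Set.mem_ofPred_eq] at *
    rw [map_mul, ha, hb]
  one_mem' := map_one α
  inv_mem' := by
    intro a ha
    simp only [Set.mem_ofPred_eq] at *
    rw [map_inv, ha]

omit hp in
theorem card_fixSub (α : MulAut G) : Nat.card (fixSub α) = fixCard α := rfl

/-- **SD1** (input S3779): `O_{p'}(G)` has derived length at most `hkk p`. -/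
theorem derivedSeries_pPrimeCore [Finite G] (α : MulAut G) (hα : α ^ p = 1) (n : ℕ)
    (hfix : fixCard α = p ^ n) :
    derivedSeries (Cfsg.pPrimeCore p G) (hkk p) = ⊥ := by
  have : (Cfsg.pPrimeCore p G).Characteristic := Cfsg.Agent.Lib.H22.pPrimeCore_characteristic p
  have hinv : Inv α (Cfsg.pPrimeCore p G) := inv_of_characteristic α _
  have hcop : (Nat.card (Cfsg.pPrimeCore p G)).Coprime p := Cfsg.Agent.Lib.H22.card_pPrimeCore_coprime p
  have hfix1 : ∀ x : Cfsg.pPrimeCore p G, α (x : G) = x → x = 1 := by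
    intro x hx
    have hxC : (x : G) ∈ fixSub α := hx
    have h1 : orderOf x ∣ p ^ n := by
      rw [← hfix, ← card_fixSub, ← Subgroup.orderOf_coe x]
      have := orderOf_dvd_natCard (⟨(x : G), hxC⟩ : fixSub α)
      rwa [← Subgroup.orderOf_coe] at this
    have h2 : orderOf x ∣ Nat.card (Cfsg.pPrimeCore p G) := orderOf_dvd_natCard x
    have h3 : orderOf x ∣ 1 := by
      have hc : (Nat.card (Cfsg.pPrimeCore p G)).Coprime (p ^ n) := Nat.Coprime.pow_right n hcop
      rw [← Nat.Coprime.gcd_eq_one hc]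
      exact Nat.dvd_gcd h2 h1
    exact orderOf_eq_one_iff.mp (Nat.dvd_one.mp h3)
  by_cases hβ : rAut α (Cfsg.pPrimeCore p G) hinv = 1
  · rw [eq_bot_iff]
    intro x _
    rw [Subgroup.mem_bot]
    apply hfix1 x
    have h := congrArg (fun β : MulAut (Cfsg.pPrimeCore p G) => ((β x : Cfsg.pPrimeCore p G) : G)) hβ
    simp only [rAut_coe, MulAut.one_apply] at h
    exact h
  · have hord : orderOf (rAut α (Cfsg.pPrimeCore p G) hinv) = p :=
      orderOf_eq_prime (rAut_pow_eq_one α _ hinv hα) hβ
    have hfpf : Fpf (rAut α (Cfsg.pPrimeCore p G) hinv) := by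
      intro x hx
      apply hfix1 x
      have h := congrArg (fun y : Cfsg.pPrimeCore p G => (y : G)) hx
      simp only [rAut_coe] at h
      exact h
    have hmain := hkk_main (rAut α (Cfsg.pPrimeCore p G) hinv) hord hfpf
    have hle := Subgroup.derived_le_lower_central (G := Cfsg.pPrimeCore p G) (hkk p)
    unfold hkk at hle ⊢
    rw [hmain] at hle
    exact le_bot_iff.mp hle

end Cfsg.Agent.Lib.H22.ALP
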