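/-
S4613 (architect helper19), family piece **PSP**: `SylRigid p (PSp m F)`, `m ≥ 2`, `F` finite of characteristic `p`.
`X = Sp_{2m}(F)`, `R = Q_e · Qs`, `𝒬 = {Q_e, Qs}` where `Qs` is the Siegel radical (`t(X)`, `X` symmetric) and `Q_e` the radical of the
stabiliser of the point `e = e_*` (helper13's `Qg e`, Eichler transformations).  `C_X(Qs) ≤ Z·Qs` (block computation),
`C_X(Q_e) ≤ Z·Q_e` (Eichler computation), `N(Qs) ≥ Ps`, `N(Q_e) ≥ S = Sp_{2m-2}` and `⟨Ps, S⟩ = X` (helper2's `Ps_sup_Ss_eq_top`).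
-/
import Mathlib
import Cfsg.Prelude.Def_LieTypeChar
import Cfsg.Agent.Lib.H19.SRDefs
import Cfsg.Agent.Lib.H11.S2524G0
import Cfsg.Agent.Lib.H2.SpUG4
import Cfsg.Agent.Lib.H13.AutPSp1

set_option autoImplicit false
set_option linter.unusedSectionVars false
set_option linter.unusedVariables false

namespace Cfsg.Agent.Lib.H22.SR

open Cfsg Cfsg.Agent.Lib.H19.SR

section SecA

open Matrix Cfsg.Agent.Lib.H12.LS2 Cfsg.Agent.Lib.H5.LS2 Cfsg.Agent.Lib.H11.SpU

variable {F : Type*} [Field F] {n : ℕ}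

/-- a matrix commuting with all symmetric matrices is scalar -/
theorem scalar_of_comm_symm (A : Matrix (Fin n) (Fin n) F)
    (h : ∀ X : Matrix (Fin n) (Fin n) F, Xᵀ = X → A * X = X * A) : ∃ a : F, A = a • (1 : Matrix (Fin n) (Fin n) F) := by
  rcases n with _ | n
  · exact ⟨1, by ext i; exact i.elim0⟩
  have hoff : ∀ i j : Fin (n + 1), i ≠ j → A i j = 0 := by
    intro i j hij
    have h1 := h (Matrix.single j j 1) (by rw [Matrix.transpose_single])
    have h2 := congrFun (congrFun h1 i) j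
    rw [Matrix.mul_single_apply_same, mul_one, Matrix.single_mul_apply_of_ne _ _ _ _ _ hij] at h2
    exact h2
  have hdiag : ∀ i j : Fin (n + 1), A i i = A j j := by
    intro i j
    by_cases hij : i = j
    · rw [hij]
    have h1 := h (Matrix.single i j 1 + Matrix.single j i 1)
      (by rw [Matrix.transpose_add, Matrix.transpose_single, Matrix.transpose_single]; exact add_comm _ _)
    have h2 := congrFun (congrFun h1 i) j
    rw [Matrix.mul_add, Matrix.add_mul, Matrix.add_apply, Matrix.add_apply,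
      Matrix.mul_single_apply_same, Matrix.single_mul_apply_same, mul_one, one_mul,
      Matrix.mul_single_apply_of_ne _ _ _ _ _ (Ne.symm hij), Matrix.single_mul_apply_of_ne _ _ _ _ _ hij,
      add_zero, add_zero] at h2
    exact h2
  refine ⟨A 0 0, ?_⟩
  ext i j
  rw [Matrix.smul_apply, Matrix.one_apply, smul_eq_mul]
  by_cases hij : i = j
  · rw [if_pos hij, mul_one, hij]
    exact hdiag j 0
  · rw [if_neg hij, mul_zero]
    exact hoff i j hij

/-- an element of `Sp` whose matrix is scalar is central -/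
theorem mem_center_of_scalar {z : Sp n F} {a : F}
    (hz : (z : Matrix (Fin n ⊕ Fin n) (Fin n ⊕ Fin n) F) = a • 1) : z ∈ Subgroup.center (Sp n F) := by
  rw [Subgroup.mem_center_iff]
  intro h
  apply Subtype.ext
  rw [Submonoid.coe_mul, Submonoid.coe_mul, hz, Matrix.mul_smul, Matrix.smul_mul, Matrix.mul_one, Matrix.one_mul]

/-- (A) the centraliser of the Siegel radical -/
theorem centralizer_Qs_le (hn : 1 ≤ n) :
    Subgroup.centralizer ((Qs n F : Subgroup (Sp n F)) : Set (Sp n F)) ≤ Subgroup.center (Sp n F) ⊔ Qs n F := by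
  intro g hg
  rw [Subgroup.mem_centralizer_iff] at hg
  set A := (g : Matrix (Fin n ⊕ Fin n) (Fin n ⊕ Fin n) F).toBlocks₁₁ with hA
  set B := (g : Matrix (Fin n ⊕ Fin n) (Fin n ⊕ Fin n) F).toBlocks₁₂ with hB
  set C := (g : Matrix (Fin n ⊕ Fin n) (Fin n ⊕ Fin n) F).toBlocks₂₁ with hC
  set D := (g : Matrix (Fin n ⊕ Fin n) (Fin n ⊕ Fin n) F).toBlocks₂₂ with hD
  have hM : (g : Matrix (Fin n ⊕ Fin n) (Fin n ⊕ Fin n) F) = fromBlocks A B C D :=
    (Matrix.fromBlocks_toBlocks _).symm
  have key : ∀ X : Symm n F, (X : Matrix (Fin n) (Fin n) F) * C = 0 ∧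
      (X : Matrix (Fin n) (Fin n) F) * D = A * (X : Matrix (Fin n) (Fin n) F) := by
    intro X
    have h1 := congrArg Subtype.val (hg (tEl X) (tEl_mem_Qs X))
    rw [Submonoid.coe_mul, Submonoid.coe_mul, tEl_val, hM, Matrix.fromBlocks_multiply,
      Matrix.fromBlocks_multiply, Matrix.fromBlocks_inj] at h1
    obtain ⟨h11, h12, -, -⟩ := h1
    simp only [Matrix.one_mul, Matrix.mul_one, Matrix.mul_zero, add_zero] at h11 h12
    refine ⟨?_, ?_⟩
    · exact (add_eq_left.1 h11)
    · rw [add_comm] at h12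
      exact add_right_cancel h12
  have h1S : (1 : Matrix (Fin n) (Fin n) F) ∈ Symm n F := Matrix.transpose_one
  have hC0 : C = 0 := by
    have := (key ⟨1, h1S⟩).1
    simpa using this
  have hDA : D = A := by
    have := (key ⟨1, h1S⟩).2
    simpa using this
  have hmem := g.2
  rw [hM, SymplecticGroup.fromBlocks_mem_iff, hC0, hDA] at hmem
  obtain ⟨-, h2, h3⟩ := hmem
  rw [Matrix.transpose_zero, Matrix.zero_mul, sub_zero] at h3
  obtain ⟨a, ha⟩ := scalar_of_comm_symm A (fun X hX => by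
    have := (key ⟨X, hX⟩).2
    rw [hDA] at this
    exact this.symm)
  have ha0 : a ≠ 0 := by
    rintro rfl
    rw [ha, zero_smul, Matrix.mul_zero] at h3
    have := congrFun (congrFun h3 ⟨0, hn⟩) ⟨0, hn⟩
    simp at this
  have hBs : Bᵀ = B := by
    rw [ha, Matrix.transpose_smul, Matrix.transpose_one, Matrix.mul_smul, Matrix.smul_mul,
      Matrix.mul_one, Matrix.one_mul] at h2
    exact smul_right_injective _ ha0 h2
  set X₀ : Symm n F := ⟨a⁻¹ • B, by
    show (a⁻¹ • B)ᵀ = a⁻¹ • B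
    rw [Matrix.transpose_smul, hBs]⟩ with hX₀
  have hz : ((g * (tEl X₀)⁻¹ : Sp n F) : Matrix (Fin n ⊕ Fin n) (Fin n ⊕ Fin n) F) = a • 1 := by
    rw [tEl_inv, Submonoid.coe_mul, tEl_val, hM, hC0, hDA, Matrix.fromBlocks_multiply, ha]
    simp only [Matrix.mul_one, Matrix.mul_zero, add_zero, Matrix.zero_mul, zero_add,
      NegMemClass.coe_neg, Matrix.smul_mul, Matrix.one_mul, smul_neg]
    have e : -(a • (X₀ : Matrix (Fin n) (Fin n) F)) + B = 0 := by
      show -(a • (a⁻¹ • B)) + B = 0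
      rw [smul_smul, mul_inv_cancel₀ ha0, one_smul, neg_add_cancel]
    rw [e, ← Matrix.fromBlocks_one, Matrix.fromBlocks_smul, smul_zero]
  have : g = (g * (tEl X₀)⁻¹) * tEl X₀ := by group
  rw [this]
  exact Subgroup.mul_mem_sup (mem_center_of_scalar hz) (tEl_mem_Qs X₀)

end SecA

section SecB

open Matrix Cfsg.Agent.Lib.H4 Cfsg.Agent.Lib.H2.Sp Cfsg.Agent.Lib.H13.AutPSp

variable {F : Type*} [Field F] {m : ℕ}

set_option quotPrecheck false in
local notation "B" => Cfsg.sympForm m F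

/-- an element acting as a scalar is central -/
theorem mem_center_of_sv {z : SpG m F} {ε : F} (h : ∀ x, sv z x = ε • x) :
    z ∈ Subgroup.center (SpG m F) := by
  rw [Subgroup.mem_center_iff]
  intro g
  apply ext_sv
  intro x
  rw [sv_mul, sv_mul, h, h, sv_smul]

/-- (B) the centraliser of the radical `Q_e` of a point stabiliser -/
theorem centralizer_Qg_le {e : K m → F} (he : e ≠ 0) :
    Subgroup.centralizer ((Qg e : Subgroup (SpG m F)) : Set (SpG m F)) ≤ Subgroup.center (SpG m F) ⊔ Qg e := by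
  intro g hg
  rw [Subgroup.mem_centralizer_iff] at hg
  obtain ⟨f, hfe⟩ := exists_B_eq_one he
  have hef : B e f = -1 := by rw [sympForm_swap, hfe]
  have hconj : ∀ w b, B w e = 0 → EL (sv g e) (sv g w) b = EL e w b := by
    intro w b hw
    rw [← EL_conj hw b g, ← hg _ (EL_mem_Qg hw b)]
    group
  -- Step 1 : `g e = ε e` with `ε² = 1`
  set ε : F := B f (sv g e) with hε
  have h1 : ε • sv g e = e := by
    have h : sv (EL (sv g e) (sv g 0) 1) f = sv (EL e 0 1) f := by rw [hconj 0 1 (B_zero_left e)]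
    rw [sv_zero, sv_EL (B_zero_left _), sv_EL (B_zero_left _), B_zero_right, hfe] at h
    simp only [smul_zero, zero_smul, add_zero, one_mul, one_smul] at h
    exact add_left_cancel h
  have hε0 : ε ≠ 0 := by
    intro h0
    rw [h0, zero_smul] at h1
    exact he h1.symm
  have hge : sv g e = ε⁻¹ • e := by
    calc sv g e = ε⁻¹ • (ε • sv g e) := by rw [smul_smul, inv_mul_cancel₀ hε0, one_smul]
      _ = ε⁻¹ • e := by rw [h1]
  have hεε : ε * ε = 1 := by
    have : ε = ε⁻¹ := by
      conv_lhs => rw [hε, hge, sympForm_smul_right, hfe, mul_one]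
    field_simp at this
    rw [sq] at this
    exact this
  have hεinv : ε⁻¹ = ε := by
    field_simp
    rw [sq]; exact hεε.symm
  rw [hεinv] at hge
  -- `B (g f) e = ε`
  have hgfe : B (sv g f) e = ε := by
    have h := B_sv g f e
    rw [hge, sympForm_smul_right, hfe] at h
    calc B (sv g f) e = (ε * ε) * B (sv g f) e := by rw [hεε, one_mul]
      _ = ε * (ε * B (sv g f) e) := by ring
      _ = ε := by rw [h, mul_one]
  -- Step 2 : `g w = ε w + λ e` for `w ⊥ e`
  have h2 : ∀ w, B w e = 0 → ∃ l : F, sv g w = ε • w + l • e := by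
    intro w hw
    have h : sv (EL (sv g e) (sv g w) 0) f = sv (EL e w 0) f := by rw [hconj w 0 hw]
    have hw' : B (sv g w) (sv g e) = 0 := by rw [B_sv, hw]
    rw [sv_EL hw', sv_EL hw, hge, sympForm_smul_right, hfe] at h
    simp only [mul_one, zero_mul, zero_smul, add_zero, one_smul] at h
    refine ⟨ε * B f w - B f (sv g w), ?_⟩
    have h' : ε • sv g w = w + B f w • e - B f (sv g w) • ε • e := by
      rw [eq_sub_iff_add_eq]
      exact add_left_cancel (a := f) (by rw [← add_assoc, ← add_assoc]; exact h)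
    calc sv g w = (ε * ε) • sv g w := by rw [hεε, one_smul]
      _ = ε • (ε • sv g w) := by rw [smul_smul]
      _ = ε • (w + B f w • e - B f (sv g w) • ε • e) := by rw [h']
      _ = ε • w + (ε * B f w - B f (sv g w)) • e := by
        have e1 : ε * B f (sv g w) * ε = B f (sv g w) := by
          rw [mul_comm ε (B f (sv g w)), mul_assoc, hεε, mul_one]
        rw [smul_sub, smul_add, smul_smul, smul_smul, smul_smul, e1, sub_smul]
        abel
  -- Step 3
  set u : K m → F := ε • sv g f - f with hu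
  have hue : B u e = 0 := by
    rw [hu, B_sub_left, sympForm_smul_left, hgfe, hεε, hfe, sub_self]
  set c : F := -B f u with hc
  have hmain : ∀ x, sv g x = ε • sv (EL e u c) x := by
    intro x
    set x' : K m → F := x - B x e • f with hx'
    have hx'e : B x' e = 0 := by
      rw [hx', B_sub_left, sympForm_smul_left, hfe, mul_one, sub_self]
    obtain ⟨l, hl⟩ := h2 x' hx'e
    have hx : x = B x e • f + x' := by rw [hx']; abel
    -- determine `l`
    have hl' : l = ε * B x' u := by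
      have h := B_sv g x' f
      rw [hl, sympForm_add_left, sympForm_smul_left, sympForm_smul_left] at h
      have h3 : B e (sv g f) = -ε := by rw [sympForm_swap, hgfe]
      rw [h3] at h
      rw [hu, B_sub_right, sympForm_smul_right]
      linear_combination (-ε) * h + (-l) * hεε
    have hgx : sv g x = B x e • sv g f + (ε • x' + l • e) := by
      conv_lhs => rw [hx]
      rw [sv_add, sv_smul, hl]
    rw [hgx, sv_EL hue, hl']
    have hBxu : B x u = B x e * B f u + B x' u := by
      conv_lhs => rw [hx]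
      rw [sympForm_add_left, sympForm_smul_left]
    rw [hBxu, hc]
    have hsf : ε • sv g f = u + f := by rw [hu]; abel
    have hsf' : sv g f = ε • (u + f) := by
      rw [← hsf, smul_smul, hεε, one_smul]
    rw [hsf', hx']
    module
  have hz : g * (EL e u c)⁻¹ ∈ Subgroup.center (SpG m F) := by
    apply mem_center_of_sv (ε := ε)
    intro x
    rw [sv_mul, hmain, sv_sv_inv]
  have : g = (g * (EL e u c)⁻¹) * EL e u c := by group
  rw [this]
  exact Subgroup.mul_mem_sup hz (EL_mem_Qg hue c)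

end SecB

section SecC

open Matrix Cfsg.Agent.Lib.H4 Cfsg.Agent.Lib.H2.Sp Cfsg.Agent.Lib.H2.SpU Cfsg.Agent.Lib.H13.AutPSp
open Cfsg.Agent.Lib.H12.LS2 Cfsg.Agent.Lib.H5.LS2 Cfsg.Agent.Lib.H11.SpU

variable {F : Type*} [Field F] {n m : ℕ}

theorem le_normalizer_of_conj_mem {G : Type*} [Group G] (T Q : Subgroup G)
    (h : ∀ t ∈ T, ∀ q ∈ Q, t * q * t⁻¹ ∈ Q) : T ≤ Subgroup.normalizer (Q : Set G) := by
  intro t ht
  rw [Subgroup.mem_normalizer_iff]
  intro q
  constructor
  · exact h t ht q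
  · intro hq
    have := h t⁻¹ (T.inv_mem ht) _ hq
    rw [inv_inv] at this
    have e : t⁻¹ * (t * q * t⁻¹) * t = q := by group
    rwa [e] at this

theorem tEl_pow (X : Symm n F) (k : ℕ) : (tEl X : Sp n F) ^ k = tEl (k • X) := by
  induction k with
  | zero => rw [pow_zero, zero_smul, tEl_zero]
  | succ k ih => rw [pow_succ, ih, succ_nsmul, tEl_add]

theorem isPGroup_Qs (p : ℕ) [Fact p.Prime] [CharP F p] : IsPGroup p (Qs n F) := by
  rintro ⟨g, hg⟩
  obtain ⟨X, rfl⟩ := mem_Qs.1 hg
  refine ⟨1, ?_⟩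
  apply Subtype.ext
  rw [Subgroup.coe_pow, pow_one, Subgroup.coe_one]
  show (tEl X : Sp n F) ^ p = 1
  rw [tEl_pow]
  have : p • X = 0 := by
    apply Subtype.ext
    rw [AddSubgroup.coe_nsmul, ZeroMemClass.coe_zero]
    ext i j
    rw [Matrix.smul_apply, Matrix.zero_apply, nsmul_eq_mul, CharP.cast_eq_zero, zero_mul]
  rw [this, tEl_zero]

theorem Ps_le_normalizer_Qs : Ps n F ≤ Subgroup.normalizer ((Qs n F : Subgroup (Sp n F)) : Set (Sp n F)) := by
  apply sup_le
  · exact Subgroup.le_normalizer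
  · apply le_normalizer_of_conj_mem
    intro t ht q hq
    obtain ⟨g, rfl⟩ := mem_Ls.1 ht
    obtain ⟨X, rfl⟩ := mem_Qs.1 hq
    rw [lEl_conj_tEl']
    exact tEl_mem_Qs _

/-- the stabiliser of a vector -/
def stabE (e : K m → F) : Subgroup (SpG m F) where
  carrier := {s | sv s e = e}
  one_mem' := sv_one e
  mul_mem' := by
    intro a b ha hb
    show sv (a * b) e = e
    rw [sv_mul, hb, ha]
  inv_mem' := by
    intro a ha
    show sv a⁻¹ e = e
    have := sv_inv_sv a e
    rwa [ha] at this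

theorem mem_stabE {e : K m → F} {s : SpG m F} : s ∈ stabE e ↔ sv s e = e := Iff.rfl

theorem stabE_le_normalizer (e : K m → F) :
    stabE e ≤ Subgroup.normalizer ((Qg e : Subgroup (SpG m F)) : Set (SpG m F)) := by
  apply le_normalizer_of_conj_mem
  intro t ht q hq
  exact conj_mem_Qg ht hq

theorem Qs_le_stabE : Qs (m + 1) F ≤ stabE (eS F m) := by
  intro g hg
  obtain ⟨X, rfl⟩ := mem_Qs.1 hg
  rw [mem_stabE]
  show ((tEl X : Matrix.symplecticGroup (Fin (m + 1)) F) : Matrix (K (m + 1)) (K (m + 1)) F) *ᵥ eS F m = eS F m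
  rw [tEl_mulVec, eS_eq]
  funext i
  rcases i with i | i <;> simp

theorem Ss_le_stabE : Ss m F ≤ stabE (eS F m) := by
  intro g hg
  obtain ⟨B, rfl⟩ := mem_Ss.1 hg
  rw [mem_stabE]
  exact psi_mulVec_eS B

/-- the centre of `Sp` has no element of order `p` -/
theorem center_no_p (p : ℕ) [Fact p.Prime] [CharP F p] (hm : 1 ≤ m) :
    ∀ z ∈ Subgroup.center (SpG m F), z ^ p = 1 → z = 1 := by
  intro z hz hzp
  obtain ⟨c, hc⟩ := central_scalar m hm z hz
  have h1 := congrArg Subtype.val hzp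
  rw [SubmonoidClass.coe_pow, hc, Submonoid.coe_one, smul_pow, one_pow] at h1
  have h2 : c ^ p = 1 := by
    have := congrFun (congrFun h1 (Sum.inl ⟨0, hm⟩)) (Sum.inl ⟨0, hm⟩)
    simpa using this
  have h3 : (c - 1) ^ p = 0 := by
    rw [sub_pow_char, h2, one_pow, sub_self]
  have h4 : c = 1 := by
    have := pow_eq_zero_iff (Fact.out : p.Prime).ne_zero |>.1 h3
    exact sub_eq_zero.1 this
  apply Subtype.ext
  rw [hc, h4, one_smul, Submonoid.coe_one]

theorem eS_ne_zero' : eS F m ≠ 0 := by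
  intro h
  have := congrFun h ia
  rw [eS_ia] at this
  exact one_ne_zero this

end SecC

section Main

open Matrix Cfsg.Agent.Lib.H4 Cfsg.Agent.Lib.H2.Sp Cfsg.Agent.Lib.H2.SpU Cfsg.Agent.Lib.H13.AutPSp
open Cfsg.Agent.Lib.H12.LS2 Cfsg.Agent.Lib.H5.LS2 Cfsg.Agent.Lib.H11.SpU

/-- PSP -/
theorem sylRigid_PSp (F : Type*) [Field F] [Fintype F] (p : ℕ) [Fact p.Prime] [CharP F p] (m : ℕ) (hm : 2 ≤ m)
    (h2 : m = 2 → 3 ≤ Fintype.card F) (hs : IsSimpleGroup (PSp m F)) : SylRigid p (PSp m F) := by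
  obtain ⟨k, rfl⟩ : ∃ k, m = k + 1 := ⟨m - 1, by omega⟩
  have hk : 0 < k := by omega
  have hR : IsPGroup p ↥(Qg (eS F k) ⊔ Qs (k + 1) F : Subgroup (SpG (k + 1) F)) :=
    IsPGroup.to_sup_of_normal_left' (isPGroup_Qg p _) (isPGroup_Qs p)
      (Qs_le_stabE.trans (stabE_le_normalizer _))
  apply sylRigid_center_quot_of_gen p (center_no_p p (by omega)) (Qg (eS F k) ⊔ Qs (k + 1) F) hR
    {Qg (eS F k), Qs (k + 1) F}
  · intro Q hQ
    rcases hQ with rfl | rfl
    · exact ⟨le_sup_left, (centralizer_Qg_le eS_ne_zero').trans (sup_le_sup_left le_sup_left _)⟩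
    · exact ⟨le_sup_right, (centralizer_Qs_le (by omega)).trans (sup_le_sup_left le_sup_right _)⟩
  · rw [eq_top_iff, ← Ps_sup_Ss_eq_top hk]
    apply sup_le
    · intro g hg
      apply Subgroup.subset_closure
      rw [Set.mem_iUnion₂]
      exact ⟨Qs (k + 1) F, Or.inr rfl, Ps_le_normalizer_Qs hg⟩
    · intro g hg
      apply Subgroup.subset_closure
      rw [Set.mem_iUnion₂]
      exact ⟨Qg (eS F k), Or.inl rfl, stabE_le_normalizer _ (Ss_le_stabE hg)⟩

end Main

end Cfsg.Agent.Lib.H22.SR
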