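import Cfsg.Agent.Lib.H24.CharConj
import Cfsg.Agent.Lib.H24.CharOdd
import Cfsg.Agent.Lib.H24.CharOrth
import Cfsg.Agent.Lib.H23.DegreeDvd
import Cfsg.Agent.Lib.L0.RealPDegD

/-!
# S4581 piece KREAL (helper22)

* `exists_real_constituent`: a real-valued character of odd degree has a real-valued irreducible
  constituent (complex conjugation is an involution on the constituents; parity).
* `trivial_on_of_real_odd`: a real-valued irreducible character of odd degree is trivial on every
  normal subgroup of odd order.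
-/

set_option autoImplicit false

universe u

namespace Cfsg.Agent.Lib.H22.RO

open Cfsg Cfsg.Agent.Lib.L0 Cfsg.Agent.Lib.H23 Cfsg.Agent.Lib.H24
open scoped ComplexConjugate

theorem charDegree_irrConj {M : Type*} [Group M] [Finite M] (θ : IrrCharacter M) :
    charDegree (irrConj θ : M → ℂ) = charDegree (θ : M → ℂ) := by
  unfold charDegree
  rw [irrConj_apply, Complex.conj_re]

theorem irrConj_eq_self_iff {M : Type*} [Group M] [Finite M] (θ : IrrCharacter M) :
    irrConj θ = θ ↔ ∀ x : M, ((θ : M → ℂ) x).im = 0 := by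
  constructor
  · intro h x
    have h1 := congrFun (congrArg Subtype.val h) x
    rw [irrConj_apply] at h1
    exact Complex.conj_eq_iff_im.mp h1
  · intro h
    apply Subtype.ext
    funext x
    rw [irrConj_apply]
    exact Complex.conj_eq_iff_im.mpr (h x)

/-- A real-valued character of odd degree has a real-valued irreducible constituent. -/
theorem exists_real_constituent {M : Type*} [Group M] [Fintype M] (ψ : M → ℂ)
    (hψ : IsCharacter M ψ) (hreal : ∀ x, (ψ x).im = 0) (d : ℕ) (hd : ψ 1 = d) (hodd : Odd d) :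
    ∃ θ : IrrCharacter M, (∀ x, ((θ : M → ℂ) x).im = 0) ∧ classInner ψ (θ : M → ℂ) ≠ 0 := by
  classical
  haveI : Fintype (IrrCharacter M) := Fintype.ofFinite _
  choose m hm using fun θ : IrrCharacter M => classInner_char_irr_nat hψ θ.2
  by_contra hcon
  push Not at hcon
  have hψconj : (fun g => conj (ψ g)) = ψ := by
    funext g
    exact Complex.conj_eq_iff_im.mpr (hreal g)
  have hmconj : ∀ θ : IrrCharacter M, m (irrConj θ) = m θ := by
    intro θ
    have h1 := classInner_conj_conj ψ (θ : M → ℂ)
    rw [hψconj, hm θ, Complex.conj_natCast] at h1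
    have h2 := hm (irrConj θ)
    have h3 : ((irrConj θ : IrrCharacter M) : M → ℂ) = fun g => conj ((θ : M → ℂ) g) := rfl
    rw [h3, h1] at h2
    exact_mod_cast h2.symm
  have hdeg : (d : ℂ) = ∑ θ : IrrCharacter M, ((m θ * charDegree (θ : M → ℂ) : ℕ) : ℂ) := by
    have hexp := classFunction_expansion ψ (isClassFunction_of_isCharacter hψ)
    have h1 := congrFun hexp 1
    rw [hd, Finset.sum_apply] at h1
    rw [h1]
    refine Finset.sum_congr rfl (fun θ _ => ?_)
    rw [Pi.smul_apply, smul_eq_mul, hm θ, apply_one_eq_charDegree _ θ.2]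
    push_cast
    ring
  have hdegN : d = ∑ θ : IrrCharacter M, m θ * charDegree (θ : M → ℂ) := by
    have : (d : ℂ) = ((∑ θ : IrrCharacter M, m θ * charDegree (θ : M → ℂ) : ℕ) : ℂ) := by
      rw [hdeg]; push_cast; rfl
    exact_mod_cast this
  have hz : ((∑ θ : IrrCharacter M, m θ * charDegree (θ : M → ℂ) : ℕ) : ZMod 2) = 0 := by
    rw [Nat.cast_sum]
    refine Finset.sum_involution (s := Finset.univ)
      (f := fun θ : IrrCharacter M => ((m θ * charDegree (θ : M → ℂ) : ℕ) : ZMod 2))
      (fun θ _ => irrConj θ) ?_ ?_ (fun θ _ => Finset.mem_univ _) (fun θ _ => irrConj_irrConj θ)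
    · intro θ _
      show ((m θ * charDegree (θ : M → ℂ) : ℕ) : ZMod 2) +
        ((m (irrConj θ) * charDegree (irrConj θ : M → ℂ) : ℕ) : ZMod 2) = 0
      rw [hmconj θ, charDegree_irrConj θ]
      exact CharTwo.add_self_eq_zero _
    · intro θ _ hne hfix
      apply hne
      have hr := (irrConj_eq_self_iff θ).1 hfix
      have h0 := hcon θ hr
      rw [hm θ] at h0
      have : m θ = 0 := by exact_mod_cast h0
      rw [this]
      simp
  rw [← hdegN] at hz
  have h1 : ((d : ℕ) : ZMod 2) = 1 := ZMod.natCast_eq_one_iff_odd.2 hodd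
  rw [hz] at h1
  exact zero_ne_one h1

/-- KREAL: a real-valued irreducible character of odd degree is trivial on every normal subgroup
of odd order. -/
theorem trivial_on_of_real_odd {A : Type u} [Group A] [Finite A] (M : Subgroup A) [M.Normal]
    (hM : Odd (Nat.card M)) (χ : IrrCharacter A) (hodd : Odd (charDegree (χ : A → ℂ)))
    (hreal : ∀ x : A, ((χ : A → ℂ) x).im = 0) :
    ∀ m ∈ M, (χ : A → ℂ) m = (χ : A → ℂ) 1 := by
  classical
  have := Fintype.ofFinite A
  have : Fintype M := Fintype.ofFinite _
  have hres : IsCharacter M (fun n : M => (χ : A → ℂ) n) :=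
    isCharacter_restrict M (isCharacter_of_irr χ.2)
  obtain ⟨θ, hθr, hθ⟩ := exists_real_constituent (fun n : M => (χ : A → ℂ) n) hres
    (fun x => hreal x) (charDegree (χ : A → ℂ)) (by
      show (χ : A → ℂ) ((1 : M) : A) = _
      rw [Subgroup.coe_one]
      exact apply_one_eq_charDegree _ χ.2) hodd
  have htriv := real_irr_eq_trivial_of_odd hM θ hθr
  rw [htriv] at hθ
  exact Cfsg.Agent.Lib.L0.RealPDeg.trivial_on_of_classInner_ne_zero M χ hθ

end Cfsg.Agent.Lib.H22.RO
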