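import Mathlib
import Cfsg.Agent.Lib.H1.PGroupBasic

/-!
# p-groups with an automorphism all of whose proper invariant subgroups are fixed (helper22)

Abstract form of the normal Sylow subgroup of a minimal non-nilpotent (Schmidt) group:
a finite `p`-group `S` with an automorphism `ψ` of prime order `q ≠ p` such that every proper
`ψ`-invariant subgroup is fixed pointwise.  Then `Z = Fix ψ` is central, `S/Z` is elementary
abelian and `[x, S] = Z` for every `x ∉ Z` (`Cfg.se`).
-/

set_option autoImplicit false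
open scoped commutatorElement

namespace Cfsg.Agent.Lib.H22.SchAut

section basic

variable {S : Type*} [Group S]

/-- fixed-point subgroup of an automorphism -/
def fixSub (ψ : S ≃* S) : Subgroup S where
  carrier := {x | ψ x = x}
  mul_mem' := by
    intro a b ha hb
    have ha' : ψ a = a := ha
    have hb' : ψ b = b := hb
    show ψ (a * b) = a * b
    rw [map_mul, ha', hb']
  one_mem' := map_one ψ
  inv_mem' := by
    intro a ha
    have ha' : ψ a = a := ha
    show ψ a⁻¹ = a⁻¹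
    rw [map_inv, ha']

theorem mem_fixSub {ψ : S ≃* S} {x : S} : x ∈ fixSub ψ ↔ ψ x = x := Iff.rfl

/-- The configuration: `S` a `p`-group, `ψ` an automorphism with `ψ^q = 1`, every proper
`ψ`-invariant subgroup fixed pointwise, `ψ ≠ 1`. -/
structure Cfg (p q : ℕ) (ψ : S ≃* S) : Prop where
  hp : p.Prime
  hq : q.Prime
  hpq : p ≠ q
  pgroup : IsPGroup p S
  pow : ∀ x : S, (⇑ψ)^[q] x = x
  inv : ∀ K : Subgroup S, K ≠ ⊤ → (∀ x ∈ K, ψ x ∈ K) → ∀ x ∈ K, ψ x = x
  ne : ∃ x : S, ψ x ≠ x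

/-- "semi-extraspecial" structure relative to `Z`. -/
structure SE (p : ℕ) (Z : Subgroup S) : Prop where
  central : ∀ z ∈ Z, ∀ s : S, s * z = z * s
  comm : ∀ a b : S, ⁅a, b⁆ ∈ Z
  ppow : ∀ a : S, a ^ p ∈ Z
  surj : ∀ x : S, x ∉ Z → ∀ z ∈ Z, ∃ s : S, ⁅x, s⁆ = z

section homs

variable (hc : ∀ a b s : S, s * ⁅a, b⁆ = ⁅a, b⁆ * s)

/-- `s ↦ ⁅x, s⁆` as a homomorphism (commutators central) -/
def cl (x : S) : S →* S := MonoidHom.mk' (fun s => ⁅x, s⁆) (by
  intro s t
  have h1 : ⁅x, s * t⁆ = ⁅x, s⁆ * (s * ⁅x, t⁆ * s⁻¹) := by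
    simp only [commutatorElement_def]; group
  rw [h1, hc x t s, mul_inv_cancel_right])

/-- `x ↦ ⁅x, s⁆` as a homomorphism (commutators central) -/
def cr (s : S) : S →* S := MonoidHom.mk' (fun x => ⁅x, s⁆) (by
  intro x y
  have h1 : ⁅x * y, s⁆ = x * ⁅y, s⁆ * x⁻¹ * ⁅x, s⁆ := by
    simp only [commutatorElement_def]; group
  rw [h1, hc y s x, mul_inv_cancel_right]
  exact (hc y s ⁅x, s⁆).symm)

theorem cl_apply (x s : S) : cl hc x s = ⁅x, s⁆ := rfl

theorem cr_apply (s x : S) : cr hc s x = ⁅x, s⁆ := rfl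

end homs

theorem iterate_mul_pow {ψ : S ≃* S} {x k : S} (hx : ψ x = x * k) (hk : ψ k = k) (j : ℕ) :
    (⇑ψ)^[j] x = x * k ^ j := by
  induction j with
  | zero => simp
  | succ j ih =>
    rw [Function.iterate_succ_apply', ih, map_mul, map_pow, hx, hk, pow_succ', mul_assoc]

/-- a subgroup generated by one element and a central subgroup, equal to `⊤`, makes the group
commutative -/
theorem comm_of_closure_eq_top {Z : Subgroup S} (hZ : ∀ z ∈ Z, ∀ s : S, s * z = z * s) (g : S)
    (hcl : Subgroup.closure ({g} ∪ (Z : Set S)) = ⊤) (a b : S) : a * b = b * a := by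
  have h1 : Subgroup.closure ({g} ∪ (Z : Set S)) ≤ Subgroup.centralizer {g} := by
    rw [Subgroup.closure_le]
    rintro y (hy | hy)
    · rw [Set.mem_singleton_iff] at hy
      subst hy
      rw [SetLike.mem_coe, Subgroup.mem_centralizer_iff]
      intro h hh
      rw [Set.mem_singleton_iff] at hh
      rw [hh]
    · rw [SetLike.mem_coe, Subgroup.mem_centralizer_iff]
      intro h hh
      rw [Set.mem_singleton_iff] at hh
      rw [hh]
      exact hZ y hy g
  have hg : ∀ s : S, g * s = s * g := by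
    intro s
    have hs : s ∈ Subgroup.centralizer {g} := h1 (hcl ▸ Subgroup.mem_top s)
    rw [Subgroup.mem_centralizer_iff] at hs
    exact hs g rfl
  have h2 : Subgroup.closure ({g} ∪ (Z : Set S)) ≤ Subgroup.center S := by
    rw [Subgroup.closure_le]
    rintro y (hy | hy)
    · rw [Set.mem_singleton_iff] at hy
      subst hy
      rw [SetLike.mem_coe, Subgroup.mem_center_iff]
      intro s
      exact (hg s).symm
    · rw [SetLike.mem_coe, Subgroup.mem_center_iff]
      intro s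
      exact hZ y hy s
  have ha : a ∈ Subgroup.center S := h2 (hcl ▸ Subgroup.mem_top a)
  rw [Subgroup.mem_center_iff] at ha
  exact (ha b).symm

end basic

section cfg

variable {S : Type*} [Group S] {p q : ℕ} {ψ : S ≃* S}

theorem Cfg.eq_one_of_pow (h : Cfg p q ψ) {k : S} (hk : k ^ q = 1) : k = 1 := by
  obtain ⟨n, hn⟩ := h.pgroup k
  have h1 : orderOf k ∣ q := orderOf_dvd_of_pow_eq_one hk
  have h2 : orderOf k ∣ p ^ n := orderOf_dvd_of_pow_eq_one hn
  have h3 : Nat.Coprime q (p ^ n) :=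
    Nat.Coprime.pow_right n ((Nat.coprime_primes h.hq h.hp).2 h.hpq.symm)
  have h4 : orderOf k = 1 := Nat.eq_one_of_dvd_coprimes h3 h1 h2
  exact orderOf_eq_one_iff.1 h4

/-- `[S, ψ] = S` -/
theorem Cfg.closure_eq_top (h : Cfg p q ψ) :
    Subgroup.closure {y : S | ∃ x, y = x⁻¹ * ψ x} = ⊤ := by
  by_contra hne
  set K := Subgroup.closure {y : S | ∃ x, y = x⁻¹ * ψ x} with hK
  have hinv : ∀ x ∈ K, ψ x ∈ K := by
    have hle : K ≤ K.comap ψ.toMonoidHom := by
      rw [hK, Subgroup.closure_le]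
      rintro _ ⟨x, rfl⟩
      show ψ (x⁻¹ * ψ x) ∈ Subgroup.closure {y : S | ∃ x, y = x⁻¹ * ψ x}
      rw [map_mul, map_inv]
      exact Subgroup.subset_closure ⟨ψ x, rfl⟩
    exact fun x hx => hle hx
  have hfix := h.inv K hne hinv
  obtain ⟨x, hx⟩ := h.ne
  apply hx
  have hk : x⁻¹ * ψ x ∈ K := Subgroup.subset_closure ⟨x, rfl⟩
  have h1 := iterate_mul_pow (ψ := ψ) (x := x) (k := x⁻¹ * ψ x) (by group) (hfix _ hk) q
  rw [h.pow x] at h1
  have h2 : (x⁻¹ * ψ x) ^ q = 1 := by
    have h3 : x * 1 = x * (x⁻¹ * ψ x) ^ q := by rw [mul_one]; exact h1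
    exact (mul_left_cancel h3).symm
  have h3 : x⁻¹ * ψ x = 1 := h.eq_one_of_pow h2
  exact (inv_mul_eq_one.1 h3).symm

variable [Finite S]

theorem Cfg.frattini_le (h : Cfg p q ψ) : frattini S ≤ fixSub ψ := by
  have hnt : Nontrivial S := by
    obtain ⟨x, hx⟩ := h.ne
    exact ⟨⟨ψ x, x, hx⟩⟩
  have hne : frattini S ≠ ⊤ := by
    obtain ⟨M, hM, -⟩ := (eq_top_or_exists_le_coatom (⊥ : Subgroup S)).resolve_left bot_ne_top
    intro htop
    have h1 := frattini_le_coatom hM
    rw [htop, top_le_iff] at h1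
    exact hM.1 h1
  have hinv : ∀ x ∈ frattini S, ψ x ∈ frattini S := by
    intro x hx
    have hc : (frattini S).Characteristic := frattini_characteristic
    have h1 := Subgroup.characteristic_iff_map_eq.1 hc ψ
    rw [← h1]
    exact Subgroup.mem_map_of_mem _ hx
  intro x hx
  exact h.inv _ hne hinv x hx

theorem Cfg.comm_mem (h : Cfg p q ψ) (a b : S) : ⁅a, b⁆ ∈ fixSub ψ := by
  haveI : Fact p.Prime := ⟨h.hp⟩
  exact h.frattini_le (Cfsg.Agent.Lib.H1.isPGroup_commutator_le_frattini h.pgroup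
    (Subgroup.commutator_mem_commutator (Subgroup.mem_top a) (Subgroup.mem_top b)))

theorem Cfg.pow_mem (h : Cfg p q ψ) (a : S) : a ^ p ∈ fixSub ψ := by
  haveI : Fact p.Prime := ⟨h.hp⟩
  exact h.frattini_le (Cfsg.Agent.Lib.H1.isPGroup_pow_mem_frattini h.pgroup a)

theorem Cfg.central (h : Cfg p q ψ) : ∀ z ∈ fixSub ψ, ∀ s : S, s * z = z * s := by
  intro z hz s
  have hz' : ψ z = z := hz
  have hle : Subgroup.closure {y : S | ∃ x, y = x⁻¹ * ψ x} ≤ Subgroup.centralizer {z} := by
    rw [Subgroup.closure_le]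
    rintro _ ⟨x, rfl⟩
    rw [SetLike.mem_coe, Subgroup.mem_centralizer_iff]
    intro w hw
    rw [Set.mem_singleton_iff] at hw
    subst hw
    have h1 : ψ ⁅x, w⁆ = ⁅x, w⁆ := h.comm_mem x w
    rw [map_commutatorElement, hz'] at h1
    simp only [commutatorElement_def] at h1
    have h2 : ψ x * w * (ψ x)⁻¹ = x * w * x⁻¹ := mul_right_cancel h1
    calc w * (x⁻¹ * ψ x) = x⁻¹ * (x * w * x⁻¹) * ψ x := by group
      _ = x⁻¹ * (ψ x * w * (ψ x)⁻¹) * ψ x := by rw [h2]
      _ = x⁻¹ * ψ x * w := by group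
  have hs : s ∈ Subgroup.centralizer {z} := hle (h.closure_eq_top ▸ Subgroup.mem_top s)
  rw [Subgroup.mem_centralizer_iff] at hs
  exact (hs z rfl).symm

theorem Cfg.fix_le_commutator (h : Cfg p q ψ) : fixSub ψ ≤ commutator S := by
  intro z hz
  have hz' : ψ z = z := hz
  let ψb : Abelianization S →* Abelianization S := Abelianization.map ψ.toMonoidHom
  let φ : Abelianization S →* Abelianization S := ψb / MonoidHom.id (Abelianization S)
  have hφ : ∀ x : S, φ (Abelianization.of x) = Abelianization.of (x⁻¹ * ψ x) := by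
    intro x
    show ψb (Abelianization.of x) / Abelianization.of x = _
    rw [Abelianization.map_of, map_mul, map_inv, div_eq_mul_inv, mul_comm]
    rfl
  have hsurj : Function.Surjective φ := by
    rw [← MonoidHom.range_eq_top, eq_top_iff]
    have h1 : (⊤ : Subgroup (Abelianization S)) =
        (Subgroup.closure {y : S | ∃ x, y = x⁻¹ * ψ x}).map Abelianization.of := by
      rw [h.closure_eq_top, ← MonoidHom.range_eq_map]
      exact (MonoidHom.range_eq_top.2 (QuotientGroup.mk'_surjective _)).symm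
    rw [h1, MonoidHom.map_closure, Subgroup.closure_le]
    rintro _ ⟨_, ⟨x, rfl⟩, rfl⟩
    exact ⟨Abelianization.of x, hφ x⟩
  have hinj : Function.Injective φ := Finite.injective_iff_surjective.2 hsurj
  have h2 : φ (Abelianization.of z) = 1 := by
    rw [hφ, hz', inv_mul_cancel, map_one]
  have h3 : Abelianization.of z = 1 := hinj (h2.trans (map_one φ).symm)
  rwa [← MonoidHom.mem_ker, Abelianization.ker_of] at h3

theorem Cfg.hc (h : Cfg p q ψ) : ∀ a b s : S, s * ⁅a, b⁆ = ⁅a, b⁆ * s :=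
  fun a b s => h.central _ (h.comm_mem a b) s

theorem Cfg.surj (h : Cfg p q ψ) :
    ∀ x : S, x ∉ fixSub ψ → ∀ z ∈ fixSub ψ, ∃ s : S, ⁅x, s⁆ = z := by
  intro x hx z hz
  set I := (cl h.hc x).range with hI
  set R : Subgroup S := ⨅ s : S, I.comap (cr h.hc s) with hR
  have hxR : x ∈ R := by
    rw [hR, Subgroup.mem_iInf]
    intro s
    rw [Subgroup.mem_comap]
    exact ⟨s, rfl⟩
  have hinv : ∀ y ∈ R, ψ y ∈ R := by
    intro y hy
    rw [hR, Subgroup.mem_iInf] at hy ⊢
    intro s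
    rw [Subgroup.mem_comap, cr_apply]
    have h1 := hy (ψ.symm s)
    rw [Subgroup.mem_comap, cr_apply] at h1
    have h2 : ψ ⁅y, ψ.symm s⁆ = ⁅y, ψ.symm s⁆ := h.comm_mem _ _
    rw [map_commutatorElement, MulEquiv.apply_symm_apply] at h2
    rw [h2]
    exact h1
  have hRtop : R = ⊤ := by
    by_contra hne
    exact hx (h.inv R hne hinv x hxR)
  have hle : commutator S ≤ I := by
    rw [commutator_def, Subgroup.commutator_le]
    intro a _ b _
    have ha : a ∈ R := hRtop ▸ Subgroup.mem_top a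
    rw [hR, Subgroup.mem_iInf] at ha
    have := ha b
    rwa [Subgroup.mem_comap, cr_apply] at this
  obtain ⟨s, hs⟩ := hle (h.fix_le_commutator hz)
  exact ⟨s, hs⟩

theorem Cfg.se (h : Cfg p q ψ) : SE p (fixSub ψ) where
  central := h.central
  comm := h.comm_mem
  ppow := h.pow_mem
  surj := h.surj

theorem Cfg.fix_ne_top (h : Cfg p q ψ) : fixSub ψ ≠ ⊤ := by
  intro htop
  obtain ⟨x, hx⟩ := h.ne
  exact hx (htop ▸ Subgroup.mem_top x : x ∈ fixSub ψ)

end cfg

end Cfsg.Agent.Lib.H22.SchAut
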