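import Mathlib
import Cfsg.Agent.Lib.H22.SchAutA
import Cfsg.Agent.Lib.H3.Schmidt2
import Cfsg.Agent.Lib.H1.Complement
import Cfsg.Agent.Lib.H21.NormMax

/-!
# The normal Sylow subgroup of a minimal non-nilpotent group carries a `Cfg` (helper22)
-/

set_option autoImplicit false
open scoped commutatorElement

namespace Cfsg.Agent.Lib.H22.SchAut

variable {X : Type*} [Group X] [Finite X]

theorem iterate_conjNormal (P : Subgroup X) [P.Normal] (y : X) (n : ℕ) (x : ↥P) :
    (((⇑(MulAut.conjNormal y : MulAut ↥P))^[n] x : ↥P) : X) = y ^ n * x * (y ^ n)⁻¹ := by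
  induction n with
  | zero => simp
  | succ n ih =>
    rw [Function.iterate_succ_apply', MulAut.conjNormal_apply, ih, pow_succ']
    group

theorem exists_cfg (p : ℕ) [hpF : Fact p.Prime]
    (hX : Cfsg.IsMinimalNonNilpotent X) (P : Sylow p X) (hPn : (P : Subgroup X).Normal)
    (hP1 : (P : Subgroup X) ≠ ⊥) :
    ∃ (q : ℕ) (ψ : ↥(P : Subgroup X) ≃* ↥(P : Subgroup X)), Cfg p q ψ := by
  classical
  obtain ⟨q, p₀, hq, hp₀, hqp, C, Q₀, hcyc, hQ₀n, hsup, hCnn⟩ :=
    Cfsg.Agent.Lib.H3.schmidt_structure hX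
  have hpp : p.Prime := hpF.out
  haveI hqF : Fact q.Prime := ⟨hq⟩
  haveI hp₀F : Fact p₀.Prime := ⟨hp₀⟩
  -- p ≠ q
  have hpq : p ≠ q := by
    rintro rfl
    have hu := Sylow.unique_of_normal P hPn
    have h1 : C = P := Subsingleton.elim _ _
    exact hCnn (h1 ▸ hPn)
  -- p = p₀
  have hpp₀ : p = p₀ := by
    have h1 : Nat.card X ∣ Nat.card C * Nat.card Q₀ := by
      have h2 : Nat.card (⊤ : Subgroup X) = Nat.card X := Subgroup.card_top
      rw [← h2, ← hsup]
      have h3 := Subgroup.relIndex_mul_relIndex ⊥ (Q₀ : Subgroup X) ((C : Subgroup X) ⊔ Q₀)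
        bot_le le_sup_right
      rw [Subgroup.relIndex_bot_left, Subgroup.relIndex_bot_left,
        Subgroup.relIndex_sup_right] at h3
      rw [← h3, mul_comm]
      exact Nat.mul_dvd_mul_right (Subgroup.relIndex_dvd_card _ _) _
    obtain ⟨a, ha⟩ := IsPGroup.iff_card.1 C.2
    obtain ⟨b, hb⟩ := IsPGroup.iff_card.1 Q₀.2
    rw [ha, hb] at h1
    have hpdvd : p ∣ Nat.card X := by
      have h4 : p ∣ Nat.card (P : Subgroup X) := by
        obtain ⟨c, hc⟩ := IsPGroup.iff_card.1 P.2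
        rw [hc]
        have hc0 : c ≠ 0 := by
          rintro rfl
          rw [pow_zero] at hc
          exact hP1 ((Subgroup.card_eq_one).1 hc)
        exact dvd_pow_self p hc0
      exact h4.trans (Subgroup.card_subgroup_dvd_card _)
    rcases (Nat.Prime.dvd_mul hpp).1 (hpdvd.trans h1) with h | h
    · exact absurd ((Nat.prime_dvd_prime_iff_eq hpp hq).1 (hpp.dvd_of_dvd_pow h)) hpq
    · exact (Nat.prime_dvd_prime_iff_eq hpp hp₀).1 (hpp.dvd_of_dvd_pow h)
  subst hpp₀
  have hQP : Q₀ = P := by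
    have hu := Sylow.unique_of_normal P hPn
    exact Subsingleton.elim _ _
  subst hQP
  have hPC : (Q₀ : Subgroup X) ⊓ C = ⊥ :=
    (IsPGroup.disjoint_of_ne p q hpq _ _ Q₀.2 C.2).eq_bot
  haveI : (Q₀ : Subgroup X).Normal := hPn
  -- generator
  obtain ⟨g, hg⟩ := hcyc.exists_generator
  set y : X := (g : X) with hy
  have hyC : y ∈ (C : Subgroup X) := g.2
  have hCy : ∀ c ∈ (C : Subgroup X), ∃ n : ℤ, y ^ n = c := by
    intro c hc
    obtain ⟨n, hn⟩ := Subgroup.mem_zpowers_iff.1 (hg ⟨c, hc⟩)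
    refine ⟨n, ?_⟩
    have := congrArg Subtype.val hn
    simpa using this
  -- commuting inside proper subgroups
  have hcomm : ∀ K : Subgroup X, K ≠ ⊤ → ∀ a ∈ (Q₀ : Subgroup X), ∀ b ∈ (C : Subgroup X),
      a ∈ K → b ∈ K → a * b = b * a := by
    intro K hK a ha b hb haK hbK
    exact Cfsg.Agent.Lib.H3.commute_of_isNilpotent_subgroup K (hX.2 K hK) hpq
      (Q₀ : Subgroup X) (C : Subgroup X) Q₀.2 C.2 ha hb haK hbK
  -- y does not centralize P
  have hne : ∃ x : ↥(Q₀ : Subgroup X), (MulAut.conjNormal y : MulAut ↥(Q₀ : Subgroup X)) x ≠ x := by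
    by_contra hcon
    push Not at hcon
    apply hCnn
    rw [← Subgroup.normalizer_eq_top_iff, eq_top_iff, ← hsup]
    refine sup_le Subgroup.le_normalizer ?_
    refine le_trans ?_ (Subgroup.centralizer_le_normalizer _)
    intro a ha
    rw [Subgroup.mem_centralizer_iff]
    intro c hc
    obtain ⟨n, rfl⟩ := hCy c hc
    have h1 : y * a * y⁻¹ = a := by
      have := congrArg Subtype.val (hcon ⟨a, ha⟩)
      rwa [MulAut.conjNormal_apply] at this
    have h2 : Commute y a := by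
      show y * a = a * y
      calc y * a = y * a * y⁻¹ * y := by group
        _ = a * y := by rw [h1]
    exact (h2.zpow_left n).eq
  -- q ∣ orderOf y
  have hy1 : y ≠ 1 := by
    intro hy1
    apply hCnn
    have : (C : Subgroup X) = ⊥ := by
      rw [eq_bot_iff]
      intro c hc
      obtain ⟨n, rfl⟩ := hCy c hc
      rw [hy1, one_zpow]
      exact Subgroup.mem_bot.2 rfl
    rw [this]
    infer_instance
  have hqy : q ∣ orderOf y := by
    obtain ⟨k, hk⟩ := C.2 ⟨y, hyC⟩
    have hk' : y ^ q ^ k = 1 := by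
      have := congrArg Subtype.val hk
      simpa using this
    obtain ⟨m, hm, hmo⟩ := (Nat.dvd_prime_pow hq).1 (orderOf_dvd_of_pow_eq_one hk')
    have hm0 : m ≠ 0 := by
      rintro rfl
      rw [pow_zero] at hmo
      exact hy1 (orderOf_eq_one_iff.1 hmo)
    rw [hmo]
    exact dvd_pow_self q hm0
  -- y^q centralizes P
  have hyq : ∀ a ∈ (Q₀ : Subgroup X), a * y ^ q = y ^ q * a := by
    intro a ha
    set K := Subgroup.zpowers (y ^ q) ⊔ (Q₀ : Subgroup X) with hK
    have hKtop : K ≠ ⊤ := by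
      intro htop
      have hyK : y ∈ K := htop ▸ Subgroup.mem_top y
      obtain ⟨b, hb, a', ha', hba⟩ := Subgroup.mem_sup_of_normal_right.1 hyK
      obtain ⟨j, rfl⟩ := Subgroup.mem_zpowers_iff.1 hb
      have hbC : (y ^ q) ^ j ∈ (C : Subgroup X) :=
        Subgroup.zpow_mem _ (Subgroup.pow_mem _ hyC q) j
      have ha'C : a' ∈ (C : Subgroup X) := by
        have : a' = ((y ^ q) ^ j)⁻¹ * y := by rw [eq_inv_mul_iff_mul_eq]; exact hba
        rw [this]
        exact Subgroup.mul_mem _ (Subgroup.inv_mem _ hbC) hyC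
      have ha'1 : a' = 1 := by
        have : a' ∈ (Q₀ : Subgroup X) ⊓ C := ⟨ha', ha'C⟩
        rw [hPC] at this
        exact Subgroup.mem_bot.1 this
      rw [ha'1, mul_one] at hba
      have h1 : y ^ ((q : ℤ) * j - 1) = 1 := by
        rw [zpow_sub, zpow_mul, zpow_natCast, hba, zpow_one, mul_inv_cancel]
      have h2 : (orderOf y : ℤ) ∣ (q : ℤ) * j - 1 := orderOf_dvd_iff_zpow_eq_one.2 h1
      have h3 : (q : ℤ) ∣ (q : ℤ) * j - 1 := (Int.natCast_dvd_natCast.2 hqy).trans h2
      have h4 : (q : ℤ) ∣ 1 := by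
        have := dvd_sub (dvd_mul_right (q : ℤ) j) h3
        simpa using this
      have h5 : (q : ℤ) = 1 := Int.eq_one_of_dvd_one (by positivity) h4
      have h6 : q = 1 := by exact_mod_cast h5
      exact hq.one_lt.ne' h6
    exact hcomm K hKtop a ha (y ^ q) (Subgroup.pow_mem _ hyC q)
      ((le_sup_right : (Q₀ : Subgroup X) ≤ K) ha)
      ((le_sup_left : Subgroup.zpowers (y ^ q) ≤ K) (Subgroup.mem_zpowers _))
  refine ⟨q, (MulAut.conjNormal y : MulAut ↥(Q₀ : Subgroup X)), ?_⟩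
  refine ⟨hpp, hq, hpq, Q₀.isPGroup', ?_, ?_, hne⟩
  · -- pow
    intro x
    apply Subtype.ext
    rw [iterate_conjNormal]
    have := hyq x x.2
    calc y ^ q * (x : X) * (y ^ q)⁻¹ = (x : X) * y ^ q * (y ^ q)⁻¹ := by rw [this]
      _ = x := by group
  · -- inv
    intro K hK hinv x hxK
    set K' : Subgroup X := K.map (Q₀ : Subgroup X).subtype with hK'
    have hK'P : K' ≤ (Q₀ : Subgroup X) := by
      rintro _ ⟨k, -, rfl⟩
      exact k.2
    haveI : Finite K' := inferInstance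
    have hyN : y ∈ Subgroup.normalizer (K' : Set X) := by
      apply Cfsg.Agent.Lib.H21.NormMax.mem_normalizer_of_forall_conj_mem
      rintro _ ⟨k, hk, rfl⟩
      refine ⟨(MulAut.conjNormal y : MulAut ↥(Q₀ : Subgroup X)) k, hinv k hk, ?_⟩
      rw [Subgroup.subtype_apply, MulAut.conjNormal_apply]
      rfl
    have hCN : (C : Subgroup X) ≤ Subgroup.normalizer (K' : Set X) := by
      intro c hc
      obtain ⟨n, rfl⟩ := hCy c hc
      exact Subgroup.zpow_mem _ hyN n
    have hNtop : K' ⊔ (C : Subgroup X) ≠ ⊤ := by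
      intro htop
      apply hK
      rw [eq_top_iff]
      intro a _
      have haN : (a : X) ∈ K' ⊔ (C : Subgroup X) := htop ▸ Subgroup.mem_top _
      obtain ⟨k, hk, c, hc, hkc⟩ := Cfsg.Agent.Lib.H1.mem_sup_of_le_normalizer hCN haN
      have hcP : c ∈ (Q₀ : Subgroup X) := by
        have : c = k⁻¹ * a := by rw [hkc]; group
        rw [this]
        exact Subgroup.mul_mem _ (Subgroup.inv_mem _ (hK'P hk)) a.2
      have hc1 : c = 1 := by
        have : c ∈ (Q₀ : Subgroup X) ⊓ C := ⟨hcP, hc⟩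
        rw [hPC] at this
        exact Subgroup.mem_bot.1 this
      rw [hc1, mul_one] at hkc
      obtain ⟨k₀, hk₀, hk₀e⟩ := hk
      have : a = k₀ := Subtype.ext (hkc.trans hk₀e.symm)
      rw [this]
      exact hk₀
    have hxK' : (x : X) ∈ K' := ⟨x, hxK, rfl⟩
    have h1 := hcomm _ hNtop (x : X) x.2 y hyC
      ((le_sup_left : K' ≤ K' ⊔ (C : Subgroup X)) hxK')
      ((le_sup_right : (C : Subgroup X) ≤ K' ⊔ (C : Subgroup X)) hyC)
    apply Subtype.ext
    rw [MulAut.conjNormal_apply]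
    calc y * (x : X) * y⁻¹ = (x : X) * y * y⁻¹ := by rw [h1]
      _ = x := by group

end Cfsg.Agent.Lib.H22.SchAut
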