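import Cfsg.Agent.Lib.H22.LargeExtra3
import Cfsg.Agent.Lib.H5.KleinPair

/-!
helper22 library: pairs `(Q, z)`, `(Qx, x)` of large-extraspecial-like subgroups with `x ∈ Q`,
`z ∈ Qx`, `x ≠ z` (Aschbacher, Sporadic Groups, Lemma 8.7): the subgroups
`A = C_Q(x)`, `B = C_{Qx}(z)`, `E = Q ∩ Qx`, `R = B A`.
-/

set_option autoImplicit false

namespace Cfsg.Agent.Lib.H22.LargeExtra

open Cfsg.Agent.Lib.H15

variable {G : Type*} [Group G]

/-- A symmetric pair of large-extraspecial-like subgroups. -/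
structure LXP (Q Qx : Subgroup G) (z x : G) : Prop where
  l : LX Q z
  lx : LX Qx x
  xQ : x ∈ Q
  zQx : z ∈ Qx
  ne : x ≠ z
  conj : ∀ k : G, k * z * k⁻¹ = x → ∀ a ∈ Q, k * a * k⁻¹ ∈ Qx
  conj' : ∀ k : G, k * x * k⁻¹ = z → ∀ a ∈ Qx, k * a * k⁻¹ ∈ Q

variable {Q Qx : Subgroup G} {z x : G}

theorem LXP.symm (h : LXP Q Qx z x) : LXP Qx Q x z :=
  ⟨h.lx, h.l, h.zQx, h.xQ, h.ne.symm, h.conj', h.conj⟩

theorem LXP.comm_zx (h : LXP Q Qx z x) : z * x = x * z := (h.l.cz x h.xQ).symm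

theorem LXP.zinv (h : LXP Q Qx z x) : z⁻¹ = z := inv_eq_of_mul_eq_one_right h.l.sq_one

theorem LXP.xinv (h : LXP Q Qx z x) : x⁻¹ = x := inv_eq_of_mul_eq_one_right h.lx.sq_one

theorem LXP.E_comm (h : LXP Q Qx z x) {a b : G} (ha : a ∈ Q) (ha' : a ∈ Qx) (hb : b ∈ Q)
    (hb' : b ∈ Qx) : a * b = b * a := by
  have e : a * b = (a * b * a⁻¹ * b⁻¹) * (b * a) := by group
  rcases h.l.comm a ha b hb with h1 | h1
  · rw [e, h1, one_mul]
  · rcases h.lx.comm a ha' b hb' with h2 | h2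
    · rw [e, h2, one_mul]
    · exfalso
      rw [h1] at h2
      exact h.ne h2.symm

theorem LXP.E_sq (h : LXP Q Qx z x) {a : G} (ha : a ∈ Q) (ha' : a ∈ Qx) : a * a = 1 := by
  rcases h.l.sq a ha with h1 | h1
  · exact h1
  · rcases h.lx.sq a ha' with h2 | h2
    · exact h2
    · exfalso
      rw [h1] at h2
      exact h.ne h2.symm

theorem LXP.comm_AB (h : LXP Q Qx z x) {a b : G} (ha : a ∈ Q) (hax : a * x = x * a)
    (hb : b ∈ Qx) (hbz : b * z = z * b) :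
    a * b * a⁻¹ * b⁻¹ ∈ Q ∧ a * b * a⁻¹ * b⁻¹ ∈ Qx := by
  constructor
  · have h1 : b * a⁻¹ * b⁻¹ ∈ Q := h.l.normal _ hbz _ (Subgroup.inv_mem _ ha)
    have : a * b * a⁻¹ * b⁻¹ = a * (b * a⁻¹ * b⁻¹) := by group
    rw [this]; exact Subgroup.mul_mem _ ha h1
  · have h1 : a * b * a⁻¹ ∈ Qx := h.lx.normal _ hax _ hb
    exact Subgroup.mul_mem _ h1 (Subgroup.inv_mem _ hb)

theorem LXP.conj_x_of_not (h : LXP Q Qx z x) {q : G} (hq : q ∈ Q) (hqx : q * x ≠ x * q) :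
    q * x * q⁻¹ = z * x := h.l.conj_eq hq h.xQ hqx

theorem LXP.conj_x (h : LXP Q Qx z x) {q : G} (hq : q ∈ Q) :
    q * x * q⁻¹ = x ∨ q * x * q⁻¹ = z * x := by
  by_cases hqx : q * x = x * q
  · left; exact conj_eq_self_iff.mpr hqx
  · right; exact h.conj_x_of_not hq hqx

theorem LXP.conj_z (h : LXP Q Qx z x) {q : G} (hq : q ∈ Q) : q * z * q⁻¹ = z :=
  conj_eq_self_iff.mpr (h.l.cz q hq)

theorem LXP.conj_zx_of_not (h : LXP Q Qx z x) {q : G} (hq : q ∈ Q) (hqx : q * x ≠ x * q) :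
    q * (z * x) * q⁻¹ = x := by
  calc q * (z * x) * q⁻¹ = (q * z * q⁻¹) * (q * x * q⁻¹) := by group
    _ = z * (z * x) := by rw [h.conj_z hq, h.conj_x_of_not hq hqx]
    _ = x := by rw [← mul_assoc, h.l.sq_one, one_mul]

/-- `Q` normalizes `C(z) ∩ C(x)`. -/
theorem LXP.conj_cv (h : LXP Q Qx z x) {q c : G} (hq : q ∈ Q) (hcz : c * z = z * c)
    (hcx : c * x = x * c) :
    (q * c * q⁻¹) * z = z * (q * c * q⁻¹) ∧ (q * c * q⁻¹) * x = x * (q * c * q⁻¹) := by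
  have hqz : Commute q z := h.l.cz q hq
  have hcz' : Commute c z := hcz
  have hcx' : Commute c x := hcx
  have h1 : Commute (q * c * q⁻¹) z := (hqz.mul_left hcz').mul_left hqz.inv_left
  refine ⟨h1.eq, ?_⟩
  by_cases hqx : q * x = x * q
  · have hqx' : Commute q x := hqx
    exact ((hqx'.mul_left hcx').mul_left hqx'.inv_left).eq
  · have h2 : q * (z * x) * q⁻¹ = x := h.conj_zx_of_not hq hqx
    have h3 : Commute c (z * x) := hcz'.mul_right hcx'
    apply conj_eq_self_iff.mp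
    calc (q * c * q⁻¹) * x * (q * c * q⁻¹)⁻¹
        = (q * c * q⁻¹) * (q * (z * x) * q⁻¹) * (q * c * q⁻¹)⁻¹ := by rw [h2]
      _ = q * (c * (z * x) * c⁻¹) * q⁻¹ := by group
      _ = q * (z * x) * q⁻¹ := by rw [h3.mul_inv_cancel]
      _ = x := h2

/-- `[Q, B] ≤ A`. -/
theorem LXP.comm_QB (h : LXP Q Qx z x) {q b : G} (hq : q ∈ Q) (hb : b ∈ Qx)
    (hbz : b * z = z * b) :
    q * b * q⁻¹ * b⁻¹ ∈ Q ∧ (q * b * q⁻¹ * b⁻¹) * x = x * (q * b * q⁻¹ * b⁻¹) := by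
  have hbx : b * x = x * b := h.lx.cz b hb
  constructor
  · have h1 : b * q⁻¹ * b⁻¹ ∈ Q := h.l.normal _ hbz _ (Subgroup.inv_mem _ hq)
    have : q * b * q⁻¹ * b⁻¹ = q * (b * q⁻¹ * b⁻¹) := by group
    rw [this]; exact Subgroup.mul_mem _ hq h1
  · have h1 : Commute (q * b * q⁻¹) x := (h.conj_cv hq hbz hbx).2
    have h2 : Commute b⁻¹ x := (show Commute b x from hbx).inv_left
    exact (h1.mul_left h2).eq

/-- two elements of `Q ∖ A` differ by an element of `A`. -/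
theorem LXP.coset (h : LXP Q Qx z x) {q a : G} (hq : q ∈ Q) (hqx : q * x ≠ x * q)
    (ha : a ∈ Q) (hax : a * x ≠ x * a) : (q⁻¹ * a) * x = x * (q⁻¹ * a) := by
  have h1 : q⁻¹ * (z * x) * q = x := by
    have := h.conj_x_of_not hq hqx
    rw [← this]; group
  apply conj_eq_self_iff.mp
  calc (q⁻¹ * a) * x * (q⁻¹ * a)⁻¹ = q⁻¹ * (a * x * a⁻¹) * q := by group
    _ = q⁻¹ * (z * x) * q := by rw [h.conj_x_of_not ha hax]
    _ = x := h1

theorem LXP.exists_not_comm (h : LXP Q Qx z x) : ∃ q ∈ Q, q * x ≠ x * q := by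
  by_contra hcon
  have : ∀ a ∈ Q, a * x = x * a := by
    intro a ha; by_contra h'; exact hcon ⟨a, ha, h'⟩
  rcases h.l.center x h.xQ this with h1 | h1
  · exact h.lx.ne_one h1
  · exact h.ne h1

/-- `C_G(A) ∩ C(z) ∩ C(x) = {1, z, x, zx}`. -/
theorem LXP.cent_A (h : LXP Q Qx z x) {c : G} (hcz : c * z = z * c) (hcx : c * x = x * c)
    (hcA : ∀ a ∈ Q, a * x = x * a → a * c = c * a) :
    c = 1 ∨ c = z ∨ c = x ∨ c = z * x := by
  have hL := h.l
  have hzz := hL.sq_one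
  have hxx := h.lx.sq_one
  have hxinv := h.xinv
  have hx := h.xQ
  obtain ⟨q0, hq0, hq0x⟩ := h.exists_not_comm
  have hq0c : q0 * x * q0⁻¹ = z * x := h.conj_x_of_not hq0 hq0x
  have hxq0 : x * q0 * x⁻¹ = z * q0 := hL.conj_eq hx hq0 (fun h' => hq0x h'.symm)
  have hq0z : q0 * z = z * q0 := hL.cz _ hq0
  -- criterion: centralizing `A` and `q0` puts `y` in the centre of `Q`
  have hcrit : ∀ y : G, (∀ a ∈ Q, a * x = x * a → a * y = y * a) → q0 * y = y * q0 →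
      y = 1 ∨ y = z := by
    intro y hyA hyq0
    have hall : ∀ q ∈ Q, q * y = y * q := by
      intro q hq
      by_cases hqx : q * x = x * q
      · exact hyA q hq hqx
      · have h1 := h.coset hq0 hq0x hq hqx
        have h2 : q0⁻¹ * q ∈ Q := Subgroup.mul_mem _ (Subgroup.inv_mem _ hq0) hq
        have h3 := hyA _ h2 h1
        calc q * y = q0 * ((q0⁻¹ * q) * y) := by group
          _ = q0 * (y * (q0⁻¹ * q)) := by rw [h3]
          _ = (q0 * y) * (q0⁻¹ * q) := by group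
          _ = (y * q0) * (q0⁻¹ * q) := by rw [hyq0]
          _ = y * q := by group
    exact hL.center y (hL.cent y hall) hall
  obtain ⟨r, hr⟩ : ∃ r, r = c * q0 * c⁻¹ := ⟨_, rfl⟩
  have hrQ : r ∈ Q := by rw [hr]; exact hL.normal _ hcz _ hq0
  have hcxi : c⁻¹ * x * c = x := by
    have : Commute c x := hcx
    exact this.inv_mul_cancel
  have hczx : c * (z * x) * c⁻¹ = z * x := by
    have c1 : Commute c z := hcz
    have c2 : Commute c x := hcx
    exact (c1.mul_right c2).mul_inv_cancel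
  have hrx : r * x * r⁻¹ = z * x := by
    calc r * x * r⁻¹ = c * (q0 * (c⁻¹ * x * c) * q0⁻¹) * c⁻¹ := by rw [hr]; group
      _ = c * (z * x) * c⁻¹ := by rw [hcxi, hq0c]
      _ = z * x := hczx
  have hrne : r * x ≠ x * r := by
    intro h'
    have h1 := conj_eq_self_iff.mpr h'
    rw [hrx] at h1
    have : z = 1 := by
      have e : z = (z * x) * x⁻¹ := by group
      rw [e, h1]; group
    exact hL.ne_one this
  have hmA := h.coset hq0 hq0x hrQ hrne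
  obtain ⟨m, hm⟩ : ∃ m, m = q0⁻¹ * r := ⟨_, rfl⟩
  rw [← hm] at hmA
  have hmQ : m ∈ Q := by rw [hm]; exact Subgroup.mul_mem _ (Subgroup.inv_mem _ hq0) hrQ
  have hrm : r = q0 * m := by rw [hm]; group
  -- `m` centralizes `A`
  have hmcA : ∀ e ∈ Q, e * x = x * e → e * m = m * e := by
    intro e he hex
    -- q0 e q0⁻¹ ∈ A
    have he' : q0 * e * q0⁻¹ ∈ Q :=
      Subgroup.mul_mem _ (Subgroup.mul_mem _ hq0 he) (Subgroup.inv_mem _ hq0)
    have hez : e * z = z * e := hL.cz e he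
    have he'x : (q0 * e * q0⁻¹) * x = x * (q0 * e * q0⁻¹) := (h.conj_cv hq0 hez hex).2
    have k1 : (q0 * e * q0⁻¹) * c = c * (q0 * e * q0⁻¹) := hcA _ he' he'x
    have k2 : e * c = c * e := hcA e he hex
    have k2' : c⁻¹ * e * c = e := by
      have : Commute c e := k2.symm
      exact this.inv_mul_cancel
    have k1' : c * (q0 * e * q0⁻¹) * c⁻¹ = q0 * e * q0⁻¹ := by
      have : Commute c (q0 * e * q0⁻¹) := k1.symm
      exact this.mul_inv_cancel
    apply (conj_eq_self_iff.mp _).symm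
    calc m * e * m⁻¹ = q0⁻¹ * (c * (q0 * (c⁻¹ * e * c) * q0⁻¹) * c⁻¹) * q0 := by
          rw [hm, hr]; group
      _ = q0⁻¹ * (c * (q0 * e * q0⁻¹) * c⁻¹) * q0 := by rw [k2']
      _ = q0⁻¹ * (q0 * e * q0⁻¹) * q0 := by rw [k1']
      _ = e := by group
  have hm4 : m = 1 ∨ m = x ∨ m = z ∨ m = z * x := by
    rcases hL.c2.center_centralizer hx hmQ hmcA with h3 | h3
    · rcases hL.center m hmQ h3 with h' | h'
      · left; exact h'
      · right; right; left; exact h'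
    · have hmx' : m * x⁻¹ ∈ Q := Subgroup.mul_mem _ hmQ (Subgroup.inv_mem _ hx)
      have e : m = (m * x⁻¹) * x := by group
      rcases hL.center _ hmx' h3 with h' | h'
      · right; left; rw [e, h', one_mul]
      · right; right; right; rw [e, h']
  -- squares
  have hq0sq : c * (q0 * q0) * c⁻¹ = q0 * q0 := by
    rcases hL.sq q0 hq0 with h' | h'
    · rw [h']; group
    · rw [h']
      have : Commute c z := hcz
      exact this.mul_inv_cancel
  have hrr : r * r = q0 * q0 := by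
    calc r * r = c * (q0 * q0) * c⁻¹ := by rw [hr]; group
      _ = q0 * q0 := hq0sq
  have hmq : m * q0 * m = q0 := by
    have h1 : q0 * m * (q0 * m) = q0 * q0 := by rw [← hrm]; exact hrr
    calc m * q0 * m = q0⁻¹ * (q0 * m * (q0 * m)) := by group
      _ = q0⁻¹ * (q0 * q0) := by rw [h1]
      _ = q0 := by group
  have hxq0x : x * q0 * x ≠ q0 := by
    intro h'
    have : x * q0 * x⁻¹ = q0 := by rw [hxinv]; exact h'
    rw [hxq0] at this
    apply hL.ne_one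
    calc z = (z * q0) * q0⁻¹ := by group
      _ = q0 * q0⁻¹ := by rw [this]
      _ = 1 := by group
  have hxz_comm : x * z = z * x := h.comm_zx.symm
  rcases hm4 with h' | h' | h' | h'
  · -- m = 1 : c commutes with q0
    have hcq : q0 * c = c * q0 := by
      have : r = q0 := by rw [hrm, h', mul_one]
      rw [hr] at this
      exact (conj_eq_self_iff.mp this).symm
    rcases hcrit c hcA hcq with h1 | h1
    · left; exact h1
    · right; left; exact h1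
  · exfalso; apply hxq0x; rw [← h']; exact hmq
  · -- m = z : r = q0 z
    have hr2 : c * q0 * c⁻¹ = z * q0 := by
      rw [← hr, hrm, h']; exact hq0z
    have hxc : x * c = 1 ∨ x * c = z := by
      apply hcrit (x * c)
      · intro a ha hax
        have c1 : Commute a x := hax
        have c2 : Commute a c := hcA a ha hax
        exact c1.mul_right c2
      · apply (conj_eq_self_iff.mp _).symm
        calc (x * c) * q0 * (x * c)⁻¹ = x * (c * q0 * c⁻¹) * x⁻¹ := by group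
          _ = x * (z * q0) * x⁻¹ := by rw [hr2]
          _ = (x * z * x⁻¹) * (x * q0 * x⁻¹) := by group
          _ = z * (z * q0) := by
              rw [hxq0]
              have : Commute x z := hxz_comm
              rw [this.mul_inv_cancel]
          _ = q0 := by rw [← mul_assoc, hzz, one_mul]
    have e : c = x⁻¹ * (x * c) := by group
    rcases hxc with h1 | h1
    · right; right; left; rw [e, h1, mul_one, hxinv]
    · right; right; right; rw [e, h1, hxinv, hxz_comm]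
  · exfalso; apply hxq0x
    have h1 : (z * x) * q0 * (z * x) = q0 := by rw [← h']; exact hmq
    have c1 : Commute z x := hxz_comm.symm
    have c2 : Commute z q0 := hq0z.symm
    calc x * q0 * x = (z * z) * (x * q0 * x) := by rw [hzz, one_mul]
      _ = z * (x * q0 * x) * z := by
          have : Commute z (x * q0 * x) := (c1.mul_right c2).mul_right c1
          calc (z * z) * (x * q0 * x) = z * (z * (x * q0 * x)) := by group
            _ = z * ((x * q0 * x) * z) := by rw [this.eq]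
            _ = z * (x * q0 * x) * z := by group
      _ = (z * x) * q0 * (x * z) := by group
      _ = (z * x) * q0 * (z * x) := by rw [hxz_comm]
      _ = q0 := h1

/-- product subgroup `B·A` when `A` normalizes `B`. -/
def prodSub (B A : Subgroup G) (hn : ∀ a ∈ A, ∀ b ∈ B, a * b * a⁻¹ ∈ B) : Subgroup G where
  carrier := {r | ∃ b ∈ B, ∃ a ∈ A, r = b * a}
  one_mem' := ⟨1, B.one_mem, 1, A.one_mem, by simp⟩
  mul_mem' := by
    rintro _ _ ⟨b, hb, a, ha, rfl⟩ ⟨b', hb', a', ha', rfl⟩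
    exact ⟨b * (a * b' * a⁻¹), B.mul_mem hb (hn a ha b' hb'), a * a', A.mul_mem ha ha', by group⟩
  inv_mem' := by
    rintro _ ⟨b, hb, a, ha, rfl⟩
    exact ⟨a⁻¹ * b⁻¹ * a⁻¹⁻¹, hn a⁻¹ (A.inv_mem ha) b⁻¹ (B.inv_mem hb), a⁻¹, A.inv_mem ha,
      by group⟩

theorem exists_mul_of_mem_sup {B A : Subgroup G} (hn : ∀ a ∈ A, ∀ b ∈ B, a * b * a⁻¹ ∈ B)
    {r : G} (hr : r ∈ B ⊔ A) : ∃ b ∈ B, ∃ a ∈ A, r = b * a := by
  have : B ⊔ A ≤ prodSub B A hn := by
    apply sup_le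
    · intro b hb; exact ⟨b, hb, 1, A.one_mem, by simp⟩
    · intro a ha; exact ⟨1, B.one_mem, a, ha, by simp⟩
  exact this hr

theorem mem_inf_cent {H : Subgroup G} {t a : G} :
    a ∈ H ⊓ Subgroup.centralizer ({t} : Set G) ↔ a ∈ H ∧ a * t = t * a := by
  rw [Subgroup.mem_inf, Subgroup.mem_centralizer_singleton_iff]

/-- the four-group `V = {1, z, x, zx}`. -/
def LXP.V (h : LXP Q Qx z x) : Subgroup G :=
  Cfsg.Agent.Lib.H5.KP.kleinPair z x h.l.sq_one h.lx.sq_one h.comm_zx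

theorem LXP.mem_V (h : LXP Q Qx z x) {v : G} :
    v ∈ h.V ↔ v = 1 ∨ v = z ∨ v = x ∨ v = z * x := Iff.rfl

theorem LXP.V_eq_closure (h : LXP Q Qx z x) : h.V = Subgroup.closure ({z, x} : Set G) := by
  apply le_antisymm
  · intro v hv
    have hz : z ∈ Subgroup.closure ({z, x} : Set G) := Subgroup.subset_closure (by simp)
    have hx : x ∈ Subgroup.closure ({z, x} : Set G) := Subgroup.subset_closure (by simp)
    rcases h.mem_V.mp hv with rfl | rfl | rfl | rfl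
    · exact Subgroup.one_mem _
    · exact hz
    · exact hx
    · exact Subgroup.mul_mem _ hz hx
  · rw [Subgroup.closure_le]
    intro v hv
    rcases hv with rfl | hv
    · exact h.mem_V.mpr (Or.inr (Or.inl rfl))
    · rw [Set.mem_singleton_iff] at hv
      rw [hv]
      exact h.mem_V.mpr (Or.inr (Or.inr (Or.inl rfl)))

theorem LXP.z_mem_V (h : LXP Q Qx z x) : z ∈ h.V := h.mem_V.mpr (Or.inr (Or.inl rfl))

theorem LXP.x_mem_V (h : LXP Q Qx z x) : x ∈ h.V := h.mem_V.mpr (Or.inr (Or.inr (Or.inl rfl)))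

theorem LXP.V_le_Q (h : LXP Q Qx z x) : h.V ≤ Q := by
  intro v hv
  rcases h.mem_V.mp hv with rfl | rfl | rfl | rfl
  · exact Q.one_mem
  · exact h.l.mem
  · exact h.xQ
  · exact Q.mul_mem h.l.mem h.xQ

theorem LXP.V_le_Qx (h : LXP Q Qx z x) : h.V ≤ Qx := by
  intro v hv
  rcases h.mem_V.mp hv with rfl | rfl | rfl | rfl
  · exact Qx.one_mem
  · exact h.zQx
  · exact h.lx.mem
  · exact Qx.mul_mem h.zQx h.lx.mem

/-- elements commuting with `z` and `x` centralize `V`. -/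
theorem LXP.comm_V (h : LXP Q Qx z x) {c v : G} (hcz : c * z = z * c) (hcx : c * x = x * c)
    (hv : v ∈ h.V) : c * v = v * c := by
  rcases h.mem_V.mp hv with rfl | rfl | rfl | rfl
  · simp
  · exact hcz
  · exact hcx
  · have c1 : Commute c z := hcz
    have c2 : Commute c x := hcx
    exact (c1.mul_right c2).eq

/-- `A` normalizes `B`. -/
theorem LXP.A_norm_B (h : LXP Q Qx z x) :
    ∀ a ∈ Q ⊓ Subgroup.centralizer ({x} : Set G), ∀ b ∈ Qx ⊓ Subgroup.centralizer ({z} : Set G),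
      a * b * a⁻¹ ∈ Qx ⊓ Subgroup.centralizer ({z} : Set G) := by
  intro a ha b hb
  rw [mem_inf_cent] at ha hb ⊢
  refine ⟨h.lx.normal a ha.2 b hb.1, ?_⟩
  have c1 : Commute a z := h.l.cz a ha.1
  have c2 : Commute b z := hb.2
  exact ((c1.mul_left c2).mul_left c1.inv_left).eq

/-- `R = B A` as a set. -/
theorem LXP.R_decomp (h : LXP Q Qx z x) {r : G}
    (hr : r ∈ (Qx ⊓ Subgroup.centralizer ({z} : Set G)) ⊔ (Q ⊓ Subgroup.centralizer ({x} : Set G))) :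
    ∃ b a : G, b ∈ Qx ∧ b * z = z * b ∧ a ∈ Q ∧ a * x = x * a ∧ r = b * a := by
  obtain ⟨b, hb, a, ha, rfl⟩ := exists_mul_of_mem_sup h.A_norm_B hr
  rw [mem_inf_cent] at ha hb
  exact ⟨b, a, hb.1, hb.2, ha.1, ha.2, rfl⟩

theorem LXP.mem_R_of_A (_h : LXP Q Qx z x) {a : G} (ha : a ∈ Q) (hax : a * x = x * a) :
    a ∈ (Qx ⊓ Subgroup.centralizer ({z} : Set G)) ⊔ (Q ⊓ Subgroup.centralizer ({x} : Set G)) :=
  Subgroup.mem_sup_right (mem_inf_cent.mpr ⟨ha, hax⟩)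

theorem LXP.mem_R_of_B (_h : LXP Q Qx z x) {b : G} (hb : b ∈ Qx) (hbz : b * z = z * b) :
    b ∈ (Qx ⊓ Subgroup.centralizer ({z} : Set G)) ⊔ (Q ⊓ Subgroup.centralizer ({x} : Set G)) :=
  Subgroup.mem_sup_left (mem_inf_cent.mpr ⟨hb, hbz⟩)

/-- `R ≤ C(z) ∩ C(x)`. -/
theorem LXP.R_cv (h : LXP Q Qx z x) {r : G}
    (hr : r ∈ (Qx ⊓ Subgroup.centralizer ({z} : Set G)) ⊔ (Q ⊓ Subgroup.centralizer ({x} : Set G))) :
    r * z = z * r ∧ r * x = x * r := by
  obtain ⟨b, a, hb, hbz, ha, hax, rfl⟩ := h.R_decomp hr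
  have c1 : Commute b z := hbz
  have c2 : Commute a z := h.l.cz a ha
  have c3 : Commute b x := h.lx.cz b hb
  have c4 : Commute a x := hax
  exact ⟨(c1.mul_left c2).eq, (c3.mul_left c4).eq⟩

/-- `C(z) ∩ C(x)` normalizes `E`. -/
theorem LXP.E_conj (h : LXP Q Qx z x) {c e : G} (hcz : c * z = z * c) (hcx : c * x = x * c)
    (he : e ∈ Q) (he' : e ∈ Qx) : c * e * c⁻¹ ∈ Q ∧ c * e * c⁻¹ ∈ Qx :=
  ⟨h.l.normal c hcz e he, h.lx.normal c hcx e he'⟩

/-- squares of elements of `R` lie in `E`. -/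
theorem LXP.R_sq (h : LXP Q Qx z x) {r : G}
    (hr : r ∈ (Qx ⊓ Subgroup.centralizer ({z} : Set G)) ⊔ (Q ⊓ Subgroup.centralizer ({x} : Set G))) :
    r * r ∈ Q ∧ r * r ∈ Qx := by
  obtain ⟨b, a, hb, hbz, ha, hax, rfl⟩ := h.R_decomp hr
  have hbx : b * x = x * b := h.lx.cz b hb
  have he := h.comm_AB ha hax hb hbz
  have he2 := h.E_conj hbz hbx he.1 he.2
  have hbb : b * b ∈ Q ∧ b * b ∈ Qx := by
    rcases h.lx.sq b hb with h1 | h1
    · rw [h1]; exact ⟨Q.one_mem, Qx.one_mem⟩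
    · rw [h1]; exact ⟨h.xQ, h.lx.mem⟩
  have haa : a * a ∈ Q ∧ a * a ∈ Qx := by
    rcases h.l.sq a ha with h1 | h1
    · rw [h1]; exact ⟨Q.one_mem, Qx.one_mem⟩
    · rw [h1]; exact ⟨h.l.mem, h.zQx⟩
  have e : b * a * (b * a) = (b * (a * b * a⁻¹ * b⁻¹) * b⁻¹) * (b * b) * (a * a) := by group
  rw [e]
  exact ⟨Q.mul_mem (Q.mul_mem he2.1 hbb.1) haa.1, Qx.mul_mem (Qx.mul_mem he2.2 hbb.2) haa.2⟩

/-- commutators of elements of `R` lie in `E`. -/
theorem LXP.R_comm (h : LXP Q Qx z x) {r s : G}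
    (hr : r ∈ (Qx ⊓ Subgroup.centralizer ({z} : Set G)) ⊔ (Q ⊓ Subgroup.centralizer ({x} : Set G)))
    (hs : s ∈ (Qx ⊓ Subgroup.centralizer ({z} : Set G)) ⊔ (Q ⊓ Subgroup.centralizer ({x} : Set G))) :
    r * s * r⁻¹ * s⁻¹ ∈ Q ∧ r * s * r⁻¹ * s⁻¹ ∈ Qx := by
  have h1 := h.R_sq (Subgroup.mul_mem _ hr hs)
  have h2 := h.R_sq hr
  have h3 := h.R_sq hs
  have hsi := h.R_cv (Subgroup.inv_mem _ hs)
  have h4 := h.E_conj hsi.1 hsi.2 (Q.inv_mem h2.1) (Qx.inv_mem h2.2)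
  have e : r * s * r⁻¹ * s⁻¹ = (r * s * (r * s)) * (s⁻¹ * (r * r)⁻¹ * s⁻¹⁻¹) * (s * s)⁻¹ := by group
  rw [e]
  exact ⟨Q.mul_mem (Q.mul_mem h1.1 h4.1) (Q.inv_mem h3.1),
    Qx.mul_mem (Qx.mul_mem h1.2 h4.2) (Qx.inv_mem h3.2)⟩

/-- `[E, R] ≤ V`. -/
theorem LXP.E_R_comm (h : LXP Q Qx z x) {e r : G} (he : e ∈ Q) (he' : e ∈ Qx)
    (hr : r ∈ (Qx ⊓ Subgroup.centralizer ({z} : Set G)) ⊔ (Q ⊓ Subgroup.centralizer ({x} : Set G))) :
    e * r * e⁻¹ * r⁻¹ ∈ h.V := by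
  obtain ⟨b, a, hb, hbz, ha, hax, rfl⟩ := h.R_decomp hr
  have e1 : e * (b * a) * e⁻¹ * (b * a)⁻¹ = (e * b * e⁻¹ * b⁻¹) * (b * (e * a * e⁻¹ * a⁻¹) * b⁻¹) := by
    group
  rw [e1]
  apply Subgroup.mul_mem
  · rcases h.lx.comm e he' b hb with h1 | h1
    · rw [h1]; exact Subgroup.one_mem _
    · rw [h1]; exact h.x_mem_V
  · rcases h.l.comm e he a ha with h1 | h1
    · rw [h1]; simp
    · rw [h1]
      have : Commute b z := hbz
      rw [this.mul_inv_cancel]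
      exact h.z_mem_V

/-- `V ≤ Z(R)`. -/
theorem LXP.V_central (h : LXP Q Qx z x) {v r : G} (hv : v ∈ h.V)
    (hr : r ∈ (Qx ⊓ Subgroup.centralizer ({z} : Set G)) ⊔ (Q ⊓ Subgroup.centralizer ({x} : Set G))) :
    r * v = v * r := by
  have := h.R_cv hr
  exact h.comm_V this.1 this.2 hv

theorem LXP.V_le_R (h : LXP Q Qx z x) :
    h.V ≤ (Qx ⊓ Subgroup.centralizer ({z} : Set G)) ⊔ (Q ⊓ Subgroup.centralizer ({x} : Set G)) := by
  intro v hv
  apply h.mem_R_of_A (h.V_le_Q hv)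
  exact (h.comm_V (h.l.cz x h.xQ) rfl hv).symm

/-- `Z(R) ≤ V`. -/
theorem LXP.center_R (h : LXP Q Qx z x) {c : G}
    (hc : c ∈ (Qx ⊓ Subgroup.centralizer ({z} : Set G)) ⊔ (Q ⊓ Subgroup.centralizer ({x} : Set G)))
    (hcc : ∀ r ∈ (Qx ⊓ Subgroup.centralizer ({z} : Set G)) ⊔
      (Q ⊓ Subgroup.centralizer ({x} : Set G)), r * c = c * r) : c ∈ h.V := by
  have := h.R_cv hc
  exact h.mem_V.mpr (h.cent_A this.1 this.2 (fun a ha hax => hcc a (h.mem_R_of_A ha hax)))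

/-- `Q` normalizes `R`. -/
theorem LXP.R_conj_Q (h : LXP Q Qx z x) {q r : G} (hq : q ∈ Q)
    (hr : r ∈ (Qx ⊓ Subgroup.centralizer ({z} : Set G)) ⊔ (Q ⊓ Subgroup.centralizer ({x} : Set G))) :
    q * r * q⁻¹ ∈ (Qx ⊓ Subgroup.centralizer ({z} : Set G)) ⊔
      (Q ⊓ Subgroup.centralizer ({x} : Set G)) := by
  obtain ⟨b, a, hb, hbz, ha, hax, rfl⟩ := h.R_decomp hr
  have e : q * (b * a) * q⁻¹ = (q * b * q⁻¹ * b⁻¹) * b * (q * a * q⁻¹) := by group
  rw [e]
  have h1 := h.comm_QB hq hb hbz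
  have h2 : q * a * q⁻¹ ∈ Q := Q.mul_mem (Q.mul_mem hq ha) (Q.inv_mem hq)
  have h3 := (h.conj_cv hq (h.l.cz a ha) hax).2
  exact Subgroup.mul_mem _ (Subgroup.mul_mem _ (h.mem_R_of_A h1.1 h1.2) (h.mem_R_of_B hb hbz))
    (h.mem_R_of_A h2 h3)

theorem LXP.V_conj_Q (h : LXP Q Qx z x) {q v : G} (hq : q ∈ Q) (hv : v ∈ h.V) :
    q * v * q⁻¹ ∈ h.V := by
  have e : q * v * q⁻¹ = (q * v * q⁻¹ * v⁻¹) * v := by group
  rw [e]
  apply Subgroup.mul_mem _ _ hv
  rcases h.l.comm q hq v (h.V_le_Q hv) with h1 | h1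
  · rw [h1]; exact Subgroup.one_mem _
  · rw [h1]; exact h.z_mem_V

theorem LXP.V_conj_Qx (h : LXP Q Qx z x) {q v : G} (hq : q ∈ Qx) (hv : v ∈ h.V) :
    q * v * q⁻¹ ∈ h.V := by
  have e : q * v * q⁻¹ = (q * v * q⁻¹ * v⁻¹) * v := by group
  rw [e]
  apply Subgroup.mul_mem _ _ hv
  rcases h.lx.comm q hq v (h.V_le_Qx hv) with h1 | h1
  · rw [h1]; exact Subgroup.one_mem _
  · rw [h1]; exact h.x_mem_V

/-- `X = ⟨Q, Qx⟩` normalizes `V` and centralizes `E` modulo `V`. -/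
theorem LXP.X_act (h : LXP Q Qx z x) {g : G} (hg : g ∈ Q ⊔ Qx) :
    (∀ v ∈ h.V, g * v * g⁻¹ ∈ h.V ∧ g⁻¹ * v * g ∈ h.V) ∧
    (∀ e, e ∈ Q → e ∈ Qx → g * e * g⁻¹ * e⁻¹ ∈ h.V ∧ g⁻¹ * e * g * e⁻¹ ∈ h.V) := by
  rw [Subgroup.sup_eq_closure] at hg
  induction hg using Subgroup.closure_induction with
  | mem y hy =>
    rcases hy with hy | hy
    · have hy' : y⁻¹ ∈ Q := Q.inv_mem hy
      refine ⟨fun v hv => ⟨h.V_conj_Q hy hv, ?_⟩, fun e he _ => ⟨?_, ?_⟩⟩
      · have := h.V_conj_Q hy' hv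
        rwa [inv_inv] at this
      · rcases h.l.comm y hy e he with h1 | h1
        · rw [h1]; exact Subgroup.one_mem _
        · rw [h1]; exact h.z_mem_V
      · have := h.l.comm y⁻¹ hy' e he
        rw [inv_inv] at this
        rcases this with h1 | h1
        · rw [h1]; exact Subgroup.one_mem _
        · rw [h1]; exact h.z_mem_V
    · have hy' : y⁻¹ ∈ Qx := Qx.inv_mem hy
      refine ⟨fun v hv => ⟨h.V_conj_Qx hy hv, ?_⟩, fun e _ he => ⟨?_, ?_⟩⟩
      · have := h.V_conj_Qx hy' hv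
        rwa [inv_inv] at this
      · rcases h.lx.comm y hy e he with h1 | h1
        · rw [h1]; exact Subgroup.one_mem _
        · rw [h1]; exact h.x_mem_V
      · have := h.lx.comm y⁻¹ hy' e he
        rw [inv_inv] at this
        rcases this with h1 | h1
        · rw [h1]; exact Subgroup.one_mem _
        · rw [h1]; exact h.x_mem_V
  | one =>
    refine ⟨fun v hv => ⟨by simpa using hv, by simpa using hv⟩, fun e _ _ => ⟨?_, ?_⟩⟩
    · simp
    · simp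
  | mul a b _ _ iha ihb =>
    refine ⟨fun v hv => ⟨?_, ?_⟩, fun e he he' => ⟨?_, ?_⟩⟩
    · have := (iha.1 _ (ihb.1 v hv).1).1
      have e1 : a * b * v * (a * b)⁻¹ = a * (b * v * b⁻¹) * a⁻¹ := by group
      rw [e1]; exact this
    · have := (ihb.1 _ (iha.1 v hv).2).2
      have e1 : (a * b)⁻¹ * v * (a * b) = b⁻¹ * (a⁻¹ * v * a) * b := by group
      rw [e1]; exact this
    · have h1 := (iha.1 _ (ihb.2 e he he').1).1
      have h2 := (iha.2 e he he').1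
      have e1 : a * b * e * (a * b)⁻¹ * e⁻¹
          = (a * (b * e * b⁻¹ * e⁻¹) * a⁻¹) * (a * e * a⁻¹ * e⁻¹) := by group
      rw [e1]; exact Subgroup.mul_mem _ h1 h2
    · have h1 := (ihb.1 _ (iha.2 e he he').2).2
      have h2 := (ihb.2 e he he').2
      have e1 : (a * b)⁻¹ * e * (a * b) * e⁻¹
          = (b⁻¹ * (a⁻¹ * e * a * e⁻¹) * b) * (b⁻¹ * e * b * e⁻¹) := by group
      rw [e1]; exact Subgroup.mul_mem _ h1 h2
  | inv a _ iha =>
    refine ⟨fun v hv => ⟨?_, ?_⟩, fun e he he' => ⟨?_, ?_⟩⟩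
    · have := (iha.1 v hv).2
      rwa [inv_inv]
    · have := (iha.1 v hv).1
      rwa [inv_inv]
    · have := (iha.2 e he he').2
      rwa [inv_inv]
    · have := (iha.2 e he he').1
      rwa [inv_inv]

end Cfsg.Agent.Lib.H22.LargeExtra
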