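import Cfsg.Agent.Lib.H9.SymplecticType
import Cfsg.Agent.Lib.H9.Basic
import Cfsg.Agent.Lib.H22.LargeExtra4

/-!
helper22 library: elementwise data of a 2-group of symplectic type with `q⁴ = 1`
(via P. Hall's theorem, `H9.symplectic_main`).
-/

set_option autoImplicit false

namespace Cfsg.Agent.Lib.H22.LargeExtra

open scoped commutatorElement

theorem symp_data {P : Type*} [Group P] [Finite P] (hP : IsPGroup 2 P)
    (hsymp : ∀ A : Subgroup P, A.Characteristic → IsMulCommutative A → IsCyclic A)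
    (h4 : ∀ q : P, q ^ 4 = 1) (z : P) (hz1 : z ≠ 1) (hzz : z * z = 1)
    (hzc : ∀ a : P, a * z = z * a) :
    (∀ a b : P, a * b * a⁻¹ * b⁻¹ = 1 ∨ a * b * a⁻¹ * b⁻¹ = z) ∧
    (∀ a : P, a * a = 1 ∨ a * a = z) ∧
    (∀ c : P, (∀ a, a * c = c * a) → c = 1 ∨ c = z ∨ c * c = z) := by
  have : Fact (Nat.Prime 2) := ⟨Nat.prime_two⟩
  -- unique central involution
  have hinv : ∀ c : P, (∀ a, a * c = c * a) → c * c = 1 → c = 1 ∨ c = z := by
    intro c hc hcc
    by_cases hc1 : c = 1
    · left; exact hc1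
    right
    have : IsCyclic ↥(Subgroup.center P) := hsymp _ inferInstance inferInstance
    have hcm : c ∈ Subgroup.center P := by
      rw [Subgroup.mem_center_iff]; exact hc
    have hzm : z ∈ Subgroup.center P := by
      rw [Subgroup.mem_center_iff]; exact hzc
    have o1 : orderOf (⟨c, hcm⟩ : Subgroup.center P) = 2 := by
      apply orderOf_eq_prime
      · apply Subtype.ext
        simp only [Subgroup.coe_pow, Subgroup.coe_one]
        rw [pow_two]; exact hcc
      · intro h; exact hc1 (congrArg Subtype.val h)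
    have o2 : orderOf (⟨z, hzm⟩ : Subgroup.center P) = 2 := by
      apply orderOf_eq_prime
      · apply Subtype.ext
        simp only [Subgroup.coe_pow, Subgroup.coe_one]
        rw [pow_two]; exact hzz
      · intro h; exact hz1 (congrArg Subtype.val h)
    exact congrArg Subtype.val (Cfsg.Agent.Lib.H9.eq_of_orderOf_two_of_isCyclic o1 o2)
  have hfour : ∀ c : P, (c * c) * (c * c) = 1 := by
    intro c
    have := h4 c
    calc (c * c) * (c * c) = c ^ 4 := by
          rw [show (4 : ℕ) = 2 + 2 from rfl, pow_add, pow_two]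
      _ = 1 := this
  have hcen3 : ∀ c : P, (∀ a, a * c = c * a) → c = 1 ∨ c = z ∨ c * c = z := by
    intro c hc
    have hcc : ∀ a, a * (c * c) = (c * c) * a := by
      intro a
      have c1 : Commute a c := hc a
      exact (c1.mul_right c1).eq
    rcases hinv (c * c) hcc (hfour c) with h | h
    · rcases hinv c hc h with h' | h'
      · left; exact h'
      · right; left; exact h'
    · right; right; exact h
  obtain ⟨E, R, hER, hsup, hE, hR⟩ := Cfsg.Agent.Lib.H9.symplectic_main hP hsymp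
  -- R is cyclic
  have hRcyc : IsCyclic ↥R := by
    rcases hR with h | ⟨_, m, a, y, hm, hd⟩
    · exact h
    · exfalso
      have h1 := hd.orderOf_a
      have h2 : a ^ 4 = 1 := by
        apply Subtype.ext
        simp only [Subgroup.coe_pow, Subgroup.coe_one]
        exact h4 _
      have h3 := orderOf_dvd_of_pow_eq_one h2
      rw [h1] at h3
      have h5 : 2 ^ (m + 2) ≤ 4 := Nat.le_of_dvd (by norm_num) h3
      have h6 : 2 ^ 3 ≤ 2 ^ (m + 2) := Nat.pow_le_pow_right (by norm_num) (by omega)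
      omega
  -- decomposition
  have hdec : ∀ q : P, ∃ e ∈ E, ∃ r ∈ R, q = e * r := by
    intro q
    have hq : q ∈ E ⊔ R := by rw [hsup]; exact Subgroup.mem_top q
    refine exists_mul_of_mem_sup ?_ hq
    intro r hr e he
    have := hER e he r hr
    have e1 : r * e * r⁻¹ = (e * r) * r⁻¹ := by rw [this]
    rw [e1]
    simpa using he
  -- elements of R are central
  have hRab : ∀ r ∈ R, ∀ r' ∈ R, r * r' = r' * r := by
    intro r hr r' hr'
    obtain ⟨g, hg⟩ := hRcyc.exists_generator
    obtain ⟨k, hk⟩ := Subgroup.mem_zpowers_iff.mp (hg ⟨r, hr⟩)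
    obtain ⟨l, hl⟩ := Subgroup.mem_zpowers_iff.mp (hg ⟨r', hr'⟩)
    have h1 : (⟨r, hr⟩ : R) * ⟨r', hr'⟩ = ⟨r', hr'⟩ * ⟨r, hr⟩ := by
      rw [← hk, ← hl]
      exact (Commute.zpow_zpow_self g k l).eq
    exact congrArg Subtype.val h1
  have hRcen : ∀ r ∈ R, ∀ a : P, a * r = r * a := by
    intro r hr a
    obtain ⟨e, he, r', hr', rfl⟩ := hdec a
    have c1 : Commute e r := hER e he r hr
    have c2 : Commute r' r := hRab r' hr' r hr
    exact (c1.mul_left c2).eq
  have hRsq : ∀ r ∈ R, r * r = 1 ∨ r * r = z := by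
    intro r hr
    have hcc : ∀ a, a * (r * r) = (r * r) * a := by
      intro a
      have c1 : Commute a r := hRcen r hr a
      exact (c1.mul_right c1).eq
    exact hinv (r * r) hcc (hfour r)
  -- data of E
  have hEdata : (∀ e ∈ E, ∀ e' ∈ E, e * e' * e⁻¹ * e'⁻¹ = 1 ∨ e * e' * e⁻¹ * e'⁻¹ = z) ∧
      (∀ e ∈ E, e * e = 1 ∨ e * e = z) := by
    rcases hE with h | h
    · constructor
      · intro e he e' he'
        rw [h, Subgroup.mem_bot] at he he'
        left; rw [he, he']; group
      · intro e he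
        rw [h, Subgroup.mem_bot] at he
        left; rw [he]; group
    · obtain ⟨_, hZle, hZcard, hZeq, hcomm, hpow⟩ := Cfsg.Agent.Lib.H27.extraspecial_data 2 E h
      -- elements of Z = Z(E) are central involutions of P
      have hZ : ∀ c ∈ (Subgroup.center ↥E).map E.subtype, c = 1 ∨ c = z := by
        intro c hc
        have hc' : c ∈ E ⊓ Subgroup.centralizer (E : Set P) := by rw [hZeq]; exact hc
        obtain ⟨hcE, hcC⟩ := Subgroup.mem_inf.mp hc'
        rw [Subgroup.mem_centralizer_iff] at hcC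
        have hcen : ∀ a, a * c = c * a := by
          intro a
          obtain ⟨e, he, r, hr, rfl⟩ := hdec a
          have c1 : Commute e c := hcC e he
          have c2 : Commute r c := (hRcen r hr c).symm
          exact (c1.mul_left c2).eq
        apply hinv c hcen
        -- c ^ 2 = 1 since |Z| = 2
        have h1 : (⟨c, hc⟩ : ↥((Subgroup.center ↥E).map E.subtype)) ^ 2 = 1 := by
          rw [← hZcard]; exact pow_card_eq_one'
        have h2 := congrArg Subtype.val h1
        simp only [Subgroup.coe_pow, Subgroup.coe_one] at h2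
        rw [pow_two] at h2
        exact h2
      constructor
      · intro e he e' he'
        apply hZ
        rw [← hcomm]
        have := Subgroup.commutator_mem_commutator he he'
        rwa [commutatorElement_def] at this
      · intro e he
        apply hZ
        have := hpow e he
        rwa [pow_two] at this
  obtain ⟨hEc, hEs⟩ := hEdata
  have hzinv : z⁻¹ = z := inv_eq_of_mul_eq_one_right hzz
  refine ⟨?_, ?_, hcen3⟩
  · intro a b
    obtain ⟨e, he, r, hr, rfl⟩ := hdec a
    obtain ⟨e', he', r', hr', rfl⟩ := hdec b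
    have c1 : ∀ a : P, Commute r a := fun a => (hRcen r hr a).symm
    have c2 : ∀ a : P, Commute r' a := fun a => (hRcen r' hr' a).symm
    have key : e * r * (e' * r') * (e * r)⁻¹ * (e' * r')⁻¹ = e * e' * e⁻¹ * e'⁻¹ := by
      have e1 : (e * r)⁻¹ = r⁻¹ * e⁻¹ := by group
      have e2 : (e' * r')⁻¹ = r'⁻¹ * e'⁻¹ := by group
      rw [e1, e2]
      calc e * r * (e' * r') * (r⁻¹ * e⁻¹) * (r'⁻¹ * e'⁻¹)
          = e * (r * (e' * r' * r⁻¹ * e⁻¹ * r'⁻¹)) * e'⁻¹ := by group
        _ = e * ((e' * r' * r⁻¹ * e⁻¹ * r'⁻¹) * r) * e'⁻¹ := by rw [(c1 _).eq]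
        _ = e * e' * (r' * (r⁻¹ * e⁻¹ * r'⁻¹ * r)) * e'⁻¹ := by group
        _ = e * e' * ((r⁻¹ * e⁻¹ * r'⁻¹ * r) * r') * e'⁻¹ := by rw [(c2 _).eq]
        _ = e * e' * (r⁻¹ * (e⁻¹ * r'⁻¹ * r * r')) * e'⁻¹ := by group
        _ = e * e' * ((e⁻¹ * r'⁻¹ * r * r') * r⁻¹) * e'⁻¹ := by rw [((c1 _).inv_left).eq]
        _ = e * e' * e⁻¹ * (r'⁻¹ * (r * r' * r⁻¹)) * e'⁻¹ := by group
        _ = e * e' * e⁻¹ * ((r * r' * r⁻¹) * r'⁻¹) * e'⁻¹ := by rw [((c2 _).inv_left).eq]
        _ = e * e' * e⁻¹ * ((r * r' * r⁻¹) * r'⁻¹) * e'⁻¹ := rfl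
        _ = e * e' * e⁻¹ * (((r * r') * r⁻¹) * r'⁻¹) * e'⁻¹ := by group
        _ = e * e' * e⁻¹ * (((r' * r) * r⁻¹) * r'⁻¹) * e'⁻¹ := by rw [(c1 r').eq]
        _ = e * e' * e⁻¹ * e'⁻¹ := by group
    rw [key]
    exact hEc e he e' he'
  · intro a
    obtain ⟨e, he, r, hr, rfl⟩ := hdec a
    have c1 : Commute r e := (hRcen r hr e).symm
    have key : e * r * (e * r) = (e * e) * (r * r) := by
      calc e * r * (e * r) = e * (r * e) * r := by group
        _ = e * (e * r) * r := by rw [c1.eq]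
        _ = (e * e) * (r * r) := by group
    rw [key]
    rcases hEs e he with h1 | h1 <;> rcases hRsq r hr with h2 | h2
    · left; rw [h1, h2, one_mul]
    · right; rw [h1, h2, one_mul]
    · right; rw [h1, h2, mul_one]
    · left; rw [h1, h2, hzz]

end Cfsg.Agent.Lib.H22.LargeExtra
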