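/-
S5663 project (Aschbacher, unitary case), UM4 sub-farm (lead), task UM4-22 (helper22):
`H ≤ GU_4(q)` inside a tensor product `GL_2 ⊗ GL_2` compatible with the form lies in a subfield group of
index two (class 5: `O_4^+(q)` for odd `q`, `Sp_4(q)` for even `q`).
-/
import Cfsg.Agent.Lib.H22.AschUM422a

set_option autoImplicit false

namespace Cfsg.Agent.Lib.H22.Asch

open Cfsg Cfsg.Geo Cfsg.Agent.Lib.Lead.Asch Cfsg.Agent.Lib.H28 Cfsg.Agent.Lib.H20.Asch
  Cfsg.Agent.Lib.H6.Asch Cfsg.Agent.Lib.H17.Asch Cfsg.Agent.Lib.H25.Asch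
open scoped MatrixGroups Matrix Kronecker

variable {F : Type*} [Field F] [Fintype F] {n q : ℕ}

omit [Fintype F] in
theorem J2_apply_mem (F₀ : Subfield F) (i j : Fin 2) : (J2 : Matrix (Fin 2) (Fin 2) F) i j ∈ F₀ := by
  fin_cases i <;> fin_cases j <;> simp [J2, F₀.zero_mem, F₀.one_mem, F₀.neg_mem]

omit [Fintype F] in
/-- `(aᵀ J a^φ)` entrywise -/
theorem J2_congr_apply (φ : F →+* F) (a : Matrix (Fin 2) (Fin 2) F) (i k : Fin 2) :
    (aᵀ * (J2 : Matrix (Fin 2) (Fin 2) F) * a.map φ) i k = a 0 i * φ (a 1 k) - a 1 i * φ (a 0 k) := by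
  simp only [Matrix.mul_apply, Fin.sum_univ_two, Matrix.transpose_apply, Matrix.map_apply, J2,
    Matrix.of_apply, Matrix.cons_val', Matrix.cons_val_zero, Matrix.cons_val_one,
    Matrix.cons_val_fin_one]
  ring

/-- **UM4-22**. -/
theorem uc5_of_kronecker_two_two (hF : Fintype.card F = q ^ 2) (H : Subgroup (GL (Fin n) F))
    (hHU : H ≤ GU n F q) (e : Fin n ≃ Fin 2 × Fin 2) (P : GL (Fin n) F)
    (f₁ f₂ : (Fin 2 → F) → (Fin 2 → F) → F) (h₁ : IsUnitaryFormPow q f₁) (h₂ : IsUnitaryFormPow q f₂)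
    (hform : IsTensorFormStructure (fun x : F => x ^ q) (hermForm n F q) f₁ f₂ e P⁻¹)
    (hH : ∀ h ∈ H, glReindex e (P * h * P⁻¹) ∈ kroneckerSubgroup 2 2 F) : UC5b q H ∨ UC5c q H := by
  classical
  obtain ⟨φ, hφ, hφ2⟩ := Cfsg.Agent.Lib.H4.exists_frob hF
  obtain ⟨F₀, hF₀mem, hcard⟩ := exists_fixed_subfield hF
  have hF₀ : ∀ x, x ∈ F₀ ↔ φ x = x := fun x => by rw [hF₀mem, hφ]
  have hn4 : n = 4 := by
    have := Fintype.card_congr e
    simpa using this
  -- a non-zero element of trace zero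
  obtain ⟨t, ht⟩ := exists_pow_ne hF
  set ζ : F := t - φ t with hζdef
  have hζ0 : ζ ≠ 0 := by
    intro h0
    apply ht
    rw [← hφ]
    exact (sub_eq_zero.mp h0).symm
  have hζ : φ ζ = -ζ := by
    rw [hζdef, map_sub, hφ2]; ring
  obtain ⟨T₁, hT₁⟩ := exists_hyp hF φ hφ hφ2 f₁ h₁ ζ hζ hζ0
  obtain ⟨T₂, hT₂⟩ := exists_hyp hF φ hφ hφ2 f₂ h₂ ζ hζ hζ0
  obtain ⟨c, hc0, hc⟩ := hform
  have hfun : (fun x : F => x ^ q) = (φ : F → F) := funext fun x => (hφ x).symm
  rw [hfun] at hc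
  set K : GL (Fin 2 × Fin 2) F := kronGL T₁ T₂ with hK
  set P₂ : GL (Fin n) F := changeP e P K with hP₂
  set κ : F := c * (ζ * ζ) with hκ
  have hκ0 : κ ≠ 0 := mul_ne_zero hc0 (mul_ne_zero hζ0 hζ0)
  set M : Matrix (Fin 2 × Fin 2) (Fin 2 × Fin 2) F :=
    κ • ((J2 : Matrix (Fin 2) (Fin 2) F) ⊗ₖ (J2 : Matrix (Fin 2) (Fin 2) F)) with hM
  have hMapp : ∀ p p' : Fin 2 × Fin 2, M p p' =
      κ * ((J2 : Matrix (Fin 2) (Fin 2) F) p.1 p'.1 * (J2 : Matrix (Fin 2) (Fin 2) F) p.2 p'.2) := by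
    rintro ⟨i, j⟩ ⟨i', j'⟩
    rw [hM, Matrix.smul_apply, Matrix.kroneckerMap_apply, smul_eq_mul]
  -- the form in the new coordinates
  have hformP₂ : ∀ X X' : Fin 2 × Fin 2 → F,
      hermForm n F q (((P₂⁻¹ : GL (Fin n) F) : Matrix (Fin n) (Fin n) F) *ᵥ (X ∘ e))
        (((P₂⁻¹ : GL (Fin n) F) : Matrix (Fin n) (Fin n) F) *ᵥ (X' ∘ e)) = formOf φ M X X' := by
    intro X X'
    rw [hP₂, changeP_inv_mulVec, changeP_inv_mulVec, hc, formOfGram_eq_formOf, formOf_mulVec, hK,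
      kronGL_val, kron_congr, hT₁, hT₂, ← formOf_smul, hM, hκ]
    congr 1
    rw [Matrix.smul_kronecker, Matrix.kronecker_smul, smul_smul, smul_smul]
    congr 1
    ring
  -- the Gram matrix
  have hsingle : ∀ m : Fin n, (Pi.single m (1 : F) : Fin n → F) = (Pi.single (e m) (1 : F)) ∘ e := by
    intro m
    funext m'
    simp only [Function.comp_apply, Pi.single_apply]
    by_cases hmm : m' = m
    · rw [if_pos hmm, if_pos (by rw [hmm])]
    · rw [if_neg hmm, if_neg (fun h => hmm (e.injective h))]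
  have hrep : Rep φ (gramP φ ((P₂⁻¹ : GL (Fin n) F) : Matrix (Fin n) (Fin n) F))
      (fun u v => hermForm n F q (((P₂⁻¹ : GL (Fin n) F) : Matrix (Fin n) (Fin n) F) *ᵥ u)
        (((P₂⁻¹ : GL (Fin n) F) : Matrix (Fin n) (Fin n) F) *ᵥ v)) :=
    fun u v => hermForm_mulVec φ hφ _ u v
  have hgram : ∀ m m' : Fin n,
      gramP φ ((P₂⁻¹ : GL (Fin n) F) : Matrix (Fin n) (Fin n) F) m m' = M (e m) (e m') := by
    intro m m'
    rw [← hrep.apply_single m m']
    show hermForm n F q _ _ = _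
    rw [hsingle m, hsingle m', hformP₂, (rep_formOf φ M).apply_single]
  -- κ lies in the fixed field
  have hκφ : φ κ = κ := by
    have h1 := gramP_hermitian φ hφ2 ((P₂⁻¹ : GL (Fin n) F) : Matrix (Fin n) (Fin n) F)
    have h2 := congrFun (congrFun h1 (e.symm (0, 0))) (e.symm (1, 1))
    rw [Matrix.transpose_apply, Matrix.map_apply, hgram, hgram, Equiv.apply_symm_apply,
      Equiv.apply_symm_apply, hMapp, hMapp] at h2
    simp only [J2, Matrix.of_apply, Matrix.cons_val', Matrix.cons_val_zero, Matrix.cons_val_one,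
      Matrix.cons_val_fin_one] at h2
    have h3 : φ (κ * ((-1 : F) * -1)) = κ * (1 * 1) := h2
    have h4 : κ * ((-1 : F) * -1) = κ := by ring
    rw [h4] at h3
    rw [h3]
    ring
  have hκmem : κ ∈ F₀ := (hF₀ κ).mpr hκφ
  have hMmem : ∀ p p', M p p' ∈ F₀ := by
    intro p p'
    rw [hMapp]
    exact F₀.mul_mem hκmem (F₀.mul_mem (J2_apply_mem F₀ _ _) (J2_apply_mem F₀ _ _))
  have hrat : IsFormRationalStructure (hermForm n F q) F₀ 1 P₂⁻¹ := by
    apply isFormRationalStructure_of_gram φ hφ F₀ P₂⁻¹ 1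
    intro i j
    rw [one_smul, hgram]
    exact hMmem _ _
  -- `H` lies in the subfield group
  have hle : H ≤ subfieldSubgroup F₀ P₂⁻¹ := by
    intro h hh
    obtain ⟨a', b', hab'⟩ := kron_changeP H e P hH K (kronGL_mem T₁ T₂) h hh
    rw [← hP₂] at hab'
    set g : GL (Fin 2 × Fin 2) F := glReindex e (P₂ * h * P₂⁻¹) with hg
    -- invariance of the form
    have hinv : ∀ X X' : Fin 2 × Fin 2 → F,
        formOf φ M ((g : Matrix (Fin 2 × Fin 2) (Fin 2 × Fin 2) F) *ᵥ X)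
          ((g : Matrix (Fin 2 × Fin 2) (Fin 2 × Fin 2) F) *ᵥ X') = formOf φ M X X' := by
      intro X X'
      have hmv : ∀ Y : Fin 2 × Fin 2 → F,
          (h : Matrix (Fin n) (Fin n) F) *ᵥ
            (((P₂⁻¹ : GL (Fin n) F) : Matrix (Fin n) (Fin n) F) *ᵥ (Y ∘ e)) =
          ((P₂⁻¹ : GL (Fin n) F) : Matrix (Fin n) (Fin n) F) *ᵥ
            (((g : Matrix (Fin 2 × Fin 2) (Fin 2 × Fin 2) F) *ᵥ Y) ∘ e) := by
        intro Y
        rw [← glReindex_symm_mulVec_comp e g Y, hg, glReindex_symm_glReindex, Matrix.mulVec_mulVec,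
          Matrix.mulVec_mulVec, ← Units.val_mul, ← Units.val_mul]
        congr 2
        group
      have h1 := hHU hh (((P₂⁻¹ : GL (Fin n) F) : Matrix (Fin n) (Fin n) F) *ᵥ (X ∘ e))
        (((P₂⁻¹ : GL (Fin n) F) : Matrix (Fin n) (Fin n) F) *ᵥ (X' ∘ e))
      have h2 : hermForm n F q ((h : Matrix (Fin n) (Fin n) F) *ᵥ
            (((P₂⁻¹ : GL (Fin n) F) : Matrix (Fin n) (Fin n) F) *ᵥ (X ∘ e)))
          ((h : Matrix (Fin n) (Fin n) F) *ᵥ
            (((P₂⁻¹ : GL (Fin n) F) : Matrix (Fin n) (Fin n) F) *ᵥ (X' ∘ e))) =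
          hermForm n F q (((P₂⁻¹ : GL (Fin n) F) : Matrix (Fin n) (Fin n) F) *ᵥ (X ∘ e))
            (((P₂⁻¹ : GL (Fin n) F) : Matrix (Fin n) (Fin n) F) *ᵥ (X' ∘ e)) := h1
      rw [hmv, hmv, hformP₂, hformP₂] at h2
      exact h2
    have hcong := congr_of_isometry φ M M (g : Matrix (Fin 2 × Fin 2) (Fin 2 × Fin 2) F) hinv
    rw [hab', hM, Matrix.mul_smul, Matrix.smul_mul, kron_congr] at hcong
    -- entries
    set A : Matrix (Fin 2) (Fin 2) F := (a' : Matrix (Fin 2) (Fin 2) F)ᵀ * J2 *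
      (a' : Matrix (Fin 2) (Fin 2) F).map φ with hA
    set B : Matrix (Fin 2) (Fin 2) F := (b' : Matrix (Fin 2) (Fin 2) F)ᵀ * J2 *
      (b' : Matrix (Fin 2) (Fin 2) F).map φ with hB
    have hstar : ∀ i k j l : Fin 2, A i k * B j l =
        (J2 : Matrix (Fin 2) (Fin 2) F) i k * (J2 : Matrix (Fin 2) (Fin 2) F) j l := by
      intro i k j l
      have h1 := congrFun (congrFun hcong (i, j)) (k, l)
      rw [Matrix.smul_apply, Matrix.smul_apply, Matrix.kroneckerMap_apply, Matrix.kroneckerMap_apply,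
        smul_eq_mul, smul_eq_mul] at h1
      exact mul_left_cancel₀ hκ0 h1
    have hJ00 : (J2 : Matrix (Fin 2) (Fin 2) F) 0 0 = 0 := by simp [J2]
    have hJ01 : (J2 : Matrix (Fin 2) (Fin 2) F) 0 1 = 1 := by simp [J2]
    have hJ10 : (J2 : Matrix (Fin 2) (Fin 2) F) 1 0 = -1 := by simp [J2]
    have hJ11 : (J2 : Matrix (Fin 2) (Fin 2) F) 1 1 = 0 := by simp [J2]
    have hAB : A 0 1 * B 0 1 = 1 := by rw [hstar, hJ01]; ring
    have hA01 : A 0 1 ≠ 0 := fun h0 => by rw [h0, zero_mul] at hAB; exact zero_ne_one hAB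
    have hB01 : B 0 1 ≠ 0 := fun h0 => by rw [h0, mul_zero] at hAB; exact zero_ne_one hAB
    have hA00 : A 0 0 = 0 := by
      have := hstar 0 0 0 1
      rw [hJ00, zero_mul] at this
      exact (mul_eq_zero.mp this).resolve_right hB01
    have hA11 : A 1 1 = 0 := by
      have := hstar 1 1 0 1
      rw [hJ11, zero_mul] at this
      exact (mul_eq_zero.mp this).resolve_right hB01
    have hA10 : A 1 0 = -A 0 1 := by
      have := hstar 1 0 0 1
      rw [hJ10, hJ01] at this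
      have h3 : (A 1 0 + A 0 1) * B 0 1 = 0 := by linear_combination this + hAB
      have := (mul_eq_zero.mp h3).resolve_right hB01
      linear_combination this
    have hB00 : B 0 0 = 0 := by
      have := hstar 0 1 0 0
      rw [hJ00, mul_zero] at this
      exact (mul_eq_zero.mp this).resolve_left hA01
    have hB11 : B 1 1 = 0 := by
      have := hstar 0 1 1 1
      rw [hJ11, mul_zero] at this
      exact (mul_eq_zero.mp this).resolve_left hA01
    have hB10 : B 1 0 = -B 0 1 := by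
      have := hstar 0 1 1 0
      rw [hJ10, hJ01] at this
      have h3 : A 0 1 * (B 1 0 + B 0 1) = 0 := by linear_combination this + hAB
      have := (mul_eq_zero.mp h3).resolve_left hA01
      linear_combination this
    rw [hA, J2_congr_apply] at hA00 hA11 hA10
    rw [hB, J2_congr_apply] at hB00 hB11 hB10
    obtain ⟨μa, hμa0, hμa⟩ := smul_mem_of_similitude φ F₀ hF₀ (a' : Matrix (Fin 2) (Fin 2) F)
      (Matrix.GeneralLinearGroup.det_ne_zero a') (A 0 1) hA00
      (by rw [hA, J2_congr_apply]) (by rw [hA10, hA, J2_congr_apply]) hA11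
    obtain ⟨μb, hμb0, hμb⟩ := smul_mem_of_similitude φ F₀ hF₀ (b' : Matrix (Fin 2) (Fin 2) F)
      (Matrix.GeneralLinearGroup.det_ne_zero b') (B 0 1) hB00
      (by rw [hB, J2_congr_apply]) (by rw [hB10, hB, J2_congr_apply]) hB11
    apply mem_subfieldSubgroup_of_smul F₀ P₂ h (μa * μb) (mul_ne_zero hμa0 hμb0)
    intro m m'
    have hentry : ((P₂ * h * P₂⁻¹ : GL (Fin n) F) : Matrix (Fin n) (Fin n) F) m m' =
        (g : Matrix (Fin 2 × Fin 2) (Fin 2 × Fin 2) F) (e m) (e m') := by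
      rw [hg, glReindex_apply_apply, Equiv.symm_apply_apply, Equiv.symm_apply_apply]
    rw [hentry, hab']
    obtain ⟨i, j⟩ := e m
    obtain ⟨i', j'⟩ := e m'
    rw [Matrix.kroneckerMap_apply]
    have : μa * μb * ((a' : Matrix (Fin 2) (Fin 2) F) i i' * (b' : Matrix (Fin 2) (Fin 2) F) j j') =
        (μa * (a' : Matrix (Fin 2) (Fin 2) F) i i') * (μb * (b' : Matrix (Fin 2) (Fin 2) F) j j') := by
      ring
    rw [this]
    exact F₀.mul_mem (hμa i i') (hμb j j')
  -- the two cases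
  by_cases h2 : (2 : F) = 0
  · right
    refine ⟨F₀, P₂⁻¹, 1, ?_, hcard, one_ne_zero, ?_, hrat, ?_, hle⟩
    · rw [hn4]; decide
    · rw [one_pow]; linear_combination h2
    · intro u hu
      rw [hermForm_mulVec φ hφ]
      have hφu : (fun i => φ (u i)) = u := by
        funext i
        exact (hF₀ (u i)).mp (hu i)
      rw [hφu]
      have hsum : u ⬝ᵥ (gramP φ ((P₂⁻¹ : GL (Fin n) F) : Matrix (Fin n) (Fin n) F) *ᵥ u) =
          ∑ i, ∑ j, u i * gramP φ ((P₂⁻¹ : GL (Fin n) F) : Matrix (Fin n) (Fin n) F) i j * u j := by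
        simp only [dotProduct, Matrix.mulVec, Finset.mul_sum, mul_assoc]
      rw [hsum]
      apply sum_symm_zero_diag h2
      · intro i j
        rw [hgram, hgram, hMapp, hMapp]
        have hsk : ∀ k k' : Fin 2, (J2 : Matrix (Fin 2) (Fin 2) F) k k' = -J2 k' k := by
          intro k k'
          fin_cases k <;> fin_cases k' <;> simp [J2]
        rw [hsk (e i).1 (e j).1, hsk (e i).2 (e j).2]
        ring
      · intro i
        rw [hgram, hMapp]
        have hdg : ∀ k : Fin 2, (J2 : Matrix (Fin 2) (Fin 2) F) k k = 0 := by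
          intro k
          fin_cases k <;> simp [J2]
        rw [hdg, zero_mul, mul_zero]
  · left
    exact ⟨F₀, P₂⁻¹, odd_of_two_ne_zero hF h2, hcard, hrat, hle⟩

end Cfsg.Agent.Lib.H22.Asch
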