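import Cfsg.Agent.Lib.H23.ContribP
import Cfsg.Agent.Lib.H23.ContribM

/-!
# S4540, piece T1 (helper22): off-diagonal contributions of a height zero character

For a major subsection `(y, b)` of `B`, `χ₀ ∈ B` of height zero and `ψ ∈ B` of height `h`:
`φ(m) (p^h)² ≤ ∑_k |p^d m^{(y^k, b)}_{χ₀ ψ}|²` (sum over the Galois conjugates).
The proof is the one of helper23's `card_units_mul_pow_le_sum_contrib_self` with the second index
`ψ` carrying the height.
-/

set_option autoImplicit false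

namespace Cfsg.Agent.Lib.H22.KC

open Cfsg MonoidAlgebra Cfsg.Agent.Lib.H23 Cfsg.Agent.Lib.H23.Contrib Cfsg.Agent.Lib.H24
  Cfsg.Agent.Lib.L0
open scoped ComplexConjugate

variable {G : Type*} [Group G] [Fintype G] {p : ℕ} [Fact p.Prime] {M : Ideal AlgInt}

/-- The sum over the Galois conjugates of the squared absolute values of the contribution of a
major subsection between a height zero character and a character of height `h`. -/
theorem card_units_mul_sq_pow_le_sum_normSq_contrib [Fintype (IrrCharacter G)]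
    (hM : IsPModular p M)
    (H : Subgroup G) [Fintype H] [Fintype (IrrCharacter H)] (ξ₁ : IrrCharacter H)
    [DecidablePred (· ∈ blockOf M (ξ₁ : H → ℂ))] {B : Set (IrrCharacter G)}
    (hind : IsInducedBlock M H (blockOf M (ξ₁ : H → ℂ)) B)
    (hdef : blockDefect p (blockOf M (ξ₁ : H → ℂ)) = blockDefect p B) (y : H)
    (hyc : y ∈ Subgroup.center H) (hy : ∃ k : ℕ, orderOf y = p ^ k) {χ₀ ψ : IrrCharacter G}
    (hχ₀ : χ₀ ∈ B) (h0 : blockHeight p B (χ₀ : G → ℂ) = 0) (hψ : ψ ∈ B)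
    (m : ℕ) [NeZero m] (hm : m = Nat.card G) :
    (Fintype.card (ZMod m)ˣ : ℝ) * ((p : ℝ) ^ blockHeight p B (ψ : G → ℂ)) ^ 2 ≤
      ∑ k : (ZMod m)ˣ, ‖(p : ℂ) ^ blockDefect p B *
        contrib p H (blockOf M (ξ₁ : H → ℂ)) (y ^ (k : ZMod m).val) (χ₀ : G → ℂ)
          (ψ : G → ℂ)‖ ^ 2 := by
  classical
  have hPr := isPrime_of_isPModular hM
  have hp : p.Prime := Fact.out
  have hp0 : (p : ℂ) ≠ 0 := Nat.cast_ne_zero.2 hp.ne_zero
  have hpR : (0 : ℝ) < p := by exact_mod_cast hp.pos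
  set d := blockDefect p B with hd
  set h := blockHeight p B (ψ : G → ℂ) with hh
  obtain ⟨χ₁, hχ₁⟩ := hind.2.1
  have hpowc : ∀ σ : Gal(CyclotomicField m ℚ/ℚ), y ^ (cycPow m σ).val ∈ Subgroup.center H :=
    fun σ => Subgroup.pow_mem _ hyc _
  obtain ⟨x, hx⟩ := exists_cyc_contrib (p := p) H (blockOf M (ξ₁ : H → ℂ)) y hyc χ₀ ψ
    ((p ^ d : ℕ) : ℚ) m hm
  have hcast : (((p ^ d : ℕ) : ℚ) : ℂ) = (p : ℂ) ^ d := by push_cast; rfl
  simp only [hcast] at hx
  have hym : y ^ m = 1 := by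
    rw [hm]
    obtain ⟨q, hq⟩ := Subgroup.card_subgroup_dvd_card H
    rw [hq, pow_mul, pow_card_eq_one', one_pow]
  have hk1 : (cycPow m (1 : Gal(CyclotomicField m ℚ/ℚ))) = 1 := by simp [cycPow]
  have h1 : cycEmb m x = (p : ℂ) ^ d *
      contrib p H (blockOf M (ξ₁ : H → ℂ)) y (χ₀ : G → ℂ) (ψ : G → ℂ) := by
    have := hx 1
    rw [AlgEquiv.one_apply] at this
    rw [this, hk1, pow_val_one_eq m y hym]
  have hdb : blockDefect p (blockOf M (ξ₁ : H → ℂ)) = d := hdef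
  have hint : IsIntegral ℤ (cycEmb m x) := by
    rw [h1, ← hdb]
    exact isIntegral_pow_mul_contrib H ξ₁ hM hyc χ₀ ψ
  have hne : cycEmb m x ≠ 0 := by
    rw [h1]
    exact mul_ne_zero (pow_ne_zero _ hp0)
      (contrib_ne_zero_of_height_zero H ξ₁ hM hind hdef hyc hy hχ₀ h0 hψ)
  obtain ⟨N, hN0, hN⟩ := exists_int_prod_galois m x hint hne
  set φ := Fintype.card Gal(CyclotomicField m ℚ/ℚ) with hφ
  -- divisibility of `N`
  set m' : ℕ := Nat.card G / p ^ (Nat.card G).factorization p with hm'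
  set rψ : ℕ := charDegree (ψ : G → ℂ) / p ^ (charDegree (ψ : G → ℂ)).factorization p with hrψ
  have hm'p : ¬ p ∣ m' := Nat.not_dvd_ordCompl hp Nat.card_pos.ne'
  have hfac : ∀ σ : Gal(CyclotomicField m ℚ/ℚ), ∃ w : ℂ, MemLocalRing M w ∧
      (m' : ℂ) * cycEmb m (σ x) = (p : ℂ) ^ h * w := by
    intro σ
    subst hχ₁
    have hkey := ordCompl_mul_pow_mul_contrib H hM (blockOf M (ξ₁ : H → ℂ))
      (y ^ (cycPow m σ).val) χ₁ hψ (χ₀ : G → ℂ)
    refine ⟨(rψ : ℂ) * omega (ψ : G → ℂ)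
      (secElt H (blockOf M (ξ₁ : H → ℂ)) (y ^ (cycPow m σ).val) p (χ₀ : G → ℂ)), ?_, ?_⟩
    · exact memLocalRing_mul (natCast_mem_localRing _)
        (omega_memLocalRing ψ (secElt_mem_center H _ _ _)
          (secElt_mem_intCoeff H _ _ (hpowc σ) χ₀))
    · rw [hx σ, hkey]
      ring
  choose w hwR hw using hfac
  have hprod : ((m' ^ φ * N : ℤ) : ℂ) =
      (p : ℂ) ^ (h * φ) * ∏ σ : Gal(CyclotomicField m ℚ/ℚ), w σ := by
    have h2 : ∏ σ : Gal(CyclotomicField m ℚ/ℚ), ((m' : ℂ) * cycEmb m (σ x)) =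
        ∏ σ : Gal(CyclotomicField m ℚ/ℚ), ((p : ℂ) ^ h * w σ) :=
      Finset.prod_congr rfl fun σ _ => hw σ
    rw [Finset.prod_mul_distrib, Finset.prod_mul_distrib, Finset.prod_const, Finset.prod_const,
      Finset.card_univ, hN, ← hφ, ← pow_mul] at h2
    push_cast
    exact h2
  have hdvd : (p : ℤ) ^ (h * φ) ∣ m' ^ φ * N := by
    apply pow_dvd_of_intCast_div_mem hM
    rw [hprod, mul_div_cancel_left₀ _ (pow_ne_zero _ hp0)]
    exact memLocalRing_prod _ _ fun σ _ => hwR σ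
  have hdvdN : p ^ (h * φ) ∣ N.natAbs := by
    have h2 : p ^ (h * φ) ∣ (m' ^ φ * N).natAbs := by
      have := Int.natAbs_dvd_natAbs.2 hdvd
      simpa [Int.natAbs_pow] using this
    rw [Int.natAbs_mul, Int.natAbs_pow, Int.natAbs_natCast] at h2
    refine (Nat.Coprime.dvd_of_dvd_mul_left ?_ h2)
    exact Nat.Coprime.pow _ _ ((Nat.Prime.coprime_iff_not_dvd hp).2 hm'p)
  have hNle : p ^ (h * φ) ≤ N.natAbs :=
    Nat.le_of_dvd (Int.natAbs_pos.2 hN0) hdvdN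
  have hNge : (p : ℝ) ^ (h * φ) ≤ ‖(N : ℂ)‖ := by
    rw [Complex.norm_intCast]
    have h2 : |(N : ℝ)| = (N.natAbs : ℝ) := by
      rw [← Int.cast_abs, Int.abs_eq_natAbs]
      exact Int.cast_natCast _
    rw [h2]
    exact_mod_cast hNle
  -- AM-GM
  have hamgm : (φ : ℝ) ≤ ∑ σ : Gal(CyclotomicField m ℚ/ℚ),
      ‖cycEmb m (σ x)‖ ^ 2 / ((p : ℝ) ^ h) ^ 2 := by
    apply card_le_sum_of_one_le_prod
    · intro σ
      positivity
    · rw [Finset.prod_div_distrib, Finset.prod_pow, ← norm_prod, hN, Finset.prod_const,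
        Finset.card_univ, ← hφ, ← pow_mul, ← pow_mul, le_div_iff₀ (pow_pos hpR _), one_mul]
      calc (p : ℝ) ^ (h * (2 * φ)) = ((p : ℝ) ^ (h * φ)) ^ 2 := by
            rw [← pow_mul]
            congr 1
            ring
        _ ≤ ‖(N : ℂ)‖ ^ 2 := by
            exact pow_le_pow_left₀ (pow_nonneg hpR.le _) hNge 2
  have hsum : ∑ k : (ZMod m)ˣ,
      ‖(p : ℂ) ^ d * contrib p H (blockOf M (ξ₁ : H → ℂ)) (y ^ (k : ZMod m).val)
        (χ₀ : G → ℂ) (ψ : G → ℂ)‖ ^ 2 =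
      ∑ σ : Gal(CyclotomicField m ℚ/ℚ), ‖cycEmb m (σ x)‖ ^ 2 := by
    symm
    refine Fintype.sum_equiv (cycGalEquiv m).toEquiv _ _ fun σ => ?_
    rw [hx σ]
    rfl
  have hcard : Fintype.card (ZMod m)ˣ = φ :=
    (Fintype.card_congr (cycGalEquiv m).toEquiv).symm
  rw [hsum, hcard]
  rw [← Finset.sum_div, le_div_iff₀ (pow_pos (pow_pos hpR _) _)] at hamgm
  exact hamgm

end Cfsg.Agent.Lib.H22.KC
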