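import Mathlib
import Cfsg.Agent.S0041

set_option autoImplicit false

/-!
# S4004 piece SYL (helper20 architect): the Sylow `r'`-subgroup has order `r'`
-/

namespace Cfsg.Agent.Lib.H22.TV3

universe u

variable {G : Type u} [Group G] [Finite G]

/-- a product of commuting elements of coprime prime orders `r'` and `r` has order `r' * r` -/
theorem orderOf_mul_of_commute_primes {r r' : ℕ} (hr : r.Prime) (hr' : r'.Prime) (hne : r ≠ r')
    (a v : G) (ha : orderOf a = r') (hv : orderOf v = r) (hcomm : Commute a v) :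
    orderOf (a * v) = r' * r := by
  have hcop : Nat.Coprime (orderOf a) (orderOf v) := by
    rw [ha, hv]
    exact (Nat.coprime_primes hr' hr).2 (Ne.symm hne)
  rw [hcomm.orderOf_mul_eq_mul_orderOf_of_coprime hcop, ha, hv]

/-- **SYL**. -/
theorem card_sylow_eq {r r' : ℕ} (hr : r.Prime) [Fact r'.Prime] (hne : r ≠ r')
    (hord : ∀ g : G, orderOf g = 1 ∨ orderOf g = r ∨ orderOf g = r')
    (V : Subgroup G) [V.Normal] (hVc : ∀ a ∈ V, ∀ b ∈ V, a * b = b * a) (hVr : ∀ a ∈ V, a ^ r = 1)
    (hV1 : V ≠ ⊥) (hr'G : r' ∣ Nat.card G) (R : Sylow r' G) : Nat.card R = r' := by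
  classical
  have hr' : r'.Prime := Fact.out
  -- card R = r'^k
  obtain ⟨k, hk⟩ := (IsPGroup.iff_card.mp R.isPGroup')
  -- k ≥ 1
  have hk1 : 1 ≤ k := by
    rcases Nat.eq_zero_or_pos k with h0 | h0
    · exfalso
      subst h0
      have hcard1 : Nat.card (R : Subgroup G) = 1 := by simpa using hk
      have hRbot : (R : Subgroup G) = ⊥ := Subgroup.card_eq_one.mp hcard1
      -- Cauchy: an element of order r'
      obtain ⟨g, hg⟩ := exists_prime_orderOf_dvd_card' (G := G) r' hr'G
      -- zpowers g is an r'-group, inside a conjugate of R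
      have hpg : IsPGroup r' (Subgroup.zpowers g) := by
        apply IsPGroup.of_card (n := 1)
        rw [Nat.card_zpowers, hg, pow_one]
      obtain ⟨R', hR'⟩ := hpg.exists_le_sylow
      have hR'card : Nat.card (R' : Subgroup G) = 1 := by
        rw [Sylow.card_eq_multiplicity, ← Sylow.card_eq_multiplicity R]
        exact hcard1
      have hR'bot : (R' : Subgroup G) = ⊥ := Subgroup.card_eq_one.mp hR'card
      have hgmem : g ∈ (R' : Subgroup G) := hR' (Subgroup.mem_zpowers g)
      rw [hR'bot, Subgroup.mem_bot] at hgmem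
      rw [hgmem, orderOf_one] at hg
      exact hr'.one_lt.ne hg
    · exact h0
  -- suppose k ≥ 2
  by_contra hcon
  have hk2 : 2 ≤ k := by
    rcases Nat.lt_or_ge k 2 with h | h
    · exfalso
      have : k = 1 := by omega
      subst this
      apply hcon
      simpa using hk
    · exact h
  -- subgroup A ≤ R of order r'^2
  have hdvd : r' ^ 2 ∣ Nat.card G := by
    have h1 : r' ^ 2 ∣ r' ^ k := pow_dvd_pow r' hk2
    have h2 : Nat.card (R : Subgroup G) ∣ Nat.card G := Subgroup.card_subgroup_dvd_card _
    rw [hk] at h2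
    exact h1.trans h2
  obtain ⟨A, hA⟩ := Sylow.exists_subgroup_card_pow_prime r' hdvd
  -- elements of A have order 1 or r'
  have hAord : ∀ a ∈ A, a ≠ 1 → orderOf a = r' := by
    intro a ha ha1
    have hdvdA : orderOf a ∣ r' ^ 2 := by
      have := Subgroup.orderOf_dvd_natCard A ha
      rwa [hA] at this
    rcases hord a with h | h | h
    · exact absurd (orderOf_eq_one_iff.mp h) ha1
    · exfalso
      rw [h] at hdvdA
      have := (Nat.Prime.dvd_of_dvd_pow hr hdvdA)
      exact hne ((Nat.prime_dvd_prime_iff_eq hr hr').mp this)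
    · exact h
  -- V is commutative
  haveI : IsMulCommutative V := ⟨⟨fun a b => Subtype.ext (hVc a a.2 b b.2)⟩⟩
  -- fixed-point-freeness
  have hfpf : ∀ a ∈ A, a ≠ 1 → V ⊓ Subgroup.centralizer {a} = ⊥ := by
    intro a ha ha1
    rw [eq_bot_iff]
    intro v hv
    rw [Subgroup.mem_bot]
    by_contra hv1
    have hvV : v ∈ V := hv.1
    have hvc : v ∈ Subgroup.centralizer {a} := hv.2
    have hcomm : Commute a v := by
      have := Subgroup.mem_centralizer_iff.mp hvc a (Set.mem_singleton a)
      exact this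
    have hvord : orderOf v = r := by
      have h1 : orderOf v ∣ r := orderOf_dvd_of_pow_eq_one (hVr v hvV)
      rcases (Nat.dvd_prime hr).mp h1 with h | h
      · exact absurd (orderOf_eq_one_iff.mp h) hv1
      · exact h
    have hprod := orderOf_mul_of_commute_primes hr hr' hne a v (hAord a ha ha1) hvord hcomm
    rcases hord (a * v) with h | h | h
    · rw [h] at hprod
      have : 1 < r' * r := Nat.one_lt_mul_iff.mpr ⟨hr'.pos, hr.pos, Or.inl hr'.one_lt⟩
      omega
    · rw [h] at hprod
      have : r' = 1 := by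
        have := hr.pos
        nlinarith [Nat.eq_of_mul_eq_mul_right hr.pos (by rw [one_mul]; exact hprod : 1 * r = r' * r)]
      exact hr'.one_lt.ne' this
    · rw [h] at hprod
      have : r = 1 := by
        have h2 : r' * 1 = r' * r := by rw [mul_one]; exact hprod
        exact (Nat.eq_of_mul_eq_mul_left hr'.pos h2).symm
      exact hr.one_lt.ne' this
  have hAV : A ≤ Subgroup.normalizer (V : Set G) := by
    intro a _
    rw [Subgroup.normalizer_eq_top]
    exact Subgroup.mem_top a
  have hcyc : IsCyclic A := Cfsg.Agent.S0041.result A V hV1 hAV hfpf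
    (Or.inr ⟨r', r', hr', hr', by rw [hA, pow_two]⟩)
  obtain ⟨⟨g, hgA⟩, hg⟩ := hcyc.exists_generator
  have hgord : orderOf (⟨g, hgA⟩ : A) = Nat.card A := orderOf_eq_card_of_forall_mem_zpowers hg
  have hgord' : orderOf g = r' ^ 2 := by
    rw [← hA, ← hgord]
    exact (Subgroup.orderOf_mk g hgA).symm
  rcases hord g with h | h | h
  · rw [h] at hgord'
    have : 1 < r' ^ 2 := Nat.one_lt_pow (by norm_num) hr'.one_lt
    omega
  · rw [h] at hgord'
    have h1 : r' ∣ r := by rw [hgord']; exact dvd_pow_self r' (by norm_num)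
    exact hne ((Nat.prime_dvd_prime_iff_eq hr' hr).mp h1).symm
  · rw [h] at hgord'
    have : r' * 1 = r' * r' := by rw [mul_one, ← pow_two]; exact hgord'
    have := Nat.eq_of_mul_eq_mul_left hr'.pos this
    exact hr'.one_lt.ne this

end Cfsg.Agent.Lib.H22.TV3
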