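/-
EO phase 2 (architect helper21), task **EO2-X3**, part A (helper22): pure Mathlib preliminaries.
* every quadratic polynomial over a finite field `F₀` has a root in the quadratic extension `F`;
* coordinatewise inclusion `kap : F₀ⁿ → Fⁿ`, coordinatewise functionals `Lam`, rational linearly independent families stay
  linearly independent over `F`;
* a quadratic form vanishes on the span of a set of pairwise orthogonal singular vectors;
* the rational quadratic form `ratQF` over `F₀` induced by a quadratic form over `F` with rational values on `F₀ⁿ`.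
-/
import Mathlib

set_option autoImplicit false

namespace Cfsg.Agent.Lib.H22.EOP2

open Polynomial Module

section root

variable {F : Type*} [Field F] [Finite F]

theorem finrank_eq_two_of_card (F₀ : Subfield F) (hcard : Nat.card F = Nat.card F₀ ^ 2) :
    finrank F₀ F = 2 := by
  have h1 : Nat.card F = Nat.card F₀ ^ finrank F₀ F := Module.natCard_eq_pow_finrank
  rw [hcard] at h1
  have hq : 2 ≤ Nat.card F₀ := Finite.one_lt_card
  exact (Nat.pow_right_injective hq h1).symm

/-- every quadratic polynomial over `F₀` has a root in a quadratic extension `F` (finite fields) -/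
theorem exists_root_quadratic (F₀ : Subfield F) (h2 : finrank F₀ F = 2) (α β γ : F₀) (hα : α ≠ 0) :
    ∃ t : F, (α : F) * t ^ 2 + (β : F) * t + (γ : F) = 0 := by
  classical
  set p : F₀[X] := C α * X ^ 2 + C β * X + C γ with hp
  have hdeg : p.natDegree = 2 := natDegree_quadratic hα
  by_cases hroot : ∃ t : F₀, p.IsRoot t
  · obtain ⟨t, ht⟩ := hroot
    refine ⟨(t : F), ?_⟩
    have h0 : α * t ^ 2 + β * t + γ = 0 := by
      have := ht
      simp only [hp, IsRoot.def, eval_add, eval_mul, eval_C, eval_pow, eval_X] at this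
      exact this
    have := congrArg (fun s : F₀ => (s : F)) h0
    simpa using this
  · push Not at hroot
    have hirr : Irreducible p :=
      Polynomial.irreducible_of_degree_le_three_of_not_isRoot (by rw [hdeg]; simp) hroot
    have : Fact (Irreducible p) := ⟨hirr⟩
    have hp0 : p ≠ 0 := hirr.ne_zero
    have hfr : finrank F₀ (AdjoinRoot p) = 2 := by
      rw [(AdjoinRoot.powerBasis hp0).finrank, AdjoinRoot.powerBasis_dim, hdeg]
    obtain ⟨φ⟩ := FiniteField.nonempty_algHom_of_finrank_dvd (F := F₀) (K := AdjoinRoot p) (L := F)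
      (by rw [hfr, h2])
    refine ⟨φ (AdjoinRoot.root p), ?_⟩
    have h0 : aeval (φ (AdjoinRoot.root p)) p = 0 := by
      rw [aeval_algHom_apply, AdjoinRoot.aeval_eq, AdjoinRoot.mk_self, map_zero]
    simp only [hp, map_add, map_mul, aeval_C, map_pow, aeval_X] at h0
    exact h0

theorem exists_binary_zero (F₀ : Subfield F) (h2 : finrank F₀ F = 2) (α β γ : F₀) :
    ∃ a b : F, (a ≠ 0 ∨ b ≠ 0) ∧ (α : F) * a ^ 2 + (β : F) * (a * b) + (γ : F) * b ^ 2 = 0 := by
  by_cases hα : α = 0
  · exact ⟨1, 0, Or.inl one_ne_zero, by simp [hα]⟩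
  · obtain ⟨t, ht⟩ := exists_root_quadratic F₀ h2 α β γ hα
    exact ⟨t, 1, Or.inr one_ne_zero, by simpa using ht⟩

end root

section descent

variable {F : Type*} [Field F] (F₀ : Subfield F) {n : ℕ}

/-- coordinatewise inclusion `F₀ⁿ → Fⁿ` -/
def kap (u : Fin n → F₀) : Fin n → F := fun i => (u i : F)

theorem kap_apply (u : Fin n → F₀) (i : Fin n) : kap F₀ u i = (u i : F) := rfl

theorem kap_add (u v : Fin n → F₀) : kap F₀ (u + v) = kap F₀ u + kap F₀ v := by
  funext i
  simp [kap]

theorem kap_smul (a : F₀) (u : Fin n → F₀) : kap F₀ (a • u) = (a : F) • kap F₀ u := by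
  funext i
  simp [kap]

theorem kap_zero : kap F₀ (0 : Fin n → F₀) = 0 := by
  funext i
  simp [kap]

theorem kap_injective : Function.Injective (kap F₀ : (Fin n → F₀) → Fin n → F) := by
  intro u v h
  funext i
  exact Subtype.ext (congrFun h i)

theorem kap_single (i : Fin n) : kap F₀ (Pi.single i 1) = (Pi.single i 1 : Fin n → F) := by
  funext j
  by_cases h : j = i
  · subst h
    simp [kap]
  · simp [kap, Pi.single_eq_of_ne h]

theorem kap_mem (u : Fin n → F₀) (i : Fin n) : kap F₀ u i ∈ F₀ := (u i).2

/-- coordinatewise application of an `F₀`-linear functional `F → F₀` -/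
def Lam (l : F →ₗ[F₀] F₀) : (Fin n → F) →+ (Fin n → F₀) where
  toFun w := fun j => l (w j)
  map_zero' := by
    funext j
    simp
  map_add' := fun w w' => by
    funext j
    simp

theorem Lam_smul_kap (l : F →ₗ[F₀] F₀) (c : F) (u : Fin n → F₀) :
    Lam F₀ l (c • kap F₀ u) = l c • u := by
  funext j
  show l (c * (u j : F)) = l c * u j
  have h : c * (u j : F) = (u j) • c := by rw [Subfield.smul_def, smul_eq_mul, mul_comm]
  rw [h, map_smul, smul_eq_mul, mul_comm]

/-- rational linearly independent families remain linearly independent over the big field -/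
theorem li_kap {ι' : Type*} [Fintype ι'] (v : ι' → Fin n → F₀) (hv : LinearIndependent F₀ v) :
    LinearIndependent F (fun i => kap F₀ (v i)) := by
  rw [Fintype.linearIndependent_iff]
  intro g hg i
  rw [← Module.forall_dual_apply_eq_zero_iff F₀ (g i)]
  intro l
  have h1 : ∑ j, l (g j) • v j = 0 := by
    have := congrArg (Lam F₀ l) hg
    rw [map_sum, map_zero] at this
    simpa [Lam_smul_kap] using this
  exact (Fintype.linearIndependent_iff.mp hv) (fun j => l (g j)) h1 i

end descent

section span

variable {K : Type*} [Field K] {V : Type*} [AddCommGroup V] [Module K V]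

/-- a quadratic form vanishes on the span of a set of pairwise orthogonal singular vectors -/
theorem Q_zero_on_span (Q : QuadraticForm K V) (S : Set V) (h1 : ∀ s ∈ S, Q s = 0)
    (h2 : ∀ s ∈ S, ∀ s' ∈ S, QuadraticMap.polar Q s s' = 0) :
    ∀ w ∈ Submodule.span K S, Q w = 0 := by
  have hB : ∀ w ∈ Submodule.span K S, ∀ s ∈ S, QuadraticMap.polar Q w s = 0 := by
    intro w hw s hs
    induction hw using Submodule.span_induction with
    | mem x hx => exact h2 x hx s hs
    | zero => simp
    | add x y _ _ hx hy => rw [QuadraticMap.polar_add_left, hx, hy, add_zero]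
    | smul c x _ hx => rw [QuadraticMap.polar_smul_left, hx, smul_zero]
  have hB2 : ∀ w ∈ Submodule.span K S, ∀ w' ∈ Submodule.span K S, QuadraticMap.polar Q w w' = 0 := by
    intro w hw w' hw'
    induction hw' using Submodule.span_induction with
    | mem x hx => exact hB w hw x hx
    | zero => simp
    | add x y _ _ hx hy => rw [QuadraticMap.polar_add_right, hx, hy, add_zero]
    | smul c x _ hx => rw [QuadraticMap.polar_smul_right, hx, smul_zero]
  intro w hw
  induction hw using Submodule.span_induction with
  | mem x hx => exact h1 x hx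
  | zero => exact QuadraticMap.map_zero Q
  | add x y hx' hy' hx hy =>
    rw [QuadraticMap.map_add Q x y, hx, hy, hB2 x hx' y hy']
    simp
  | smul c x _ hx => rw [QuadraticMap.map_smul, hx, smul_zero]

end span

section ratform

variable {F : Type*} [Field F] (F₀ : Subfield F) {n : ℕ} (Q : QuadraticForm F (Fin n → F))
  (hrat : ∀ u : Fin n → F, (∀ i, u i ∈ F₀) → Q u ∈ F₀)

/-- the underlying function of the rational form -/
def ratFun (u : Fin n → F₀) : F₀ := ⟨Q (kap F₀ u), hrat _ (kap_mem F₀ u)⟩

theorem coe_ratFun (u : Fin n → F₀) : ((ratFun F₀ Q hrat u : F₀) : F) = Q (kap F₀ u) := rfl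

theorem coe_polar_ratFun (x y : Fin n → F₀) :
    ((QuadraticMap.polar (ratFun F₀ Q hrat) x y : F₀) : F) =
      QuadraticMap.polar Q (kap F₀ x) (kap F₀ y) := by
  simp only [QuadraticMap.polar, Subfield.coe_sub, coe_ratFun, kap_add]

/-- the rational quadratic form over `F₀` -/
noncomputable def ratQF : QuadraticForm F₀ (Fin n → F₀) :=
  QuadraticMap.ofPolar (ratFun F₀ Q hrat)
    (fun a x => by
      apply Subtype.ext
      rw [smul_eq_mul, Subfield.coe_mul, Subfield.coe_mul, coe_ratFun, coe_ratFun, kap_smul,
        QuadraticMap.map_smul, smul_eq_mul])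
    (fun x x' y => by
      apply Subtype.ext
      rw [Subfield.coe_add, coe_polar_ratFun, coe_polar_ratFun, coe_polar_ratFun, kap_add,
        QuadraticMap.polar_add_left])
    (fun a x y => by
      apply Subtype.ext
      rw [smul_eq_mul, Subfield.coe_mul, coe_polar_ratFun, coe_polar_ratFun, kap_smul,
        QuadraticMap.polar_smul_left, smul_eq_mul])

theorem coe_ratQF (u : Fin n → F₀) : ((ratQF F₀ Q hrat u : F₀) : F) = Q (kap F₀ u) := rfl

theorem coe_polar_ratQF (x y : Fin n → F₀) :
    ((QuadraticMap.polar (ratQF F₀ Q hrat) x y : F₀) : F) =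
      QuadraticMap.polar Q (kap F₀ x) (kap F₀ y) :=
  coe_polar_ratFun F₀ Q hrat x y

end ratform

end Cfsg.Agent.Lib.H22.EOP2
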