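/-
EO phase 2 (architect helper21), task **EO2-X3** `plus_of_subfield_two` (helper22): a subfield structure of index 2 forces
plus type.
-/
import Cfsg.Agent.Lib.H13.OES1
import Cfsg.Agent.Lib.H29.Orth
import Cfsg.Agent.Lib.H22.AschEO2X3a

set_option autoImplicit false

namespace Cfsg.Agent.Lib.H22.EOP2

open Cfsg Cfsg.Geo Module
open scoped MatrixGroups Matrix Kronecker
open Cfsg.Agent.Lib.H24.Elus (NDon)
open Cfsg.Agent.Lib.H10.OrtNd (PB TS PB_apply)

variable {F : Type*} [Field F] [Fintype F] {n : ℕ}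

/-- core: a non-degenerate quadratic form over `F` in dimension `2 m`, rational over a subfield `F₀` of index 2, has a
totally singular subspace of dimension `m`. -/
theorem exists_ts_half (F₀ : Subfield F) (h2 : finrank F₀ F = 2) (Q : QuadraticForm F (Fin n → F))
    (hnd : ∀ u, (∀ v, QuadraticMap.polar Q u v = 0) → u = 0)
    (hrat : ∀ u : Fin n → F, (∀ i, u i ∈ F₀) → Q u ∈ F₀) (m : ℕ) (hn : n = 2 * m) :
    ∃ U : Submodule F (Fin n → F), (∀ w ∈ U, Q w = 0) ∧ finrank F U = m := by
  classical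
  rcases Nat.eq_zero_or_pos m with rfl | hm
  · refine ⟨⊥, ?_, finrank_bot F _⟩
    intro w hw
    rw [(Submodule.mem_bot F).mp hw]
    exact QuadraticMap.map_zero Q
  set Q₀ : QuadraticForm F₀ (Fin n → F₀) := ratQF F₀ Q hrat with hQ₀
  -- non-degeneracy over `F₀`
  have hQ₀nd : NDon (PB Q₀) ⊤ := by
    intro u _ hu
    apply kap_injective F₀
    rw [kap_zero]
    apply hnd
    intro v
    have key : ∀ i, QuadraticMap.polar Q (kap F₀ u) (Pi.single i 1) = 0 := by
      intro i
      have h0 := hu (Pi.single i 1) Submodule.mem_top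
      have h' := congrArg (fun s : F₀ => (s : F)) h0
      simp only [PB_apply] at h'
      rw [coe_polar_ratQF, kap_single] at h'
      simpa using h'
    have h3 : (QuadraticMap.polarBilin Q) (kap F₀ u) = 0 := by
      apply (Pi.basisFun F (Fin n)).ext
      intro i
      simpa using key i
    exact LinearMap.congr_fun h3 v
  have hfr₀ : finrank F₀ (Fin n → F₀) = n := Module.finrank_fin_fun F₀
  obtain ⟨U₀, -, hU₀ts, hU₀dim⟩ := Cfsg.Agent.Lib.H13.OES.exists_ts_in_NDon Q₀ (m - 1) ⊤ hQ₀nd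
    (by rw [finrank_top, hfr₀]; omega)
  have hB₀nd : (PB Q₀).Nondegenerate := Cfsg.Agent.Lib.H13.OES.nondeg_of_NDon_top Q₀ hQ₀nd
  set W₀ : Submodule F₀ (Fin n → F₀) := (PB Q₀).orthogonal U₀ with hW₀
  have hW₀dim : finrank F₀ W₀ = m + 1 := by
    rw [hW₀, LinearMap.BilinForm.finrank_orthogonal hB₀nd, hfr₀, hU₀dim]
    omega
  have hperp : ∀ w ∈ W₀, ∀ u ∈ U₀, QuadraticMap.polar Q₀ w u = 0 := by
    intro w hw u hu
    have := (LinearMap.BilinForm.mem_orthogonal_iff.mp hw) u hu
    rw [PB_apply] at this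
    rw [QuadraticMap.polar_comm]
    exact this
  have hUW : U₀ ≤ W₀ := by
    intro u hu
    rw [hW₀, LinearMap.BilinForm.mem_orthogonal_iff]
    intro v hv
    exact Cfsg.Agent.Lib.H10.OrtNd.TS.polar_eq_zero Q₀ hU₀ts hv hu
  -- the two extra rational vectors
  have hlt : U₀ < W₀ := lt_of_le_of_ne hUW (by
    intro h
    rw [← h] at hW₀dim
    omega)
  obtain ⟨x, hxW, hxU⟩ := SetLike.exists_of_lt hlt
  have hx0 : x ≠ 0 := by
    intro h
    exact hxU (h ▸ U₀.zero_mem)
  set U₁ : Submodule F₀ (Fin n → F₀) := U₀ ⊔ Submodule.span F₀ {x} with hU₁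
  have hU₁W : U₁ ≤ W₀ := sup_le hUW (by
    rw [Submodule.span_le]
    intro t ht
    rw [Set.mem_singleton_iff] at ht
    rw [ht]
    exact hxW)
  have hU₁dim : finrank F₀ U₁ ≤ m := by
    calc finrank F₀ U₁ ≤ finrank F₀ U₀ + finrank F₀ (Submodule.span F₀ {x}) :=
          Submodule.finrank_add_le_finrank_add_finrank _ _
      _ = (m - 1) + 1 := by rw [hU₀dim, finrank_span_singleton hx0]
      _ = m := by omega
  have hlt1 : U₁ < W₀ := lt_of_le_of_ne hU₁W (by
    intro h
    rw [← h] at hW₀dim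
    omega)
  obtain ⟨y, hyW, hyU⟩ := SetLike.exists_of_lt hlt1
  have hind : ∀ c d : F₀, c • x + d • y ∈ U₀ → c = 0 ∧ d = 0 := by
    intro c d hcd
    have hd : d = 0 := by
      by_contra hd
      apply hyU
      have h1 : y = d⁻¹ • (c • x + d • y) - (d⁻¹ * c) • x := by
        rw [smul_add, smul_smul, smul_smul, inv_mul_cancel₀ hd, one_smul]
        abel
      rw [h1]
      exact Submodule.sub_mem _ (Submodule.mem_sup_left (U₀.smul_mem _ hcd))
        (Submodule.mem_sup_right (Submodule.smul_mem _ _ (Submodule.mem_span_singleton_self x)))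
    refine ⟨?_, hd⟩
    by_contra hc
    apply hxU
    rw [hd, zero_smul, add_zero] at hcd
    have h1 : x = c⁻¹ • (c • x) := by rw [smul_smul, inv_mul_cancel₀ hc, one_smul]
    rw [h1]
    exact U₀.smul_mem _ hcd
  -- the binary form
  obtain ⟨a, b, hab, hzero⟩ := exists_binary_zero F₀ h2 (Q₀ x) (QuadraticMap.polar Q₀ x y) (Q₀ y)
  rw [coe_ratQF, coe_ratQF, coe_polar_ratQF] at hzero
  set z : Fin n → F := a • kap F₀ x + b • kap F₀ y with hz
  have hQz : Q z = 0 := by
    rw [hz, QuadraticMap.map_add Q, QuadraticMap.map_smul, QuadraticMap.map_smul,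
      QuadraticMap.polar_smul_left, QuadraticMap.polar_smul_right]
    simp only [smul_eq_mul]
    linear_combination hzero
  -- basis of `U₀`
  let b₀ : Basis (Fin (m - 1)) F₀ U₀ := Module.finBasisOfFinrankEq F₀ U₀ hU₀dim
  set vb : Fin (m - 1) → Fin n → F := fun i => kap F₀ ((b₀ i : U₀) : Fin n → F₀) with hvb
  have hvbLI : LinearIndependent F vb := by
    have h1 : LinearIndependent F₀ (fun i => ((b₀ i : U₀) : Fin n → F₀)) :=
      b₀.linearIndependent.map' U₀.subtype (Submodule.ker_subtype U₀)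
    exact li_kap F₀ _ h1
  have hznot : z ∉ Submodule.span F (Set.range vb) := by
    intro hzmem
    obtain ⟨c, hc⟩ := (Submodule.mem_span_range_iff_exists_fun F).mp hzmem
    have hl : ∀ l : F →ₗ[F₀] F₀, l a • x + l b • y ∈ U₀ := by
      intro l
      have h1 : Lam F₀ l z = ∑ i, l (c i) • ((b₀ i : U₀) : Fin n → F₀) := by
        rw [← hc, map_sum]
        apply Finset.sum_congr rfl
        intro i _
        rw [hvb]
        exact Lam_smul_kap F₀ l (c i) _
      have h2' : Lam F₀ l z = l a • x + l b • y := by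
        rw [hz, map_add, Lam_smul_kap, Lam_smul_kap]
      rw [← h2', h1]
      exact Submodule.sum_mem _ (fun i _ => Submodule.smul_mem _ _ (b₀ i).2)
    have ha : a = 0 := by
      rw [← Module.forall_dual_apply_eq_zero_iff F₀ a]
      intro l
      exact (hind _ _ (hl l)).1
    have hb : b = 0 := by
      rw [← Module.forall_dual_apply_eq_zero_iff F₀ b]
      intro l
      exact (hind _ _ (hl l)).2
    rcases hab with h | h
    · exact h ha
    · exact h hb
  have hLI : LinearIndependent F (Fin.cons z vb : Fin (m - 1 + 1) → Fin n → F) :=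
    LinearIndependent.finCons hvbLI hznot
  refine ⟨Submodule.span F (Set.range (Fin.cons z vb : Fin (m - 1 + 1) → Fin n → F)), ?_, ?_⟩
  · -- totally singular
    have hvbQ : ∀ u ∈ U₀, Q (kap F₀ u) = 0 := by
      intro u hu
      have := hU₀ts u hu
      rw [← coe_ratQF F₀ Q hrat, ← hQ₀, this]
      rfl
    have hvv : ∀ u ∈ U₀, ∀ u' ∈ U₀, QuadraticMap.polar Q (kap F₀ u) (kap F₀ u') = 0 := by
      intro u hu u' hu'
      have := Cfsg.Agent.Lib.H10.OrtNd.TS.polar_eq_zero Q₀ hU₀ts hu hu'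
      rw [PB_apply] at this
      rw [← coe_polar_ratQF F₀ Q hrat, ← hQ₀, this]
      rfl
    have hwv : ∀ w ∈ W₀, ∀ u ∈ U₀, QuadraticMap.polar Q (kap F₀ w) (kap F₀ u) = 0 := by
      intro w hw u hu
      rw [← coe_polar_ratQF F₀ Q hrat, ← hQ₀, hperp w hw u hu]
      rfl
    have hzv : ∀ u ∈ U₀, QuadraticMap.polar Q z (kap F₀ u) = 0 := by
      intro u hu
      rw [hz, QuadraticMap.polar_add_left, QuadraticMap.polar_smul_left, QuadraticMap.polar_smul_left,
        hwv x hxW u hu, hwv y hyW u hu, smul_zero, smul_zero, add_zero]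
    have hzz : QuadraticMap.polar Q z z = 0 := by
      rw [QuadraticMap.polar_self, hQz, smul_zero]
    apply Q_zero_on_span
    · intro s hs
      rw [Fin.range_cons, Set.mem_insert_iff] at hs
      rcases hs with rfl | ⟨i, rfl⟩
      · exact hQz
      · exact hvbQ _ (b₀ i).2
    · intro s hs s' hs'
      rw [Fin.range_cons, Set.mem_insert_iff] at hs hs'
      rcases hs with rfl | ⟨i, rfl⟩
      · rcases hs' with rfl | ⟨j, rfl⟩
        · exact hzz
        · exact hzv _ (b₀ j).2
      · rcases hs' with rfl | ⟨j, rfl⟩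
        · rw [QuadraticMap.polar_comm]
          exact hzv _ (b₀ i).2
        · exact hvv _ (b₀ i).2 _ (b₀ j).2
  · rw [finrank_span_eq_card hLI, Fintype.card_fin]
    omega

/-- **EO2-X3**.  A subfield structure of index 2 forces plus type. -/
theorem plus_of_subfield_two (Q : (Fin n → F) → F) (hQ : IsNondegenerateQuadraticForm Q) (hn : Even n)
    (F₀ : Subfield F) (hcard : Fintype.card F = Nat.card F₀ ^ 2) (P : GL (Fin n) F) (ζ : F) (hζ : ζ ≠ 0)
    (hR : IsQuadFormRationalStructure (fun v : Fin n → F => ζ * Q v) F₀ P) :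
    IsPlusTypeOn Q ⊤ := by
  classical
  obtain ⟨m, hm⟩ := hn
  have h2 : finrank F₀ F = 2 :=
    finrank_eq_two_of_card F₀ (by rw [Nat.card_eq_fintype_card]; exact hcard)
  set QF : QuadraticForm F (Fin n → F) := Cfsg.Agent.Lib.H29.Orth.toQF Q hQ with hQF
  set L : (Fin n → F) →ₗ[F] (Fin n → F) := Matrix.mulVecLin (P : Matrix (Fin n) (Fin n) F) with hL
  set Q' : QuadraticForm F (Fin n → F) := ζ • QF.comp L with hQ'
  have hQ'app : ∀ v, Q' v = ζ * Q ((P : Matrix (Fin n) (Fin n) F) *ᵥ v) := fun v => rfl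
  have hpol : ∀ u v, QuadraticMap.polar Q' u v =
      ζ * QuadraticMap.polar Q ((P : Matrix (Fin n) (Fin n) F) *ᵥ u)
        ((P : Matrix (Fin n) (Fin n) F) *ᵥ v) := by
    intro u v
    simp only [QuadraticMap.polar, hQ'app, Matrix.mulVec_add]
    ring
  have hPinv : (P : Matrix (Fin n) (Fin n) F) * ((P⁻¹ : GL (Fin n) F) : Matrix (Fin n) (Fin n) F) = 1 := by
    rw [← Units.val_mul, mul_inv_cancel, Units.val_one]
  have hinvP : ((P⁻¹ : GL (Fin n) F) : Matrix (Fin n) (Fin n) F) * (P : Matrix (Fin n) (Fin n) F) = 1 := by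
    rw [← Units.val_mul, inv_mul_cancel, Units.val_one]
  have hnd : ∀ u, (∀ v, QuadraticMap.polar Q' u v = 0) → u = 0 := by
    intro u hu
    have h1 : ∀ w, QuadraticMap.polar Q ((P : Matrix (Fin n) (Fin n) F) *ᵥ u) w = 0 := by
      intro w
      have := hu (((P⁻¹ : GL (Fin n) F) : Matrix (Fin n) (Fin n) F) *ᵥ w)
      rw [hpol, Matrix.mulVec_mulVec, hPinv, Matrix.one_mulVec] at this
      exact (mul_eq_zero.mp this).resolve_left hζ
    have h3 : (P : Matrix (Fin n) (Fin n) F) *ᵥ u = 0 := by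
      by_contra h0
      obtain ⟨y, hy⟩ := (hQ.nondegenerate _ h0).2
      exact hy (h1 y)
    have := congrArg (fun v => ((P⁻¹ : GL (Fin n) F) : Matrix (Fin n) (Fin n) F) *ᵥ v) h3
    simp only [Matrix.mulVec_mulVec, hinvP, Matrix.one_mulVec, Matrix.mulVec_zero] at this
    exact this
  obtain ⟨U', hU'ts, hU'dim⟩ := exists_ts_half F₀ h2 Q' hnd
    (fun u hu => by rw [hQ'app]; exact hR u hu) m (by omega)
  have hLinj : Function.Injective L := by
    intro u v huv
    have := congrArg (fun v => ((P⁻¹ : GL (Fin n) F) : Matrix (Fin n) (Fin n) F) *ᵥ v) huv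
    simp only [hL, Matrix.mulVecLin_apply, Matrix.mulVec_mulVec, hinvP, Matrix.one_mulVec] at this
    exact this
  refine ⟨U'.map L, le_top, ?_, ?_⟩
  · rintro _ ⟨u, hu, rfl⟩
    have := hU'ts u hu
    rw [hQ'app] at this
    exact (mul_eq_zero.mp this).resolve_left hζ
  · rw [finrank_top, Module.finrank_fin_fun]
    have h4 : finrank F (U'.map L) = finrank F U' :=
      (LinearEquiv.finrank_eq (Submodule.equivMapOfInjective L hLinj U')).symm
    rw [h4, hU'dim]
    omega

end Cfsg.Agent.Lib.H22.EOP2
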