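import Mathlib
import Cfsg.Agent.Lib.H21.Hall4Defs
import Cfsg.Agent.Lib.H22.Hall4FOUR

/-!
# S4221 (M. Hall), pieces CV and CU (helper22): orders of centralizers of four-groups by
orbit–stabilizer.
-/

set_option autoImplicit false

namespace Cfsg.Agent.Lib.H22.Hall4

open Equiv Cfsg.Agent.Lib.H21.Hall4

variable {α : Type*} [Fintype α] [DecidableEq α] {G : Subgroup (Perm α)}

/-- Orbit–stabilizer for a subgroup `C` of `Perm α` acting on `α`, with the orbit of `x` given as a
finset `O` and the stabilizer as a subgroup `S` of `Perm α`. -/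
theorem card_eq_orbit_mul (C S : Subgroup (Perm α)) (x : α) (O : Finset α)
    (hO : ∀ y, y ∈ O ↔ ∃ c ∈ C, c x = y) (hS : ∀ c, c ∈ S ↔ c ∈ C ∧ c x = x) :
    Nat.card C = O.card * Nat.card S := by
  have h1 : Nat.card (MulAction.orbit C x × MulAction.stabilizer C x) = Nat.card C :=
    Nat.card_congr (MulAction.orbitProdStabilizerEquivGroup C x)
  rw [Nat.card_prod] at h1
  have h2 : Nat.card (MulAction.orbit C x) = O.card := by
    have : (MulAction.orbit C x : Set α) = (O : Set α) := by
      ext y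
      rw [MulAction.mem_orbit_iff, Finset.mem_coe, hO]
      constructor
      · rintro ⟨c, hc⟩
        exact ⟨c.1, c.2, hc⟩
      · rintro ⟨c, hc, hcx⟩
        exact ⟨⟨c, hc⟩, hcx⟩
    rw [this, Nat.card_coe_set_eq, Set.ncard_coe_finset]
  have h3 : Nat.card (MulAction.stabilizer C x) = Nat.card S := by
    have hmap : (MulAction.stabilizer C x).map C.subtype = S := by
      ext c
      rw [Subgroup.mem_map, hS]
      constructor
      · rintro ⟨d, hd, rfl⟩
        exact ⟨d.2, hd⟩
      · rintro ⟨hc, hcx⟩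
        exact ⟨⟨c, hc⟩, hcx, rfl⟩
    rw [← hmap, Subgroup.card_map_of_injective C.subtype_injective]
  rw [← h1, h2, h3]

omit [Fintype α] [DecidableEq α] in
theorem mem_inf_cent2 {G : Subgroup (Perm α)} {a b c : Perm α} :
    c ∈ (G ⊓ Subgroup.centralizer ({a, b} : Set (Perm α)) : Subgroup (Perm α)) ↔
      c ∈ G ∧ c * a = a * c ∧ c * b = b * c := by
  rw [Subgroup.mem_inf, Subgroup.mem_centralizer_iff]
  constructor
  · rintro ⟨hc, h⟩
    exact ⟨hc, (h a (by simp)).symm, (h b (by simp)).symm⟩
  · rintro ⟨hc, h1, h2⟩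
    refine ⟨hc, fun x hx => ?_⟩
    rcases hx with rfl | hx
    · exact h1.symm
    · rw [Set.mem_singleton_iff] at hx
      subst hx
      exact h2.symm

/-- **Piece CV.** -/
theorem card_cent_four (hG : Hyp G) {a b : Perm α} (ha : a ∈ G) (hb : b ∈ G) (ha2 : a * a = 1)
    (hb2 : b * b = 1) (hab : a * b = b * a) (s : Fin 4 ↪ α) (h0 : s 0 ∈ reg a b)
    (h1 : s 1 = a (s 0)) (h2 : s 2 = b (s 0)) (h3 : s 3 = (a * b) (s 0)) :
    Nat.card (G ⊓ Subgroup.centralizer ({a, b} : Set (Perm α)) : Subgroup (Perm α)) =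
      (reg a b).card *
        Nat.card (st G s ⊓ Subgroup.centralizer ({a, b} : Set (Perm α)) : Subgroup (Perm α)) := by
  apply card_eq_orbit_mul _ _ (s 0)
  · intro y
    constructor
    · intro hy
      obtain ⟨g, hg, hga, hgb, hgω⟩ := four_conj hG ha hb ha hb ha2 hb2 hab ha2 hb2 hab (s 0) y h0 hy
      refine ⟨g, mem_inf_cent2.mpr ⟨hg, ?_, ?_⟩, hgω⟩
      · calc g * a = g * a * g⁻¹ * g := by group
          _ = a * g := by rw [hga]
      · calc g * b = g * b * g⁻¹ * g := by group
          _ = b * g := by rw [hgb]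
    · rintro ⟨c, hc, rfl⟩
      obtain ⟨_, hca, hcb⟩ := mem_inf_cent2.mp hc
      have hr := mem_reg.mp h0
      have hca' : ∀ x, c (a x) = a (c x) := fun x => by
        rw [← Perm.mul_apply, hca, Perm.mul_apply]
      have hcb' : ∀ x, c (b x) = b (c x) := fun x => by
        rw [← Perm.mul_apply, hcb, Perm.mul_apply]
      rw [mem_reg]
      refine ⟨?_, ?_, ?_⟩
      · intro h
        rw [← hca'] at h
        exact hr.1 (c.injective h)
      · intro h
        rw [← hcb'] at h
        exact hr.2.1 (c.injective h)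
      · intro h
        rw [Perm.mul_apply, ← hcb', ← hca'] at h
        have := c.injective h
        exact hr.2.2 (by rw [Perm.mul_apply]; exact this)
  · intro c
    rw [Subgroup.mem_inf, mem_inf_cent2, mem_st, Subgroup.mem_centralizer_iff]
    constructor
    · rintro ⟨⟨hcG, hcs⟩, hcent⟩
      exact ⟨⟨hcG, (hcent a (by simp)).symm, (hcent b (by simp)).symm⟩, hcs 0⟩
    · rintro ⟨⟨hcG, hca, hcb⟩, hc0⟩
      have hca' : ∀ x, c (a x) = a (c x) := fun x => by
        rw [← Perm.mul_apply, hca, Perm.mul_apply]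
      have hcb' : ∀ x, c (b x) = b (c x) := fun x => by
        rw [← Perm.mul_apply, hcb, Perm.mul_apply]
      refine ⟨⟨hcG, fun i => ?_⟩, fun x hx => ?_⟩
      · fin_cases i
        · exact hc0
        · show c (s 1) = s 1
          rw [h1, hca', hc0]
        · show c (s 2) = s 2
          rw [h2, hcb', hc0]
        · show c (s 3) = s 3
          rw [h3, Perm.mul_apply, hca', hcb', hc0]
      · rcases hx with rfl | hx
        · exact hca.symm
        · rw [Set.mem_singleton_iff] at hx
          subst hx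
          exact hcb.symm

end Cfsg.Agent.Lib.H22.Hall4
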