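import Mathlib

/-!
# S0720 piece NTRANS (helper22): a non-trivial subgroup normalised by a primitive group is transitive
-/

set_option autoImplicit false

namespace Cfsg.Agent.Lib.H22.W2P

/-- NTRANS: a non-trivial subgroup normalised by a primitive group is transitive. -/
theorem normal_trans {α : Type*} [Fintype α] [DecidableEq α] (G : Subgroup (Equiv.Perm α))
    (hG : MulAction.IsPreprimitive G α) (L : Subgroup (Equiv.Perm α)) (hLG : L ≤ G)
    (hnorm : ∀ g ∈ G, ∀ l ∈ L, g * l * g⁻¹ ∈ L) (hL : L ≠ ⊥) : MulAction.IsPretransitive L α := by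
  have := hG
  have hN : (L.subgroupOf G).Normal := by
    constructor
    intro n hn g
    rw [Subgroup.mem_subgroupOf] at hn ⊢
    exact hnorm g.1 g.2 n.1 hn
  have hfix : MulAction.fixedPoints (L.subgroupOf G) α ≠ Set.univ := by
    intro h
    apply hL
    rw [eq_bot_iff]
    intro l hl
    rw [Subgroup.mem_bot]
    ext a
    have ha : a ∈ MulAction.fixedPoints (L.subgroupOf G) α := by rw [h]; exact Set.mem_univ _
    have := ha ⟨⟨l, hLG hl⟩, by rw [Subgroup.mem_subgroupOf]; exact hl⟩
    exact this
  have htr : MulAction.IsPretransitive (L.subgroupOf G) α :=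
    MulAction.IsQuasiPreprimitive.isPretransitive_of_normal hfix
  constructor
  intro x y
  obtain ⟨n, hn⟩ := htr.exists_smul_eq x y
  exact ⟨⟨n.1.1, Subgroup.mem_subgroupOf.1 n.2⟩, hn⟩

end Cfsg.Agent.Lib.H22.W2P
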