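import Mathlib
import Cfsg.Agent.Lib.H22.W2PNTRANS

/-!
# S0720 piece BURN (helper22): Burnside's transfer theorem in a normal subgroup of a primitive group
of degree `2p`
-/

set_option autoImplicit false

namespace Cfsg.Agent.Lib.H22.W2P

section generic

variable {H : Type*} [Group H] [Finite H] {p : ℕ} [Fact p.Prime] (P : Sylow p H)
  (hP : Subgroup.normalizer (P : Set H) ≤ Subgroup.centralizer (P : Set H))

include hP in
/-- the normal `p`-complement of Burnside's theorem consists of the `p'`-elements, when `|P| = p` -/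
theorem mem_ker_transferSylow_iff (hcard : Nat.card (P : Subgroup H) = p) (h : H) :
    h ∈ (MonoidHom.transferSylow P hP).ker ↔ ¬ p ∣ orderOf h := by
  constructor
  · intro hh hdvd
    have h1 : orderOf (⟨h, hh⟩ : (MonoidHom.transferSylow P hP).ker) = orderOf h :=
      Subgroup.orderOf_mk h hh
    have h2 : orderOf (⟨h, hh⟩ : (MonoidHom.transferSylow P hP).ker) ∣
        Nat.card (MonoidHom.transferSylow P hP).ker := orderOf_dvd_natCard _
    rw [h1] at h2
    exact MonoidHom.not_dvd_card_ker_transferSylow P hP (hdvd.trans h2)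
  · intro hnd
    rw [MonoidHom.mem_ker]
    have h1 : orderOf (MonoidHom.transferSylow P hP h) ∣ orderOf h := orderOf_map_dvd _ h
    have h2 : orderOf (MonoidHom.transferSylow P hP h) ∣ p := by
      have := orderOf_dvd_natCard (MonoidHom.transferSylow P hP h)
      rwa [hcard] at this
    have h3 : orderOf (MonoidHom.transferSylow P hP h) = 1 := by
      rcases (Nat.dvd_prime Fact.out).1 h2 with h4 | h4
      · exact h4
      · exact absurd (h4 ▸ h1) hnd
    exact orderOf_eq_one_iff.1 h3

include hP in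
theorem card_eq_card_ker_mul (hcard : Nat.card (P : Subgroup H) = p) :
    Nat.card H = Nat.card (MonoidHom.transferSylow P hP).ker * p := by
  have := (MonoidHom.ker_transferSylow_isComplement' P hP).card_mul_card
  rw [hcard] at this
  exact this.symm

end generic

/-- a transitive subgroup of `Perm α` has order divisible by `|α|` -/
theorem card_dvd_of_trans {α : Type*} [Fintype α] [DecidableEq α] (K : Subgroup (Equiv.Perm α))
    (hK : MulAction.IsPretransitive K α) (a : α) : Fintype.card α ∣ Nat.card K := by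
  have := hK
  have h := MulAction.index_stabilizer_of_transitive (G := K) (X := α) a
  rw [Nat.card_eq_fintype_card] at h
  rw [← h]
  exact Subgroup.index_dvd_card _

/-- BURN -/
theorem normalizer_ne {α : Type*} [Fintype α] [DecidableEq α] {p : ℕ} (hp : p.Prime) (hp2 : p ≠ 2)
    (hα : Fintype.card α = 2 * p) (G : Subgroup (Equiv.Perm α)) (hG : MulAction.IsPreprimitive G α)
    (L : Subgroup (Equiv.Perm α)) (hLG : L ≤ G) (hnorm : ∀ g ∈ G, ∀ l ∈ L, g * l * g⁻¹ ∈ L)
    (hp2L : ¬ p ^ 2 ∣ Nat.card L) (x : Equiv.Perm α) (hx : x ∈ L) (hox : orderOf x = p)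
    (hcent : ∀ c ∈ L, c * x = x * c → c ∈ Subgroup.zpowers x) :
    ∃ n ∈ L, n * x * n⁻¹ ∈ Subgroup.zpowers x ∧ n ∉ Subgroup.zpowers x := by
  by_contra hcon
  push Not at hcon
  have : Fact p.Prime := ⟨hp⟩
  -- a point
  have hne : Nonempty α := by
    rw [← Fintype.card_pos_iff, hα]
    have := hp.pos
    omega
  obtain ⟨a⟩ := hne
  -- work in `L`
  set xL : ↥L := ⟨x, hx⟩ with hxL
  have hoxL : orderOf xL = p := by rw [hxL, Subgroup.orderOf_mk, hox]
  set P0 : Subgroup ↥L := Subgroup.zpowers xL with hP0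
  have hcardP0 : Nat.card P0 = p := by rw [hP0, Nat.card_zpowers, hoxL]
  have hpL : p ∣ Nat.card L := hoxL ▸ orderOf_dvd_natCard xL
  have hfact : (Nat.card L).factorization p = 1 := by
    have hL0 : Nat.card L ≠ 0 := Nat.card_pos.ne'
    have h1 := (hp.pow_dvd_iff_le_factorization (k := 1) hL0).1 (by rwa [pow_one])
    have h2 := (hp.pow_dvd_iff_le_factorization (k := 2) hL0).not.1 hp2L
    omega
  set P : Sylow p ↥L := Sylow.ofCard P0 (by rw [hcardP0, hfact, pow_one]) with hPdef
  have hPcoe : (P : Subgroup ↥L) = P0 := Sylow.coe_ofCard _ _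
  -- membership in `P0`
  have hmemP0 : ∀ n : ↥L, n ∈ P0 ↔ (n : Equiv.Perm α) ∈ Subgroup.zpowers x := by
    intro n
    rw [hP0, Subgroup.mem_zpowers_iff, Subgroup.mem_zpowers_iff]
    constructor
    · rintro ⟨k, hk⟩
      exact ⟨k, by rw [← hk]; simp [hxL]⟩
    · rintro ⟨k, hk⟩
      exact ⟨k, Subtype.ext (by rw [← hk]; simp [hxL])⟩
  have hP : Subgroup.normalizer ((P : Subgroup ↥L) : Set ↥L) ≤
      Subgroup.centralizer ((P : Subgroup ↥L) : Set ↥L) := by
    rw [hPcoe]
    intro n hn
    have h1 : n * xL * n⁻¹ ∈ P0 :=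
      (Subgroup.mem_normalizer_iff.1 hn xL).1 (Subgroup.mem_zpowers xL)
    have h2 : (n : Equiv.Perm α) * x * (n : Equiv.Perm α)⁻¹ ∈ Subgroup.zpowers x := by
      have := (hmemP0 _).1 h1
      simpa [hxL] using this
    have h3 : (n : Equiv.Perm α) ∈ Subgroup.zpowers x := hcon n.1 n.2 h2
    have h4 : n ∈ P0 := (hmemP0 n).2 h3
    rw [Subgroup.mem_centralizer_iff]
    intro y hy
    have hy' : y ∈ Subgroup.zpowers xL := hy
    have h4' : n ∈ Subgroup.zpowers xL := h4
    obtain ⟨i, rfl⟩ := Subgroup.mem_zpowers_iff.1 hy'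
    obtain ⟨j, rfl⟩ := Subgroup.mem_zpowers_iff.1 h4'
    rw [← zpow_add, ← zpow_add, add_comm]
  have hcardP : Nat.card (P : Subgroup ↥L) = p := by rw [hPcoe, hcardP0]
  set K : Subgroup ↥L := (MonoidHom.transferSylow P hP).ker with hK
  have hKmem := mem_ker_transferSylow_iff P hP hcardP
  have hKcard := card_eq_card_ker_mul P hP hcardP
  have hKnd : ¬ p ∣ Nat.card K := MonoidHom.not_dvd_card_ker_transferSylow P hP
  -- the image of `K` in `Perm α`
  set K' : Subgroup (Equiv.Perm α) := K.map L.subtype with hK'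
  have hK'L : K' ≤ L := by
    rintro _ ⟨k, -, rfl⟩
    exact k.2
  have hK'card : Nat.card K' = Nat.card K :=
    Subgroup.card_map_of_injective (Subgroup.subtype_injective L)
  have hK'mem : ∀ l : Equiv.Perm α, l ∈ K' ↔ l ∈ L ∧ ¬ p ∣ orderOf l := by
    intro l
    constructor
    · rintro ⟨k, hk, rfl⟩
      refine ⟨k.2, ?_⟩
      have := (hKmem k).1 hk
      rwa [← Subgroup.orderOf_coe] at this
    · rintro ⟨hl, hnd⟩
      refine ⟨⟨l, hl⟩, (hKmem _).2 ?_, rfl⟩
      rwa [Subgroup.orderOf_mk]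
  have hK'norm : ∀ g ∈ G, ∀ l ∈ K', g * l * g⁻¹ ∈ K' := by
    intro g hg l hl
    obtain ⟨h1, h2⟩ := (hK'mem l).1 hl
    refine (hK'mem _).2 ⟨hnorm g hg l h1, ?_⟩
    have : orderOf (g * l * g⁻¹) = orderOf l := by
      have := orderOf_injective (MulAut.conj g).toMonoidHom (MulAut.conj g).injective l
      simpa using this
    rwa [this]
  by_cases hKbot : K' = ⊥
  · -- `|L| = p`
    have h1 : Nat.card K = 1 := by
      rw [← hK'card, hKbot]
      exact Subgroup.card_bot
    rw [h1, one_mul] at hKcard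
    have hLne : L ≠ ⊥ := by
      intro h
      rw [h, Subgroup.card_bot] at hKcard
      exact hp.one_lt.ne hKcard
    have htr := normal_trans G hG L hLG hnorm hLne
    have h2 := card_dvd_of_trans L htr a
    rw [hα, hKcard] at h2
    have := Nat.le_of_dvd hp.pos h2
    have := hp.pos
    omega
  · have htr := normal_trans G hG K' (hK'L.trans hLG) hK'norm hKbot
    have h2 := card_dvd_of_trans K' htr a
    rw [hα, hK'card] at h2
    exact hKnd ((Dvd.intro_left 2 rfl).trans h2)

end Cfsg.Agent.Lib.H22.W2P
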