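import Cfsg.Agent.Lib.H22.A10K

/-!
# Properties of the group `K ≅ 2.S₅⁻ ≤ GL₄(𝔽₇)`
-/

set_option autoImplicit false

namespace Cfsg.Agent.Lib.H22.A10K

def u1 : M4ˣ := ⟨g1, g1i, g1_mul, g1i_mul⟩
def u2 : M4ˣ := ⟨g2, g2i, g2_mul, g2i_mul⟩

/-- The group. -/
def K : Subgroup M4ˣ := Subgroup.closure {u1, u2}

/-- The set of listed matrices. -/
def LS : Set M4 := {M | ∃ i : Fin 240, M = Lm i}

theorem LS_finite : LS.Finite := by
  have : LS = Set.range (fun i : Fin 240 => Lm i) := by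
    ext M
    simp only [LS, Set.mem_range]
    show (∃ i : Fin 240, M = Lm i) ↔ _
    constructor
    · rintro ⟨i, rfl⟩; exact ⟨i, rfl⟩
    · rintro ⟨i, rfl⟩; exact ⟨i, rfl⟩
  rw [this]
  exact Set.finite_range _

theorem g1_LS {M : M4} (h : M ∈ LS) : g1 * M ∈ LS := by
  obtain ⟨i, rfl⟩ := h
  exact ⟨⟨p1.getD i 0, p1_lt i⟩, clos1 i⟩

theorem g2_LS {M : M4} (h : M ∈ LS) : g2 * M ∈ LS := by
  obtain ⟨i, rfl⟩ := h
  exact ⟨⟨p2.getD i 0, p2_lt i⟩, clos2 i⟩

theorem stab_inv (x : M4ˣ) (h : ∀ M ∈ LS, (x : M4) * M ∈ LS) :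
    ∀ M ∈ LS, ((x⁻¹ : M4ˣ) : M4) * M ∈ LS := by
  haveI : Finite LS := LS_finite.to_subtype
  let f : LS → LS := fun M => ⟨(x : M4) * M.1, h M.1 M.2⟩
  have hinj : Function.Injective f := by
    intro a b hab
    have h1 : (x : M4) * a.1 = (x : M4) * b.1 := congrArg Subtype.val hab
    have h2 := congrArg (fun Y => ((x⁻¹ : M4ˣ) : M4) * Y) h1
    simp only [← mul_assoc, Units.inv_mul, one_mul] at h2
    exact Subtype.ext h2
  have hsurj := Finite.injective_iff_surjective.1 hinj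
  intro M hM
  obtain ⟨⟨M', hM'⟩, e⟩ := hsurj ⟨M, hM⟩
  have e' : (x : M4) * M' = M := congrArg Subtype.val e
  rw [← e', ← mul_assoc, Units.inv_mul, one_mul]
  exact hM'

theorem stab_of_mem {x : M4ˣ} (hx : x ∈ K) : ∀ M ∈ LS, (x : M4) * M ∈ LS := by
  unfold K at hx
  refine Subgroup.closure_induction (p := fun (y : M4ˣ) _ => ∀ M ∈ LS, (y : M4) * M ∈ LS)
    ?_ ?_ ?_ ?_ hx
  · intro y hy
    rcases hy with rfl | hy
    · intro M hM; exact g1_LS hM
    · rw [Set.mem_singleton_iff] at hy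
      subst hy
      intro M hM; exact g2_LS hM
  · intro M hM
    simpa using hM
  · intro y y' _ _ ihy ihy' M hM
    rw [Units.val_mul, mul_assoc]
    exact ihy _ (ihy' _ hM)
  · intro y _ ih
    exact stab_inv y ih

theorem mem_LS {x : M4ˣ} (hx : x ∈ K) : ∃ i : Fin 240, (x : M4) = Lm i := by
  have := stab_of_mem hx 1 ⟨⟨0, by norm_num⟩, Lm_zero.symm⟩
  rw [mul_one] at this
  exact this

/-! ### The natural module -/

/-- The natural module `𝔽₇⁴`. -/
def V7 : Type := Fin 4 → ZMod 7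

instance : AddCommGroup V7 := inferInstanceAs (AddCommGroup (Fin 4 → ZMod 7))

theorem mulVec_mul_aux (X Y : M4) (v : Fin 4 → ZMod 7) :
    (X * Y).mulVec v = X.mulVec (Y.mulVec v) := by
  rw [Matrix.mulVec_mulVec]

theorem seven_aux (v : Fin 4 → ZMod 7) : (7 : ℕ) • v = 0 := by
  funext i
  rw [Pi.smul_apply, nsmul_eq_mul]
  have : ((7 : ℕ) : ZMod 7) = 0 := by decide
  rw [this, zero_mul]
  rfl

theorem e0_aux : (fun _ : Fin 4 => (1 : ZMod 7)) ≠ 0 := by
  intro h
  have := congrFun h 0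
  revert this
  decide

theorem fpf_aux (X N : M4) (h : N * (X - 1) = 1) (v : Fin 4 → ZMod 7) (hv : X.mulVec v = v) :
    v = 0 := by
  have h0 : (X - 1).mulVec v = 0 := by
    rw [Matrix.sub_mulVec, Matrix.one_mulVec, hv, sub_self]
  have : v = (N * (X - 1)).mulVec v := by
    rw [h, Matrix.one_mulVec]
  rw [this, ← Matrix.mulVec_mulVec, h0, Matrix.mulVec_zero]

theorem neg_aux (v : Fin 4 → ZMod 7) : (-1 : M4).mulVec v = -v := by
  rw [Matrix.neg_mulVec, Matrix.one_mulVec]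

instance : DistribMulAction K V7 where
  smul x v := ((x.1 : M4ˣ) : M4).mulVec v
  one_smul v := Matrix.one_mulVec v
  mul_smul x y v := mulVec_mul_aux ((x.1 : M4ˣ) : M4) ((y.1 : M4ˣ) : M4) v
  smul_zero x := Matrix.mulVec_zero _
  smul_add x v w := Matrix.mulVec_add _ v w

theorem smul_def (x : K) (v : V7) : x • v = ((x.1 : M4ˣ) : M4).mulVec v := rfl

theorem seven_nsmul (v : V7) : (7 : ℕ) • v = 0 := seven_aux v

/-- A nonzero vector. -/
def e0 : V7 := fun _ => 1

theorem e0_ne : e0 ≠ 0 := e0_aux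

theorem fpf (x : K) (hx : x ≠ 1) (v : V7) (hv : x • v = v) : v = 0 := by
  obtain ⟨i, hi⟩ := mem_LS x.2
  have hi0 : i.val ≠ 0 := by
    intro h0
    apply hx
    apply Subtype.ext
    apply Units.ext
    have : i = ⟨0, by norm_num⟩ := Fin.ext h0
    rw [hi, this]
    exact Lm_zero
  have hc := fpf_cert i hi0
  have hv' : (Lm i).mulVec v = v := by
    rw [← hi]; exact hv
  exact fpf_aux _ _ hc v hv'

/-! ### Orders -/

theorem sq_eq (X : M4) : sq X = X ^ 2 := by rw [sq, pow_two]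

theorem sq2_eq (X : M4) : sq (sq X) = X ^ 4 := by
  rw [sq_eq, sq_eq, ← pow_mul]

theorem sq3_eq (X : M4) : sq (sq (sq X)) = X ^ 8 := by
  rw [sq_eq, sq2_eq, ← pow_mul]

theorem chk_sound (e : ℕ) (X : M4) (h : chk e X) : X ^ 8 = 1 ∨ X ^ 10 = 1 ∨ X ^ 12 = 1 := by
  unfold chk at h
  split_ifs at h
  · left
    rw [← sq3_eq]; exact h
  · right; left
    rw [show (10 : ℕ) = 8 + 2 from rfl, pow_add, ← sq3_eq, ← sq_eq]; exact h
  · right; right
    rw [show (12 : ℕ) = 8 + 4 from rfl, pow_add, ← sq3_eq, ← sq2_eq]; exact h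

theorem pow_eq_one_of_val {x : K} {n : ℕ} (h : ((x.1 : M4ˣ) : M4) ^ n = 1) : x ^ n = 1 := by
  apply Subtype.ext
  apply Units.ext
  rw [Subgroup.coe_pow, Units.val_pow_eq_pow_val]
  exact h

theorem val_pow_eq_one {x : K} {n : ℕ} (h : x ^ n = 1) : ((x.1 : M4ˣ) : M4) ^ n = 1 := by
  have := congrArg (fun y : K => ((y.1 : M4ˣ) : M4)) h
  simpa [Subgroup.coe_pow, Units.val_pow_eq_pow_val] using this

theorem orders (x : K) : x ^ 8 = 1 ∨ x ^ 10 = 1 ∨ x ^ 12 = 1 := by
  obtain ⟨i, hi⟩ := mem_LS x.2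
  have := chk_sound _ _ (ord_cert i)
  rw [← hi] at this
  rcases this with h | h | h
  · exact Or.inl (pow_eq_one_of_val h)
  · exact Or.inr (Or.inl (pow_eq_one_of_val h))
  · exact Or.inr (Or.inr (pow_eq_one_of_val h))

/-! ### Special elements -/

def k1 : K := ⟨u1, Subgroup.subset_closure (Set.mem_insert _ _)⟩
def k2 : K := ⟨u2, Subgroup.subset_closure (Set.mem_insert_of_mem _ (Set.mem_singleton _))⟩
def k12 : K := k2 * k1
def kz : K := k1 ^ 4

theorem k1_val : ((k1.1 : M4ˣ) : M4) = g1 := rfl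
theorem k2_val : ((k2.1 : M4ˣ) : M4) = g2 := rfl
theorem k12_val : ((k12.1 : M4ˣ) : M4) = g2 * g1 := rfl

theorem g1_4 : sq (sq g1) = -1 := by decide +kernel
theorem g1_8 : sq (sq (sq g1)) = 1 := by decide +kernel
theorem g2_10 : sq (sq (sq g2)) * sq g2 = 1 := by decide +kernel
theorem g2_5 : sq (sq g2) * g2 ≠ 1 := by decide +kernel
theorem g2_2 : sq g2 ≠ 1 := by decide +kernel
theorem g12_12 : sq (sq (sq (g2 * g1))) * sq (sq (g2 * g1)) = 1 := by decide +kernel
theorem g12_6 : sq (sq (g2 * g1)) * sq (g2 * g1) ≠ 1 := by decide +kernel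
theorem g12_4 : sq (sq (g2 * g1)) ≠ 1 := by decide +kernel

theorem neg_one_ne_one : (-1 : M4) ≠ 1 := by decide +kernel

theorem kz_val : ((kz.1 : M4ˣ) : M4) = -1 := by
  show (((k1 ^ 4 : K) : M4ˣ) : M4) = -1
  rw [Subgroup.coe_pow, Units.val_pow_eq_pow_val, k1_val, ← sq2_eq]
  exact g1_4

theorem orderOf_k1 : orderOf k1 = 8 := by
  have : orderOf k1 = 2 ^ (2 + 1) := by
    refine orderOf_eq_prime_pow ?_ ?_
    · intro h
      have := val_pow_eq_one h
      rw [k1_val, show (2 : ℕ) ^ 2 = 4 from rfl, ← sq2_eq, g1_4] at this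
      exact neg_one_ne_one this
    · apply pow_eq_one_of_val
      rw [k1_val, show (2 : ℕ) ^ (2 + 1) = 8 from rfl, ← sq3_eq]
      exact g1_8
  simpa using this

theorem two_five {p : ℕ} (hp : p.Prime) (hd : p ∣ 10) : p = 2 ∨ p = 5 := by
  have h10 : Nat.divisors 10 = {1, 2, 5, 10} := by decide
  have := Nat.mem_divisors.2 ⟨hd, by norm_num⟩
  rw [h10] at this
  simp only [Finset.mem_insert, Finset.mem_singleton] at this
  rcases this with h | h | h | h
  · rw [h] at hp; exact absurd hp (by decide)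
  · exact Or.inl h
  · exact Or.inr h
  · rw [h] at hp; exact absurd hp (by decide)

theorem two_three {p : ℕ} (hp : p.Prime) (hd : p ∣ 12) : p = 2 ∨ p = 3 := by
  have h12 : Nat.divisors 12 = {1, 2, 3, 4, 6, 12} := by decide
  have := Nat.mem_divisors.2 ⟨hd, by norm_num⟩
  rw [h12] at this
  simp only [Finset.mem_insert, Finset.mem_singleton] at this
  rcases this with h | h | h | h | h | h
  · rw [h] at hp; exact absurd hp (by decide)
  · exact Or.inl h
  · exact Or.inr h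
  · rw [h] at hp; exact absurd hp (by decide)
  · rw [h] at hp; exact absurd hp (by decide)
  · rw [h] at hp; exact absurd hp (by decide)

theorem orderOf_k2 : orderOf k2 = 10 := by
  refine orderOf_eq_of_pow_and_pow_div_prime (by norm_num) ?_ ?_
  · apply pow_eq_one_of_val
    rw [k2_val, show (10 : ℕ) = 8 + 2 from rfl, pow_add, ← sq3_eq, ← sq_eq]
    exact g2_10
  · intro p hp hd
    rcases two_five hp hd with rfl | rfl
    · intro h
      have := val_pow_eq_one h
      rw [k2_val, show (10 / 2 : ℕ) = 4 + 1 from rfl, pow_succ, ← sq2_eq] at this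
      exact g2_5 this
    · intro h
      have := val_pow_eq_one h
      rw [k2_val, show (10 / 5 : ℕ) = 2 from rfl, ← sq_eq] at this
      exact g2_2 this

theorem orderOf_k12 : orderOf k12 = 12 := by
  refine orderOf_eq_of_pow_and_pow_div_prime (by norm_num) ?_ ?_
  · apply pow_eq_one_of_val
    rw [k12_val, show (12 : ℕ) = 8 + 4 from rfl, pow_add, ← sq3_eq, ← sq2_eq]
    exact g12_12
  · intro p hp hd
    rcases two_three hp hd with rfl | rfl
    · intro h
      have := val_pow_eq_one h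
      rw [k12_val, show (12 / 2 : ℕ) = 4 + 2 from rfl, pow_add, ← sq2_eq, ← sq_eq] at this
      exact g12_6 this
    · intro h
      have := val_pow_eq_one h
      rw [k12_val, show (12 / 3 : ℕ) = 4 from rfl, ← sq2_eq] at this
      exact g12_4 this

theorem kz_smul (v : V7) : kz • v = -v := by
  rw [smul_def, kz_val]
  exact neg_aux v

theorem kz_center : kz ∈ Subgroup.center K := by
  rw [Subgroup.mem_center_iff]
  intro g
  apply Subtype.ext
  apply Units.ext
  show ((g.1 : M4ˣ) : M4) * ((kz.1 : M4ˣ) : M4) = ((kz.1 : M4ˣ) : M4) * ((g.1 : M4ˣ) : M4)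
  rw [kz_val]
  simp

theorem kz_sq : kz ^ 2 = 1 := by
  apply pow_eq_one_of_val
  rw [kz_val]
  simp

theorem kz_ne_one : kz ≠ 1 := by
  intro h
  have := congrArg (fun y : K => ((y.1 : M4ˣ) : M4)) h
  simp only [kz_val] at this
  exact neg_one_ne_one this

instance : Finite K := Subtype.finite

end Cfsg.Agent.Lib.H22.A10K
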