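import Mathlib

/-!
# The spectrum of the alternating group `A₁₀`
-/

set_option autoImplicit false

namespace Cfsg.Agent.Lib.H22.A10Spec

open Equiv Equiv.Perm

/-- All lists with entries `≥ 2` and sum `≤ s` (fuel `f ≥ s`). -/
def enum : ℕ → ℕ → List (List ℕ)
  | 0, _ => [[]]
  | (f + 1), s =>
    [] :: ((List.range (s + 1)).filter (fun a => 2 ≤ a)).flatMap
      (fun a => (enum f (s - a)).map (fun l => a :: l))

theorem mem_enum : ∀ (f s : ℕ) (l : List ℕ), s ≤ f → (∀ x ∈ l, 2 ≤ x) → l.sum ≤ s → l ∈ enum f s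
  | 0, s, l, hs, h2, hsum => by
    have : l = [] := by
      cases l with
      | nil => rfl
      | cons a t =>
        have := h2 a (List.mem_cons_self ..)
        simp only [List.sum_cons] at hsum
        omega
    subst this
    simp [enum]
  | (f + 1), s, [], _, _, _ => by simp [enum]
  | (f + 1), s, a :: t, hs, h2, hsum => by
    have ha := h2 a (List.mem_cons_self ..)
    simp only [List.sum_cons] at hsum
    have ih := mem_enum f (s - a) t (by omega)
      (fun x hx => h2 x (List.mem_cons_of_mem _ hx)) (by omega)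
    simp only [enum, List.mem_cons, List.mem_flatMap, List.mem_filter, List.mem_range,
      List.mem_map]
    right
    exact ⟨a, ⟨by omega, by simpa using ha⟩, t, ih, rfl⟩

/-- The list of element orders. -/
def Tl : List ℕ := [1, 2, 3, 4, 5, 6, 7, 8, 9, 10, 12, 15, 21]

set_option maxRecDepth 1000000 in
theorem key : ∀ l ∈ enum 10 10, (l.sum + l.length) % 2 = 0 → l.foldr Nat.lcm 1 ∈ Tl := by
  decide

theorem orderOf_mem_Tl (σ : alternatingGroup (Fin 10)) : orderOf σ ∈ Tl := by
  rw [← Subgroup.orderOf_coe]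
  have hsign : sign (σ : Perm (Fin 10)) = 1 := mem_alternatingGroup.1 σ.2
  generalize (σ : Perm (Fin 10)) = τ at hsign
  rw [← lcm_cycleType]
  obtain ⟨l, hl⟩ : ∃ l : List ℕ, (l : Multiset ℕ) = τ.cycleType :=
    ⟨τ.cycleType.toList, Multiset.coe_toList _⟩
  have h2 : ∀ x ∈ l, 2 ≤ x := fun x hx =>
    two_le_of_mem_cycleType (σ := τ) (by rw [← hl]; exact hx)
  have hsum : l.sum ≤ 10 := by
    have := sum_cycleType_le τ
    rw [← hl, Multiset.sum_coe] at this
    simpa using this
  have hpar : (l.sum + l.length) % 2 = 0 := by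
    have h := sign_of_cycleType τ
    rw [hsign, ← hl, Multiset.sum_coe, Multiset.coe_card] at h
    have hne : (-1 : ℤˣ) ≠ 1 := by decide
    have := (neg_one_pow_eq_one_iff_even hne).1 h.symm
    exact Nat.even_iff.1 this
  have := key l (mem_enum 10 10 l le_rfl h2 hsum) hpar
  rw [← hl]
  have e : (l : Multiset ℕ).lcm = l.foldr Nat.lcm 1 := by
    unfold Multiset.lcm
    rw [Multiset.coe_fold_r]
    rfl
  rw [e]
  exact this

/-- Witnesses. -/
def s8 : Perm (Fin 10) := List.formPerm [0, 1, 2, 3, 4, 5, 6, 7] * List.formPerm [8, 9]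
def s9 : Perm (Fin 10) := List.formPerm [0, 1, 2, 3, 4, 5, 6, 7, 8]
def s10 : Perm (Fin 10) := List.formPerm [0, 1, 2, 3, 4] * List.formPerm [5, 6] * List.formPerm [7, 8]
def s12 : Perm (Fin 10) := List.formPerm [0, 1, 2, 3] * List.formPerm [4, 5, 6] * List.formPerm [7, 8]
def s15 : Perm (Fin 10) := List.formPerm [0, 1, 2, 3, 4] * List.formPerm [5, 6, 7]
def s21 : Perm (Fin 10) := List.formPerm [0, 1, 2, 3, 4, 5, 6] * List.formPerm [7, 8, 9]

set_option maxRecDepth 1000000 in
theorem s8_mem : s8 ∈ alternatingGroup (Fin 10) := mem_alternatingGroup.2 (by decide)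
set_option maxRecDepth 1000000 in
theorem s9_mem : s9 ∈ alternatingGroup (Fin 10) := mem_alternatingGroup.2 (by decide)
set_option maxRecDepth 1000000 in
theorem s10_mem : s10 ∈ alternatingGroup (Fin 10) := mem_alternatingGroup.2 (by decide)
set_option maxRecDepth 1000000 in
theorem s12_mem : s12 ∈ alternatingGroup (Fin 10) := mem_alternatingGroup.2 (by decide)
set_option maxRecDepth 1000000 in
theorem s15_mem : s15 ∈ alternatingGroup (Fin 10) := mem_alternatingGroup.2 (by decide)
set_option maxRecDepth 1000000 in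
theorem s21_mem : s21 ∈ alternatingGroup (Fin 10) := mem_alternatingGroup.2 (by decide)

theorem prime_dvd_cases {n p : ℕ} (ps : List ℕ) (hn : 0 < n)
    (h : ∀ q ∈ List.range (n + 1), q.Prime → q ∣ n → q ∈ ps) (hp : p.Prime) (hd : p ∣ n) :
    p ∈ ps :=
  h p (List.mem_range.2 (Nat.lt_succ_of_le (Nat.le_of_dvd hn hd))) hp hd

set_option maxRecDepth 1000000 in
theorem o8 : orderOf s8 = 8 := by
  have : orderOf s8 = 2 ^ (2 + 1) := orderOf_eq_prime_pow (by decide) (by decide)
  simpa using this

set_option maxRecDepth 1000000 in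
theorem o9 : orderOf s9 = 9 := by
  have : orderOf s9 = 3 ^ (1 + 1) := orderOf_eq_prime_pow (by decide) (by decide)
  simpa using this

theorem two_five {p : ℕ} (hp : p.Prime) (hd : p ∣ 10) : p = 2 ∨ p = 5 := by
  have h10 : Nat.divisors 10 = {1, 2, 5, 10} := by decide
  have := Nat.mem_divisors.2 ⟨hd, by norm_num⟩
  rw [h10] at this
  simp only [Finset.mem_insert, Finset.mem_singleton] at this
  rcases this with h | h | h | h
  · rw [h] at hp; exact absurd hp (by decide)
  · exact Or.inl h
  · exact Or.inr h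
  · rw [h] at hp; exact absurd hp (by decide)

theorem two_three {p : ℕ} (hp : p.Prime) (hd : p ∣ 12) : p = 2 ∨ p = 3 := by
  have h12 : Nat.divisors 12 = {1, 2, 3, 4, 6, 12} := by decide
  have := Nat.mem_divisors.2 ⟨hd, by norm_num⟩
  rw [h12] at this
  simp only [Finset.mem_insert, Finset.mem_singleton] at this
  rcases this with h | h | h | h | h | h
  · rw [h] at hp; exact absurd hp (by decide)
  · exact Or.inl h
  · exact Or.inr h
  · rw [h] at hp; exact absurd hp (by decide)
  · rw [h] at hp; exact absurd hp (by decide)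
  · rw [h] at hp; exact absurd hp (by decide)

theorem three_five {p : ℕ} (hp : p.Prime) (hd : p ∣ 15) : p = 3 ∨ p = 5 := by
  have h15 : Nat.divisors 15 = {1, 3, 5, 15} := by decide
  have := Nat.mem_divisors.2 ⟨hd, by norm_num⟩
  rw [h15] at this
  simp only [Finset.mem_insert, Finset.mem_singleton] at this
  rcases this with h | h | h | h
  · rw [h] at hp; exact absurd hp (by decide)
  · exact Or.inl h
  · exact Or.inr h
  · rw [h] at hp; exact absurd hp (by decide)

theorem three_seven {p : ℕ} (hp : p.Prime) (hd : p ∣ 21) : p = 3 ∨ p = 7 := by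
  have h21 : Nat.divisors 21 = {1, 3, 7, 21} := by decide
  have := Nat.mem_divisors.2 ⟨hd, by norm_num⟩
  rw [h21] at this
  simp only [Finset.mem_insert, Finset.mem_singleton] at this
  rcases this with h | h | h | h
  · rw [h] at hp; exact absurd hp (by decide)
  · exact Or.inl h
  · exact Or.inr h
  · rw [h] at hp; exact absurd hp (by decide)

set_option maxRecDepth 1000000 in
theorem o10 : orderOf s10 = 10 := by
  refine orderOf_eq_of_pow_and_pow_div_prime (by norm_num) (by decide) ?_
  intro p hp hd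
  rcases two_five hp hd with rfl | rfl
  · show ¬ s10 ^ 5 = 1
    decide
  · show ¬ s10 ^ 2 = 1
    decide

set_option maxRecDepth 1000000 in
theorem o12 : orderOf s12 = 12 := by
  refine orderOf_eq_of_pow_and_pow_div_prime (by norm_num) (by decide) ?_
  intro p hp hd
  rcases two_three hp hd with rfl | rfl
  · show ¬ s12 ^ 6 = 1
    decide
  · show ¬ s12 ^ 4 = 1
    decide

set_option maxRecDepth 1000000 in
theorem o15 : orderOf s15 = 15 := by
  refine orderOf_eq_of_pow_and_pow_div_prime (by norm_num) (by decide) ?_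
  intro p hp hd
  rcases three_five hp hd with rfl | rfl
  · show ¬ s15 ^ 5 = 1
    decide
  · show ¬ s15 ^ 3 = 1
    decide

set_option maxRecDepth 1000000 in
theorem o21 : orderOf s21 = 21 := by
  refine orderOf_eq_of_pow_and_pow_div_prime (by norm_num) (by decide) ?_
  intro p hp hd
  rcases three_seven hp hd with rfl | rfl
  · show ¬ s21 ^ 7 = 1
    decide
  · show ¬ s21 ^ 3 = 1
    decide

theorem exists_orderOf_of_dvd' {G : Type*} [Group G] {x : G} {N n : ℕ} (hx : orderOf x = N)
    (hN : 0 < N) (hn : n ∣ N) : ∃ y : G, orderOf y = n := by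
  obtain ⟨k, rfl⟩ := hn
  have hk : k ≠ 0 := by rintro rfl; simp at hN
  refine ⟨x ^ k, ?_⟩
  rw [orderOf_pow_of_dvd hk (by rw [hx]; exact Dvd.intro_left n rfl), hx]
  exact Nat.mul_div_cancel _ (Nat.pos_of_ne_zero hk)

theorem spectrum :
    Set.range (orderOf : alternatingGroup (Fin 10) → ℕ) =
      {1, 2, 3, 4, 5, 6, 7, 8, 9, 10, 12, 15, 21} := by
  ext n
  constructor
  · rintro ⟨σ, rfl⟩
    have := orderOf_mem_Tl σ
    simpa [Tl] using this
  · intro hn
    have e8 : orderOf (⟨s8, s8_mem⟩ : alternatingGroup (Fin 10)) = 8 := by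
      rw [← Subgroup.orderOf_coe]; exact o8
    have e9 : orderOf (⟨s9, s9_mem⟩ : alternatingGroup (Fin 10)) = 9 := by
      rw [← Subgroup.orderOf_coe]; exact o9
    have e10 : orderOf (⟨s10, s10_mem⟩ : alternatingGroup (Fin 10)) = 10 := by
      rw [← Subgroup.orderOf_coe]; exact o10
    have e12 : orderOf (⟨s12, s12_mem⟩ : alternatingGroup (Fin 10)) = 12 := by
      rw [← Subgroup.orderOf_coe]; exact o12
    have e15 : orderOf (⟨s15, s15_mem⟩ : alternatingGroup (Fin 10)) = 15 := by
      rw [← Subgroup.orderOf_coe]; exact o15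
    have e21 : orderOf (⟨s21, s21_mem⟩ : alternatingGroup (Fin 10)) = 21 := by
      rw [← Subgroup.orderOf_coe]; exact o21
    simp only [Set.mem_insert_iff, Set.mem_singleton_iff] at hn
    rcases hn with rfl | rfl | rfl | rfl | rfl | rfl | rfl | rfl | rfl | rfl | rfl | rfl | rfl
    · exact exists_orderOf_of_dvd' e8 (by norm_num) (by norm_num)
    · exact exists_orderOf_of_dvd' e8 (by norm_num) (by norm_num)
    · exact exists_orderOf_of_dvd' e12 (by norm_num) (by norm_num)
    · exact exists_orderOf_of_dvd' e8 (by norm_num) (by norm_num)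
    · exact exists_orderOf_of_dvd' e10 (by norm_num) (by norm_num)
    · exact exists_orderOf_of_dvd' e12 (by norm_num) (by norm_num)
    · exact exists_orderOf_of_dvd' e21 (by norm_num) (by norm_num)
    · exact ⟨_, e8⟩
    · exact ⟨_, e9⟩
    · exact ⟨_, e10⟩
    · exact ⟨_, e12⟩
    · exact ⟨_, e15⟩
    · exact ⟨_, e21⟩

end Cfsg.Agent.Lib.H22.A10Spec
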