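import Mathlib

/-!
# The "genuine" half of the regular module over `𝔽₃`

For a group `K` with a central element `z`, the functions `f : K → ZMod 3` with
`f (z x) = - f x` form a `K`-module `W z` under left translation, on which `z` acts as `-1`
(when `z² = 1`).  We exhibit a vector fixed by a given element `x5` and compute a norm.
-/

set_option autoImplicit false

namespace Cfsg.Agent.Lib.H22.A10W

variable {K : Type*} [Group K]

/-- The module. -/
def W (z : Subgroup.center K) : AddSubgroup (K → ZMod 3) where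
  carrier := {f | ∀ x, f ((z : K) * x) = - f x}
  zero_mem' := by intro x; simp
  add_mem' := by
    intro a b ha hb x
    simp only [Pi.add_apply, ha x, hb x]
    ring
  neg_mem' := by
    intro a ha x
    simp only [Pi.neg_apply, ha x]

variable (z : Subgroup.center K)

theorem z_comm (g : K) : g * (z : K) = (z : K) * g :=
  (Subgroup.mem_center_iff.1 z.2 g)

instance : SMul K (W z) :=
  ⟨fun g f => ⟨fun x => f.1 (g⁻¹ * x), by
    intro x
    have h := f.2 (g⁻¹ * x)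
    have e : g⁻¹ * ((z : K) * x) = (z : K) * (g⁻¹ * x) := by
      rw [← mul_assoc, z_comm z g⁻¹, mul_assoc]
    show f.1 (g⁻¹ * ((z : K) * x)) = - f.1 (g⁻¹ * x)
    rw [e]
    exact h⟩⟩

theorem smul_apply (g : K) (f : W z) (x : K) : (g • f).1 x = f.1 (g⁻¹ * x) := rfl

instance : DistribMulAction K (W z) where
  one_smul f := by
    apply Subtype.ext
    funext x
    rw [smul_apply, inv_one, one_mul]
  mul_smul g h f := by
    apply Subtype.ext
    funext x
    rw [smul_apply, smul_apply, smul_apply, mul_inv_rev, mul_assoc]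
  smul_zero g := by
    apply Subtype.ext
    funext x
    rw [smul_apply]
    rfl
  smul_add g f f' := by
    apply Subtype.ext
    funext x
    rw [smul_apply]
    rfl

theorem three_nsmul (w : W z) : (3 : ℕ) • w = 0 := by
  apply Subtype.ext
  funext x
  show ((3 : ℕ) • (w : K → ZMod 3)) x = 0
  rw [Pi.smul_apply, nsmul_eq_mul]
  have : ((3 : ℕ) : ZMod 3) = 0 := by decide
  rw [this, zero_mul]

theorem z_smul (hz2 : (z : K) ^ 2 = 1) (w : W z) : (z : K) • w = -w := by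
  apply Subtype.ext
  funext x
  rw [smul_apply]
  have hzi : (z : K)⁻¹ = (z : K) := by
    rw [inv_eq_iff_mul_eq_one, ← pow_two, hz2]
  rw [hzi]
  exact w.2 x

open Classical in
/-- Indicator of the cyclic group generated by `x5`. -/
noncomputable def chi (x5 : K) (x : K) : ZMod 3 := if x ∈ Subgroup.zpowers x5 then 1 else 0

theorem chi_mul_left (x5 : K) (x : K) : chi x5 (x5⁻¹ * x) = chi x5 x := by
  unfold chi
  have : x5⁻¹ * x ∈ Subgroup.zpowers x5 ↔ x ∈ Subgroup.zpowers x5 := by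
    constructor
    · intro h
      have := mul_mem (Subgroup.mem_zpowers x5) h
      simpa using this
    · intro h
      exact mul_mem (inv_mem (Subgroup.mem_zpowers x5)) h
  simp only [this]

/-- The fixed vector. -/
noncomputable def f0 (hz2 : (z : K) ^ 2 = 1) (x5 : K) : W z :=
  ⟨fun x => chi x5 x - chi x5 ((z : K) * x), by
    intro x
    show chi x5 ((z : K) * x) - chi x5 ((z : K) * ((z : K) * x)) = -(chi x5 x - chi x5 ((z : K) * x))
    rw [← mul_assoc, ← pow_two, hz2, one_mul]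
    ring⟩

theorem f0_apply (hz2 : (z : K) ^ 2 = 1) (x5 x : K) :
    (f0 z hz2 x5).1 x = chi x5 x - chi x5 ((z : K) * x) := rfl

theorem x5_smul_f0 (hz2 : (z : K) ^ 2 = 1) (x5 : K) : x5 • f0 z hz2 x5 = f0 z hz2 x5 := by
  apply Subtype.ext
  funext x
  rw [smul_apply, f0_apply, f0_apply, chi_mul_left]
  have e : (z : K) * (x5⁻¹ * x) = x5⁻¹ * ((z : K) * x) := by
    rw [← mul_assoc, ← z_comm z x5⁻¹, mul_assoc]
  rw [e, chi_mul_left]

theorem pow_five_of_mem {x5 y : K} (h5 : x5 ^ 5 = 1) (hy : y ∈ Subgroup.zpowers x5) : y ^ 5 = 1 := by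
  obtain ⟨k, rfl⟩ := Subgroup.mem_zpowers_iff.1 hy
  rw [← zpow_natCast, ← zpow_mul, mul_comm, zpow_mul, zpow_natCast, h5, one_zpow]

theorem chi_eq_zero {x5 y : K} (h5 : x5 ^ 5 = 1) (hy : y ^ 5 ≠ 1) : chi x5 y = 0 := by
  unfold chi
  rw [if_neg]
  intro h
  exact hy (pow_five_of_mem h5 h)

theorem chi_one (x5 : K) : chi x5 1 = 1 := by
  unfold chi
  rw [if_pos (one_mem _)]

theorem z_pow_five (hz2 : (z : K) ^ 2 = 1) : (z : K) ^ 5 = (z : K) := by
  have : (z : K) ^ 5 = ((z : K) ^ 2) ^ 2 * (z : K) := by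
    rw [← pow_mul, ← pow_succ]
  rw [this, hz2, one_pow, one_mul]

theorem f0_one (hz2 : (z : K) ^ 2 = 1) (hz1 : (z : K) ≠ 1) {x5 : K} (h5 : x5 ^ 5 = 1) :
    (f0 z hz2 x5).1 1 = 1 := by
  rw [f0_apply, chi_one, mul_one, chi_eq_zero h5, sub_zero]
  rw [z_pow_five z hz2]
  exact hz1

theorem f0_ne_zero (hz2 : (z : K) ^ 2 = 1) (hz1 : (z : K) ≠ 1) {x5 : K} (h5 : x5 ^ 5 = 1) :
    f0 z hz2 x5 ≠ 0 := by
  intro h
  have := f0_one z hz2 hz1 h5
  rw [h] at this
  exact zero_ne_one this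

/-- For `y` of order 3 (`y ≠ 1`), `f0 y = 0`. -/
theorem f0_of_order_three (hz2 : (z : K) ^ 2 = 1) (hz1 : (z : K) ≠ 1) {x5 : K} (h5 : x5 ^ 5 = 1)
    {y : K} (hy3 : y ^ 3 = 1) (hy1 : y ≠ 1) : (f0 z hz2 x5).1 y = 0 := by
  have hy5 : y ^ 5 = y ^ 2 := by
    have : y ^ 5 = y ^ 3 * y ^ 2 := by rw [← pow_add]
    rw [this, hy3, one_mul]
  have hy2 : y ^ 2 ≠ 1 := by
    intro h
    apply hy1
    have : y = y ^ 3 * (y ^ 2)⁻¹ := by
      rw [eq_mul_inv_iff_mul_eq, ← pow_succ']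
    rw [this, hy3, h, inv_one, mul_one]
  rw [f0_apply, chi_eq_zero h5 (by rw [hy5]; exact hy2), chi_eq_zero h5, sub_zero]
  -- (z y)^5 = z y^2 ≠ 1
  have hc : Commute (z : K) y := (z_comm z y).symm
  rw [hc.mul_pow, z_pow_five z hz2, hy5]
  intro h
  -- z * y^2 = 1 → z = (y^2)⁻¹ → z^3 = 1 → z = 1
  have hz : (z : K) = (y ^ 2)⁻¹ := eq_inv_of_mul_eq_one_left h
  have hz3 : (z : K) ^ 3 = 1 := by
    rw [hz, inv_pow, ← pow_mul, mul_comm, pow_mul, hy3, one_pow, inv_one]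
  have : (z : K) ^ 3 = (z : K) := by
    have : (z : K) ^ 3 = (z : K) ^ 2 * (z : K) := by rw [← pow_succ]
    rw [this, hz2, one_mul]
  rw [this] at hz3
  exact hz1 hz3

theorem sum_three_f0_ne (hz2 : (z : K) ^ 2 = 1) (hz1 : (z : K) ≠ 1) {x5 : K} (h5 : x5 ^ 5 = 1)
    {x3 : K} (h3 : x3 ^ 3 = 1) (h31 : x3 ≠ 1) :
    ∑ i ∈ Finset.range 3, x3 ^ i • f0 z hz2 x5 ≠ 0 := by
  intro h
  have h' := congrArg (fun w : W z => w.1 1) h
  simp only [Finset.sum_range_succ, Finset.sum_range_zero, zero_add, pow_zero, one_smul,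
    pow_one] at h'
  have e : ((f0 z hz2 x5 + x3 • f0 z hz2 x5 + x3 ^ 2 • f0 z hz2 x5 : W z)).1 1 =
      (f0 z hz2 x5).1 1 + (f0 z hz2 x5).1 (x3⁻¹ * 1) + (f0 z hz2 x5).1 ((x3 ^ 2)⁻¹ * 1) := rfl
  rw [e, mul_one, mul_one, f0_one z hz2 hz1 h5] at h'
  have hi3 : (x3⁻¹) ^ 3 = 1 := by rw [inv_pow, h3, inv_one]
  have hi1 : x3⁻¹ ≠ 1 := by simpa using h31
  have hq3 : ((x3 ^ 2)⁻¹) ^ 3 = 1 := by
    rw [inv_pow, ← pow_mul, mul_comm, pow_mul, h3, one_pow, inv_one]
  have hq1 : (x3 ^ 2)⁻¹ ≠ 1 := by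
    intro hh
    have h2 : x3 ^ 2 = 1 := by simpa using hh
    apply h31
    have : x3 = x3 ^ 3 * (x3 ^ 2)⁻¹ := by
      rw [eq_mul_inv_iff_mul_eq, ← pow_succ']
    rw [this, h3, h2, inv_one, mul_one]
  rw [f0_of_order_three z hz2 hz1 h5 hi3 hi1, f0_of_order_three z hz2 hz1 h5 hq3 hq1] at h'
  simp at h'

end Cfsg.Agent.Lib.H22.A10W
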