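import Mathlib
import Cfsg.Prelude.Def_Blocks
import Cfsg.Prelude.Def_Local
import Cfsg.Prelude.Def_Transfer
import Cfsg.Agent.Lib.H23.PPart
import Cfsg.Agent.Lib.H2.ClassCard

/-!
# S1951, piece COUNT (helper22): the number of `p`-singular elements

Under the S1951 binders (`P` an elementary abelian Sylow `p`-subgroup all of whose non-identity elements are
conjugate in `G`, centralizers of the elements of order `p` of `P` having a normal `p`-complement):

* `isConj_of_pElement`: every non-identity `p`-element is conjugate to a fixed `a ∈ P`, `a ≠ 1`;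
* `card_pRegular_centralizer_mul`: `#{v ∈ C_G(a) | p ∤ o(v)} * |P| = |C_G(a)|`;
* `card_pSingular_mul_card_sylow`: `#{g | p ∣ o(g)} * |P| = |G|`.
-/

set_option autoImplicit false

namespace Cfsg.Agent.Lib.H22.AECNT

open Cfsg

variable {G : Type*} [Group G] [Finite G] {p : ℕ} [Fact p.Prime]

/-- the `p`-regular elements of the centralizer of `u`, as a subtype of `G`. -/
abbrev RegCent (p : ℕ) (u : G) : Type _ := {v : G // v * u = u * v ∧ ¬ p ∣ orderOf v}

theorem orderOf_eq_of_mem (P : Sylow p G) (hPe : Cfsg.IsElementaryAbelian p (P : Subgroup G))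
    {a : G} (haP : a ∈ (P : Subgroup G)) (ha1 : a ≠ 1) : orderOf a = p := by
  have h1 : a ^ p = 1 := hPe.2 a haP
  exact orderOf_eq_prime h1 ha1

theorem orderOf_eq_of_isConj {a u : G} (h : IsConj a u) : orderOf u = orderOf a := by
  obtain ⟨c, hc⟩ := isConj_iff.1 h
  rw [← hc]
  exact (MulAut.conj c).orderOf_eq a

/-- every non-identity `p`-element of `G` is conjugate to `a`. -/
theorem isConj_of_pElement (P : Sylow p G)
    (hconj : ∀ x ∈ (P : Subgroup G), ∀ y ∈ (P : Subgroup G), x ≠ 1 → y ≠ 1 → ∃ g : G, g * x * g⁻¹ = y)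
    {a : G} (haP : a ∈ (P : Subgroup G)) (ha1 : a ≠ 1) {z : G} (hz : ∃ k : ℕ, orderOf z = p ^ k)
    (hz1 : z ≠ 1) : IsConj a z := by
  have hp : p.Prime := Fact.out
  obtain ⟨k, hk⟩ := hz
  have hpg : IsPGroup p (Subgroup.zpowers z) := by
    rw [IsPGroup.iff_card]
    exact ⟨k, by rw [Nat.card_zpowers, hk]⟩
  obtain ⟨Q, hQ⟩ := hpg.exists_le_sylow
  obtain ⟨t, ht⟩ := MulAction.exists_smul_eq G P Q
  have hzQ : z ∈ (Q : Subgroup G) := hQ (Subgroup.mem_zpowers z)
  rw [← ht, Sylow.coe_subgroup_smul, Subgroup.mem_pointwise_smul_iff_inv_smul_mem] at hzQ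
  have hx : t⁻¹ * z * t ∈ (P : Subgroup G) := by
    have : (MulAut.conj t)⁻¹ • z = t⁻¹ * z * t := by
      rw [MulAut.smul_def, MulAut.conj_inv_apply]
    rw [← this]; exact hzQ
  have hx1 : t⁻¹ * z * t ≠ 1 := by
    intro h
    apply hz1
    have : z = t * (t⁻¹ * z * t) * t⁻¹ := by group
    rw [this, h]; group
  obtain ⟨g0, hg0⟩ := hconj a haP _ hx ha1 hx1
  rw [isConj_iff]
  refine ⟨t * g0, ?_⟩
  have : t * g0 * a * (t * g0)⁻¹ = t * (g0 * a * g0⁻¹) * t⁻¹ := by group
  rw [this, hg0]; group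

/-- conjugation transports the `p`-regular part of a centralizer. -/
theorem card_regCent_conj (a c : G) :
    Nat.card (RegCent p (c * a * c⁻¹)) = Nat.card (RegCent p a) := by
  symm
  refine Nat.card_congr ((MulAut.conj c).toEquiv.subtypeEquiv ?_)
  intro v
  have ho : orderOf ((MulAut.conj c).toEquiv v) = orderOf v := (MulAut.conj c).orderOf_eq v
  have hv : (MulAut.conj c).toEquiv v = c * v * c⁻¹ := rfl
  rw [ho, hv]
  constructor
  · rintro ⟨h1, h2⟩
    refine ⟨?_, h2⟩
    calc c * v * c⁻¹ * (c * a * c⁻¹) = c * (v * a) * c⁻¹ := by group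
      _ = c * (a * v) * c⁻¹ := by rw [h1]
      _ = c * a * c⁻¹ * (c * v * c⁻¹) := by group
  · rintro ⟨h1, h2⟩
    refine ⟨?_, h2⟩
    have : v * a = c⁻¹ * (c * v * c⁻¹ * (c * a * c⁻¹)) * c := by group
    rw [this, h1]; group

theorem card_regCent_of_isConj {a u : G} (h : IsConj a u) :
    Nat.card (RegCent p u) = Nat.card (RegCent p a) := by
  obtain ⟨c, hc⟩ := isConj_iff.1 h
  rw [← hc]
  exact card_regCent_conj a c

/-- `#{v ∈ C_G(a) | p ∤ o(v)} * |P| = |C_G(a)|`. -/
theorem card_pRegular_centralizer_mul (P : Sylow p G)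
    (hPe : Cfsg.IsElementaryAbelian p (P : Subgroup G))
    (hb : ∀ x ∈ (P : Subgroup G), orderOf x = p →
      Cfsg.HasNormalPComplement p ↥(Subgroup.centralizer ({x} : Set G)))
    {a : G} (haP : a ∈ (P : Subgroup G)) (ha1 : a ≠ 1) :
    Nat.card (RegCent p a) * Nat.card (P : Subgroup G) =
      Nat.card (Subgroup.centralizer ({a} : Set G)) := by
  have hp : p.Prime := Fact.out
  have hoa : orderOf a = p := orderOf_eq_of_mem P hPe haP ha1
  have hb' := hb a haP hoa
  set C := Subgroup.centralizer ({a} : Set G) with hC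
  obtain ⟨S, N, hN, hcompl⟩ := hb'
  have hcard : Nat.card N * Nat.card (S : Subgroup C) = Nat.card C := hcompl.card_mul_card
  -- `P ≤ C`
  have hPC : (P : Subgroup G) ≤ C := by
    intro x hx
    rw [hC, Subgroup.mem_centralizer_singleton_iff]
    have hcomm := hPe.1
    have := hcomm.is_comm.comm (⟨x, hx⟩ : (P : Subgroup G)) ⟨a, haP⟩
    exact congrArg Subtype.val this
  have hG0 : Nat.card G ≠ 0 := Nat.card_pos.ne'
  have hC0 : Nat.card C ≠ 0 := Nat.card_pos.ne'
  have hSP : Nat.card (S : Subgroup C) = Nat.card (P : Subgroup G) := by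
    rw [S.card_eq_multiplicity, P.card_eq_multiplicity]
    congr 1
    apply le_antisymm
    · exact (Nat.factorization_le_iff_dvd hC0 hG0).2 (Subgroup.card_subgroup_dvd_card C) p
    · have h1 : Nat.card (P : Subgroup G) ∣ Nat.card C := Subgroup.card_dvd_of_le hPC
      rw [P.card_eq_multiplicity] at h1
      exact (hp.pow_dvd_iff_le_factorization hC0).1 h1
  -- `|N|` is prime to `p`
  have hNcop : ¬ p ∣ Nat.card N := by
    intro h
    have h1 : p ^ ((Nat.card C).factorization p + 1) ∣ Nat.card C := by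
      have h2 : Nat.card (S : Subgroup C) = p ^ (Nat.card C).factorization p := S.card_eq_multiplicity
      calc p ^ ((Nat.card C).factorization p + 1) = p * Nat.card (S : Subgroup C) := by
            rw [h2, pow_succ, mul_comm]
        _ ∣ Nat.card N * Nat.card (S : Subgroup C) := Nat.mul_dvd_mul_right h _
        _ = Nat.card C := hcard
    have := (hp.pow_dvd_iff_le_factorization hC0).1 h1
    omega
  -- the bijection `N ≃ RegCent p a`
  have hmemN : ∀ c : C, ¬ p ∣ orderOf c → c ∈ N := by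
    intro c hc
    have hq : Nat.card (C ⧸ N) = Nat.card (S : Subgroup C) := by
      have h1 := Subgroup.card_mul_index N
      rw [← hcard] at h1
      have hN0 : 0 < Nat.card N := Nat.card_pos
      have : N.index = Nat.card (S : Subgroup C) := Nat.eq_of_mul_eq_mul_left hN0 h1
      rw [← this]; rfl
    have h2 : orderOf ((QuotientGroup.mk' N) c) ∣ Nat.card (C ⧸ N) := orderOf_dvd_natCard _
    have h3 : orderOf ((QuotientGroup.mk' N) c) ∣ orderOf c := orderOf_map_dvd _ c
    rw [hq, S.card_eq_multiplicity] at h2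
    obtain ⟨j, _, hj⟩ := (Nat.dvd_prime_pow hp).1 h2
    have hj0 : j = 0 := by
      by_contra hne
      apply hc
      have : p ∣ orderOf ((QuotientGroup.mk' N) c) := by
        rw [hj]; exact dvd_pow_self p hne
      exact this.trans h3
    rw [hj0, pow_zero, orderOf_eq_one_iff] at hj
    exact (QuotientGroup.eq_one_iff c).1 hj
  have hbij : Nat.card (RegCent p a) = Nat.card N := by
    symm
    refine Nat.card_eq_of_bijective
      (fun n : N => (⟨((n : C) : G), ?_, ?_⟩ : RegCent p a)) ⟨?_, ?_⟩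
    · exact Subgroup.mem_centralizer_singleton_iff.1 (n : C).2
    · intro h
      apply hNcop
      have h1 : orderOf n ∣ Nat.card N := orderOf_dvd_natCard n
      have h2 : orderOf ((n : C) : G) = orderOf n := by
        rw [Subgroup.orderOf_coe, Subgroup.orderOf_coe]
      rw [h2] at h
      exact h.trans h1
    · intro n m hnm
      have : ((n : C) : G) = ((m : C) : G) := by
        have := congrArg (fun w : RegCent p a => (w : G)) hnm
        exact this
      exact Subtype.ext (Subtype.ext this)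
    · rintro ⟨v, hv1, hv2⟩
      have hvC : v ∈ C := Subgroup.mem_centralizer_singleton_iff.2 hv1
      have hvN : (⟨v, hvC⟩ : C) ∈ N := by
        apply hmemN
        rw [← Subgroup.orderOf_coe]
        exact hv2
      exact ⟨⟨⟨v, hvC⟩, hvN⟩, rfl⟩
  rw [hbij, ← hSP]
  exact hcard

/-- the multiplication map from pairs (`u` conjugate to `a`, `v` a `p`-regular element of `C_G(u)`)
onto the `p`-singular elements. -/
theorem card_pSingular_eq_card_sigma (P : Sylow p G)
    (hPe : Cfsg.IsElementaryAbelian p (P : Subgroup G))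
    (hconj : ∀ x ∈ (P : Subgroup G), ∀ y ∈ (P : Subgroup G), x ≠ 1 → y ≠ 1 → ∃ g : G, g * x * g⁻¹ = y)
    {a : G} (haP : a ∈ (P : Subgroup G)) (ha1 : a ≠ 1) :
    Nat.card {g : G // p ∣ orderOf g} =
      Nat.card (Σ u : {u : G // IsConj a u}, RegCent p (u : G)) := by
  have hp : p.Prime := Fact.out
  have hoa : orderOf a = p := orderOf_eq_of_mem P hPe haP ha1
  symm
  refine Nat.card_eq_of_bijective
    (fun x : (Σ u : {u : G // IsConj a u}, RegCent p (u : G)) =>
      (⟨(x.1 : G) * (x.2 : G), ?_⟩ : {g : G // p ∣ orderOf g})) ⟨?_, ?_⟩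
  · -- well defined
    have hou : orderOf (x.1 : G) = p := by rw [orderOf_eq_of_isConj x.1.2, hoa]
    have hcomm : Commute (x.1 : G) (x.2 : G) := x.2.2.1.symm
    have hcop : (orderOf (x.1 : G)).Coprime (orderOf (x.2 : G)) := by
      rw [hou]; exact (Nat.Prime.coprime_iff_not_dvd hp).2 x.2.2.2
    rw [hcomm.orderOf_mul_eq_mul_orderOf_of_coprime hcop, hou]
    exact dvd_mul_right p _
  · -- injective
    rintro ⟨⟨u, hu⟩, ⟨v, hv1, hv2⟩⟩ ⟨⟨u', hu'⟩, ⟨v', hv1', hv2'⟩⟩ h
    have hg : u * v = u' * v' := congrArg Subtype.val h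
    have hou : orderOf u = p := by rw [orderOf_eq_of_isConj hu, hoa]
    have hou' : orderOf u' = p := by rw [orderOf_eq_of_isConj hu', hoa]
    have hup : u ^ p = 1 := by rw [← hou]; exact pow_orderOf_eq_one u
    have hup' : u' ^ p = 1 := by rw [← hou']; exact pow_orderOf_eq_one u'
    obtain ⟨c, hc⟩ : ∃ c : ℕ, c = orderOf v * orderOf v' := ⟨_, rfl⟩
    have hvc : v ^ c = 1 := by rw [hc, pow_mul, pow_orderOf_eq_one, one_pow]
    have hvc' : v' ^ c = 1 := by rw [hc, mul_comm, pow_mul, pow_orderOf_eq_one, one_pow]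
    have hcomm : Commute u v := hv1.symm
    have hcomm' : Commute u' v' := hv1'.symm
    have h1 : u ^ c = u' ^ c := by
      have e1 : (u * v) ^ c = u ^ c := by rw [hcomm.mul_pow, hvc, mul_one]
      have e2 : (u' * v') ^ c = u' ^ c := by rw [hcomm'.mul_pow, hvc', mul_one]
      rw [← e1, ← e2, hg]
    have hpc : Nat.Coprime c p := by
      rw [hc]
      exact Nat.Coprime.mul_left
        ((Nat.Prime.coprime_iff_not_dvd hp).2 hv2).symm
        ((Nat.Prime.coprime_iff_not_dvd hp).2 hv2').symm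
    obtain ⟨m, -, hm⟩ := Nat.exists_mul_mod_eq_one_of_coprime hpc hp.one_lt
    have hu_eq : u = u' := by
      have e1 : (u ^ c) ^ m = u := by rw [← pow_mul, pow_eq_pow_mod (c * m) hup, hm, pow_one]
      have e2 : (u' ^ c) ^ m = u' := by rw [← pow_mul, pow_eq_pow_mod (c * m) hup', hm, pow_one]
      calc u = (u ^ c) ^ m := e1.symm
        _ = (u' ^ c) ^ m := by rw [h1]
        _ = u' := e2
    subst hu_eq
    have hv_eq : v = v' := mul_left_cancel hg
    subst hv_eq
    rfl
  · -- surjective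
    rintro ⟨g, hg⟩
    obtain ⟨z, y, hzy, hcomm, hzk, hy⟩ := Cfsg.Agent.Lib.H23.exists_isPPart hp g (isOfFinOrder_of_finite g)
    have hz1 : z ≠ 1 := by
      intro h
      rw [h, one_mul] at hzy
      rw [hzy] at hy
      exact hy hg
    have hza : IsConj a z := isConj_of_pElement P hconj haP ha1 hzk hz1
    refine ⟨⟨⟨z, hza⟩, ⟨y, hcomm.symm.eq, hy⟩⟩, ?_⟩
    exact Subtype.ext hzy

/-- **COUNT**: the number of `p`-singular elements times `|P|` is `|G|`. -/
theorem card_pSingular_mul_card_sylow (P : Sylow p G) (hP1 : (P : Subgroup G) ≠ ⊥)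
    (hPe : Cfsg.IsElementaryAbelian p (P : Subgroup G))
    (hconj : ∀ x ∈ (P : Subgroup G), ∀ y ∈ (P : Subgroup G), x ≠ 1 → y ≠ 1 → ∃ g : G, g * x * g⁻¹ = y)
    (hb : ∀ x ∈ (P : Subgroup G), orderOf x = p →
      Cfsg.HasNormalPComplement p ↥(Subgroup.centralizer ({x} : Set G))) :
    Nat.card {g : G // p ∣ orderOf g} * Nat.card (P : Subgroup G) = Nat.card G := by
  obtain ⟨a, haP, ha1⟩ : ∃ a : G, a ∈ (P : Subgroup G) ∧ a ≠ 1 := by
    obtain ⟨a, ha⟩ := (Subgroup.ne_bot_iff_exists_ne_one).1 hP1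
    exact ⟨(a : G), a.2, fun h => ha (Subtype.ext h)⟩
  have : Fintype {u : G // IsConj a u} := Fintype.ofFinite _
  rw [card_pSingular_eq_card_sigma P hPe hconj haP ha1, Nat.card_sigma]
  have h1 : ∀ u : {u : G // IsConj a u}, Nat.card (RegCent p (u : G)) = Nat.card (RegCent p a) :=
    fun u => card_regCent_of_isConj u.2
  rw [Finset.sum_congr rfl (fun u _ => h1 u), Finset.sum_const, Finset.card_univ, smul_eq_mul,
    mul_assoc, card_pRegular_centralizer_mul P hPe hb haP ha1]
  have h2 := Cfsg.Agent.Lib.H2.ncard_conj_mul_card_centralizer a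
  rw [← Nat.card_coe_set_eq] at h2
  rw [← Nat.card_eq_fintype_card]
  exact h2

end Cfsg.Agent.Lib.H22.AECNT
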