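import Mathlib
import Cfsg.Agent.Lib.H23.AGG2
import Cfsg.Agent.Lib.H23.AGG3
import Cfsg.Agent.Lib.H25.AGC5

set_option autoImplicit false

/-!
# S4150 piece (E6) `exotic6`

An element `x` of cycle type `3^2` and a `5`-cycle `y` of `S_6` generate `A_6` or a transitive
`PSL(2,5) ≅ A_5`.  After conjugating `y` to `y0 = (0 1 2 3 4)`, a kernel computation over the `720`
permutations shows: either one of three words in `x, y0` is a `3`-cycle (then Jordan gives `A_6`), or `x`
permutes the five synthemes `T i` by conjugation; the conjugation action on the synthemes is then an injective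
homomorphism into `S_5`, and the image of the closure is generated by a `3`-cycle and a `5`-cycle, so it is `A_5`.
-/

namespace Cfsg.Agent.Lib.H22.AG

open Equiv Equiv.Perm Subgroup

/-- the fixed 5-cycle `(0 1 2 3 4)` of `S_6` -/
def y0 : Perm (Fin 6) := c[0, 1, 2, 3, 4]

/-- the five synthemes (fixed-point-free involutions) permuted by the transitive `PGL(2,5)` containing `y0` -/
def T : Fin 5 → Perm (Fin 6) :=
  ![swap 0 1 * swap 2 4 * swap 3 5, swap 0 2 * swap 1 5 * swap 3 4, swap 0 3 * swap 1 2 * swap 4 5,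
    swap 0 4 * swap 1 3 * swap 2 5, swap 0 5 * swap 1 4 * swap 2 3]

set_option maxRecDepth 100000 in
theorem dich : ∀ x : Perm (Fin 6), x ^ 3 = 1 → (∀ i, x i ≠ i) →
    ((x * y0 * x * y0 * x * y0⁻¹).support.card = 3 ∨ (x * y0).support.card = 3 ∨
      (x * y0⁻¹).support.card = 3) ∨ (∀ i : Fin 5, ∃ j : Fin 5, x * T i * x⁻¹ = T j) := by
  decide +kernel

theorem y0_norm : ∀ i : Fin 5, ∃ j : Fin 5, y0 * T i * y0⁻¹ = T j := by decide +kernel

theorem T_inj : Function.Injective T := by decide +kernel

set_option maxRecDepth 100000 in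
theorem cent_T : ∀ g : Perm (Fin 6), (∀ i : Fin 5, g * T i * g⁻¹ = T i) → g = 1 := by decide +kernel

set_option maxRecDepth 100000 in
theorem ord3_S5 : ∀ z : Perm (Fin 5), z ^ 3 = 1 → z ≠ 1 → z.cycleType = {3} := by decide +kernel

set_option maxRecDepth 100000 in
theorem ord5_S5 : ∀ z : Perm (Fin 5), z ^ 5 = 1 → z ≠ 1 → z.cycleType = {5} := by decide +kernel

set_option maxRecDepth 100000 in
theorem y0_cycleType : y0.cycleType = {5} := by decide +kernel

set_option maxRecDepth 100000 in
theorem y0_pow : y0 ^ 5 = 1 := by decide +kernel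

set_option maxRecDepth 100000 in
theorem y0_ne_one : y0 ≠ 1 := by decide +kernel

set_option maxRecDepth 100000 in
theorem y0_sign : Perm.sign y0 = 1 := by decide +kernel

theorem y0_isCycle : y0.IsCycle := by
  rw [← card_cycleType_eq_one, y0_cycleType]; rfl

theorem y0_support_card : y0.support.card = 5 := by
  rw [← sum_cycleType, y0_cycleType]; rfl

/-- the subgroup of `S_6` permuting the five synthemes under conjugation -/
def N0 : Subgroup (Perm (Fin 6)) where
  carrier := {g | ∀ i, ∃ j, g * T i * g⁻¹ = T j}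
  one_mem' := fun i => ⟨i, by simp⟩
  mul_mem' := by
    intro a b ha hb i
    obtain ⟨j, hj⟩ := hb i
    obtain ⟨k, hk⟩ := ha j
    exact ⟨k, by rw [← hk, ← hj]; group⟩
  inv_mem' := by
    intro a ha i
    choose σ hσ using ha
    have hinj : Function.Injective σ := by
      intro i j hij
      apply T_inj
      have h1 := hσ i
      have h2 := hσ j
      rw [hij] at h1
      have h3 := h1.trans h2.symm
      have h4 : a⁻¹ * (a * T i * a⁻¹) * a = a⁻¹ * (a * T j * a⁻¹) * a := by rw [h3]
      simpa [mul_assoc] using h4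
    obtain ⟨k, hk⟩ := (Finite.injective_iff_surjective.mp hinj) i
    refine ⟨k, ?_⟩
    have h1 := hσ k
    rw [hk] at h1
    rw [← h1]
    group

theorem mem_N0 {g : Perm (Fin 6)} : g ∈ N0 ↔ ∀ i, ∃ j, g * T i * g⁻¹ = T j := Iff.rfl

/-- the action of `N0` on the indices of the synthemes -/
noncomputable def act (g : N0) (i : Fin 5) : Fin 5 := Classical.choose (g.2 i)

theorem act_spec (g : N0) (i : Fin 5) :
    (g : Perm (Fin 6)) * T i * (g : Perm (Fin 6))⁻¹ = T (act g i) :=
  Classical.choose_spec (g.2 i)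

theorem act_one (i : Fin 5) : act 1 i = i := by
  apply T_inj
  rw [← act_spec]
  simp

theorem act_mul (a b : N0) (i : Fin 5) : act (a * b) i = act a (act b i) := by
  apply T_inj
  rw [← act_spec, ← act_spec a, ← act_spec b]
  simp [mul_assoc]

/-- the conjugation action on the synthemes as a homomorphism into `S_5` -/
noncomputable def psi : N0 →* Perm (Fin 5) where
  toFun g :=
    { toFun := act g
      invFun := act g⁻¹
      left_inv := fun i => by rw [← act_mul, inv_mul_cancel, act_one]
      right_inv := fun i => by rw [← act_mul, mul_inv_cancel, act_one] }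
  map_one' := by
    ext i
    simp [act_one]
  map_mul' a b := by
    ext i
    simp [act_mul]

theorem psi_apply (g : N0) (i : Fin 5) : psi g i = act g i := rfl

theorem psi_injective : Function.Injective psi := by
  rw [injective_iff_map_eq_one]
  intro g hg
  have h : ∀ i, act g i = i := fun i => by
    rw [← psi_apply, hg]
    rfl
  apply Subtype.ext
  apply cent_T
  intro i
  rw [act_spec, h]

/-- the `A_5` case -/
theorem iso_A5 (x : Perm (Fin 6)) (hx3 : x ^ 3 = 1) (hx1 : x ≠ 1)
    (hxN : ∀ i : Fin 5, ∃ j : Fin 5, x * T i * x⁻¹ = T j) :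
    Nonempty (closure ({x, y0} : Set (Perm (Fin 6))) ≃* alternatingGroup (Fin 5)) := by
  set a : N0 := ⟨x, hxN⟩ with ha
  set b : N0 := ⟨y0, y0_norm⟩ with hb
  set K : Subgroup N0 := closure {a, b} with hK
  have h1 : K.map N0.subtype = closure ({x, y0} : Set (Perm (Fin 6))) := by
    rw [hK, MonoidHom.map_closure, Set.image_pair]
    rfl
  have ha3 : (psi a) ^ 3 = 1 := by
    rw [← map_pow]
    have : a ^ 3 = 1 := Subtype.ext (by simpa using hx3)
    rw [this, map_one]
  have ha1 : psi a ≠ 1 := by
    intro h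
    have : a = 1 := psi_injective (by rw [h, map_one])
    exact hx1 (congrArg Subtype.val this)
  have hb5 : (psi b) ^ 5 = 1 := by
    rw [← map_pow]
    have : b ^ 5 = 1 := Subtype.ext (by simpa using y0_pow)
    rw [this, map_one]
  have hb1 : psi b ≠ 1 := by
    intro h
    have : b = 1 := psi_injective (by rw [h, map_one])
    exact y0_ne_one (congrArg Subtype.val this)
  have h2 : K.map psi = alternatingGroup (Fin 5) := by
    rw [hK, MonoidHom.map_closure, Set.image_pair]
    exact Cfsg.Agent.Lib.H25.AG.core5 _ _ (ord3_S5 _ ha3 ha1) (ord5_S5 _ hb5 hb1)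
  have e1 : K ≃* K.map N0.subtype := K.equivMapOfInjective _ N0.subtype_injective
  have e2 : K ≃* K.map psi := K.equivMapOfInjective _ psi_injective
  exact ⟨(MulEquiv.subgroupCongr h1.symm).trans (e1.symm.trans (e2.trans (MulEquiv.subgroupCongr h2)))⟩

/-- the `A_6` case -/
theorem iso_A6 (x : Perm (Fin 6)) (hx : x.cycleType = {3, 3}) (w : Perm (Fin 6))
    (hw : w ∈ closure ({x, y0} : Set (Perm (Fin 6)))) (hw3 : w.support.card = 3) :
    closure ({x, y0} : Set (Perm (Fin 6))) = alternatingGroup (Fin 6) := by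
  have hord : orderOf x = 3 := by
    rw [← lcm_cycleType, hx]; rfl
  have hsupp : x.support = Finset.univ := by
    apply Finset.eq_univ_of_card
    rw [← sum_cycleType, hx]; rfl
  have hsign : Perm.sign x = 1 := by
    rw [sign_of_cycleType, hx]; rfl
  have htr : MulAction.IsPretransitive (closure ({x, y0} : Set (Perm (Fin 6)))) (Fin 6) :=
    Cfsg.Agent.Lib.H23.AG.isPretransitive_closure x y0 Nat.prime_three hord y0_isCycle
      y0_support_card (by rw [hsupp]; simp) (by norm_num)
  have hprim : MulAction.IsPreprimitive (closure ({x, y0} : Set (Perm (Fin 6)))) (Fin 6) :=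
    Cfsg.Agent.Lib.H23.AG.isPreprimitive_of_prime_cycle _ htr y0
      (subset_closure (by simp)) y0_isCycle (by norm_num : Nat.Prime 5) y0_support_card (by norm_num)
  apply le_antisymm
  · rw [closure_le]
    intro z hz
    rcases hz with rfl | rfl
    · exact mem_alternatingGroup.mpr hsign
    · exact mem_alternatingGroup.mpr y0_sign
  · exact alternatingGroup_le_of_isPreprimitive_of_isThreeCycle_mem hprim
      (card_support_eq_three_iff.mp hw3) hw

/-- both cases for the normalised pair -/
theorem exotic6_normalized (x : Perm (Fin 6)) (hx : x.cycleType = {3, 3}) :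
    ∃ d : ℕ, 5 ≤ d ∧ Nonempty (closure ({x, y0} : Set (Perm (Fin 6))) ≃*
      alternatingGroup (Fin d)) := by
  have hord : orderOf x = 3 := by
    rw [← lcm_cycleType, hx]; rfl
  have hx3 : x ^ 3 = 1 := by rw [← hord]; exact pow_orderOf_eq_one x
  have hsupp : x.support = Finset.univ := by
    apply Finset.eq_univ_of_card
    rw [← sum_cycleType, hx]; rfl
  have hfpf : ∀ i, x i ≠ i := fun i => by
    rw [← mem_support, hsupp]; exact Finset.mem_univ i
  have hx1 : x ≠ 1 := by
    intro h
    exact hfpf 0 (by rw [h]; rfl)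
  have hxm : x ∈ closure ({x, y0} : Set (Perm (Fin 6))) := subset_closure (by simp)
  have hym : y0 ∈ closure ({x, y0} : Set (Perm (Fin 6))) := subset_closure (by simp)
  rcases dich x hx3 hfpf with (h | h | h) | h
  · refine ⟨6, by norm_num, ?_⟩
    have := iso_A6 x hx _ (mul_mem (mul_mem (mul_mem (mul_mem (mul_mem hxm hym) hxm) hym) hxm)
      (inv_mem hym)) h
    exact ⟨MulEquiv.subgroupCongr this⟩
  · refine ⟨6, by norm_num, ?_⟩
    have := iso_A6 x hx _ (mul_mem hxm hym) h
    exact ⟨MulEquiv.subgroupCongr this⟩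
  · refine ⟨6, by norm_num, ?_⟩
    have := iso_A6 x hx _ (mul_mem hxm (inv_mem hym)) h
    exact ⟨MulEquiv.subgroupCongr this⟩
  · exact ⟨5, le_refl 5, iso_A5 x hx3 hx1 h⟩

/-- (E6) the exotic case in degree 6: the closure is `A_6` or a transitive `PSL(2,5) ≅ A_5`. -/
theorem exotic6 (x y : Perm (Fin 6)) (hx : x.cycleType = {3, 3}) (hy : y.cycleType = {5}) :
    ∃ d : ℕ, 5 ≤ d ∧ Nonempty (closure ({x, y} : Set (Perm (Fin 6))) ≃*
      alternatingGroup (Fin d)) := by
  have hconj : IsConj y y0 := by
    rw [isConj_iff_cycleType_eq, hy, y0_cycleType]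
  obtain ⟨g, hg⟩ := isConj_iff.mp hconj
  have hx' : (g * x * g⁻¹).cycleType = {3, 3} := by rw [cycleType_conj, hx]
  obtain ⟨d, hd, ⟨e⟩⟩ := exotic6_normalized (g * x * g⁻¹) hx'
  refine ⟨d, hd, ?_⟩
  have hmap : (closure ({x, y} : Set (Perm (Fin 6)))).map (MulAut.conj g).toMonoidHom =
      closure ({g * x * g⁻¹, y0} : Set (Perm (Fin 6))) := by
    rw [MonoidHom.map_closure, Set.image_pair]
    simp [MulAut.conj_apply, hg]
  have e0 := (MulAut.conj g).subgroupMap (closure ({x, y} : Set (Perm (Fin 6))))
  exact ⟨e0.trans ((MulEquiv.subgroupCongr hmap).trans e)⟩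

end Cfsg.Agent.Lib.H22.AG
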