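import Mathlib
import Cfsg.Agent.Lib.H17.AGH13Defs

/-!
# S4150 / H13 piece E4 (helper22): soundness of the depth-first enumeration `dfs`
-/

set_option autoImplicit false

namespace Cfsg.Agent.Lib.H22.AG

open Equiv Equiv.Perm Subgroup Cfsg.Agent.Lib.H17.AG

theorem eraseN_eq_erase (l : List Nat) (a : Nat) : eraseN l a = l.erase a := by
  induction l with
  | nil => rfl
  | cons b t ih =>
    rw [eraseN, List.erase_cons]
    by_cases h : b = a
    · subst h
      simp
    · have h1 : Nat.beq b a = false := by
        cases hb : Nat.beq b a with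
        | false => rfl
        | true => exact absurd (Nat.eq_of_beq_eq_true hb) h
      have h2 : (b == a) = false := by simpa using h
      rw [h1, h2, ih]
      rfl

theorem allIdx_mem (f : Nat → Nat → Bool) (l : List Nat) (p : Nat) (h : allIdx f l p = true)
    (a : Nat) (ha : a ∈ l) : ∃ q, f q a = true := by
  induction l generalizing p with
  | nil => simp at ha
  | cons b t ih =>
    rw [allIdx] at h
    have h' : f p b = true ∧ allIdx f t (Nat.succ p) = true := by
      simpa using h
    rcases List.mem_cons.1 ha with rfl | hat
    · exact ⟨p, h'.1⟩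
    · exact ih _ h'.2 hat

theorem dfs_sound (C : Nat) (n X cur : Nat) (rem : List Nat) (idx : Nat) (hlen : rem.length = n)
    (h : dfs C n X cur rem idx = true) :
    ∀ l : List Nat, l.Perm rem → ∃ idx', leafCheck C idx' (pathX X cur l) = true := by
  induction n generalizing X cur rem idx with
  | zero =>
    intro l hl
    have hrem : rem = [] := List.length_eq_zero_iff.1 hlen
    subst hrem
    have hl' : l = [] := List.perm_nil.1 hl
    subst hl'
    rw [dfs] at h
    exact ⟨idx, by rw [pathX]; exact h⟩
  | succ n ih =>
    intro l hl
    have hlenl : l.length = n + 1 := by rw [hl.length_eq, hlen]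
    cases l with
    | nil => simp at hlenl
    | cons a t =>
      obtain ⟨ha, ht⟩ := List.cons_perm_iff_perm_erase.1 hl
      rw [dfs] at h
      obtain ⟨q, hq⟩ := allIdx_mem _ rem 0 h a ha
      rw [pathX]
      refine ih (Nat.add X (Nat.mul a (Nat.pow 16 cur))) a (eraseN rem a) _ ?_ hq t ?_
      · rw [eraseN_eq_erase, List.length_erase_of_mem ha, hlen]
        rfl
      · rw [eraseN_eq_erase]
        exact ht

end Cfsg.Agent.Lib.H22.AG
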