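import Mathlib
import Cfsg.Prelude.Def_Blocks
import Cfsg.Agent.Lib.H21.AD.Defs
import Cfsg.Agent.Lib.H21.AD.LC1
import Cfsg.Agent.Lib.H23.ADCC
import Cfsg.Agent.Lib.H23.Ito
import Cfsg.Agent.Lib.L0.CharIndChar
import Cfsg.Agent.Lib.H24.CharOrth

/-!
# S4551 piece (INV): an irreducible character of `N` in the principal block is `G`-invariant when
`G = N C_G(Q)`, `Q` a Sylow `p`-subgroup of `N`, `p ∤ |G : N|` (helper22)

Route: `z ∈ C_G(Q)`, `J = N⟨z⟩`; the induced character `θ^J` has nonzero `p`-regular sum, so some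
irreducible constituent `χ` lies in the principal block of `J`; by the central character congruence (CC)
`χ z ≠ 0`; by the Clifford correspondence `χ` is induced from the inertia group `T` of `θ` in `J`, which
is normal (`J / N` abelian), so `χ` vanishes off `T`; hence `z ∈ T`.
-/

set_option autoImplicit false

namespace Cfsg.Agent.Lib.H22.AP

open Cfsg.Agent.Lib.H21.AD
open scoped ComplexConjugate

section pure

variable {X : Type*} [Group X] [Fintype X]

/-- the sum over the `p`-regular elements -/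
noncomputable def rSum (p : ℕ) (f : X → ℂ) : ℂ := ∑ x : X, if p ∣ orderOf x then 0 else f x

theorem orderOf_conj_inv (x y : X) : orderOf (y⁻¹ * x * y) = orderOf x := by
  have := MulEquiv.orderOf_eq (MulAut.conj y⁻¹) x
  simpa [MulAut.conj_apply] using this

/-- the `p`-regular sum of an induced function -/
theorem rSum_indFun (p : ℕ) (H : Subgroup X) (ϑ : H → ℂ) :
    rSum p (Cfsg.indFun H ϑ) =
      (Nat.card H : ℂ)⁻¹ * (Nat.card X : ℂ) * rSum p (Cfsg.extendByZero H ϑ) := by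
  classical
  unfold rSum
  simp only [Cfsg.Agent.Lib.L0.indFun_apply]
  have h1 : ∀ x : X, (if p ∣ orderOf x then (0 : ℂ) else
      (Nat.card H : ℂ)⁻¹ * ∑ y : X, Cfsg.extendByZero H ϑ (y⁻¹ * x * y)) =
      (Nat.card H : ℂ)⁻¹ * ∑ y : X, (if p ∣ orderOf x then 0 else Cfsg.extendByZero H ϑ (y⁻¹ * x * y)) := by
    intro x
    split_ifs <;> simp
  rw [Finset.sum_congr rfl (fun x _ => h1 x), ← Finset.mul_sum, Finset.sum_comm]
  have h2 : ∀ y : X, (∑ x : X, if p ∣ orderOf x then (0 : ℂ) else Cfsg.extendByZero H ϑ (y⁻¹ * x * y)) =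
      ∑ x : X, if p ∣ orderOf x then (0 : ℂ) else Cfsg.extendByZero H ϑ x := by
    intro y
    refine Fintype.sum_equiv (MulAut.conj y⁻¹).toEquiv _ _ (fun x => ?_)
    have he : (MulAut.conj y⁻¹).toEquiv x = y⁻¹ * x * y := by simp
    rw [he, orderOf_conj_inv]
  rw [Finset.sum_congr rfl (fun y _ => h2 y), Finset.sum_const, Finset.card_univ, nsmul_eq_mul,
    Nat.card_eq_fintype_card (α := X)]
  ring

/-- a function induced from a normal subgroup vanishes outside it -/
theorem indFun_normal_not_mem (K : Subgroup X) [K.Normal] (φ : K → ℂ) {x : X} (hx : x ∉ K) :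
    Cfsg.indFun K φ x = 0 := by
  rw [Cfsg.Agent.Lib.L0.indFun_apply]
  have : ∀ y : X, Cfsg.extendByZero K φ (y⁻¹ * x * y) = 0 := by
    intro y
    apply Cfsg.Agent.Lib.L0.extendByZero_apply_not_mem
    intro hmem
    apply hx
    have := (inferInstance : K.Normal).conj_mem _ hmem y
    simpa [mul_assoc] using this
  simp [this]

/-- a class function with nonzero `p`-regular sum has an irreducible constituent with nonzero `p`-regular sum -/
theorem exists_constituent [Fintype (Cfsg.IrrCharacter X)] (p : ℕ) (Φ : X → ℂ)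
    (hΦ : Cfsg.IsClassFunction X Φ) (hS : rSum p Φ ≠ 0) :
    ∃ χ : Cfsg.IrrCharacter X, Cfsg.classInner Φ (χ : X → ℂ) ≠ 0 ∧ rSum p (χ : X → ℂ) ≠ 0 := by
  classical
  by_contra hcon
  push Not at hcon
  apply hS
  have hexp := Cfsg.Agent.Lib.H24.classFunction_expansion Φ hΦ
  have h0 : rSum p Φ = ∑ χ : Cfsg.IrrCharacter X,
      Cfsg.classInner Φ (χ : X → ℂ) * rSum p (χ : X → ℂ) := by
    conv_lhs => rw [hexp]
    unfold rSum
    simp only [Finset.sum_apply, Pi.smul_apply, smul_eq_mul]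
    have h1 : ∀ x : X, (if p ∣ orderOf x then (0 : ℂ) else
        ∑ χ : Cfsg.IrrCharacter X, Cfsg.classInner Φ (χ : X → ℂ) * (χ : X → ℂ) x) =
        ∑ χ : Cfsg.IrrCharacter X, Cfsg.classInner Φ (χ : X → ℂ) *
          (if p ∣ orderOf x then 0 else (χ : X → ℂ) x) := by
      intro x
      split_ifs <;> simp
    rw [Finset.sum_congr rfl (fun x _ => h1 x), Finset.sum_comm]
    refine Finset.sum_congr rfl fun χ _ => ?_
    rw [Finset.mul_sum]
  rw [h0]
  refine Finset.sum_eq_zero fun χ _ => ?_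
  by_cases h : Cfsg.classInner Φ (χ : X → ℂ) = 0
  · rw [h, zero_mul]
  · rw [hcon χ h, mul_zero]

end pure

section main

variable {G : Type*} [Group G] [Finite G] {p : ℕ} {M : Ideal Cfsg.AlgInt}

/-- `θ` is irreducible on `N.subgroupOf J` -/
theorem irr_subgroupOf' {N : Subgroup G} {θ : G → ℂ}
    (hirr : Cfsg.IsIrrCharacter N (fun n : N => θ n)) {J : Subgroup G} (hNJ : N ≤ J) :
    Cfsg.IsIrrCharacter (N.subgroupOf J) (fun n : N.subgroupOf J => θ ((n : J) : G)) :=
  Cfsg.Agent.Lib.L0.isIrrCharacter_comp_of_surjective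
    (Subgroup.subgroupOfEquivOfLe hNJ).toMonoidHom (Subgroup.subgroupOfEquivOfLe hNJ).surjective hirr

/-- (INV) -/
theorem theta_invariant (hM : Cfsg.IsPModular p M) (N : Subgroup G) [N.Normal]
    (Q : Subgroup G) (hQN : Q ≤ N) (hQ : ¬ p ∣ Q.relIndex N)
    (hcov : ∀ g : G, ∃ n ∈ N, ∃ z ∈ Subgroup.centralizer (Q : Set G), g = n * z)
    (hidx : ¬ p ∣ N.index) (θ : G → ℂ) (hirr : Cfsg.IsIrrCharacter N (fun n : N => θ n))
    (hB : sSum p N θ ≠ 0) : ∀ g : G, ∀ n ∈ N, θ (g * n * g⁻¹) = θ n := by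
  classical
  have hpp : p.Prime := Cfsg.Agent.Lib.H23.prime_of_isPModular hM
  have hPr : M.IsPrime := Cfsg.Agent.Lib.H23.isPrime_of_isPModular hM
  -- reduction to `z ∈ C(Q)`
  suffices hz : ∀ z ∈ Subgroup.centralizer (Q : Set G), ∀ n ∈ N, θ (z * n * z⁻¹) = θ n by
    intro g n hn
    obtain ⟨n₀, hn₀, z, hz', rfl⟩ := hcov g
    have hcf := Cfsg.Agent.Lib.L0.isClassFunction_of_isCharacter
      (Cfsg.Agent.Lib.L0.isCharacter_of_irr hirr)
    have hm : z * n * z⁻¹ ∈ N := ‹N.Normal›.conj_mem n hn z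
    have h1 := hcf ⟨z * n * z⁻¹, hm⟩ ⟨n₀, hn₀⟩
    have h2 : n₀ * z * n * (n₀ * z)⁻¹ = n₀ * (z * n * z⁻¹) * n₀⁻¹ := by group
    rw [h2]
    exact h1.trans (hz z hz' n hn)
  intro z hzQ n hn
  set J : Subgroup G := N ⊔ Subgroup.zpowers z with hJ
  have hNJ : N ≤ J := le_sup_left
  have hzJ : z ∈ J := (le_sup_right : Subgroup.zpowers z ≤ J) (Subgroup.mem_zpowers z)
  let _ : Fintype ↥J := Fintype.ofFinite _
  set H : Subgroup ↥J := N.subgroupOf J with hH
  have hHn : H.Normal := Subgroup.normal_subgroupOf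
  let _ : Fintype ↥H := Fintype.ofFinite _
  let _ : Fintype (Cfsg.IrrCharacter ↥J) := Fintype.ofFinite _
  set ϑ : H → ℂ := fun m => θ ((m : J) : G) with hϑdef
  have hϑ : Cfsg.IsIrrCharacter H ϑ := irr_subgroupOf' hirr hNJ
  -- (a) the `p`-regular sum of the induced character
  have hS : rSum p (Cfsg.indFun H ϑ) ≠ 0 := by
    rw [rSum_indFun]
    have h1 : rSum p (Cfsg.extendByZero H ϑ) = sSum p N θ := by
      have hext : ∀ x : J, Cfsg.extendByZero H ϑ x = (fun g : G => if g ∈ N then θ g else 0) x := by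
        intro x
        by_cases hx : (x : G) ∈ N
        · have hxH : x ∈ H := Subgroup.mem_subgroupOf.2 hx
          have := Cfsg.Agent.Lib.L0.extendByZero_apply_mem H ϑ ⟨x, hxH⟩
          simp only [if_pos hx]
          exact this
        · have hxH : x ∉ H := fun h => hx (Subgroup.mem_subgroupOf.1 h)
          rw [Cfsg.Agent.Lib.L0.extendByZero_apply_not_mem H ϑ hxH]
          simp only [if_neg hx]
      have h2 : rSum p (Cfsg.extendByZero H ϑ) =
          sSum p J (fun g : G => if g ∈ N then θ g else 0) := by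
        rw [Cfsg.Agent.Lib.H23.AD.sSum_eq_finsum_subtype, finsum_eq_sum_of_fintype]
        unfold rSum
        refine Finset.sum_congr rfl fun x _ => ?_
        rw [hext x]
      rw [h2]
      unfold sSum
      congr 1
      funext g
      by_cases hg : g ∈ N
      · by_cases hr : p ∣ orderOf g
        · simp [hr]
        · simp [hg, hNJ hg, hr]
      · by_cases hgJ : g ∈ J <;> simp [hg, hgJ]
    rw [h1]
    have hcH : (Nat.card H : ℂ) ≠ 0 := Nat.cast_ne_zero.2 Nat.card_pos.ne'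
    have hcJ : (Nat.card J : ℂ) ≠ 0 := Nat.cast_ne_zero.2 Nat.card_pos.ne'
    exact mul_ne_zero (mul_ne_zero (inv_ne_zero hcH) hcJ) hB
  -- (b) a constituent in the principal block
  have hΘ : Cfsg.IsCharacter J (Cfsg.indFun H ϑ) :=
    Cfsg.Agent.Lib.L0.isCharacter_indFun H (Cfsg.Agent.Lib.L0.isCharacter_of_irr hϑ)
  obtain ⟨χ, hχ1, hχS⟩ := exists_constituent p (Cfsg.indFun H ϑ)
    (Cfsg.Agent.Lib.L0.isClassFunction_of_isCharacter hΘ) hS
  have hχcf := Cfsg.Agent.Lib.L0.isClassFunction_of_isCharacter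
    (Cfsg.Agent.Lib.L0.isCharacter_of_irr χ.2)
  have hcon : Cfsg.classInner (fun m : H => (χ : J → ℂ) m) ϑ ≠ 0 := by
    rw [Cfsg.Agent.Lib.L0.frobenius_reciprocity H ϑ (χ : J → ℂ) hχcf] at hχ1
    rw [← Cfsg.Agent.Lib.L0.classInner_conj_symm]
    intro h0
    apply hχ1
    have := congrArg conj h0
    simpa using this
  -- (c) the Clifford correspondence
  set T : Subgroup ↥J := Cfsg.Agent.Lib.H23.inertia H ϑ with hT
  let _ : Fintype ↥T := Fintype.ofFinite _
  have hHT : H ≤ T := Cfsg.Agent.Lib.H23.le_inertia H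
    (Cfsg.Agent.Lib.L0.isClassFunction_of_isCharacter (Cfsg.Agent.Lib.L0.isCharacter_of_irr hϑ))
  obtain ⟨ψ, _, hind, _⟩ := Cfsg.Agent.Lib.H23.clifford_correspondence H T hHT ϑ hϑ
    (fun g => Cfsg.Agent.Lib.H23.mem_inertia H ϑ g) (χ : J → ℂ) χ.2 hcon
  have hTn : T.Normal := by
    constructor
    intro t ht x
    have hc : x * t * x⁻¹ * t⁻¹ ∈ H := by
      rw [hH, Subgroup.mem_subgroupOf]
      have := sup_zpowers_comm N z (x : G) x.2 (t : G) t.2
      simpa using this
    have he : x * t * x⁻¹ = (x * t * x⁻¹ * t⁻¹) * t := by group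
    rw [he]
    exact T.mul_mem (hHT hc) ht
  -- (d) the central character congruence at `z`
  set f : G → ℂ := fun g => if h : g ∈ J then (χ : J → ℂ) ⟨g, h⟩ else 0 with hf
  have hfχ : (fun y : J => f y) = (χ : J → ℂ) := by
    funext y
    simp only [hf, dif_pos y.2]
  have hfirr : Cfsg.IsIrrCharacter J (fun y : J => f y) := by rw [hfχ]; exact χ.2
  have hgood : sSum p J f ≠ 0 := by
    rw [Cfsg.Agent.Lib.H23.AD.sSum_eq_finsum_subtype, finsum_eq_sum_of_fintype]
    have h3 : (∑ y : J, if p ∣ orderOf y then (0 : ℂ) else f y) = rSum p (χ : J → ℂ) := by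
      unfold rSum
      refine Finset.sum_congr rfl fun y _ => ?_
      rw [← hfχ]
    rw [h3]
    exact hχS
  have hQJ' : ¬ p ∣ Q.relIndex J := by
    rw [← Subgroup.relIndex_mul_relIndex Q N J hQN hNJ]
    intro h
    rcases hpp.dvd_mul.1 h with h | h
    · exact hQ h
    · exact hidx (h.trans (Subgroup.relIndex_dvd_index_of_normal N J))
  have hcc := Cfsg.Agent.Lib.H23.AD.cc hM J f hfirr hgood Q (hQN.trans hNJ) hQJ' z hzJ hzQ
  have hfz : f z ≠ 0 := by
    intro h0
    rw [h0, zero_div, zero_sub] at hcc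
    have h4 := Cfsg.Agent.Lib.H23.memLocalIdeal_neg hcc
    rw [neg_neg] at h4
    exact Cfsg.Agent.Lib.H23.not_memLocalIdeal_one h4
  -- (e) `z ∈ T`
  have hzT : (⟨z, hzJ⟩ : J) ∈ T := by
    by_contra hnot
    apply hfz
    have h5 : f z = (χ : J → ℂ) ⟨z, hzJ⟩ := by simp only [hf, dif_pos hzJ]
    rw [h5, ← hind]
    exact indFun_normal_not_mem T ψ hnot
  have h6 := (Cfsg.Agent.Lib.H23.mem_inertia H ϑ ⟨z, hzJ⟩).1 hzT
    ⟨⟨n, hNJ hn⟩, Subgroup.mem_subgroupOf.2 hn⟩
  exact h6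

end main

end Cfsg.Agent.Lib.H22.AP
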