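import Mathlib
import Cfsg.Agent.Lib.H21.AP.Defs
import Cfsg.Agent.Lib.H22.APINV

/-!
# S4551 piece 3 (INV) in the exact signature of `tools/blueprints/S4551_sigs.lean` (helper22)
-/

set_option autoImplicit false
open Cfsg.Agent.Lib.H21.AD Cfsg.Agent.Lib.H28.NT Cfsg.Agent.Lib.H21.AP

namespace Cfsg.Agent.Lib.H22.AP

variable {G : Type*} [Group G] [Finite G] {p : ℕ} {M : Ideal Cfsg.AlgInt} {N Q : Subgroup G}

/-- (INV) every `θ` in the principal block of `N` is `G`-invariant -/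
theorem inv_of_principal [N.Normal] (hp : p.Prime) (hM : Cfsg.IsPModular p M) (hQN : Q ≤ N)
    (hQ : ¬ p ∣ Q.relIndex N) (hidx : ¬ p ∣ N.index)
    (hcov : ∀ g : G, ∃ n ∈ N, ∃ z ∈ Subgroup.centralizer (Q : Set G), g = n * z)
    (θ : G → ℂ) (hirr : Cfsg.IsIrrCharacter N (fun n : N => θ n)) (hB : sSum p N θ ≠ 0) :
    ∀ g : G, ∀ n ∈ N, θ (g * n * g⁻¹) = θ n :=
  theta_invariant hM N Q hQN hQ hcov hidx θ hirr hB

end Cfsg.Agent.Lib.H22.AP
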