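import Mathlib
import Cfsg.Agent.Lib.H10.LocalGlobalGen
import Cfsg.Agent.Lib.H5.AlperinCentric

/-!
# Alperin–Goldschmidt induction restricted to centric radical subgroups (helper22)

`good_of_radical`: a relation `Good A g` closed under restriction, composition and inverses,
true for centralizing elements, and true for `x ∈ N_G(T)` whenever `T ≤ S` has `N_S(T)` Sylow in
`N_G(T)` and `T` is *radical* in the sense that every subgroup `M ≤ N_G(T)` normalized by `N_G(T)`
and acting on `T` as a `p`-group (`∀ y ∈ M, y^(p^j) ∈ C_G(T)`) satisfies `M ∩ S ≤ T`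
(taking `M = C_G(T)` this includes `C_S(T) ≤ T`), holds for every `Q ≤ S`, `g` with `Q^g ≤ S`.
-/

set_option autoImplicit false

namespace Cfsg.Agent.Lib.H22.AlperinRadical

open Subgroup Cfsg.Agent.Lib.H10 Cfsg.Agent.Lib.H5

variable {G : Type*} [Group G]

/-- If `R ≤ M` has index prime to `p` in `M` and `M/C` is a `p`-group then `M = R C`. -/
theorem le_sup_of_pgroup_quotient [Finite G] {p : ℕ} [Fact p.Prime] {R M C : Subgroup G}
    (hRi : ¬ p ∣ R.relIndex M) (hMC : M ≤ normalizer (C : Set G))
    (hpow : ∀ y ∈ M, ∃ j : ℕ, y ^ (p ^ j) ∈ C) : M ≤ R ⊔ C := by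
  have hnorm : (C.subgroupOf M).Normal := Subgroup.normal_subgroupOf_of_le_normalizer hMC
  have hq : IsPGroup p (↥M ⧸ C.subgroupOf M) := by
    intro y
    induction y using QuotientGroup.induction_on with
    | H y =>
      obtain ⟨j, hj⟩ := hpow y y.2
      refine ⟨j, ?_⟩
      rw [← QuotientGroup.mk_pow, QuotientGroup.eq_one_iff, mem_subgroupOf]
      simpa using hj
  obtain ⟨n, hn⟩ := IsPGroup.iff_card.mp hq
  have h1 : C.relIndex M = p ^ n := by
    rw [← hn]
    exact Subgroup.index_eq_card _
  have h2 : (R ⊔ C).relIndex M ∣ C.relIndex M := Subgroup.relIndex_dvd_of_le_left M le_sup_right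
  have h3 : (R ⊔ C).relIndex M ∣ R.relIndex M := Subgroup.relIndex_dvd_of_le_left M le_sup_left
  rw [h1] at h2
  obtain ⟨m, -, hm'⟩ := (Nat.dvd_prime_pow (Fact.out)).mp h2
  have hm0 : m = 0 := by
    by_contra h
    apply hRi
    refine dvd_trans ?_ h3
    rw [hm']
    exact dvd_pow_self p h
  rw [hm0, pow_zero] at hm'
  exact Subgroup.relIndex_eq_one.mp hm'

theorem le_normalizer_inf {M A B : Subgroup G} (hA : M ≤ normalizer (A : Set G))
    (hB : M ≤ normalizer (B : Set G)) : M ≤ normalizer ((A ⊓ B : Subgroup G) : Set G) := by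
  intro g hg
  have h1 := hA hg
  have h2 := hB hg
  rw [mem_normalizer_iff_map_conj] at h1 h2 ⊢
  rw [map_conj_inf, h1, h2]

/-- **Alperin–Goldschmidt**, centric radical version. -/
theorem good_of_radical {p : ℕ} [Fact p.Prime] [Finite G] (S : Sylow p G)
    (Good : Set G → G → Prop)
    (hres : ∀ {A B : Set G} {g : G}, Good A g → B ⊆ A → Good B g)
    (htrans : ∀ {A : Set G} {g h : G}, Good A g → Good (rconj g A) h → Good A (g * h))
    (hsymm : ∀ {A : Set G} {g : G}, Good A g → Good (rconj g A) g⁻¹)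
    (hcent : ∀ (T : Subgroup G) (c : G), T ≤ (S : Subgroup G) → c ∈ centralizer (T : Set G) →
      Good (T : Set G) c)
    (hloc : ∀ T ∈ sylNormFamily p (S : Subgroup G),
      (∀ M : Subgroup G, M ≤ normalizer (T : Set G) →
        normalizer (T : Set G) ≤ normalizer (M : Set G) →
        (∀ y ∈ M, ∃ j : ℕ, y ^ (p ^ j) ∈ centralizer (T : Set G)) →
        M ⊓ (S : Subgroup G) ≤ T) →
      ∀ x ∈ normalizer (T : Set G), Good (T : Set G) x) :
    ∀ Q : Subgroup G, Q ≤ (S : Subgroup G) → ∀ g : G,
      Q.map (MulAut.conj g⁻¹).toMonoidHom ≤ (S : Subgroup G) → Good (Q : Set G) g := by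
  have key : ∀ n : ℕ, ∀ Q : Subgroup G, Q ≤ (S : Subgroup G) →
      Nat.card (S : Subgroup G) - Nat.card Q = n → ∀ g : G,
      Q.map (MulAut.conj g⁻¹).toMonoidHom ≤ (S : Subgroup G) → Good (Q : Set G) g := by
    intro n
    induction n using Nat.strong_induction_on with
    | _ n ih =>
      intro Q hQ hn g hg
      have hcQ : Nat.card Q ≤ Nat.card (S : Subgroup G) := Subgroup.card_le_of_le hQ
      have hbig : ∀ Q' : Subgroup G, Q' ≤ (S : Subgroup G) → Nat.card Q < Nat.card Q' → ∀ g' : G,
          Q'.map (MulAut.conj g'⁻¹).toMonoidHom ≤ (S : Subgroup G) → Good (Q' : Set G) g' := by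
        intro Q' hQ' hlt g' hg'
        have hcQ' : Nat.card Q' ≤ Nat.card (S : Subgroup G) := Subgroup.card_le_of_le hQ'
        exact ih (Nat.card (S : Subgroup G) - Nat.card Q') (by omega) Q' hQ' rfl g' hg'
      apply alperin_step S Good hres htrans hsymm Q hQ g hg hbig
      intro U hU hUcard x hx
      by_cases hrad : ∀ M : Subgroup G, M ≤ normalizer (U : Set G) →
          normalizer (U : Set G) ≤ normalizer (M : Set G) →
          (∀ y ∈ M, ∃ j : ℕ, y ^ (p ^ j) ∈ centralizer (U : Set G)) →
          M ⊓ (S : Subgroup G) ≤ U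
      · exact hloc U hU hrad x hx
      push Not at hrad
      obtain ⟨M, hMN, hNM, hpow, hnot⟩ := hrad
      obtain ⟨hUS, hUi⟩ := hU
      set N := normalizer (U : Set G) with hN
      set C := centralizer (U : Set G) with hC
      have hCN : C ≤ N := centralizer_le_normalizer _
      have hNC : N ≤ normalizer (C : Set G) := NC.normalizer_le_normalizer_centralizer U
      set H := (S : Subgroup G) ⊓ N with hH
      have hHp : IsPGroup p H := S.2.to_le inf_le_left
      set R := H ⊓ M with hR
      have hRp : IsPGroup p R := hHp.to_le inf_le_left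
      have hRi : ¬ p ∣ R.relIndex M :=
        AC.not_dvd_relIndex_inf_of_normal hHp inf_le_right hUi hMN hNM
      have hRM : R ≤ M := inf_le_right
      set C' := M ⊓ C with hC'
      have hMC' : M ≤ normalizer (C' : Set G) :=
        le_normalizer_inf le_normalizer (hMN.trans hNC)
      have hMle : M ≤ R ⊔ C' :=
        le_sup_of_pgroup_quotient hRi hMC' (fun y hy => by
          obtain ⟨j, hj⟩ := hpow y hy
          exact ⟨j, ⟨M.pow_mem hy _, hj⟩⟩)
      have hY : R.map (MulAut.conj x).toMonoidHom ≤ M := by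
        rintro _ ⟨r, hr, rfl⟩
        exact (mem_normalizer_iff.mp (hNM hx) r).mp (hRM hr)
      obtain ⟨k, hkM, hk⟩ := exists_mem_map_conj_le_of_sylowIn hRp hRM hRi (hRp.map _) hY
      have hkRC : k ∈ R ⊔ C' := hMle hkM
      rw [← SetLike.mem_coe, coe_mul_of_left_le_normalizer_right R C' (hRM.trans hMC'),
        Set.mem_mul] at hkRC
      obtain ⟨r, hr, c, hc, rfl⟩ := hkRC
      have hcC : c ∈ C := hc.2
      rw [map_conj_map_conj] at hk
      have hrcx : r * c * x ∈ normalizer (R : Set G) :=
        mem_normalizer_iff_map_conj.mpr (eq_of_le_of_card_map_conj hk le_rfl)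
      have hmR : c * x ∈ normalizer (R : Set G) := by
        have : c * x = r⁻¹ * (r * c * x) := by group
        rw [this]
        exact mul_mem (inv_mem (le_normalizer hr)) hrcx
      have hmN : c * x ∈ N := N.mul_mem (hCN hcC) hx
      have hmU₁ : c * x ∈ normalizer ((U ⊔ R : Subgroup G) : Set G) :=
        NC.normalizer_inf_le_normalizer_sup' U R ⟨hmN, hmR⟩
      have hRS : R ≤ (S : Subgroup G) := inf_le_left.trans inf_le_left
      have hU₁S : U ⊔ R ≤ (S : Subgroup G) := sup_le hUS hRS
      have hlt : U < U ⊔ R := by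
        refine lt_of_le_of_ne le_sup_left ?_
        intro heq
        apply hnot
        intro y hy
        have hyR : y ∈ R := ⟨⟨hy.2, hMN hy.1⟩, hy.1⟩
        rw [heq]
        exact le_sup_right (a := U) hyR
      have hm' : (U ⊔ R).map (MulAut.conj (c * x)⁻¹).toMonoidHom ≤ (S : Subgroup G) := by
        rw [mem_normalizer_iff_map_conj.mp (inv_mem hmU₁)]
        exact hU₁S
      have r1 : Good ((U ⊔ R : Subgroup G) : Set G) (c * x) :=
        hbig _ hU₁S (by rw [← hUcard]; exact card_lt_card_of_lt hlt) (c * x) hm'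
      have r2 : Good (U : Set G) (c * x) := hres r1 (SetLike.coe_subset_coe.mpr hlt.le)
      have r3 : Good (U : Set G) c⁻¹ := hcent U c⁻¹ hUS (inv_mem hcC)
      have r4 : Good (U : Set G) (c⁻¹ * (c * x)) := by
        refine htrans r3 ?_
        rw [rconj_coe_of_mem_normalizer (inv_mem (hCN hcC))]
        exact r2
      have e : c⁻¹ * (c * x) = x := by group
      rwa [e] at r4
  intro Q hQ g hg
  exact key _ Q hQ rfl g hg

end Cfsg.Agent.Lib.H22.AlperinRadical
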