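/-
S5673 project (Aschbacher, orthogonal odd case), module OM8.3, piece **OM8-F** (helper22):
the polar form of `Q` is, in the tensor basis of `t` components, a scalar multiple of the `t`-th tensor power
of ONE symmetric bilinear form fixed by `S`.  Adaptation of helper16's `AschUM8Cc` with `σ = id`.
-/
import Cfsg.Agent.Lib.H24.AschODefs
import Cfsg.Agent.Lib.H24.AschOBasic
import Cfsg.Agent.Lib.Lead.AschTensorData
import Cfsg.Agent.Lib.H16.AschUM8Cb
import Cfsg.Agent.Lib.H26.AschUM83B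
import Cfsg.Agent.Lib.H6.AschU3b

set_option autoImplicit false

namespace Cfsg.Agent.Lib.H22.Asch

open Cfsg Cfsg.Geo Cfsg.Agent.Lib.Lead.Asch Cfsg.Agent.Lib.H26.Asch Cfsg.Agent.Lib.H16.Asch
  Cfsg.Agent.Lib.H21.Asch Cfsg.Agent.Lib.H6.Asch Cfsg.Agent.Lib.H24.Asch
open scoped MatrixGroups Matrix Kronecker

variable {F : Type*} [Field F]

/-- `X.map id = X`. -/
theorem om8f_map_id {κ : Type*} (X : Matrix κ κ F) : X.map (RingHom.id F) = X := by
  ext i j; rfl

/-- A non-zero matrix on the `t`-fold tensor power invariant (as a bilinear form) under `S` acting in slot `i0`,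
with `S` absolutely irreducible, `m` odd and `2 ≠ 0`, gives an invertible SYMMETRIC `S`-invariant matrix. -/
theorem om8f_exists_symm_block {m t : ℕ} (h2 : (2 : F) ≠ 0) (hm : Odd m) (i0 : Fin t)
    (S : Set (Matrix (Fin m) (Fin m) F)) (hS : ActsAbsolutelyIrreducibly S)
    (hunits : ∀ s ∈ S, IsUnit s.det)
    (M : Matrix (Fin t → Fin m) (Fin t → Fin m) F) (hM : M ≠ 0)
    (hinv : ∀ s ∈ S, (posEmb i0 s)ᵀ * M * posEmb i0 s = M) :
    ∃ B : Matrix (Fin m) (Fin m) F, IsUnit B.det ∧ Bᵀ = B ∧ ∀ s ∈ S, sᵀ * B * s = B := by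
  classical
  obtain ⟨x, y, hxy⟩ : ∃ x y, M x y ≠ 0 := by
    by_contra hcon
    push Not at hcon
    exact hM (Matrix.ext hcon)
  set B1 := slotBlock i0 x y M with hB1
  have hB1ne : B1 ≠ 0 := by
    intro h0
    apply hxy
    have := congrFun (congrFun h0 (x i0)) (y i0)
    rw [hB1, slotBlock_apply, Function.update_eq_self, Function.update_eq_self] at this
    exact this
  have hi1 : ∀ s ∈ S, sᵀ * B1 * s.map (RingHom.id F) = B1 := fun s hs =>
    slotBlock_invariant (RingHom.id F) i0 x y M s (by rw [om8f_map_id]; exact hinv s hs)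
  have hi1' : ∀ s ∈ S, sᵀ * B1 * s = B1 := fun s hs => by
    have := hi1 s hs
    rwa [om8f_map_id] at this
  have hdet : IsUnit B1.det := isUnit_det_of_fix (RingHom.id F) S hS.1 hunits B1 hB1ne hi1
  have hi2 : ∀ s ∈ S, sᵀ * B1ᵀ * s.map (RingHom.id F) = B1ᵀ := fun s hs => by
    rw [om8f_map_id]
    have := congrArg Matrix.transpose (hi1' s hs)
    rw [Matrix.transpose_mul, Matrix.transpose_mul, Matrix.transpose_transpose] at this
    rw [Matrix.mul_assoc]
    exact this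
  obtain ⟨c, hc⟩ := core (RingHom.id F) S hS.2 hunits B1 B1ᵀ hdet hi1 hi2
  have hcc : B1 = (c * c) • B1 := by
    have h1 : B1 = (B1ᵀ)ᵀ := (Matrix.transpose_transpose B1).symm
    rw [hc, Matrix.transpose_smul, hc, smul_smul] at h1
    exact h1
  have hc2 : c * c = 1 := by
    by_contra hne
    apply hB1ne
    have h3 : (1 - c * c) • B1 = 0 := by
      rw [sub_smul, one_smul, ← hcc, sub_self]
    rcases smul_eq_zero.mp h3 with h | h
    · exact absurd (sub_eq_zero.mp h).symm hne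
    · exact h
  have hcpm : c = 1 ∨ c = -1 := by
    have : (c - 1) * (c + 1) = 0 := by ring_nf; rw [pow_two, hc2]; ring
    rcases mul_eq_zero.mp this with h | h
    · left; exact sub_eq_zero.mp h
    · right; exact eq_neg_of_add_eq_zero_left h
  have hsymm : B1ᵀ = B1 := by
    rcases hcpm with h | h
    · rw [hc, h, one_smul]
    · exfalso
      have hd : B1.det = (-1) ^ m * B1.det := by
        conv_lhs => rw [← Matrix.det_transpose, hc, h, Matrix.det_smul, Fintype.card_fin]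
      rw [hm.neg_one_pow, neg_one_mul] at hd
      have h4 : (2 : F) * B1.det = 0 := by
        have : B1.det + B1.det = 0 := by
          nth_rewrite 1 [hd]
          exact neg_add_cancel _
        rw [two_mul]; exact this
      rcases mul_eq_zero.mp h4 with h5 | h5
      · exact h2 h5
      · rw [h5] at hdet
        exact not_isUnit_zero hdet
  exact ⟨B1, hdet, hsymm, hi1'⟩

variable [Fintype F] {n : ℕ}

/-- **OM8-F**. -/
theorem exists_tensor_power_form_orth (Q : (Fin n → F) → F) (hQ : OData Q) {m t : ℕ} (ht : 0 < t)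
    (L : Fin t → Subgroup (GL (Fin n) F)) (hLI : ∀ i, L i ≤ isometryGroup F Q)
    (habs : ActsAbsolutelyIrreducibly (matrixSet (⨆ i, L i)))
    (e' : Fin n ≃ (Fin t → Fin m)) (Q₀ : GL (Fin n) F) (S : Subgroup (GL (Fin m) F))
    (hS : ActsAbsolutelyIrreducibly (matrixSet S))
    (h1 : ∀ i, ∀ y ∈ L i, ∃ a ∈ S, (y : Matrix (Fin n) (Fin n) F) =
        (Q₀ : Matrix (Fin n) (Fin n) F) *
          Matrix.reindex e'.symm e'.symm
            (posEmb i ((a : GL (Fin m) F) : Matrix (Fin m) (Fin m) F)) *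
          ((Q₀⁻¹ : GL (Fin n) F) : Matrix (Fin n) (Fin n) F))
    (h2 : ∀ i, ∀ a ∈ S, ∃ y ∈ L i, (y : Matrix (Fin n) (Fin n) F) =
        (Q₀ : Matrix (Fin n) (Fin n) F) *
          Matrix.reindex e'.symm e'.symm
            (posEmb i ((a : GL (Fin m) F) : Matrix (Fin m) (Fin m) F)) *
          ((Q₀⁻¹ : GL (Fin n) F) : Matrix (Fin n) (Fin n) F)) :
    ∃ f₁ : (Fin m → F) → (Fin m → F) → F, IsSymmetricForm f₁ ∧
      IsTensorPowerFormStructure id (QuadraticMap.polar Q) f₁ e' Q₀ ∧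
      ∀ a ∈ S, ∀ u v : Fin m → F,
        f₁ (((a : GL (Fin m) F) : Matrix (Fin m) (Fin m) F) *ᵥ u)
          (((a : GL (Fin m) F) : Matrix (Fin m) (Fin m) F) *ᵥ v) = f₁ u v := by
  classical
  have h20 : (2 : F) ≠ 0 := two_ne_zero_of_odd hQ.qodd
  have hnodd : Odd n := by
    have := hQ.nodd
    rwa [Fintype.card_fin] at this
  have hcard : n = m ^ t := by
    have := Fintype.card_congr e'
    simpa using this
  have hmodd : Odd m := by
    rw [hcard] at hnodd
    rcases Nat.even_or_odd m with he | ho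
    · exact absurd ((Nat.even_pow.2 ⟨he, by omega⟩)) (Nat.not_even_iff_odd.2 hnodd)
    · exact ho
  have hn0 : 0 < n := hnodd.pos
  set Rq : Matrix (Fin t → Fin m) (Fin t → Fin m) F ≃ₐ[F] Matrix (Fin n) (Fin n) F :=
    Matrix.reindexAlgEquiv F F e'.symm with hRq
  have hRqT : ∀ X : Matrix (Fin t → Fin m) (Fin t → Fin m) F, (Rq X)ᵀ = Rq Xᵀ := fun X => rfl
  have hRqre : ∀ X : Matrix (Fin t → Fin m) (Fin t → Fin m) F,
      Matrix.reindex e'.symm e'.symm X = Rq X := fun X => rfl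
  set G0 : Matrix (Fin n) (Fin n) F := gramMatrix (QuadraticMap.polar Q) with hG0
  have hG0fix : ∀ g ∈ isometryGroup F Q,
      (g : Matrix (Fin n) (Fin n) F)ᵀ * G0 * (g : Matrix (Fin n) (Fin n) F) = G0 :=
    fun g hg => isometry_gram hQ.quad g hg
  set Qm : Matrix (Fin n) (Fin n) F := (Q₀ : Matrix (Fin n) (Fin n) F) with hQm
  set Qi : Matrix (Fin n) (Fin n) F := ((Q₀⁻¹ : GL (Fin n) F) : Matrix (Fin n) (Fin n) F) with hQi
  have hQQ : Qi * Qm = 1 := by
    rw [hQi, hQm, ← Units.val_mul, inv_mul_cancel, Units.val_one]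
  have hQQ' : Qm * Qi = 1 := by
    rw [hQi, hQm, ← Units.val_mul, mul_inv_cancel, Units.val_one]
  set G : Matrix (Fin n) (Fin n) F := Qmᵀ * G0 * Qm with hG
  have hQmdet : IsUnit Qm.det := (Matrix.isUnit_iff_isUnit_det _).1 Q₀.isUnit
  have hGdet : IsUnit G.det := by
    rw [hG, Matrix.det_mul, Matrix.det_mul, Matrix.det_transpose]
    exact (hQmdet.mul (isUnit_iff_ne_zero.2 (gram_det_ne_zero hQ.quad))).mul hQmdet
  have hGne : G ≠ 0 := by
    intro h0
    rw [h0] at hGdet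
    have : Nonempty (Fin n) := ⟨⟨0, hn0⟩⟩
    rw [Matrix.det_zero] at hGdet
    exact not_isUnit_zero hGdet
  -- invariance of `G` under the `Rq (posEmb i a)`
  have hGfix : ∀ i, ∀ a ∈ S,
      (Rq (posEmb i ((a : GL (Fin m) F) : Matrix (Fin m) (Fin m) F)))ᵀ * G *
        Rq (posEmb i ((a : GL (Fin m) F) : Matrix (Fin m) (Fin m) F)) = G := by
    intro i a ha
    obtain ⟨y, hy, hyeq⟩ := h2 i a ha
    have hfix := hG0fix y (hLI i hy)
    rw [hyeq, hRqre] at hfix
    set X := Rq (posEmb i ((a : GL (Fin m) F) : Matrix (Fin m) (Fin m) F)) with hX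
    -- `(Qm X Qi)ᵀ G0 (Qm X Qi) = G0`
    have h3 : Qiᵀ * (Xᵀ * G * X) * Qi = G0 := by
      rw [hG]
      have : (Qm * X * Qi)ᵀ * G0 * (Qm * X * Qi) = Qiᵀ * (Xᵀ * (Qmᵀ * G0 * Qm) * X) * Qi := by
        simp only [Matrix.transpose_mul, Matrix.mul_assoc]
      rw [← this]
      exact hfix
    have h4 : Xᵀ * G * X = Qmᵀ * (Qiᵀ * (Xᵀ * G * X) * Qi) * Qm := by
      have e1 : Qmᵀ * Qiᵀ = 1 := by rw [← Matrix.transpose_mul, hQQ, Matrix.transpose_one]
      calc Xᵀ * G * X = (Qmᵀ * Qiᵀ) * (Xᵀ * G * X) * (Qi * Qm) := by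
            rw [e1, hQQ, Matrix.one_mul, Matrix.mul_one]
        _ = _ := by simp only [Matrix.mul_assoc]
    rw [h4, h3]
  -- the form in tensor coordinates
  set M : Matrix (Fin t → Fin m) (Fin t → Fin m) F := Rq.symm G with hM
  have hRqM' : Rq M = G := by rw [hM, AlgEquiv.apply_symm_apply]
  have hM0 : M ≠ 0 := by
    intro h0
    apply hGne
    rw [← hRqM', h0, map_zero]
  set i0 : Fin t := ⟨0, ht⟩ with hi0
  have hMinv : ∀ s ∈ matrixSet S, (posEmb i0 s)ᵀ * M * posEmb i0 s = M := by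
    rintro _ ⟨a, ha, rfl⟩
    apply Rq.injective
    rw [map_mul, map_mul, ← hRqT, hRqM']
    exact hGfix i0 a ha
  have hunits : ∀ s ∈ matrixSet S, IsUnit s.det := by
    rintro _ ⟨a, _, rfl⟩
    exact (Matrix.isUnit_iff_isUnit_det _).1 a.isUnit
  obtain ⟨B₀, hBdet, hBsymm, hBfix⟩ :=
    om8f_exists_symm_block h20 hmodd i0 (matrixSet S) hS hunits M hM0 hMinv
  have hBfix' : ∀ s ∈ matrixSet S, sᵀ * B₀ * s.map (RingHom.id F) = B₀ := fun s hs => by
    rw [om8f_map_id]; exact hBfix s hs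
  -- the symmetric form
  set f₁ : (Fin m → F) → (Fin m → F) → F := formOf (RingHom.id F) B₀ with hf₁
  have hrep : Rep (RingHom.id F) B₀ f₁ := rep_formOf _ _
  have hf₁symm : IsSymmetricForm f₁ := by
    refine ⟨hrep.bilinear, fun u v => ?_, hrep.nondegenerate hBdet⟩
    show u ⬝ᵥ (B₀ *ᵥ (fun i => (RingHom.id F) (v i))) = v ⬝ᵥ (B₀ *ᵥ (fun i => (RingHom.id F) (u i)))
    have e1 : (fun i => (RingHom.id F) (v i)) = v := rfl
    have e2 : (fun i => (RingHom.id F) (u i)) = u := rfl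
    rw [e1, e2, Matrix.dotProduct_mulVec, ← Matrix.mulVec_transpose, hBsymm, dotProduct_comm]
  have hf₁fix : ∀ a ∈ S, ∀ u v : Fin m → F,
      f₁ (((a : GL (Fin m) F) : Matrix (Fin m) (Fin m) F) *ᵥ u)
        (((a : GL (Fin m) F) : Matrix (Fin m) (Fin m) F) *ᵥ v) = f₁ u v := by
    intro a ha u v
    have := hrep.apply_mulVec ((a : GL (Fin m) F) : Matrix (Fin m) (Fin m) F) 1
      (by rw [one_smul]; exact hBfix' _ ⟨a, ha, rfl⟩) u v
    rw [one_mul] at this
    exact this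
  -- the tensor power form
  set T : Matrix (Fin t → Fin m) (Fin t → Fin m) F := pureT (fun _ : Fin t => B₀) with hT
  let 𝒮 : Set (Matrix (Fin n) (Fin n) F) :=
    {R | ∃ (i : Fin t) (a : GL (Fin m) F), a ∈ S ∧
      R = Rq (posEmb i ((a : GL (Fin m) F) : Matrix (Fin m) (Fin m) F))}
  have hcommutant : ∀ M' : Matrix (Fin n) (Fin n) F, (∀ s ∈ 𝒮, M' * s = s * M') →
      ∃ c : F, M' = c • (1 : Matrix (Fin n) (Fin n) F) := by
    intro M' hM'
    obtain ⟨c, hc'⟩ := habs.2 (Qm * M' * Qi) (by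
      rintro _ ⟨g, hg, rfl⟩
      refine commute_of_mem_iSup L (Qm * M' * Qi) ?_ g hg
      intro i y hy
      obtain ⟨a, ha, hx⟩ := h1 i y hy
      rw [hx, hRqre]
      have hcm := hM' _ ⟨i, a, ha, rfl⟩
      set X := Rq (posEmb i ((a : GL (Fin m) F) : Matrix (Fin m) (Fin m) F)) with hX
      calc Qm * M' * Qi * (Qm * X * Qi) = Qm * M' * (Qi * Qm) * X * Qi := by
            simp only [Matrix.mul_assoc]
        _ = Qm * (M' * X) * Qi := by rw [hQQ, Matrix.mul_one]; simp only [Matrix.mul_assoc]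
        _ = Qm * (X * M') * Qi := by rw [hcm]
        _ = Qm * X * (Qi * Qm) * M' * Qi := by rw [hQQ, Matrix.mul_one]; simp only [Matrix.mul_assoc]
        _ = Qm * X * Qi * (Qm * M' * Qi) := by simp only [Matrix.mul_assoc])
    refine ⟨c, ?_⟩
    calc M' = (Qi * Qm) * M' * (Qi * Qm) := by rw [hQQ, Matrix.one_mul, Matrix.mul_one]
      _ = Qi * (Qm * M' * Qi) * Qm := by simp only [Matrix.mul_assoc]
      _ = Qi * (c • (1 : Matrix (Fin n) (Fin n) F)) * Qm := by rw [hc']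
      _ = c • (1 : Matrix (Fin n) (Fin n) F) := by
          rw [Matrix.mul_smul, Matrix.mul_one, Matrix.smul_mul, hQQ]
  have hunits' : ∀ s ∈ 𝒮, IsUnit s.det := by
    rintro _ ⟨i, a, _, rfl⟩
    have h1 : Rq (posEmb i ((a : GL (Fin m) F) : Matrix (Fin m) (Fin m) F)) *
        Rq (posEmb i (((a⁻¹ : GL (Fin m) F)) : Matrix (Fin m) (Fin m) F)) = 1 := by
      rw [← map_mul, ← posEmb_mul, ← Units.val_mul, mul_inv_cancel, Units.val_one, posEmb_one, map_one]
    exact Matrix.isUnit_det_of_right_inverse h1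
  have hTdet : IsUnit (Rq T).det := by
    have : (Rq T).det = T.det := Matrix.det_reindexAlgEquiv F F e'.symm T
    rw [this]
    exact isUnit_det_pureT B₀ hBdet
  have hfixT : ∀ s ∈ 𝒮, sᵀ * Rq T * s.map (RingHom.id F) = Rq T := by
    rintro _ ⟨i, a, ha, rfl⟩
    rw [om8f_map_id, hRqT, ← map_mul, ← map_mul]
    congr 1
    have := posEmb_fixes_pureT (RingHom.id F) (t := t) i _ B₀ (hBfix' _ ⟨a, ha, rfl⟩)
    rwa [om8f_map_id] at this
  have hfixG : ∀ s ∈ 𝒮, sᵀ * G * s.map (RingHom.id F) = G := by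
    rintro _ ⟨i, a, ha, rfl⟩
    rw [om8f_map_id]
    exact hGfix i a ha
  obtain ⟨c, hcG⟩ := core (RingHom.id F) 𝒮 hcommutant hunits' (Rq T) G hTdet hfixT hfixG
  have hc0 : c ≠ 0 := by
    intro h0
    apply hGne
    rw [hcG, h0, zero_smul]
  refine ⟨f₁, hf₁symm, ⟨c, hc0, ?_⟩, hf₁fix⟩
  intro x y
  rw [polar_eq_gram hQ.quad, dot_mulVec_conj, ← hG0, ← hQm, ← hG, hcG]
  have hRqapp : ∀ j k, (Rq T) j k = T (e' j) (e' k) := fun j k => rfl
  calc (x ∘ e') ⬝ᵥ ((c • Rq T) *ᵥ (y ∘ e'))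
      = ∑ j, ∑ k, x (e' j) * (c * T (e' j) (e' k)) * (y (e' k)) := by
        simp only [dotProduct, Matrix.mulVec, Matrix.smul_apply, smul_eq_mul, Function.comp_apply,
          hRqapp, Finset.mul_sum, mul_assoc]
    _ = ∑ a, ∑ b, x a * (c * T a b) * (y b) := by
        rw [← Equiv.sum_comp e' (fun a => ∑ b, x a * (c * T a b) * (y b))]
        refine Finset.sum_congr rfl fun j _ => ?_
        rw [← Equiv.sum_comp e' (fun b => x (e' j) * (c * T (e' j) b) * (y b))]
    _ = c * ∑ a, ∑ b, x a * (∏ i, gramMatrix f₁ (a i) (b i)) * id (y b) := by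
        rw [Finset.mul_sum]
        refine Finset.sum_congr rfl fun a _ => ?_
        rw [Finset.mul_sum]
        refine Finset.sum_congr rfl fun b _ => ?_
        rw [hf₁, gramMatrix_formOf, hT, pureT_apply, id]
        ring

end Cfsg.Agent.Lib.H22.Asch
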