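/-
S5630 project, phase 2 (helper28), task P2-B8s: `SL_n` is not contained in the similarity group of a
symplectic form (n ≥ 3).  (helper22)
-/
import Cfsg.Agent.Lib.Lead.AschDefs2
import Cfsg.Agent.Lib.H28.GLBasic

set_option autoImplicit false

namespace Cfsg.Agent.Lib.H22.AschP2

open Cfsg Cfsg.Geo Cfsg.Agent.Lib.Lead.Asch Cfsg.Agent.Lib.H28
open scoped MatrixGroups Matrix Kronecker

variable {F : Type*} [Field F] {n : ℕ}

/-- For `n ≥ 3` and two vectors `a`, `b` there are `v` and a functional `φ` vanishing at `a` and `b`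
with `φ v = 1`. -/
theorem exists_tv_data (hn : 3 ≤ n) (a b : Fin n → F) :
    ∃ (v : Fin n → F) (φ : Module.Dual F (Fin n → F)), φ a = 0 ∧ φ b = 0 ∧ φ v = 1 := by
  classical
  set S : Submodule F (Fin n → F) := Submodule.span F (({a, b} : Finset (Fin n → F)) : Set (Fin n → F))
    with hS
  have hne : S ≠ ⊤ := by
    intro htop
    have h1 : Module.finrank F S ≤ 2 :=
      (finrank_span_finset_le_card ({a, b} : Finset (Fin n → F))).trans Finset.card_le_two
    rw [htop, finrank_top, Module.finrank_fin_fun] at h1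
    omega
  obtain ⟨v, -, hv⟩ := SetLike.exists_of_lt (lt_top_iff_ne_top.mpr hne)
  obtain ⟨φ₀, hφv, hker⟩ := Submodule.exists_le_ker_of_notMem hv
  have ha : φ₀ a = 0 := hker (Submodule.subset_span (by simp))
  have hb : φ₀ b = 0 := hker (Submodule.subset_span (by simp))
  refine ⟨v, (φ₀ v)⁻¹ • φ₀, ?_, ?_, ?_⟩
  · simp [ha]
  · simp [hb]
  · simp [inv_mul_cancel₀ hφv]

/-- **P2-B8s**. -/
theorem not_sl_le_similarityGroup_symplectic [Fintype F] (hn : 3 ≤ n)
    (f : (Fin n → F) → (Fin n → F) → F)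
    (hf : IsSymplecticForm f) : ¬ specialLinear (Fin n) F ≤ similarityGroup f := by
  intro h
  have hn0 : 0 < n := by omega
  -- a non-zero vector and a partner
  set a : Fin n → F := Pi.single ⟨0, hn0⟩ 1 with ha
  have ha0 : a ≠ 0 := by
    intro h0
    have := congrFun h0 ⟨0, hn0⟩
    simp [ha] at this
  obtain ⟨b, hab⟩ := (hf.nondegenerate a ha0).2
  obtain ⟨v, φ, hφa, hφb, hφv⟩ := exists_tv_data hn a b
  obtain ⟨μ, hμ⟩ := h (tvGL_mem_specialLinear φ a hφa)
  have hτa : ((tvGL φ a hφa : GL (Fin n) F) : Matrix (Fin n) (Fin n) F) *ᵥ a = a := by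
    rw [tvGL_mulVec, hφa, zero_smul, add_zero]
  have hτb : ((tvGL φ a hφa : GL (Fin n) F) : Matrix (Fin n) (Fin n) F) *ᵥ b = b := by
    rw [tvGL_mulVec, hφb, zero_smul, add_zero]
  have hτv : ((tvGL φ a hφa : GL (Fin n) F) : Matrix (Fin n) (Fin n) F) *ᵥ v = v + a := by
    rw [tvGL_mulVec, hφv, one_smul]
  have hμ1 : (μ : F) = 1 := by
    have := hμ a b
    rw [hτa, hτb] at this
    have h2 : ((μ : F) - 1) * f a b = 0 := by rw [sub_mul, one_mul, ← this, sub_self]
    rcases mul_eq_zero.mp h2 with h3 | h3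
    · exact sub_eq_zero.mp h3
    · exact absurd h3 hab
  have h3 := hμ b v
  rw [hτb, hτv, hμ1, one_mul, hf.bilinear.add_right] at h3
  have h4 : f b a = 0 := by
    have := add_eq_left.mp h3
    exact this
  rw [hf.skew] at h4
  exact hab (neg_eq_zero.mp h4)

end Cfsg.Agent.Lib.H22.AschP2
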