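/-
S5630 project, phase 2 (helper28), task P2-B8q: `SL_n` is not contained in the similarity group of a
non-degenerate quadratic form (n ≥ 3).  (helper22)
-/
import Cfsg.Agent.Lib.H22.AschP2B8s

set_option autoImplicit false

namespace Cfsg.Agent.Lib.H22.AschP2

open Cfsg Cfsg.Geo Cfsg.Agent.Lib.Lead.Asch Cfsg.Agent.Lib.H28
open scoped MatrixGroups Matrix Kronecker

variable {F : Type*} [Field F] {n : ℕ}

/-- **P2-B8q**. -/
theorem not_sl_le_quadSimilarityGroup [Fintype F] (hn : 3 ≤ n) (Q : (Fin n → F) → F)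
    (hQ : IsNondegenerateQuadraticForm Q) : ¬ specialLinear (Fin n) F ≤ quadSimilarityGroup Q := by
  intro h
  have hn0 : 0 < n := by omega
  have hpol : ∀ x y, Q (x + y) = Q x + Q y + QuadraticMap.polar Q x y := by
    intro x y
    unfold QuadraticMap.polar
    ring
  set a : Fin n → F := Pi.single ⟨0, hn0⟩ 1 with ha
  have ha0 : a ≠ 0 := by
    intro h0
    have := congrFun h0 ⟨0, hn0⟩
    simp [ha] at this
  obtain ⟨b, hab⟩ := (hQ.nondegenerate a ha0).2
  obtain ⟨v, φ, hφa, hφb, hφv⟩ := exists_tv_data hn a b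
  obtain ⟨μ, hμ⟩ := h (tvGL_mem_specialLinear φ a hφa)
  have hτ0 : ∀ x, φ x = 0 →
      ((tvGL φ a hφa : GL (Fin n) F) : Matrix (Fin n) (Fin n) F) *ᵥ x = x := by
    intro x hx
    rw [tvGL_mulVec, hx, zero_smul, add_zero]
  have hτ1 : ∀ x, φ x = 1 →
      ((tvGL φ a hφa : GL (Fin n) F) : Matrix (Fin n) (Fin n) F) *ᵥ x = x + a := by
    intro x hx
    rw [tvGL_mulVec, hx, one_smul]
  -- μ = 1
  have hfix : ∀ x, φ x = 0 → Q x ≠ 0 → (μ : F) = 1 := by
    intro x hx hQx
    have := hμ x
    rw [hτ0 x hx] at this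
    have h2 : ((μ : F) - 1) * Q x = 0 := by rw [sub_mul, one_mul, ← this, sub_self]
    rcases mul_eq_zero.mp h2 with h3 | h3
    · exact sub_eq_zero.mp h3
    · exact absurd h3 hQx
  have hμ1 : (μ : F) = 1 := by
    by_cases h1 : Q a = 0
    · by_cases h2 : Q b = 0
      · refine hfix (a + b) (by rw [map_add, hφa, hφb, add_zero]) ?_
        rw [hpol, h1, h2, zero_add, zero_add]
        exact hab
      · exact hfix b hφb h2
    · exact hfix a hφa h1
  -- the two relations
  have hrel : ∀ x, φ x = 1 → QuadraticMap.polar Q x a + Q a = 0 := by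
    intro x hx
    have := hμ x
    rw [hτ1 x hx, hμ1, one_mul, hpol] at this
    have h2 : Q x + (Q a + QuadraticMap.polar Q x a) = Q x := by rw [← add_assoc]; exact this
    have h3 := add_eq_left.mp h2
    rw [add_comm]; exact h3
  have h1 := hrel v hφv
  have h2 := hrel (v + b) (by rw [map_add, hφv, hφb, add_zero])
  rw [hQ.polar_bilinear.add_left] at h2
  have h3 : QuadraticMap.polar Q b a = 0 := by
    have : QuadraticMap.polar Q v a + QuadraticMap.polar Q b a + Q a
        = (QuadraticMap.polar Q v a + Q a) + QuadraticMap.polar Q b a := by ring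
    rw [this, h1, zero_add] at h2
    exact h2
  rw [QuadraticMap.polar_comm] at h3
  exact hab h3

end Cfsg.Agent.Lib.H22.AschP2
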