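/-
S5630 project, phase 2 (helper28), task P2-B8u: `SL_n` is not contained in the similarity group of a
unitary form (n ≥ 3).  (helper22)
-/
import Cfsg.Agent.Lib.H22.AschP2B8s

set_option autoImplicit false

namespace Cfsg.Agent.Lib.H22.AschP2

open Cfsg Cfsg.Geo Cfsg.Agent.Lib.Lead.Asch Cfsg.Agent.Lib.H28
open scoped MatrixGroups Matrix Kronecker

variable {F : Type*} [Field F] {n : ℕ}

/-- **P2-B8u**. -/
theorem not_sl_le_similarityGroup_unitary [Fintype F] (hn : 3 ≤ n) (σ : F ≃+* F)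
    (f : (Fin n → F) → (Fin n → F) → F)
    (hf : IsUnitaryForm σ f) : ¬ specialLinear (Fin n) F ≤ similarityGroup f := by
  intro h
  have hn0 : 0 < n := by omega
  have hadd_right : ∀ v x y, f v (x + y) = f v x + f v y := by
    intro v x y
    rw [hf.herm v (x + y), hf.add_left, map_add, ← hf.herm, ← hf.herm]
  set a : Fin n → F := Pi.single ⟨0, hn0⟩ 1 with ha
  have ha0 : a ≠ 0 := by
    intro h0
    have := congrFun h0 ⟨0, hn0⟩
    simp [ha] at this
  obtain ⟨b, hab⟩ := (hf.nondegenerate a ha0).2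
  obtain ⟨v, φ, hφa, hφb, hφv⟩ := exists_tv_data hn a b
  obtain ⟨μ, hμ⟩ := h (tvGL_mem_specialLinear φ a hφa)
  have hτa : ((tvGL φ a hφa : GL (Fin n) F) : Matrix (Fin n) (Fin n) F) *ᵥ a = a := by
    rw [tvGL_mulVec, hφa, zero_smul, add_zero]
  have hτb : ((tvGL φ a hφa : GL (Fin n) F) : Matrix (Fin n) (Fin n) F) *ᵥ b = b := by
    rw [tvGL_mulVec, hφb, zero_smul, add_zero]
  have hτv : ((tvGL φ a hφa : GL (Fin n) F) : Matrix (Fin n) (Fin n) F) *ᵥ v = v + a := by
    rw [tvGL_mulVec, hφv, one_smul]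
  have hμ1 : (μ : F) = 1 := by
    have := hμ a b
    rw [hτa, hτb] at this
    have h2 : ((μ : F) - 1) * f a b = 0 := by rw [sub_mul, one_mul, ← this, sub_self]
    rcases mul_eq_zero.mp h2 with h3 | h3
    · exact sub_eq_zero.mp h3
    · exact absurd h3 hab
  have h3 := hμ b v
  rw [hτb, hτv, hμ1, one_mul, hadd_right] at h3
  have h4 : f b a = 0 := add_eq_left.mp h3
  rw [hf.herm] at h4
  have h5 : f a b = 0 := by
    have := congrArg σ h4
    rwa [hf.involutive, map_zero] at this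
  exact hab h5

end Cfsg.Agent.Lib.H22.AschP2
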