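/-
S5630 project, phase 2 (helper28), stretch task P2-E4: the monomial subgroup of `SL_4(5)` is not maximal.
(helper22; the idea of using Klein's invariant of degree 8 is due to helper21.)

`klein8 x = 7 (∑ xᵢ⁴)² - 6 ∑ xᵢ⁸ + 168 (∏ xᵢ)²` is invariant (over a field with 5 elements) under monomial
matrices of determinant 1 and under `3 • S`, `S` the Sylvester-Hadamard matrix of order 4, but not under
all transvections.  So the stabiliser of `klein8` in `SL_4(5)` lies strictly between.
-/
import Cfsg.Agent.Lib.Lead.AschDefs2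
import Cfsg.Agent.Lib.H28.GLBasic
import Cfsg.Agent.Lib.H20.AschP2E0

set_option autoImplicit false

namespace Cfsg.Agent.Lib.H22.AschP2

open Cfsg Cfsg.Geo Cfsg.Agent.Lib.Lead.Asch Cfsg.Agent.Lib.H28 Cfsg.Agent.Lib.H20.AschP2
open scoped MatrixGroups Matrix Kronecker

variable {F : Type*} [Field F]

/-- Klein's invariant of degree 8 (of the group `4 ∘ 2^{1+4}.S_6`). -/
def klein8 (x : Fin 4 → F) : F :=
  7 * (∑ i, x i ^ 4) ^ 2 - 6 * ∑ i, x i ^ 8 + 168 * (∏ i, x i) ^ 2

theorem klein8_eq (x : Fin 4 → F) : klein8 x =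
    7 * (x 0 ^ 4 + x 1 ^ 4 + x 2 ^ 4 + x 3 ^ 4) ^ 2 - 6 * (x 0 ^ 8 + x 1 ^ 8 + x 2 ^ 8 + x 3 ^ 8)
      + 168 * (x 0 * x 1 * x 2 * x 3) ^ 2 := by
  unfold klein8
  rw [Fin.sum_univ_four, Fin.sum_univ_four, Fin.prod_univ_four]

/-- three times the Sylvester-Hadamard matrix of order 4 -/
def had3 : Matrix (Fin 4) (Fin 4) F := !![3, 3, 3, 3; 3, 3, -3, -3; 3, -3, -3, 3; 3, -3, 3, -3]

theorem had3_mulVec (x : Fin 4 → F) : (had3 : Matrix (Fin 4) (Fin 4) F) *ᵥ x =
    ![3 * (x 0 + x 1 + x 2 + x 3), 3 * (x 0 + x 1 - x 2 - x 3), 3 * (x 0 - x 1 - x 2 + x 3),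
      3 * (x 0 - x 1 + x 2 - x 3)] := by
  ext i
  fin_cases i <;> simp [had3, Matrix.mulVec, dotProduct, Fin.sum_univ_four] <;> ring

theorem klein8_had3 (h5 : (5 : F) = 0) (x : Fin 4 → F) :
    klein8 ((had3 : Matrix (Fin 4) (Fin 4) F) *ᵥ x) = klein8 x := by
  rw [had3_mulVec, klein8_eq, klein8_eq]
  simp only [Matrix.cons_val_zero, Matrix.cons_val_one, Matrix.cons_val]
  linear_combination (335923 * (7 * (x 0 ^ 4 + x 1 ^ 4 + x 2 ^ 4 + x 3 ^ 4) ^ 2
    - 6 * (x 0 ^ 8 + x 1 ^ 8 + x 2 ^ 8 + x 3 ^ 8) + 168 * (x 0 * x 1 * x 2 * x 3) ^ 2)) * h5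

theorem had3_mul_self (h5 : (5 : F) = 0) : (had3 : Matrix (Fin 4) (Fin 4) F) * had3 = 1 := by
  ext i j
  fin_cases i <;> fin_cases j <;>
    simp [had3, Matrix.mul_apply, Fin.sum_univ_four, Matrix.one_apply] <;>
    first | linear_combination (7 : F) * h5 | ring

theorem had3_det (h5 : (5 : F) = 0) : (had3 : Matrix (Fin 4) (Fin 4) F).det = 1 := by
  have h : (had3 : Matrix (Fin 4) (Fin 4) F).det = 1296 := by
    unfold had3
    rw [Matrix.det_succ_row_zero]
    simp [Fin.sum_univ_succ, Matrix.det_fin_three, Matrix.submatrix_apply, Fin.succAbove]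
    norm_num
  rw [h]
  linear_combination (259 : F) * h5

/-- The stabiliser of Klein's invariant (in the coordinates of the basis `b`) in `SL_4`. -/
def kleinGroup (b : Module.Basis (Fin 4) F (Fin 4 → F)) : Subgroup (GL (Fin 4) F) where
  carrier := {g | g ∈ specialLinear (Fin 4) F ∧
    ∀ v, klein8 (b.repr ((g : Matrix (Fin 4) (Fin 4) F) *ᵥ v)) = klein8 (b.repr v)}
  mul_mem' := by
    rintro g h ⟨hg1, hg2⟩ ⟨hh1, hh2⟩
    refine ⟨mul_mem hg1 hh1, fun v => ?_⟩
    rw [Units.val_mul, ← Matrix.mulVec_mulVec, hg2, hh2]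
  one_mem' := ⟨one_mem _, fun v => by simp⟩
  inv_mem' := by
    rintro g ⟨hg1, hg2⟩
    refine ⟨inv_mem hg1, fun v => ?_⟩
    have := hg2 (((g⁻¹ : GL (Fin 4) F) : Matrix (Fin 4) (Fin 4) F) *ᵥ v)
    rw [Matrix.mulVec_mulVec, ← Units.val_mul, mul_inv_cancel, Units.val_one, Matrix.one_mulVec] at this
    exact this.symm

/-- **P2-E4**. -/
theorem c2_m1_q5_n4 [Fintype F] (D : Fin 4 → Submodule F (Fin 4 → F)) (hD : IsMDecomposition 1 D)
    (hq : Fintype.card F = 5) :
    ¬ IsMaximalIn (specialLinear (Fin 4) F) (decompositionStabilizer D ⊓ specialLinear (Fin 4) F) := by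
  classical
  intro hmax
  obtain ⟨b, hbD, hmono⟩ := exists_basis_of_lines D hD
  have h5 : (5 : F) = 0 := by
    have := Nat.cast_card_eq_zero F
    rw [hq] at this
    exact_mod_cast this
  have h10 : (1 : F) ≠ 0 := one_ne_zero
  -- (1) monomial matrices of determinant one preserve the invariant
  have h1 : decompositionStabilizer D ⊓ specialLinear (Fin 4) F ≤ kleinGroup b := by
    rintro g ⟨hg, hgdet⟩
    refine ⟨hgdet, fun v => ?_⟩
    obtain ⟨σ, c, hc0, hgb, hrepr⟩ := hmono g hg
    have hdet1 : (g : Matrix (Fin 4) (Fin 4) F).det = 1 := (mem_specialLinear_iff g).mp hgdet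
    have hc4 : ∀ i, c i ^ 4 = 1 := by
      intro i
      have := FiniteField.pow_card_sub_one_eq_one (c i) (hc0 i)
      rw [hq] at this
      exact this
    have hM : LinearMap.toMatrix b b (Matrix.toLin' (g : Matrix (Fin 4) (Fin 4) F))
        = (Matrix.diagonal c).submatrix σ.symm id := by
      ext j i
      rw [LinearMap.toMatrix_apply, Matrix.toLin'_apply, hgb, map_smul, Finsupp.smul_apply,
        Module.Basis.repr_self, Matrix.submatrix_apply, id, Matrix.diagonal_apply, smul_eq_mul,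
        Finsupp.single_apply]
      by_cases h : σ i = j
      · subst h
        simp
      · rw [if_neg h, if_neg, mul_zero]
        intro h2
        apply h
        rw [← h2, Equiv.apply_symm_apply]
    have hdetM : (LinearMap.toMatrix b b (Matrix.toLin' (g : Matrix (Fin 4) (Fin 4) F))).det = 1 := by
      rw [LinearMap.det_toMatrix, LinearMap.det_toLin', hdet1]
    rw [hM, Matrix.det_permute, Matrix.det_diagonal] at hdetM
    have hprod : (∏ i, c i) ^ 2 = 1 := by
      rcases Int.units_eq_one_or (Equiv.Perm.sign σ.symm) with hs | hs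
      · rw [hs] at hdetM
        simp only [Units.val_one, Int.cast_one, one_mul] at hdetM
        rw [hdetM, one_pow]
      · rw [hs] at hdetM
        simp only [Units.val_neg, Units.val_one, Int.cast_neg, Int.cast_one, neg_mul, one_mul] at hdetM
        have : (∏ i, c i) = -1 := by linear_combination -hdetM
        rw [this]
        ring
    set x : Fin 4 → F := fun i => b.repr v i with hx
    set y : Fin 4 → F := fun i => b.repr ((g : Matrix (Fin 4) (Fin 4) F) *ᵥ v) i with hy
    have hyx : ∀ i, y (σ i) = c i * x i := fun i => hrepr v i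
    have hs4 : ∑ j, y j ^ 4 = ∑ i, x i ^ 4 := by
      rw [← Equiv.sum_comp σ]
      refine Finset.sum_congr rfl fun i _ => ?_
      rw [hyx, mul_pow, hc4, one_mul]
    have hs8 : ∑ j, y j ^ 8 = ∑ i, x i ^ 8 := by
      rw [← Equiv.sum_comp σ]
      refine Finset.sum_congr rfl fun i _ => ?_
      have : c i ^ 8 = 1 := by
        have h8 : c i ^ 8 = (c i ^ 4) ^ 2 := by ring
        rw [h8, hc4, one_pow]
      rw [hyx, mul_pow, this, one_mul]
    have hp : ∏ j, y j = (∏ i, c i) * ∏ i, x i := by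
      rw [← Equiv.prod_comp σ, ← Finset.prod_mul_distrib]
      exact Finset.prod_congr rfl fun i _ => hyx i
    show klein8 y = klein8 x
    unfold klein8
    rw [hs4, hs8, hp, mul_pow, hprod, one_mul]
  have hK : kleinGroup b ≤ specialLinear (Fin 4) F := fun g hg => hg.1
  rcases hmax.2 (kleinGroup b) h1 hK with h | h
  · -- (2) the Hadamard element lies in the Klein group but is not monomial
    have hinv : Function.Involutive (Matrix.toLin b b (had3 : Matrix (Fin 4) (Fin 4) F)) := by
      intro v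
      have := Matrix.toLin_mul b b b (had3 : Matrix (Fin 4) (Fin 4) F) had3
      rw [had3_mul_self h5, Matrix.toLin_one] at this
      have h2 := congrArg (fun T : (Fin 4 → F) →ₗ[F] (Fin 4 → F) => T v) this
      simp only [LinearMap.id_coe, id_eq, LinearMap.coe_comp, Function.comp_apply] at h2
      exact h2.symm
    set e0 : (Fin 4 → F) ≃ₗ[F] (Fin 4 → F) :=
      LinearEquiv.ofInvolutive (Matrix.toLin b b (had3 : Matrix (Fin 4) (Fin 4) F)) hinv with he0
    have he0app : ∀ v, e0 v = Matrix.toLin b b (had3 : Matrix (Fin 4) (Fin 4) F) v := fun v => rfl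
    set g0 : GL (Fin 4) F := glOfEquiv e0 with hg0
    have hg0v : ∀ v, b.repr ((g0 : Matrix (Fin 4) (Fin 4) F) *ᵥ v)
        = (had3 : Matrix (Fin 4) (Fin 4) F) *ᵥ (b.repr v) := by
      intro v
      rw [hg0, glOfEquiv_mulVec, he0app, Matrix.repr_toLin]
    have hg0K : g0 ∈ kleinGroup b := by
      refine ⟨?_, fun v => ?_⟩
      · rw [mem_specialLinear_iff, hg0, glOfEquiv_det]
        have : ((e0 : (Fin 4 → F) ≃ₗ[F] (Fin 4 → F)) : (Fin 4 → F) →ₗ[F] (Fin 4 → F))
            = Matrix.toLin b b (had3 : Matrix (Fin 4) (Fin 4) F) := LinearMap.ext fun v => rfl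
        rw [this, LinearMap.det_toLin, had3_det h5]
      · rw [hg0v, klein8_had3 h5]
    rw [h] at hg0K
    obtain ⟨σ, c, hc0, hgb, hrepr⟩ := hmono g0 hg0K.1
    have h3 := hrepr (b 0) 1
    have h4 := congrFun (hg0v (b 0)) (σ 1)
    rw [h3, had3_mulVec] at h4
    simp only [Module.Basis.repr_self, Finsupp.single_apply] at h4
    have h30 : (3 : F) = 0 := by
      have hcases : ∀ j : Fin 4, (![3 * ((1 : F) + 0 + 0 + 0), 3 * ((1 : F) + 0 - 0 - 0),
          3 * ((1 : F) - 0 - 0 + 0), 3 * ((1 : F) - 0 + 0 - 0)] : Fin 4 → F) j = 3 := by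
        intro j
        fin_cases j <;> simp
      have h6 := hcases (σ 1)
      simp only [Fin.isValue, one_ne_zero, if_false, if_true, mul_zero] at h4
      simp at h4
      simp at h6
      rw [h6] at h4
      exact h4.symm
    apply h10
    linear_combination (2 : F) * h30 - h5
  · -- (3) a transvection in `SL_4` which does not preserve the invariant
    have hφ : b.coord 1 (b 0) = 0 := by
      rw [Module.Basis.coord_apply, Module.Basis.repr_self, Finsupp.single_apply, if_neg (by decide)]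
    have ht : tvGL (b.coord 1) (b 0) hφ ∈ kleinGroup b := by
      rw [h]
      exact tvGL_mem_specialLinear _ _ _
    set w : Fin 4 → F := -b 0 + b 1 + b 2 + b 3 with hw
    have h6 := ht.2 w
    rw [tvGL_mulVec, klein8_eq, klein8_eq] at h6
    have hw0 : b.repr w 0 = -1 := by simp [hw, Finsupp.single_apply]
    have hw1 : b.repr w 1 = 1 := by simp [hw, Finsupp.single_apply]
    have hw2 : b.repr w 2 = 1 := by simp [hw, Finsupp.single_apply]
    have hw3 : b.repr w 3 = 1 := by simp [hw, Finsupp.single_apply]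
    have hc1 : b.coord 1 w = 1 := by rw [Module.Basis.coord_apply, hw1]
    rw [hc1, one_smul] at h6
    have hz0 : b.repr (w + b 0) 0 = 0 := by
      rw [map_add, Finsupp.add_apply, hw0]; simp
    have hz1 : b.repr (w + b 0) 1 = 1 := by
      rw [map_add, Finsupp.add_apply, hw1]; simp [Finsupp.single_apply]
    have hz2 : b.repr (w + b 0) 2 = 1 := by
      rw [map_add, Finsupp.add_apply, hw2]; simp [Finsupp.single_apply]
    have hz3 : b.repr (w + b 0) 3 = 1 := by
      rw [map_add, Finsupp.add_apply, hw3]; simp [Finsupp.single_apply]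
    rw [hz0, hz1, hz2, hz3, hw0, hw1, hw2, hw3] at h6
    apply h10
    linear_combination (-1 : F) * h6 - 42 * h5

end Cfsg.Agent.Lib.H22.AschP2
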