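/-
S5630 project, phase 2 (helper28), stretch task P2-E6: over `F₃`, in dimension 4, the stabiliser in `SL_4(3)` of a
decomposition into two 2-dimensional blocks consists of similarities of a symplectic form.  (helper22)
(The set-up follows helper2's `c2_m2_q2`.)
-/
import Cfsg.Agent.Lib.Lead.AschDefs2
import Cfsg.Agent.Lib.H28.GLBasic

set_option autoImplicit false

namespace Cfsg.Agent.Lib.H22.AschP2

open Cfsg Cfsg.Geo Cfsg.Agent.Lib.Lead.Asch Cfsg.Agent.Lib.H28
open scoped MatrixGroups Matrix Kronecker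

variable {F : Type*} [Field F] [Fintype F]

theorem eq_one_or_neg_one_of_card_three (hq : Fintype.card F = 3) (a : F) (ha : a ≠ 0) :
    a = 1 ∨ a = -1 := by
  have h := FiniteField.pow_card_sub_one_eq_one a ha
  rw [hq] at h
  have h2 : (a - 1) * (a + 1) = 0 := by
    have : a ^ 2 = 1 := h
    linear_combination this
  rcases mul_eq_zero.mp h2 with h3 | h3
  · left; exact sub_eq_zero.mp h3
  · right; exact eq_neg_of_add_eq_zero_left h3

theorem two_ne_zero_of_card_three (hq : Fintype.card F = 3) : (2 : F) ≠ 0 := by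
  intro h2
  have hc : (Fintype.card F : F) = 0 := Nat.cast_card_eq_zero F
  rw [hq] at hc
  have h3' : ((3 : ℕ) : F) = 2 + 1 := by norm_num
  rw [h3', h2, zero_add] at hc
  exact one_ne_zero hc

/-- the permutation of the index set of the collected basis induced by a permutation of the blocks -/
def blockPerm (σ : Equiv.Perm (Fin 2)) : Equiv.Perm ((_ : Fin 2) × Fin 2) where
  toFun a := ⟨σ.symm a.1, a.2⟩
  invFun a := ⟨σ a.1, a.2⟩
  left_inv a := by simp
  right_inv a := by simp

theorem sign_blockPerm (σ : Equiv.Perm (Fin 2)) : Equiv.Perm.sign (blockPerm σ) = 1 := by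
  have h : σ = 1 ∨ σ = Equiv.swap 0 1 := by
    revert σ
    decide
  rcases h with rfl | rfl
  · have : blockPerm 1 = 1 := by
      apply Equiv.ext
      rintro ⟨i, k⟩
      rfl
    rw [this, Equiv.Perm.sign_one]
  · have : blockPerm (Equiv.swap 0 1) =
        Equiv.swap (⟨0, 0⟩ : (_ : Fin 2) × Fin 2) ⟨1, 0⟩ * Equiv.swap (⟨0, 1⟩ : (_ : Fin 2) × Fin 2) ⟨1, 1⟩ := by
      apply Equiv.ext
      rintro ⟨i, k⟩
      fin_cases i <;> fin_cases k <;> decide
    rw [this, Equiv.Perm.sign_mul, Equiv.Perm.sign_swap (by decide), Equiv.Perm.sign_swap (by decide)]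
    rfl

theorem det_blockDiagonal'_const {o m R : Type*} [Fintype o] [DecidableEq o] [Fintype m]
    [DecidableEq m] [CommRing R] (M : o → Matrix m m R) :
    (Matrix.blockDiagonal' M).det = ∏ k, (M k).det := by
  have h : Matrix.blockDiagonal' M = (Matrix.blockDiagonal M).submatrix
      ((Equiv.sigmaEquivProd o m).trans (Equiv.prodComm o m))
      ((Equiv.sigmaEquivProd o m).trans (Equiv.prodComm o m)) := by
    ext ⟨k, i⟩ ⟨k', j⟩
    rw [Matrix.submatrix_apply]
    exact (Matrix.blockDiagonal'_eq_blockDiagonal M i j).symm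
  rw [h, Matrix.det_submatrix_equiv_self, Matrix.det_blockDiagonal]

/-- **P2-E6**. -/
theorem c2_m2_q3_n4 (D : Fin 2 → Submodule F (Fin 4 → F)) (hD : IsMDecomposition 2 D)
    (hq : Fintype.card F = 3) :
    ∃ f : (Fin 4 → F) → (Fin 4 → F) → F, IsSymplecticForm f ∧
      decompositionStabilizer D ⊓ specialLinear (Fin 4) F ≤ similarityGroup f := by
  classical
  have hint := DirectSum.isInternal_submodule_of_iSupIndep_of_iSup_eq_top hD.indep hD.iSup_eq_top
  let b : ∀ i, Module.Basis (Fin 2) F (D i) := fun i =>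
    Module.finBasisOfFinrankEq F (D i) (hD.finrank_eq i)
  let B := hint.collectedBasis b
  have hBmem : ∀ (i : Fin 2) (k : Fin 2), B ⟨i, k⟩ ∈ D i := fun i k =>
    hint.collectedBasis_mem b ⟨i, k⟩
  let f : (Fin 4 → F) → (Fin 4 → F) → F := fun u v =>
    ∑ i : Fin 2, (B.repr u ⟨i, 0⟩ * B.repr v ⟨i, 1⟩ - B.repr u ⟨i, 1⟩ * B.repr v ⟨i, 0⟩)
  have hfdef : ∀ u v, f u v =
    ∑ i : Fin 2, (B.repr u ⟨i, 0⟩ * B.repr v ⟨i, 1⟩ - B.repr u ⟨i, 1⟩ * B.repr v ⟨i, 0⟩) := fun _ _ => rfl
  have hskew : ∀ u v, f u v = - f v u := by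
    intro u v
    rw [hfdef, hfdef, ← Finset.sum_neg_distrib]
    refine Finset.sum_congr rfl fun i _ => ?_
    ring
  refine ⟨f, ⟨⟨?_, ?_, ?_, ?_⟩, hskew, ?_, ?_⟩, ?_⟩
  · intro x y v
    rw [hfdef, hfdef, hfdef, ← Finset.sum_add_distrib]
    refine Finset.sum_congr rfl fun i _ => ?_
    rw [map_add, Finsupp.add_apply, Finsupp.add_apply]
    ring
  · intro c x v
    rw [hfdef, hfdef, Finset.mul_sum]
    refine Finset.sum_congr rfl fun i _ => ?_
    rw [map_smul, Finsupp.smul_apply, Finsupp.smul_apply, smul_eq_mul, smul_eq_mul]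
    ring
  · intro v x y
    rw [hfdef, hfdef, hfdef, ← Finset.sum_add_distrib]
    refine Finset.sum_congr rfl fun i _ => ?_
    rw [map_add, Finsupp.add_apply, Finsupp.add_apply]
    ring
  · intro c v x
    rw [hfdef, hfdef, Finset.mul_sum]
    refine Finset.sum_congr rfl fun i _ => ?_
    rw [map_smul, Finsupp.smul_apply, Finsupp.smul_apply, smul_eq_mul, smul_eq_mul]
    ring
  · intro v
    rw [hfdef]
    refine Finset.sum_eq_zero fun i _ => ?_
    ring
  · -- nondegenerate
    intro v hv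
    have hrepr : B.repr v ≠ 0 := fun h => hv (by simpa using h)
    obtain ⟨a, ha⟩ : ∃ a, B.repr v a ≠ 0 := by
      by_contra hcon
      push Not at hcon
      exact hrepr (Finsupp.ext hcon)
    obtain ⟨i, k⟩ := a
    have hex : ∃ x, f x v ≠ 0 := by
      have hk : k = 0 ∨ k = 1 := by
        rcases k with ⟨k, hk⟩
        interval_cases k
        · left; rfl
        · right; rfl
      rcases hk with rfl | rfl
      · refine ⟨B ⟨i, 1⟩, ?_⟩
        rw [hfdef]
        rw [Finset.sum_eq_single i]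
        · simp only [Module.Basis.repr_self]
          rw [Finsupp.single_apply, Finsupp.single_apply]
          simpa using ha
        · intro j _ hji
          simp only [Module.Basis.repr_self]
          rw [Finsupp.single_apply, Finsupp.single_apply]
          have h1 : ¬ ((⟨i, 1⟩ : (_ : Fin 2) × Fin 2) = ⟨j, 0⟩) := by
            intro h; exact hji (congrArg Sigma.fst h).symm
          have h2' : ¬ ((⟨i, 1⟩ : (_ : Fin 2) × Fin 2) = ⟨j, 1⟩) := by
            intro h; exact hji (congrArg Sigma.fst h).symm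
          rw [if_neg h1, if_neg h2']
          ring
        · intro h; exact absurd (Finset.mem_univ i) h
      · refine ⟨B ⟨i, 0⟩, ?_⟩
        rw [hfdef]
        rw [Finset.sum_eq_single i]
        · simp only [Module.Basis.repr_self]
          rw [Finsupp.single_apply, Finsupp.single_apply]
          simpa using ha
        · intro j _ hji
          simp only [Module.Basis.repr_self]
          rw [Finsupp.single_apply, Finsupp.single_apply]
          have h1 : ¬ ((⟨i, 0⟩ : (_ : Fin 2) × Fin 2) = ⟨j, 0⟩) := by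
            intro h; exact hji (congrArg Sigma.fst h).symm
          have h2' : ¬ ((⟨i, 0⟩ : (_ : Fin 2) × Fin 2) = ⟨j, 1⟩) := by
            intro h; exact hji (congrArg Sigma.fst h).symm
          rw [if_neg h1, if_neg h2']
          ring
        · intro h; exact absurd (Finset.mem_univ i) h
    obtain ⟨x, hx⟩ := hex
    refine ⟨⟨x, hx⟩, ⟨x, ?_⟩⟩
    rw [hskew]
    exact neg_ne_zero.mpr hx
  · -- invariance
    rintro g ⟨hg, hgdet⟩
    obtain ⟨σ, hσ⟩ := hg
    have hdet1 : (g : Matrix (Fin 4) (Fin 4) F).det = 1 := (mem_specialLinear_iff g).mp hgdet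
    set L : (Fin 4 → F) →ₗ[F] (Fin 4 → F) := Matrix.toLin' (g : Matrix (Fin 4) (Fin 4) F) with hL
    have hLapp : ∀ w, (g : Matrix (Fin 4) (Fin 4) F) *ᵥ w = L w := fun w => by
      rw [hL, Matrix.toLin'_apply]
    have hLmem : ∀ (i : Fin 2) (w : Fin 4 → F), w ∈ D i → L w ∈ D (σ i) := by
      intro i w hw
      rw [← hσ i]
      exact ⟨w, hw, rfl⟩
    let C : Fin 2 → Fin 2 → Fin 2 → F := fun i l k => B.repr (L (B ⟨i, k⟩)) ⟨σ i, l⟩
    have hzero : ∀ (j i : Fin 2) (k l : Fin 2), j ≠ i → B.repr (L (B ⟨j, k⟩)) ⟨σ i, l⟩ = 0 := by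
      intro j i k l hji
      have hne : σ j ≠ σ i := fun h => hji (σ.injective h)
      exact hint.collectedBasis_repr_of_mem_ne b (x := L (B ⟨j, k⟩)) (i := σ j) (j := σ i) (a := l)
        hne (hLmem j _ (hBmem j k))
    have key : ∀ (u : Fin 4 → F) (i : Fin 2) (l : Fin 2),
        B.repr (L u) ⟨σ i, l⟩ = C i l 0 * B.repr u ⟨i, 0⟩ + C i l 1 * B.repr u ⟨i, 1⟩ := by
      intro u i l
      have hu : u = ∑ a, B.repr u a • B a := (B.sum_repr u).symm
      conv_lhs => rw [hu]
      rw [map_sum, map_sum, Finsupp.finsetSum_apply, Fintype.sum_sigma]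
      rw [Finset.sum_eq_single i]
      · rw [Fin.sum_univ_two]
        simp only [map_smul, Finsupp.smul_apply, smul_eq_mul]
        show _ = B.repr (L (B ⟨i, 0⟩)) ⟨σ i, l⟩ * _ + B.repr (L (B ⟨i, 1⟩)) ⟨σ i, l⟩ * _
        ring
      · intro j _ hji
        refine Finset.sum_eq_zero fun k _ => ?_
        simp only [map_smul, Finsupp.smul_apply, smul_eq_mul]
        show _ * B.repr (L (B ⟨j, k⟩)) ⟨σ i, l⟩ = 0
        rw [hzero j i k l hji, mul_zero]
      · intro h; exact absurd (Finset.mem_univ i) h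
    -- the determinant
    let Cm : Fin 2 → Matrix (Fin 2) (Fin 2) F := fun i => Matrix.of fun l k => C i l k
    have hM : LinearMap.toMatrix B B L = (Matrix.blockDiagonal' Cm).submatrix (blockPerm σ) id := by
      ext ⟨j, l⟩ ⟨i, k⟩
      rw [LinearMap.toMatrix_apply, Matrix.submatrix_apply]
      obtain ⟨i', rfl⟩ : ∃ i', σ i' = j := ⟨σ.symm j, by simp⟩
      have hbp : blockPerm σ ⟨σ i', l⟩ = ⟨i', l⟩ := by simp [blockPerm]
      rw [hbp, id]
      by_cases hii : i' = i
      · subst hii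
        rw [Matrix.blockDiagonal'_apply_eq]
        rfl
      · rw [Matrix.blockDiagonal'_apply_ne _ _ _ hii]
        exact hzero i i' k l (fun h => hii h.symm)
    have hdetM : (LinearMap.toMatrix B B L).det = 1 := by
      rw [LinearMap.det_toMatrix, hL, LinearMap.det_toLin', hdet1]
    rw [hM, Matrix.det_permute, sign_blockPerm, det_blockDiagonal'_const, Fin.prod_univ_two,
      Matrix.det_fin_two, Matrix.det_fin_two] at hdetM
    simp only [Units.val_one, Int.cast_one, one_mul, Cm, Matrix.of_apply] at hdetM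
    set d0 : F := C 0 0 0 * C 0 1 1 - C 0 0 1 * C 0 1 0 with hd0
    set d1 : F := C 1 0 0 * C 1 1 1 - C 1 0 1 * C 1 1 0 with hd1
    have hd0ne : d0 ≠ 0 := by
      intro h
      rw [h, zero_mul] at hdetM
      exact zero_ne_one hdetM
    have hd1ne : d1 ≠ 0 := by
      intro h
      rw [h, mul_zero] at hdetM
      exact zero_ne_one hdetM
    have hd01 : d1 = d0 := by
      rcases eq_one_or_neg_one_of_card_three hq d0 hd0ne with h0 | h0 <;>
        rcases eq_one_or_neg_one_of_card_three hq d1 hd1ne with h1 | h1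
      · rw [h0, h1]
      · exfalso
        rw [h0, h1] at hdetM
        exact two_ne_zero_of_card_three hq (by linear_combination -hdetM)
      · exfalso
        rw [h0, h1] at hdetM
        exact two_ne_zero_of_card_three hq (by linear_combination -hdetM)
      · rw [h0, h1]
    refine ⟨Units.mk0 d0 hd0ne, fun u v => ?_⟩
    rw [Units.val_mk0, hfdef, hfdef, ← Equiv.sum_comp σ, Fin.sum_univ_two, Fin.sum_univ_two]
    rw [hLapp, hLapp, key u 0 0, key u 0 1, key v 0 0, key v 0 1, key u 1 0, key u 1 1, key v 1 0,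
      key v 1 1]
    have e0 : C 0 0 0 * C 0 1 1 - C 0 0 1 * C 0 1 0 = d0 := rfl
    have e1 : C 1 0 0 * C 1 1 1 - C 1 0 1 * C 1 1 0 = d0 := hd01
    linear_combination (B.repr u ⟨0, 0⟩ * B.repr v ⟨0, 1⟩ - B.repr u ⟨0, 1⟩ * B.repr v ⟨0, 0⟩) * e0
      + (B.repr u ⟨1, 0⟩ * B.repr v ⟨1, 1⟩ - B.repr u ⟨1, 1⟩ * B.repr v ⟨1, 0⟩) * e1

end Cfsg.Agent.Lib.H22.AschP2
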