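import Mathlib
import Cfsg.Prelude
import Cfsg.Agent.Lib.H23.CentralMul
import Cfsg.Agent.Lib.L0.CharOps
import Cfsg.Agent.Lib.L0.CharDecomp
import Cfsg.Agent.Lib.L0.CharInner
import Cfsg.Agent.Lib.H24.CharBasic

/-!
# Brauer–Leonard: isotypic components along a central subgroup (helper22)

`H` a finite group, `Q` a central subgroup, `f : H →* ℂˣ`.  `comp Q f η` is the `f`-isotypic
component (with respect to `Q`) of a function `η` on `H`.
-/

set_option autoImplicit false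

namespace Cfsg.Agent.Lib.H22.BL

open scoped ComplexConjugate Classical
open Cfsg.Agent.Lib.L0

section Hom

variable {H : Type*} [Group H] [Finite H]

theorem norm_hom (f : H →* ℂˣ) (h : H) : ‖((f h : ℂˣ) : ℂ)‖ = 1 := by
  have h1 : ((f h : ℂˣ) : ℂ) ^ orderOf h = 1 := by
    rw [← Units.val_pow_eq_pow_val, ← map_pow, pow_orderOf_eq_one, map_one, Units.val_one]
  exact Complex.norm_eq_one_of_pow_eq_one h1 (orderOf_pos h).ne'

theorem conj_hom (f : H →* ℂˣ) (h : H) : conj ((f h : ℂˣ) : ℂ) = ((f h⁻¹ : ℂˣ) : ℂ) := by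
  rw [map_inv, Units.val_inv_eq_inv_val]
  exact (Complex.inv_eq_conj (norm_hom f h)).symm

theorem hom_mul_conj (f : H →* ℂˣ) (h : H) :
    ((f h : ℂˣ) : ℂ) * conj ((f h : ℂˣ) : ℂ) = 1 := by
  rw [Complex.mul_conj, Complex.normSq_eq_norm_sq, norm_hom]
  simp

theorem conj_mul_hom (f : H →* ℂˣ) (h : H) :
    conj ((f h : ℂˣ) : ℂ) * ((f h : ℂˣ) : ℂ) = 1 := by
  rw [mul_comm]; exact hom_mul_conj f h

end Hom

section Comp

variable {H : Type*} [Group H] [Fintype H]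

/-- The elements of a subgroup, as a finset. -/
noncomputable def fs (Q : Subgroup H) : Finset H := Finset.univ.filter (fun z => z ∈ Q)

theorem mem_fs {Q : Subgroup H} {z : H} : z ∈ fs Q ↔ z ∈ Q := by simp [fs]

theorem card_fs (Q : Subgroup H) : (fs Q).card = Nat.card Q := by
  rw [Nat.card_eq_fintype_card, Fintype.card_subtype]
  rfl

theorem card_fs_ne_zero (Q : Subgroup H) : (Nat.card Q : ℂ) ≠ 0 := by
  exact_mod_cast (Nat.card_pos (α := Q)).ne'

theorem sum_fs_mul_right (Q : Subgroup H) {z' : H} (hz' : z' ∈ Q) (F : H → ℂ) :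
    ∑ z ∈ fs Q, F (z * z') = ∑ z ∈ fs Q, F z := by
  refine Finset.sum_bij' (fun z _ => z * z') (fun w _ => w * z'⁻¹) ?_ ?_ ?_ ?_ ?_
  · intro z hz
    exact mem_fs.2 (Q.mul_mem (mem_fs.1 hz) hz')
  · intro w hw
    exact mem_fs.2 (Q.mul_mem (mem_fs.1 hw) (Q.inv_mem hz'))
  · intro z _
    simp
  · intro w _
    simp
  · intro z _
    rfl

/-- The `f`-isotypic component of `η` with respect to the subgroup `Q`. -/
noncomputable def comp (Q : Subgroup H) (f : H →* ℂˣ) (η : H → ℂ) : H → ℂ :=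
  fun h => (Nat.card Q : ℂ)⁻¹ * ∑ z ∈ fs Q, conj ((f z : ℂˣ) : ℂ) * η (z * h)

theorem comp_apply (Q : Subgroup H) (f : H →* ℂˣ) (η : H → ℂ) (h : H) :
    comp Q f η h = (Nat.card Q : ℂ)⁻¹ * ∑ z ∈ fs Q, conj ((f z : ℂˣ) : ℂ) * η (z * h) := rfl

theorem comp_zero (Q : Subgroup H) (f : H →* ℂˣ) : comp Q f (0 : H → ℂ) = 0 := by
  funext h
  simp [comp_apply]

theorem comp_add (Q : Subgroup H) (f : H →* ℂˣ) (η₁ η₂ : H → ℂ) :
    comp Q f (η₁ + η₂) = comp Q f η₁ + comp Q f η₂ := by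
  funext h
  simp only [comp_apply, Pi.add_apply, mul_add, Finset.sum_add_distrib]

theorem comp_smul (Q : Subgroup H) (f : H →* ℂˣ) (c : ℂ) (η : H → ℂ) :
    comp Q f (c • η) = c • comp Q f η := by
  funext h
  simp only [comp_apply, Pi.smul_apply, smul_eq_mul, Finset.mul_sum]
  refine Finset.sum_congr rfl fun z _ => ?_
  ring

theorem comp_list_sum (Q : Subgroup H) (f : H →* ℂˣ) (l : List (H → ℂ)) :
    comp Q f l.sum = (l.map (comp Q f)).sum := by
  induction l with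
  | nil => simp [comp_zero]
  | cons a l ih => simp [comp_add, ih]

theorem comp_mul_left (Q : Subgroup H) (f : H →* ℂˣ) (η : H → ℂ) {z' : H} (hz' : z' ∈ Q) (h : H) :
    comp Q f η (z' * h) = ((f z' : ℂˣ) : ℂ) * comp Q f η h := by
  rw [comp_apply, comp_apply]
  have h1 : ∑ z ∈ fs Q, conj ((f z : ℂˣ) : ℂ) * η (z * (z' * h))
      = ∑ z ∈ fs Q, ((f z' : ℂˣ) : ℂ) * (conj ((f z : ℂˣ) : ℂ) * η (z * h)) := by
    rw [← sum_fs_mul_right Q hz'
      (fun z => ((f z' : ℂˣ) : ℂ) * (conj ((f z : ℂˣ) : ℂ) * η (z * h)))]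
    refine Finset.sum_congr rfl fun z _ => ?_
    simp only [map_mul, Units.val_mul, mul_assoc z z' h]
    have := hom_mul_conj f z'
    linear_combination (-(conj ((f z : ℂˣ) : ℂ) * η (z * (z' * h)))) * this
  rw [h1, ← Finset.mul_sum]
  ring

theorem comp_idem [Finite H] (Q : Subgroup H) (f : H →* ℂˣ) (η : H → ℂ) :
    comp Q f (comp Q f η) = comp Q f η := by
  funext h
  rw [comp_apply]
  have h1 : ∑ z ∈ fs Q, conj ((f z : ℂˣ) : ℂ) * comp Q f η (z * h)
      = ∑ z ∈ fs Q, comp Q f η h := by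
    refine Finset.sum_congr rfl fun z hz => ?_
    rw [comp_mul_left Q f η (mem_fs.1 hz), ← mul_assoc, conj_mul_hom, one_mul]
  rw [h1, Finset.sum_const, card_fs, nsmul_eq_mul, ← mul_assoc,
    inv_mul_cancel₀ (card_fs_ne_zero Q), one_mul]

/-- The component of an irreducible character (for central `Q`) is `0` or the character. -/
theorem comp_irr (Q : Subgroup H) (hQ : Q ≤ Subgroup.center H) (f : H →* ℂˣ) {θ : H → ℂ}
    (hθ : Cfsg.IsIrrCharacter H θ) : comp Q f θ = 0 ∨ comp Q f θ = θ := by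
  have h1 : θ 1 ≠ 0 := Cfsg.Agent.Lib.H24.irr_one_ne_zero ⟨θ, hθ⟩
  set c : ℂ := (Nat.card Q : ℂ)⁻¹ * ∑ z ∈ fs Q, conj ((f z : ℂˣ) : ℂ) * (θ z / θ 1) with hc
  have h2 : comp Q f θ = c • θ := by
    funext h
    rw [comp_apply, Pi.smul_apply, smul_eq_mul, hc, mul_assoc, Finset.sum_mul]
    congr 1
    refine Finset.sum_congr rfl fun z hz => ?_
    have hz' : z ∈ Subgroup.center H := hQ (mem_fs.1 hz)
    have h3 := Cfsg.Agent.Lib.H23.irr_mul_center (⟨θ, hθ⟩ : Cfsg.IrrCharacter H) h hz'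
    simp only at h3
    have h4 : z * h = h * z := (Subgroup.mem_center_iff.1 hz' h).symm
    have h5 : θ (h * z) = θ z * θ h / θ 1 := by rw [eq_div_iff h1]; exact h3
    rw [h4, h5]
    ring
  have h3 : comp Q f (comp Q f θ) = comp Q f θ := comp_idem Q f θ
  rw [h2, comp_smul, h2, smul_smul] at h3
  have h4 := congrFun h3 1
  simp only [Pi.smul_apply, smul_eq_mul] at h4
  have h5 : c * c = c := mul_right_cancel₀ h1 h4
  have h6 : c * (c - 1) = 0 := by linear_combination h5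
  rcases mul_eq_zero.1 h6 with h7 | h7
  · left
    rw [h2, h7, zero_smul]
  · right
    have : c = 1 := by linear_combination h7
    rw [h2, this, one_smul]

theorem isCharacter_comp_central (Q : Subgroup H) (hQ : Q ≤ Subgroup.center H) (f : H →* ℂˣ)
    {η : H → ℂ} (hη : Cfsg.IsCharacter H η) : Cfsg.IsCharacter H (comp Q f η) := by
  obtain ⟨l, hl, rfl⟩ := isCharacter_exists_irr_decomp hη
  rw [comp_list_sum]
  apply isCharacter_list_sum
  intro χ hχ
  obtain ⟨θ, hθl, rfl⟩ := List.mem_map.1 hχ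
  rcases comp_irr Q hQ f (hl θ hθl) with h | h
  · rw [h]
    exact isCharacter_zero
  · rw [h]
    exact isCharacter_of_irr (hl θ hθl)

end Comp

section Data

variable {H : Type*} [Group H] [Fintype H]

/-- A central subgroup `Q` with normal complement `K`, retraction `κ` onto `Q`, and the full set
`Λ` of linear characters trivial on `K`. -/
structure CData (Q K : Subgroup H) (κ : H →* H) (Λ : Finset (H →* ℂˣ)) : Prop where
  central : Q ≤ Subgroup.center H
  mem : ∀ h, κ h ∈ Q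
  fix : ∀ z ∈ Q, κ z = z
  ker : ∀ h, κ h = 1 ↔ h ∈ K
  triv : ∀ f ∈ Λ, ∀ k ∈ K, f k = 1
  card : Λ.card = Nat.card Q
  sumK : ∀ h ∈ K, ∑ f ∈ Λ, ((f h : ℂˣ) : ℂ) = (Nat.card Q : ℂ)
  sumN : ∀ h, h ∉ K → ∑ f ∈ Λ, ((f h : ℂˣ) : ℂ) = 0

/-- The squared norm of a function on `H` (a real number). -/
noncomputable def nrm (η : H → ℂ) : ℝ := (Nat.card H : ℝ)⁻¹ * ∑ g : H, ‖η g‖ ^ 2

theorem classInner_self_nrm (η : H → ℂ) : Cfsg.classInner η η = ((nrm η : ℝ) : ℂ) :=
  classInner_self_eq η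

theorem nrm_nonneg (η : H → ℂ) : 0 ≤ nrm η := by
  unfold nrm
  positivity

theorem sum_normSq_eq (η : H → ℂ) : ∑ g : H, ‖η g‖ ^ 2 = (Nat.card H : ℝ) * nrm η := by
  unfold nrm
  have : (Nat.card H : ℝ) ≠ 0 := by exact_mod_cast (Nat.card_pos (α := H)).ne'
  field_simp

theorem nrm_eq_zero {η : H → ℂ} (h : nrm η = 0) : η = 0 := by
  apply classInner_self_eq_zero
  rw [classInner_self_nrm, h]
  simp

theorem nrm_nat {η : H → ℂ} (hη : Cfsg.IsCharacter H η) : ∃ n : ℕ, nrm η = n := by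
  obtain ⟨n, hn⟩ := classInner_char_char_nat hη hη
  refine ⟨n, ?_⟩
  rw [classInner_self_nrm] at hn
  exact_mod_cast hn

theorem one_le_nrm {η : H → ℂ} (hη : Cfsg.IsCharacter H η) (h0 : η ≠ 0) : 1 ≤ nrm η := by
  obtain ⟨n, hn⟩ := nrm_nat hη
  rw [hn]
  have : n ≠ 0 := by
    rintro rfl
    apply h0
    apply nrm_eq_zero
    rw [hn]; simp
  exact_mod_cast Nat.one_le_iff_ne_zero.2 this

theorem one_le_apply_one {η : H → ℂ} (hη : Cfsg.IsCharacter H η) (h0 : η ≠ 0) :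
    ∃ n : ℕ, 1 ≤ n ∧ η 1 = n := by
  obtain ⟨n, hn⟩ := isCharacter_apply_one hη
  refine ⟨n, ?_, hn⟩
  rcases Nat.eq_zero_or_pos n with h | h
  · exfalso
    apply h0
    funext g
    have := isCharacter_norm_le hη g
    rw [hn, h] at this
    simpa using this
  · exact h

namespace CData

variable {Q K : Subgroup H} {κ : H →* H} {Λ : Finset (H →* ℂˣ)}

theorem kpart_mem (D : CData Q K κ Λ) (h : H) : (κ h)⁻¹ * h ∈ K := by
  rw [← D.ker, map_mul, map_inv, D.fix _ (D.mem h), inv_mul_cancel]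

theorem inf_eq (D : CData Q K κ Λ) {z : H} (hz : z ∈ Q) (hk : z ∈ K) : z = 1 := by
  rw [← D.fix z hz]
  exact (D.ker z).2 hk

theorem hom_eq (D : CData Q K κ Λ) {f : H →* ℂˣ} (hf : f ∈ Λ) (h : H) : f h = f (κ h) := by
  have h1 : h = κ h * ((κ h)⁻¹ * h) := by group
  conv_lhs => rw [h1]
  rw [map_mul, D.triv f hf _ (D.kpart_mem h), mul_one]

theorem kappa_mul_K (D : CData Q K κ Λ) {z k : H} (hz : z ∈ Q) (hk : k ∈ K) : κ (z * k) = z := by
  rw [map_mul, D.fix z hz, (D.ker k).2 hk, mul_one]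

theorem commute (D : CData Q K κ Λ) {z : H} (hz : z ∈ Q) (h : H) : z * h = h * z :=
  (Subgroup.mem_center_iff.1 (D.central hz) h).symm

theorem sum_conj (D : CData Q K κ Λ) (z : H) :
    ∑ f ∈ Λ, conj ((f z : ℂˣ) : ℂ) = if z ∈ K then (Nat.card Q : ℂ) else 0 := by
  rw [← map_sum]
  split_ifs with h
  · rw [D.sumK z h, Complex.conj_natCast]
  · rw [D.sumN z h, map_zero]

/-- Fourier inversion: a function is the sum of its components. -/
theorem sum_comp (D : CData Q K κ Λ) (η : H → ℂ) (h : H) :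
    ∑ f ∈ Λ, comp Q f η h = η h := by
  simp only [comp_apply]
  rw [← Finset.mul_sum, Finset.sum_comm]
  have h1 : ∀ z ∈ fs Q, ∑ f ∈ Λ, conj ((f z : ℂˣ) : ℂ) * η (z * h)
      = if z = 1 then (Nat.card Q : ℂ) * η h else 0 := by
    intro z hz
    rw [← Finset.sum_mul, D.sum_conj z]
    by_cases hz1 : z = 1
    · rw [if_pos hz1, hz1, if_pos K.one_mem, one_mul]
    · rw [if_neg hz1, if_neg (fun hk => hz1 (D.inf_eq (mem_fs.1 hz) hk)), zero_mul]
  rw [Finset.sum_congr rfl h1, Finset.sum_ite_eq' (fs Q) 1, if_pos (mem_fs.2 Q.one_mem),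
    ← mul_assoc, inv_mul_cancel₀ (card_fs_ne_zero Q), one_mul]

theorem exists_ne (D : CData Q K κ Λ) {f g : H →* ℂˣ} (hf : f ∈ Λ) (hg : g ∈ Λ) (hfg : f ≠ g) :
    ∃ z ∈ Q, f z ≠ g z := by
  by_contra hcon
  push Not at hcon
  apply hfg
  ext h
  rw [D.hom_eq hf h, D.hom_eq hg h, hcon _ (D.mem h)]

/-- Different components are orthogonal. -/
theorem comp_orth (D : CData Q K κ Λ) {f g : H →* ℂˣ} (hf : f ∈ Λ) (hg : g ∈ Λ) (hfg : f ≠ g)
    (a b : H → ℂ) : Cfsg.classInner (comp Q f a) (comp Q g b) = 0 := by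
  obtain ⟨z, hz, hne⟩ := D.exists_ne hf hg hfg
  unfold Cfsg.classInner
  obtain ⟨S, hS⟩ : ∃ S : ℂ, S = ∑ h : H, comp Q f a h * conj (comp Q g b h) := ⟨_, rfl⟩
  rw [← hS]
  have h1 : S = ((f z : ℂˣ) : ℂ) * conj ((g z : ℂˣ) : ℂ) * S := by
    have h2 : S = ∑ h : H, comp Q f a (z * h) * conj (comp Q g b (z * h)) := by
      rw [hS]
      exact (Fintype.sum_equiv (Equiv.mulLeft z) _ _ (fun h => rfl)).symm
    conv_lhs => rw [h2]
    rw [hS, Finset.mul_sum]
    refine Finset.sum_congr rfl fun h _ => ?_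
    rw [comp_mul_left Q f a hz, comp_mul_left Q g b hz, map_mul]
    ring
  have h3 : ((f z : ℂˣ) : ℂ) * conj ((g z : ℂˣ) : ℂ) ≠ 1 := by
    intro h4
    apply hne
    apply Units.ext
    have h5 := hom_mul_conj g z
    have h6 : ((g z : ℂˣ) : ℂ) ≠ 0 := Units.ne_zero _
    have h7 : conj ((g z : ℂˣ) : ℂ) ≠ 0 := by
      intro h8; rw [h8, mul_zero] at h5; exact zero_ne_one h5
    apply mul_right_cancel₀ h7
    rw [h4, h5]
  have h4 : (1 - ((f z : ℂˣ) : ℂ) * conj ((g z : ℂˣ) : ℂ)) * S = 0 := by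
    linear_combination h1
  rcases mul_eq_zero.1 h4 with h5 | h5
  · exfalso
    apply h3
    linear_combination -h5
  · rw [h5, mul_zero]

/-- The squared norm is the sum of the squared norms of the components. -/
theorem nrm_eq_sum (D : CData Q K κ Λ) (η : H → ℂ) :
    nrm η = ∑ f ∈ Λ, nrm (comp Q f η) := by
  have h1 : η = ∑ f ∈ Λ, comp Q f η := by
    funext h
    rw [Finset.sum_apply, D.sum_comp]
  have h2 : Cfsg.classInner η η = ∑ f ∈ Λ, Cfsg.classInner (comp Q f η) (comp Q f η) := by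
    conv_lhs => rw [h1]
    rw [classInner_sum_left]
    refine Finset.sum_congr rfl fun f hf => ?_
    rw [classInner_sum_right, Finset.sum_eq_single f]
    · intro g hg hgf
      exact D.comp_orth hf hg (Ne.symm hgf) η η
    · intro hf'; exact absurd hf hf'
  apply Complex.ofReal_injective
  rw [← classInner_self_nrm, h2, Complex.ofReal_sum]
  refine Finset.sum_congr rfl fun f _ => ?_
  rw [classInner_self_nrm]

/-- Sum over `H` as a double sum over `Q × K`. -/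
theorem sum_eq_sum_prod (D : CData Q K κ Λ) (F : H → ℝ) :
    ∑ h : H, F h = ∑ z ∈ fs Q, ∑ k ∈ fs K, F (z * k) := by
  rw [← Finset.sum_product']
  symm
  refine Finset.sum_bij' (fun x _ => x.1 * x.2) (fun h _ => (κ h, (κ h)⁻¹ * h)) ?_ ?_ ?_ ?_ ?_
  · intro x _
    exact Finset.mem_univ _
  · intro h _
    rw [Finset.mem_product]
    exact ⟨mem_fs.2 (D.mem h), mem_fs.2 (D.kpart_mem h)⟩
  · intro x hx
    rw [Finset.mem_product] at hx
    have h1 := D.kappa_mul_K (mem_fs.1 hx.1) (mem_fs.1 hx.2)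
    ext
    · exact h1
    · simp only
      rw [h1]; group
  · intro h _
    simp
  · intro x _
    rfl

theorem sum_K_comp (D : CData Q K κ Λ) (f : H →* ℂˣ) (η : H → ℂ) :
    (Nat.card Q : ℝ) * ∑ k ∈ fs K, ‖comp Q f η k‖ ^ 2 = (Nat.card H : ℝ) * nrm (comp Q f η) := by
  haveI : Finite H := Finite.of_fintype H
  rw [← sum_normSq_eq, D.sum_eq_sum_prod]
  have h1 : ∀ z ∈ fs Q, ∑ k ∈ fs K, ‖comp Q f η (z * k)‖ ^ 2 = ∑ k ∈ fs K, ‖comp Q f η k‖ ^ 2 := by
    intro z hz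
    refine Finset.sum_congr rfl fun k _ => ?_
    rw [comp_mul_left Q f η (mem_fs.1 hz), norm_mul, norm_hom, one_mul]
  rw [Finset.sum_congr rfl h1, Finset.sum_const, card_fs, nsmul_eq_mul]

/-- The support: those `f ∈ Λ` whose component of `η` is nonzero. -/
noncomputable def supp (_D : CData Q K κ Λ) (η : H → ℂ) : Finset (H →* ℂˣ) :=
  Λ.filter (fun f => comp Q f η ≠ 0)

theorem mem_supp (D : CData Q K κ Λ) (η : H → ℂ) (f : H →* ℂˣ) :
    f ∈ D.supp η ↔ f ∈ Λ ∧ comp Q f η ≠ 0 := by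
  simp [supp]

theorem supp_subset (D : CData Q K κ Λ) (η : H → ℂ) : D.supp η ⊆ Λ := Finset.filter_subset _ _

theorem card_supp_le (D : CData Q K κ Λ) (η : H → ℂ) : (D.supp η).card ≤ Nat.card Q := by
  rw [← D.card]
  exact Finset.card_le_card (D.supp_subset η)

theorem sum_supp (D : CData Q K κ Λ) (η : H → ℂ) (h : H) :
    ∑ f ∈ D.supp η, comp Q f η h = η h := by
  rw [← D.sum_comp η h]
  unfold supp
  rw [Finset.sum_filter]
  refine Finset.sum_congr rfl fun f _ => ?_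
  split_ifs with h1
  · rfl
  · push Not at h1
    rw [h1]; rfl

theorem nrm_eq_sum_supp (D : CData Q K κ Λ) (η : H → ℂ) :
    nrm η = ∑ f ∈ D.supp η, nrm (comp Q f η) := by
  rw [D.nrm_eq_sum η]
  unfold supp
  rw [Finset.sum_filter]
  refine Finset.sum_congr rfl fun f _ => ?_
  split_ifs with h1
  · rfl
  · push Not at h1
    rw [h1]
    unfold nrm
    simp

/-- The main inequality: the part of the norm carried by `H \ K`. -/
theorem main_ineq (D : CData Q K κ Λ) (η : H → ℂ) :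
    ((Nat.card Q : ℝ) - (D.supp η).card) * ((Nat.card H : ℝ) * nrm η)
      ≤ (Nat.card Q : ℝ) * ∑ h ∈ Finset.univ.filter (fun h : H => h ∉ K), ‖η h‖ ^ 2 := by
  have h1 : ∑ h : H, ‖η h‖ ^ 2 = ∑ h ∈ fs K, ‖η h‖ ^ 2
      + ∑ h ∈ Finset.univ.filter (fun h : H => h ∉ K), ‖η h‖ ^ 2 := by
    unfold fs
    rw [Finset.sum_filter_add_sum_filter_not]
  have h2 : ∀ k : H, ‖η k‖ ^ 2 ≤ ((D.supp η).card : ℝ) * ∑ f ∈ D.supp η, ‖comp Q f η k‖ ^ 2 := by
    intro k
    rw [← D.sum_supp η k]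
    calc ‖∑ f ∈ D.supp η, comp Q f η k‖ ^ 2 ≤ (∑ f ∈ D.supp η, ‖comp Q f η k‖) ^ 2 := by
          apply pow_le_pow_left₀ (norm_nonneg _) (norm_sum_le _ _)
      _ ≤ ((D.supp η).card : ℝ) * ∑ f ∈ D.supp η, ‖comp Q f η k‖ ^ 2 := sq_sum_le_card_mul_sum_sq
  have h3 : (Nat.card Q : ℝ) * ∑ h ∈ fs K, ‖η h‖ ^ 2
      ≤ ((D.supp η).card : ℝ) * ((Nat.card H : ℝ) * nrm η) := by
    calc (Nat.card Q : ℝ) * ∑ h ∈ fs K, ‖η h‖ ^ 2
        ≤ (Nat.card Q : ℝ) * ∑ h ∈ fs K, ((D.supp η).card : ℝ) * ∑ f ∈ D.supp η, ‖comp Q f η h‖ ^ 2 := by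
          apply mul_le_mul_of_nonneg_left _ (Nat.cast_nonneg _)
          exact Finset.sum_le_sum fun k _ => h2 k
      _ = ((D.supp η).card : ℝ) * ∑ f ∈ D.supp η, ((Nat.card Q : ℝ) * ∑ h ∈ fs K, ‖comp Q f η h‖ ^ 2) := by
          rw [← Finset.mul_sum, Finset.sum_comm, Finset.mul_sum, Finset.mul_sum]
          rw [Finset.mul_sum]
          refine Finset.sum_congr rfl fun f _ => ?_
          ring
      _ = ((D.supp η).card : ℝ) * ((Nat.card H : ℝ) * nrm η) := by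
          rw [Finset.sum_congr rfl (fun f _ => D.sum_K_comp f η), ← Finset.mul_sum,
            ← D.nrm_eq_sum_supp]
  have h4 := sum_normSq_eq η
  nlinarith [h1, h3, h4]

/-- The degree is at least the size of the support. -/
theorem card_supp_le_degree (D : CData Q K κ Λ) {η : H → ℂ} (hη : Cfsg.IsCharacter H η)
    {d : ℕ} (hd : η 1 = d) : (D.supp η).card ≤ d := by
  have h1 := D.sum_supp η 1
  have h2 : ∀ f ∈ D.supp η, ∃ n : ℕ, 1 ≤ n ∧ comp Q f η 1 = n := by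
    intro f hf
    exact one_le_apply_one (isCharacter_comp_central Q D.central f hη) ((D.mem_supp η f).1 hf).2
  choose! n hn1 hn2 using h2
  rw [Finset.sum_congr rfl hn2, hd, ← Nat.cast_sum] at h1
  have h3 : ∑ f ∈ D.supp η, n f = d := by exact_mod_cast h1
  rw [← h3]
  calc (D.supp η).card = ∑ f ∈ D.supp η, 1 := by simp
    _ ≤ ∑ f ∈ D.supp η, n f := Finset.sum_le_sum hn1

/-- The squared norm is at least the size of the support. -/
theorem card_supp_le_nrm (D : CData Q K κ Λ) {η : H → ℂ} (hη : Cfsg.IsCharacter H η) :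
    ((D.supp η).card : ℝ) ≤ nrm η := by
  rw [D.nrm_eq_sum_supp η]
  calc ((D.supp η).card : ℝ) = ∑ f ∈ D.supp η, (1 : ℝ) := by simp
    _ ≤ ∑ f ∈ D.supp η, nrm (comp Q f η) := by
        apply Finset.sum_le_sum
        intro f hf
        exact one_le_nrm (isCharacter_comp_central Q D.central f hη) ((D.mem_supp η f).1 hf).2

end CData

end Data

end Cfsg.Agent.Lib.H22.BL
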