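import Cfsg.Agent.Lib.H22.BLA

/-!
# Brauer–Leonard: the borderline structure lemma (helper22)

In the setting of `BLA` (`CData Q K κ Λ`): a character `η` of `H` whose support has `e+1` elements,
of squared norm `e+1`, containing the trivial character, and carrying little norm on `H \ K`
(with `|Q| > e²+1`) is the sum of the linear characters in its support.
-/

set_option autoImplicit false

namespace Cfsg.Agent.Lib.H22.BL

open scoped ComplexConjugate Classical
open Cfsg.Agent.Lib.L0

section Data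

variable {H : Type*} [Group H] [Fintype H]

/-- The function attached to a linear character. -/
noncomputable def hf (a : H →* ℂˣ) : H → ℂ := fun h => ((a h : ℂˣ) : ℂ)

theorem hf_apply (a : H →* ℂˣ) (h : H) : hf a h = ((a h : ℂˣ) : ℂ) := rfl

theorem hf_injective : Function.Injective (hf : (H →* ℂˣ) → H → ℂ) := by
  intro a b hab
  ext h
  exact congrFun hab h

theorem isIrr_hf (a : H →* ℂˣ) : Cfsg.IsIrrCharacter H (hf a) := isIrrCharacter_of_hom a

theorem classInner_hf (a b : H →* ℂˣ) :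
    Cfsg.classInner (hf a) (hf b) = if a = b then 1 else 0 := by
  rw [irr_classInner_eq (isIrr_hf a) (isIrr_hf b)]
  by_cases h : a = b
  · rw [if_pos h, if_pos (by rw [h])]
  · rw [if_neg h, if_neg (fun h' => h (hf_injective h'))]

theorem hf_one : hf (1 : H →* ℂˣ) = fun _ => (1 : ℂ) := by
  funext h
  simp [hf]

namespace CData

variable {Q K : Subgroup H} {κ : H →* H} {Λ : Finset (H →* ℂˣ)}

/-- Sum over `H` as a double sum over `Q × K`, complex version. -/
theorem sum_eq_sum_prod' (D : CData Q K κ Λ) (F : H → ℂ) :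
    ∑ h : H, F h = ∑ z ∈ fs Q, ∑ k ∈ fs K, F (z * k) := by
  rw [← Finset.sum_product']
  symm
  refine Finset.sum_bij' (fun x _ => x.1 * x.2) (fun h _ => (κ h, (κ h)⁻¹ * h)) ?_ ?_ ?_ ?_ ?_
  · intro x _
    exact Finset.mem_univ _
  · intro h _
    rw [Finset.mem_product]
    exact ⟨mem_fs.2 (D.mem h), mem_fs.2 (D.kpart_mem h)⟩
  · intro x hx
    rw [Finset.mem_product] at hx
    have h1 := D.kappa_mul_K (mem_fs.1 hx.1) (mem_fs.1 hx.2)
    ext
    · exact h1
    · simp only
      rw [h1]; group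
  · intro h _
    simp
  · intro x _
    rfl

/-- `Λ` contains every linear character trivial on `K`. -/
theorem complete (D : CData Q K κ Λ) (f : H →* ℂˣ) (hf' : ∀ k ∈ K, f k = 1) : f ∈ Λ := by
  haveI : Finite H := Finite.of_fintype H
  by_contra hcon
  have h1 : ∑ h : H, hf f h * conj (∑ g ∈ Λ, hf g h) = 0 := by
    have h2 : ∀ h : H, hf f h * conj (∑ g ∈ Λ, hf g h) = ∑ g ∈ Λ, hf f h * conj (hf g h) := by
      intro h
      rw [map_sum, Finset.mul_sum]
    rw [Finset.sum_congr rfl (fun h _ => h2 h), Finset.sum_comm]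
    apply Finset.sum_eq_zero
    intro g hg
    have h3 : f ≠ g := fun h => hcon (h ▸ hg)
    have h4 := classInner_hf f g
    rw [if_neg h3] at h4
    unfold Cfsg.classInner at h4
    have h5 : (Nat.card H : ℂ)⁻¹ ≠ 0 := by
      apply inv_ne_zero
      exact_mod_cast (Nat.card_pos (α := H)).ne'
    exact (mul_eq_zero.1 h4).resolve_left h5
  have h2 : ∑ h : H, hf f h * conj (∑ g ∈ Λ, hf g h)
      = ∑ h ∈ fs K, (Nat.card Q : ℂ) := by
    unfold fs
    rw [Finset.sum_filter]
    refine Finset.sum_congr rfl fun h _ => ?_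
    split_ifs with hk
    · have : ∑ g ∈ Λ, hf g h = (Nat.card Q : ℂ) := D.sumK h hk
      rw [this, Complex.conj_natCast, hf_apply, hf' h hk, Units.val_one, one_mul]
    · have : ∑ g ∈ Λ, hf g h = 0 := D.sumN h hk
      rw [this, map_zero, mul_zero]
  rw [h2, Finset.sum_const, card_fs, nsmul_eq_mul] at h1
  have h3 : (Nat.card K : ℂ) ≠ 0 := by exact_mod_cast (Nat.card_pos (α := K)).ne'
  rcases mul_eq_zero.1 h1 with h | h
  · exact h3 h
  · exact card_fs_ne_zero Q h

theorem one_mem (D : CData Q K κ Λ) : (1 : H →* ℂˣ) ∈ Λ :=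
  D.complete 1 (fun _ _ => rfl)

theorem comp_one_one (Q : Subgroup H) : comp Q (1 : H →* ℂˣ) (fun _ => (1 : ℂ)) = fun _ => 1 := by
  funext h
  rw [comp_apply]
  simp only [MonoidHom.one_apply, Units.val_one, map_one, mul_one, Finset.sum_const, card_fs,
    nsmul_eq_mul]
  exact inv_mul_cancel₀ (card_fs_ne_zero Q)

/-- Only the trivial component sees the trivial character. -/
theorem classInner_comp_one (D : CData Q K κ Λ) {f : H →* ℂˣ} (hf' : f ∈ Λ) (hf1 : f ≠ 1)
    (η : H → ℂ) : Cfsg.classInner (comp Q f η) (fun _ => (1 : ℂ)) = 0 := by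
  rw [← comp_one_one Q]
  exact D.comp_orth hf' D.one_mem hf1 η _

/-- The component along a linear character in `Λ` of that linear character. -/
theorem comp_hf (D : CData Q K κ Λ) (a : H →* ℂˣ) : comp Q a (hf a) = hf a := by
  haveI : Finite H := Finite.of_fintype H
  funext h
  rw [comp_apply]
  have h1 : ∀ z ∈ fs Q, conj ((a z : ℂˣ) : ℂ) * hf a (z * h) = hf a h := by
    intro z _
    rw [hf_apply, map_mul, Units.val_mul, ← mul_assoc, conj_mul_hom, one_mul, hf_apply]
  rw [Finset.sum_congr rfl h1, Finset.sum_const, card_fs, nsmul_eq_mul, ← mul_assoc,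
    inv_mul_cancel₀ (card_fs_ne_zero Q), one_mul]

theorem classInner_comp_hf (D : CData Q K κ Λ) {f a : H →* ℂˣ} (hf' : f ∈ Λ) (ha : a ∈ Λ)
    (hfa : f ≠ a) (η : H → ℂ) : Cfsg.classInner (comp Q f η) (hf a) = 0 := by
  rw [← D.comp_hf a]
  exact D.comp_orth hf' ha hfa η _

end CData

/-- A counting lemma: pairs with equal labels. -/
theorem card_pairs_le {α β : Type*} [DecidableEq β] (U : Finset α) (φ : α → β) (x₀ : β) :
    ∑ a ∈ U, (U.filter (fun b => φ b = φ a)).card
      ≤ (U.filter (fun a => φ a = x₀)).card ^ 2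
        + (U.card - (U.filter (fun a => φ a = x₀)).card) ^ 2 := by
  set V := U.filter (fun a => φ a = x₀) with hV
  have h1 : ∑ a ∈ U, (U.filter (fun b => φ b = φ a)).card
      = ∑ a ∈ V, (U.filter (fun b => φ b = φ a)).card
        + ∑ a ∈ U.filter (fun a => ¬ φ a = x₀), (U.filter (fun b => φ b = φ a)).card := by
    rw [hV, Finset.sum_filter_add_sum_filter_not]
  have h2 : ∀ a ∈ V, (U.filter (fun b => φ b = φ a)).card = V.card := by
    intro a ha
    have : φ a = x₀ := (Finset.mem_filter.1 ha).2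
    rw [this]
  have h3 : ∀ a ∈ U.filter (fun a => ¬ φ a = x₀),
      (U.filter (fun b => φ b = φ a)).card ≤ U.card - V.card := by
    intro a ha
    have ha' : ¬ φ a = x₀ := (Finset.mem_filter.1 ha).2
    have h4 : U.filter (fun b => φ b = φ a) ⊆ U \ V := by
      intro b hb
      rw [Finset.mem_filter] at hb
      rw [Finset.mem_sdiff]
      refine ⟨hb.1, ?_⟩
      intro hbV
      have : φ b = x₀ := (Finset.mem_filter.1 hbV).2
      exact ha' (hb.2 ▸ this)
    calc (U.filter (fun b => φ b = φ a)).card ≤ (U \ V).card := Finset.card_le_card h4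
      _ = U.card - V.card := by
          rw [Finset.card_sdiff_of_subset (Finset.filter_subset _ _)]
  have h5 : (U.filter (fun a => ¬ φ a = x₀)).card = U.card - V.card := by
    have := Finset.card_filter_add_card_filter_not (s := U) (fun a => φ a = x₀)
    rw [hV]; omega
  rw [h1, Finset.sum_congr rfl h2, Finset.sum_const, smul_eq_mul]
  calc V.card * V.card + ∑ a ∈ U.filter (fun a => ¬ φ a = x₀), (U.filter (fun b => φ b = φ a)).card
      ≤ V.card * V.card + ∑ a ∈ U.filter (fun a => ¬ φ a = x₀), (U.card - V.card) :=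
        Nat.add_le_add_left (Finset.sum_le_sum h3) _
    _ = V.card ^ 2 + (U.card - V.card) ^ 2 := by
        rw [Finset.sum_const, smul_eq_mul, h5]; ring

namespace CData

variable {Q K : Subgroup H} {κ : H →* H} {Λ : Finset (H →* ℂˣ)}

/-- The twist of the `a`-component by the inverse of `a`. -/
noncomputable def tw (Q : Subgroup H) (η : H → ℂ) (a : H →* ℂˣ) : H → ℂ :=
  fun h => conj ((a h : ℂˣ) : ℂ) * comp Q a η h

theorem tw_apply (Q : Subgroup H) (η : H → ℂ) (a : H →* ℂˣ) (h : H) :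
    tw Q η a h = conj ((a h : ℂˣ) : ℂ) * comp Q a η h := rfl

theorem tw_mul_left (Q : Subgroup H) (η : H → ℂ) (a : H →* ℂˣ) {z : H} (hz : z ∈ Q) (h : H) :
    tw Q η a (z * h) = tw Q η a h := by
  haveI : Finite H := Finite.of_fintype H
  rw [tw_apply, tw_apply, comp_mul_left Q a η hz, map_mul, Units.val_mul, map_mul]
  have := conj_mul_hom a z
  linear_combination (conj ((a h : ℂˣ) : ℂ) * comp Q a η h) * this

theorem isCharacter_tw (D : CData Q K κ Λ) {η : H → ℂ} (hη : Cfsg.IsCharacter H η)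
    (a : H →* ℂˣ) : Cfsg.IsCharacter H (tw Q η a) := by
  haveI : Finite H := Finite.of_fintype H
  have h1 : tw Q η a = hf a⁻¹ * comp Q a η := by
    funext h
    rw [tw_apply, Pi.mul_apply, hf_apply, conj_hom, MonoidHom.inv_apply, map_inv]
  rw [h1]
  exact isCharacter_mul (isCharacter_of_irr (isIrr_hf a⁻¹)) (isCharacter_comp_central Q D.central a hη)

theorem nrm_tw (Q : Subgroup H) (η : H → ℂ) (a : H →* ℂˣ) : nrm (tw Q η a) = nrm (comp Q a η) := by
  haveI : Finite H := Finite.of_fintype H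
  unfold nrm
  congr 1
  refine Finset.sum_congr rfl fun h _ => ?_
  rw [tw_apply, norm_mul, RCLike.norm_conj, norm_hom, one_mul]

theorem final_structure (D : CData Q K κ Λ) {η : H → ℂ} (hη : Cfsg.IsCharacter H η) (e : ℕ)
    (hq : e ^ 2 + 1 < Nat.card Q)
    (hu : (D.supp η).card = e + 1) (hn : nrm η = (e : ℝ) + 1)
    (h1 : Cfsg.classInner η (fun _ => (1 : ℂ)) ≠ 0)
    (hlt : (Nat.card Q : ℝ) * ∑ h ∈ Finset.univ.filter (fun h : H => h ∉ K), ‖η h‖ ^ 2
        < (e : ℝ) * (Nat.card Q : ℝ) * (Nat.card H : ℝ)) :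
    ∀ a ∈ D.supp η, comp Q a η = hf a := by
  haveI : Finite H := Finite.of_fintype H
  set U := D.supp η with hU
  have hUΛ : ∀ a ∈ U, a ∈ Λ := fun a ha => D.supp_subset η ha
  have hchar : ∀ a : H →* ℂˣ, Cfsg.IsCharacter H (comp Q a η) :=
    fun a => isCharacter_comp_central Q D.central a hη
  -- Step 1: each component has norm one
  have hge : ∀ a ∈ U, 1 ≤ nrm (comp Q a η) := fun a ha =>
    one_le_nrm (hchar a) ((D.mem_supp η a).1 ha).2
  have hsum : ∑ a ∈ U, (nrm (comp Q a η) - 1) = 0 := by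
    rw [Finset.sum_sub_distrib, ← D.nrm_eq_sum_supp η, hn, Finset.sum_const, hu]
    simp
  have hone : ∀ a ∈ U, nrm (comp Q a η) = 1 := by
    intro a ha
    have := (Finset.sum_eq_zero_iff_of_nonneg (fun b hb => sub_nonneg.2 (hge b hb))).1 hsum a ha
    linarith
  have hirr : ∀ a ∈ U, Cfsg.IsIrrCharacter H (comp Q a η) := by
    intro a ha
    apply isIrrCharacter_of_classInner_self_eq_one (hchar a)
    rw [classInner_self_nrm, hone a ha]
    simp
  have htwirr : ∀ a ∈ U, Cfsg.IsIrrCharacter H (tw Q η a) := by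
    intro a ha
    apply isIrrCharacter_of_classInner_self_eq_one (D.isCharacter_tw hη a)
    rw [classInner_self_nrm, nrm_tw, hone a ha]
    simp
  -- Step 3: the trivial component
  have hηsum : η = ∑ a ∈ U, comp Q a η := by
    funext h
    rw [Finset.sum_apply, D.sum_supp]
  have h1U : (1 : H →* ℂˣ) ∈ U := by
    by_contra hcon
    apply h1
    conv_lhs => rw [hηsum]
    rw [classInner_sum_left]
    apply Finset.sum_eq_zero
    intro a ha
    exact D.classInner_comp_one (hUΛ a ha) (fun h => hcon (h ▸ ha)) η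
  have hcomp1 : comp Q (1 : H →* ℂˣ) η = fun _ => (1 : ℂ) := by
    have h2 : Cfsg.classInner (comp Q (1 : H →* ℂˣ) η) (fun _ => (1 : ℂ)) ≠ 0 := by
      intro h3
      apply h1
      conv_lhs => rw [hηsum]
      rw [classInner_sum_left]
      apply Finset.sum_eq_zero
      intro a ha
      by_cases ha1 : a = 1
      · rw [ha1]; exact h3
      · exact D.classInner_comp_one (hUΛ a ha) ha1 η
    by_contra hne
    apply h2
    have := irr_classInner_eq (hirr 1 h1U) (by rw [← hf_one]; exact isIrr_hf (1 : H →* ℂˣ))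
      (ψ := fun _ => (1 : ℂ))
    rw [if_neg hne] at this
    exact this
  have htw1 : tw Q η 1 = fun _ => (1 : ℂ) := by
    funext h
    rw [tw_apply, hcomp1]
    simp
  -- Step 5: the sum over K
  have hK : ∀ k ∈ fs K, η k = ∑ a ∈ U, tw Q η a k := by
    intro k hk
    rw [← D.sum_supp η k]
    refine Finset.sum_congr rfl fun a ha => ?_
    rw [tw_apply, D.triv a (hUΛ a ha) k (mem_fs.1 hk), Units.val_one, map_one, one_mul]
  have hpair : ∀ a ∈ U, ∀ b ∈ U, (Nat.card Q : ℂ) * ∑ k ∈ fs K, tw Q η a k * conj (tw Q η b k)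
      = (Nat.card H : ℂ) * (if tw Q η b = tw Q η a then 1 else 0) := by
    intro a ha b hb
    have h2 : ∑ h : H, tw Q η a h * conj (tw Q η b h)
        = (Nat.card Q : ℂ) * ∑ k ∈ fs K, tw Q η a k * conj (tw Q η b k) := by
      rw [D.sum_eq_sum_prod']
      have h3 : ∀ z ∈ fs Q, ∑ k ∈ fs K, tw Q η a (z * k) * conj (tw Q η b (z * k))
          = ∑ k ∈ fs K, tw Q η a k * conj (tw Q η b k) := by
        intro z hz
        refine Finset.sum_congr rfl fun k _ => ?_
        rw [tw_mul_left Q η a (mem_fs.1 hz), tw_mul_left Q η b (mem_fs.1 hz)]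
      rw [Finset.sum_congr rfl h3, Finset.sum_const, card_fs, nsmul_eq_mul]
    rw [← h2]
    have h4 := irr_classInner_eq (htwirr a ha) (htwirr b hb)
    unfold Cfsg.classInner at h4
    have h5 : (Nat.card H : ℂ) ≠ 0 := by exact_mod_cast (Nat.card_pos (α := H)).ne'
    have h6 : ∑ h : H, tw Q η a h * conj (tw Q η b h)
        = (Nat.card H : ℂ) * (if tw Q η a = tw Q η b then 1 else 0) := by
      rw [← h4, ← mul_assoc, mul_inv_cancel₀ h5, one_mul]
    rw [h6]
    congr 1
    by_cases hab : tw Q η a = tw Q η b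
    · rw [if_pos hab, if_pos hab.symm]
    · rw [if_neg hab, if_neg (fun h => hab h.symm)]
  set M : ℕ := ∑ a ∈ U, (U.filter (fun b => tw Q η b = tw Q η a)).card with hM
  have hKsum : (Nat.card Q : ℝ) * ∑ k ∈ fs K, ‖η k‖ ^ 2 = (Nat.card H : ℝ) * (M : ℝ) := by
    apply Complex.ofReal_injective
    push_cast
    have h2 : ∀ k ∈ fs K, ((‖η k‖ : ℂ)) ^ 2
        = ∑ a ∈ U, ∑ b ∈ U, tw Q η a k * conj (tw Q η b k) := by
      intro k hk
      rw [← Complex.mul_conj', hK k hk, map_sum, Finset.sum_mul]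
      refine Finset.sum_congr rfl fun a _ => ?_
      rw [Finset.mul_sum]
    rw [Finset.sum_congr rfl h2, Finset.sum_comm, Finset.mul_sum]
    have h3 : ∀ a ∈ U, (Nat.card Q : ℂ) * ∑ k ∈ fs K, ∑ b ∈ U, tw Q η a k * conj (tw Q η b k)
        = (Nat.card H : ℂ) * ((U.filter (fun b => tw Q η b = tw Q η a)).card : ℂ) := by
      intro a ha
      rw [Finset.sum_comm, Finset.mul_sum, Finset.sum_congr rfl (fun b hb => hpair a ha b hb),
        ← Finset.mul_sum, Finset.sum_boole]
    rw [Finset.sum_congr rfl h3, ← Finset.mul_sum, hM]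
    push_cast
    rfl
  -- Step 6
  have hall : ∑ h : H, ‖η h‖ ^ 2 = ∑ h ∈ fs K, ‖η h‖ ^ 2
      + ∑ h ∈ Finset.univ.filter (fun h : H => h ∉ K), ‖η h‖ ^ 2 := by
    unfold fs
    rw [Finset.sum_filter_add_sum_filter_not]
  have hall' := sum_normSq_eq η
  rw [hn] at hall'
  have hHpos : (0 : ℝ) < Nat.card H := by exact_mod_cast Nat.card_pos (α := H)
  have hMq : (Nat.card Q : ℝ) < (M : ℝ) := by
    have h2 : (Nat.card H : ℝ) * (Nat.card Q : ℝ) < (Nat.card H : ℝ) * (M : ℝ) := by
      rw [← hKsum]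
      nlinarith [hall, hall', hlt]
    exact lt_of_mul_lt_mul_left h2 hHpos.le
  have hMq' : Nat.card Q < M := by exact_mod_cast hMq
  -- Step 7
  have hcp := card_pairs_le U (fun a => tw Q η a) (fun _ => (1 : ℂ))
  rw [← hM] at hcp
  set V := U.filter (fun a => tw Q η a = fun _ => (1 : ℂ)) with hV
  have hVU : V ⊆ U := Finset.filter_subset _ _
  have hvle : V.card ≤ U.card := Finset.card_le_card hVU
  have h1V : (1 : H →* ℂˣ) ∈ V := by
    rw [hV, Finset.mem_filter]
    exact ⟨h1U, htw1⟩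
  have hvpos : 1 ≤ V.card := Finset.card_pos.2 ⟨1, h1V⟩
  have hUc : U.card = e + 1 := hu
  have hVeq : V.card = e + 1 := by
    by_contra hne
    have hvle' : V.card ≤ e := by omega
    have h3 : V.card ^ 2 + (U.card - V.card) ^ 2 ≤ e ^ 2 + 1 := by
      rw [hUc]
      obtain ⟨w, hw⟩ : ∃ w, e = V.card + w := ⟨e - V.card, by omega⟩
      have h4 : e + 1 - V.card = w + 1 := by omega
      rw [h4]
      obtain ⟨v', hv'⟩ : ∃ v', V.card = v' + 1 := ⟨V.card - 1, by omega⟩
      rw [hw, hv']
      nlinarith [Nat.zero_le v', Nat.zero_le w]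
    omega
  have hVU' : V = U := Finset.eq_of_subset_of_card_le hVU (by rw [hVeq, hUc])
  intro a ha
  have haV : a ∈ V := hVU' ▸ ha
  have h4 : tw Q η a = fun _ => (1 : ℂ) := (Finset.mem_filter.1 haV).2
  funext h
  have h5 := congrFun h4 h
  rw [tw_apply] at h5
  rw [hf_apply]
  have h6 := hom_mul_conj a h
  linear_combination ((a h : ℂˣ) : ℂ) * h5 - (comp Q a η h) * h6

/-- In the borderline situation the character is the sum of the linear characters in its
support. -/
theorem final_mult (D : CData Q K κ Λ) {η : H → ℂ} (hη : Cfsg.IsCharacter H η) (e : ℕ)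
    (hq : e ^ 2 + 1 < Nat.card Q)
    (hu : (D.supp η).card = e + 1) (hn : nrm η = (e : ℝ) + 1)
    (h1 : Cfsg.classInner η (fun _ => (1 : ℂ)) ≠ 0)
    (hlt : (Nat.card Q : ℝ) * ∑ h ∈ Finset.univ.filter (fun h : H => h ∉ K), ‖η h‖ ^ 2
        < (e : ℝ) * (Nat.card Q : ℝ) * (Nat.card H : ℝ)) (a : H →* ℂˣ) :
    Cfsg.classInner η (hf a) = if a ∈ D.supp η then 1 else 0 := by
  have h2 := D.final_structure hη e hq hu hn h1 hlt
  have hηsum : η = ∑ b ∈ D.supp η, hf b := by
    funext h
    rw [Finset.sum_apply, ← D.sum_supp η h]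
    exact Finset.sum_congr rfl fun b hb => congrFun (h2 b hb) h
  conv_lhs => rw [hηsum]
  rw [classInner_sum_left]
  simp only [classInner_hf]
  rw [Finset.sum_ite_eq' (D.supp η) a]

end CData

end Data

end Cfsg.Agent.Lib.H22.BL
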