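import Cfsg.Agent.Lib.H22.DihGroupC

/-!
# Groups with dihedral Sylow 2-subgroups: the central involution and non-central involutions
(helper22)
-/

set_option autoImplicit false

namespace Cfsg.Agent.Lib.H22.Dih

open Cfsg.Agent.Lib.L0 Cfsg.Agent.Lib.H10

variable {G : Type*} [Group G]

namespace DihData

variable {P : Subgroup G} {σ : G} {m : ℕ}

theorem exists_pow_eq [Finite G] (h : DihData P σ m) (hm0 : 0 < m) {w : G}
    (hw : w ∈ Subgroup.zpowers σ) : ∃ j < m, w = σ ^ j := by
  obtain ⟨n, hn⟩ := (Submonoid.mem_powers_iff _ _).mp (mem_powers_iff_mem_zpowers.mpr hw)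
  refine ⟨n % m, Nat.mod_lt _ hm0, ?_⟩
  rw [← hn, ← h.ord, pow_mod_orderOf]

theorem half_mul_self (h : DihData P σ m) (hm : Even m) : σ ^ (m / 2) * σ ^ (m / 2) = 1 := by
  obtain ⟨c, hc⟩ := hm
  rw [← pow_add]
  have : m / 2 + m / 2 = m := by omega
  rw [this, ← h.ord, pow_orderOf_eq_one]

theorem half_ne_one (h : DihData P σ m) (hm0 : 0 < m) (hm : Even m) : σ ^ (m / 2) ≠ 1 := by
  intro h1
  have h2 := orderOf_dvd_of_pow_eq_one h1
  rw [h.ord] at h2
  obtain ⟨c, hc⟩ := hm
  have h3 := Nat.le_of_dvd (by omega) h2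
  omega

theorem sq_eq_one_cases [Finite G] (h : DihData P σ m) (hm0 : 0 < m) (hm : Even m) {w : G}
    (hw : w ∈ Subgroup.zpowers σ) (hw2 : w * w = 1) : w = 1 ∨ w = σ ^ (m / 2) := by
  obtain ⟨j, hj, rfl⟩ := h.exists_pow_eq hm0 hw
  rw [← pow_add] at hw2
  have h2 := orderOf_dvd_of_pow_eq_one hw2
  rw [h.ord] at h2
  obtain ⟨c, hc⟩ := h2
  obtain ⟨d, hd⟩ := hm
  have hc2 : c = 0 ∨ c = 1 := by
    have : m * c < m * 2 := by omega
    have := Nat.lt_of_mul_lt_mul_left this
    omega
  rcases hc2 with rfl | rfl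
  · left
    have : j = 0 := by omega
    rw [this, pow_zero]
  · right
    have : j = m / 2 := by omega
    rw [this]

theorem le_centralizer_half (h : DihData P σ m) (hm : Even m) :
    P ≤ Subgroup.centralizer ({σ ^ (m / 2)} : Set G) := by
  intro a ha
  rw [Subgroup.mem_centralizer_iff]
  intro y hy
  rw [Set.mem_singleton_iff] at hy
  subst hy
  have hJ : σ ^ (m / 2) ∈ Subgroup.zpowers σ := Subgroup.pow_mem _ (Subgroup.mem_zpowers σ) _
  have hinv : (σ ^ (m / 2))⁻¹ = σ ^ (m / 2) := inv_eq_of_mul_eq_one_right (h.half_mul_self hm)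
  have h1 : a * σ ^ (m / 2) * a⁻¹ = σ ^ (m / 2) := by
    rcases h.conj_mem_zpowers ha hJ with h2 | h2
    · exact h2
    · rw [h2, hinv]
  have h3 : a * σ ^ (m / 2) * a⁻¹ * a = σ ^ (m / 2) * a := by rw [h1]
  rw [inv_mul_cancel_right] at h3
  exact h3.symm

/-- `⟨σ⟩` has index two: the product of two elements outside lies inside. -/
theorem mul_mem_zpowers [Finite G] (h : DihData P σ m) (hm0 : 0 < m) {a b : G} (ha : a ∈ P)
    (hb : b ∈ P) (haσ : a ∉ Subgroup.zpowers σ) (hbσ : b ∉ Subgroup.zpowers σ) :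
    a * b ∈ Subgroup.zpowers σ := by
  set Z' : Subgroup P := (Subgroup.zpowers σ).subgroupOf P with hZ'
  have hcardZ' : Nat.card Z' = m := by
    rw [hZ', Nat.card_congr (Subgroup.subgroupOfEquivOfLe h.zpowers_le).toEquiv, Nat.card_zpowers,
      h.ord]
  have hidx : Z'.index = 2 := by
    have h1 := Subgroup.card_mul_index Z'
    rw [hcardZ', h.card] at h1
    have : m * Z'.index = m * 2 := by rw [h1]; ring
    exact Nat.eq_of_mul_eq_mul_left hm0 this
  have h1 : (⟨a, ha⟩ : P) * ⟨b, hb⟩ ∈ Z' := by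
    rw [Subgroup.mul_mem_iff_of_index_two hidx, hZ', Subgroup.mem_subgroupOf,
      Subgroup.mem_subgroupOf]
    exact ⟨fun h => absurd h haσ, fun h => absurd h hbσ⟩
  simpa [hZ', Subgroup.mem_subgroupOf] using h1

end DihData

/-- A non-central involution (not conjugate into `⟨σ⟩`) has centralizer with `2`-part at most 4. -/
theorem factorization_centralizer_le_two [Finite G] (P : Sylow 2 G) {σ : G} {m : ℕ}
    (h : DihData (P : Subgroup G) σ m) (hm0 : 0 < m) (hm : Even m) {u : G} (hu2 : u * u = 1)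
    (hu1 : u ≠ 1) (hnc : ∀ g : G, g * u * g⁻¹ ∉ Subgroup.zpowers σ) :
    (Nat.card (Subgroup.centralizer ({u} : Set G))).factorization 2 ≤ 2 := by
  classical
  haveI : Fact (Nat.Prime 2) := ⟨Nat.prime_two⟩
  have huord : orderOf u = 2 := orderOf_eq_prime (by rw [pow_two]; exact hu2) hu1
  have hup : IsPGroup 2 (Subgroup.zpowers u) := by
    apply IsPGroup.of_card (n := 1)
    rw [Nat.card_zpowers, huord, pow_one]
  obtain ⟨g, hgP, hcard⟩ := exists_conj_sylow_centralizer P u hup
  set u' := g * u * g⁻¹ with hu'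
  have hu'σ : u' ∉ Subgroup.zpowers σ := hnc g
  have hu'2 : u' * u' = 1 := by
    rw [hu']
    calc g * u * g⁻¹ * (g * u * g⁻¹) = g * (u * u) * g⁻¹ := by group
      _ = 1 := by rw [hu2]; group
  have hu'inv : u'⁻¹ = u' := inv_eq_of_mul_eq_one_right hu'2
  set J := σ ^ (m / 2) with hJ
  -- elements of ⟨σ⟩ commuting with u' are 1 or J
  have key : ∀ b ∈ Subgroup.zpowers σ, u' * b = b * u' → b = 1 ∨ b = J := by
    intro b hb hcomm
    apply h.sq_eq_one_cases hm0 hm hb
    obtain ⟨j, _, rfl⟩ := h.exists_pow_eq hm0 hb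
    have h1 := h.conj_pow hgP hu'σ j
    rw [hcomm, mul_inv_cancel_right] at h1
    nth_rewrite 2 [h1]
    exact mul_inv_cancel _
  set K : Subgroup G := (P : Subgroup G) ⊓ Subgroup.centralizer ({u'} : Set G) with hK
  have hsub : (K : Set G) ⊆ ↑({1, J, u', u' * J} : Finset G) := by
    intro a ha
    have haP : a ∈ (P : Subgroup G) := ha.1
    have hac : u' * a = a * u' :=
      Subgroup.mem_centralizer_iff.mp ha.2 u' (Set.mem_singleton u')
    rw [Finset.coe_insert, Finset.coe_insert, Finset.coe_insert, Finset.coe_singleton]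
    by_cases haσ : a ∈ Subgroup.zpowers σ
    · rcases key a haσ hac with h1 | h1
      · left; exact h1
      · right; left; exact h1
    · have hb : u' * a ∈ Subgroup.zpowers σ := h.mul_mem_zpowers hm0 hgP haP hu'σ haσ
      have hbc : u' * (u' * a) = u' * a * u' := by
        calc u' * (u' * a) = u' * (a * u') := by rw [hac]
          _ = u' * a * u' := (mul_assoc _ _ _).symm
      have ha' : a = u' * (u' * a) := by rw [← mul_assoc, hu'2, one_mul]
      rcases key _ hb hbc with h1 | h1
      · right; right; left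
        show a = u'
        rw [ha', h1, mul_one]
      · right; right; right
        show a = u' * J
        rw [ha', h1]
  have hKcard : Nat.card K ≤ 4 := by
    have h1 : Nat.card K = (K : Set G).ncard := (Nat.card_coe_set_eq (K : Set G))
    rw [h1]
    calc (K : Set G).ncard ≤ (↑({1, J, u', u' * J} : Finset G) : Set G).ncard :=
          Set.ncard_le_ncard hsub (Finset.finite_toSet _)
      _ = ({1, J, u', u' * J} : Finset G).card := Set.ncard_coe_finset _
      _ ≤ 4 := Finset.card_le_four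
  rw [hcard] at hKcard
  have : (2 : ℕ) ^ (Nat.card (Subgroup.centralizer ({u} : Set G))).factorization 2 ≤ 2 ^ 2 := by
    simpa using hKcard
  exact (Nat.pow_le_pow_iff_right (by norm_num)).mp this

end Cfsg.Agent.Lib.H22.Dih
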