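import Mathlib

/-!
# Groups of order `4 g₀` (`g₀` odd) without a normal 2-complement (helper22)

Group-theoretic part of Brauer's order formula for groups with a Klein four Sylow 2-subgroup:
fusion of involutions, normal 2-complement of the centralizer of an involution, counting
pairs of involutions whose product lies in the coset `J O(C(J))`.
-/

set_option autoImplicit false

namespace Cfsg.Agent.Lib.H22.KleinGroup

open Subgroup

section Basic

variable {G : Type*} [Group G]

theorem commute_of_odd_pow_of_sq {g y : G} {k : ℕ} (hk : Odd k) (h1 : Commute (g ^ k) y)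
    (h2 : Commute (g ^ 2) y) : Commute g y := by
  obtain ⟨m, rfl⟩ := hk
  have h3 : Commute ((g ^ 2) ^ m) y := h2.pow_left m
  have h4 : g = ((g ^ 2) ^ m)⁻¹ * g ^ (2 * m + 1) := by
    rw [← pow_mul, pow_succ, ← mul_assoc, inv_mul_cancel, one_mul]
  rw [h4]
  exact h3.inv_left.mul_left h1

theorem eq_of_card_four {α : Type*} [Finite α] (h : Nat.card α = 4) {w x y z : α}
    (h1 : w ≠ x) (h2 : w ≠ y) (h3 : w ≠ z) (h4 : x ≠ y) (h5 : x ≠ z) (h6 : y ≠ z) (t : α) :
    t = w ∨ t = x ∨ t = y ∨ t = z := by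
  classical
  haveI := Fintype.ofFinite α
  have hS : ({w, x, y, z} : Finset α).card = 4 := by
    rw [Finset.card_insert_of_notMem (by simp [h1, h2, h3]),
      Finset.card_insert_of_notMem (by simp [h4, h5]),
      Finset.card_insert_of_notMem (by simp [h6]), Finset.card_singleton]
  have hU : ({w, x, y, z} : Finset α) = Finset.univ :=
    Finset.eq_univ_of_card _ (by rw [hS, ← Nat.card_eq_fintype_card, h])
  have ht : t ∈ ({w, x, y, z} : Finset α) := by rw [hU]; exact Finset.mem_univ t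
  simpa using ht

/-- The fibre of `s ↦ s g s⁻¹` over a conjugate is a coset of the centralizer. -/
theorem card_fiber_conj' (g h : G) :
    Nat.card {s : G // s * g * s⁻¹ = h * g * h⁻¹} = Nat.card (centralizer ({g} : Set G)) := by
  refine Nat.card_congr ?_
  refine ⟨fun s => ⟨h⁻¹ * s.1, ?_⟩, fun z => ⟨h * z.1, ?_⟩, ?_, ?_⟩
  · obtain ⟨s, h1⟩ := s
    rw [mem_centralizer_singleton_iff]
    have h2 : s * g = h * g * h⁻¹ * s := by
      calc s * g = (s * g * s⁻¹) * s := by group
        _ = h * g * h⁻¹ * s := by rw [h1]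
    calc h⁻¹ * s * g = h⁻¹ * (s * g) := by group
      _ = h⁻¹ * (h * g * h⁻¹ * s) := by rw [h2]
      _ = g * (h⁻¹ * s) := by group
  · obtain ⟨z, hz'⟩ := z
    have hz : z * g = g * z := mem_centralizer_singleton_iff.1 hz'
    show h * z * g * (h * z)⁻¹ = h * g * h⁻¹
    calc h * z * g * (h * z)⁻¹ = h * (z * g) * z⁻¹ * h⁻¹ := by group
      _ = h * (g * z) * z⁻¹ * h⁻¹ := by rw [hz]
      _ = h * g * h⁻¹ := by group
  · intro s; apply Subtype.ext; simp
  · intro z; apply Subtype.ext; simp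

open scoped Classical in
theorem sum_ite_conj [Fintype G] (g h : G) :
    (∑ s : G, if s * g * s⁻¹ = h * g * h⁻¹ then 1 else 0) =
      Nat.card (centralizer ({g} : Set G)) := by
  rw [← card_fiber_conj' g h, Nat.card_eq_fintype_card, Fintype.card_subtype, Finset.sum_boole]
  simp

end Basic

section Sylow2

variable {G : Type*} [Group G] [Finite G]

theorem exists_odd_pow_mem (P : Sylow 2 G) {g : G}
    (hg : g ∈ normalizer ((P : Subgroup G) : Set G)) :
    ∃ k : ℕ, Odd k ∧ g ^ k ∈ (P : Subgroup G) := by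
  obtain ⟨e, k, hk, hek⟩ := Nat.exists_eq_two_pow_mul_odd (orderOf_pos g).ne'
  refine ⟨k, hk, ?_⟩
  have h1 : (g ^ k) ^ (2 ^ e) = 1 := by
    rw [← pow_mul, mul_comm, ← hek, pow_orderOf_eq_one]
  have h2 : IsPGroup 2 (zpowers (g ^ k)) := by
    obtain ⟨m, _, hm⟩ := (Nat.dvd_prime_pow Nat.prime_two).1 (orderOf_dvd_of_pow_eq_one h1)
    exact IsPGroup.of_card (n := m) (by rw [Nat.card_zpowers, hm])
  have h3 := h2.inf_normalizer_sylow P
  have h4 : g ^ k ∈ zpowers (g ^ k) ⊓ normalizer ((P : Subgroup G) : Set G) :=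
    ⟨mem_zpowers _, (normalizer ((P : Subgroup G) : Set G)).pow_mem hg k⟩
  exact (h3.le h4).2

theorem exists_conj_mem_sylow (P : Sylow 2 G) {y : G} {e : ℕ} (hy : y ^ (2 ^ e) = 1) :
    ∃ g : G, g⁻¹ * y * g ∈ (P : Subgroup G) := by
  have : Fact (Nat.Prime 2) := ⟨Nat.prime_two⟩
  have h2 : IsPGroup 2 (zpowers y) := by
    obtain ⟨m, _, hm⟩ := (Nat.dvd_prime_pow Nat.prime_two).1 (orderOf_dvd_of_pow_eq_one hy)
    exact IsPGroup.of_card (n := m) (by rw [Nat.card_zpowers, hm])
  obtain ⟨Q, hQ⟩ := h2.exists_le_sylow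
  obtain ⟨g, hg⟩ := MulAction.exists_smul_eq G P Q
  refine ⟨g, ?_⟩
  have htQ : y ∈ (Q : Subgroup G) := hQ (mem_zpowers y)
  rw [← hg, Sylow.coe_subgroup_smul, mem_pointwise_smul_iff_inv_smul_mem] at htQ
  simpa only [MulAut.smul_def, ← map_inv, MulAut.conj_apply, inv_inv] using htQ

theorem fusion {g₀ : ℕ} (hg₀ : Odd g₀) (hG : Nat.card G = 4 * g₀)
    (hnc : ¬ ∃ N : Subgroup G, N.Normal ∧ Nat.card N = g₀) (P : Sylow 2 G) :
    Nat.card (P : Subgroup G) = 4 ∧
    (∀ x ∈ (P : Subgroup G), ∀ y ∈ (P : Subgroup G), x * y = y * x) ∧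
    ∀ x ∈ (P : Subgroup G), x ≠ 1 → ∀ y ∈ (P : Subgroup G), y ≠ 1 → ∃ h : G, h * x * h⁻¹ = y := by
  have : Fact (Nat.Prime 2) := ⟨Nat.prime_two⟩
  have hfac : (4 * g₀).factorization 2 = 2 := by
    have h4 : (4 : ℕ) = 2 ^ 2 := by norm_num
    rw [Nat.factorization_mul (by norm_num) hg₀.pos.ne', Finsupp.add_apply, h4,
      Nat.Prime.factorization_pow Nat.prime_two, Finsupp.single_eq_same,
      Nat.factorization_eq_zero_of_not_dvd hg₀.not_two_dvd_nat]
  have hcard : Nat.card (P : Subgroup G) = 4 := by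
    rw [P.card_eq_multiplicity, hG, hfac]; norm_num
  have hc : ∀ a b : ↥(P : Subgroup G), a * b = b * a :=
    IsPGroup.commutative_of_card_eq_prime_sq (p := 2) (by rw [hcard]; norm_num)
  have hcomm : ∀ x ∈ (P : Subgroup G), ∀ y ∈ (P : Subgroup G), x * y = y * x := by
    intro x hx y hy
    exact congrArg Subtype.val (hc ⟨x, hx⟩ ⟨y, hy⟩)
  refine ⟨hcard, hcomm, ?_⟩
  have hex : ∃ g ∈ normalizer ((P : Subgroup G) : Set G),
      g ∉ centralizer ((P : Subgroup G) : Set G) := by
    by_contra hcon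
    push Not at hcon
    have hle : normalizer ((P : Subgroup G) : Set G) ≤ centralizer ((P : Subgroup G) : Set G) :=
      fun g hg => hcon g hg
    have hcompl := MonoidHom.ker_transferSylow_isComplement' P hle
    have h1 := hcompl.card_mul_card
    apply hnc
    refine ⟨(MonoidHom.transferSylow P hle).ker, inferInstance, ?_⟩
    rw [hcard, hG] at h1
    omega
  obtain ⟨g, hgN, hgC⟩ := hex
  obtain ⟨k, hk, hgk⟩ := exists_odd_pow_mem P hgN
  rw [mem_centralizer_iff] at hgC
  push Not at hgC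
  obtain ⟨y, hyP, hyg⟩ := hgC
  have hyP' : y ∈ (P : Subgroup G) := hyP
  have hN := mem_normalizer_iff.1 hgN
  obtain ⟨y₂, hy₂⟩ : ∃ y₂, y₂ = g * y * g⁻¹ := ⟨_, rfl⟩
  obtain ⟨y₃, hy₃⟩ : ∃ y₃, y₃ = g * y₂ * g⁻¹ := ⟨_, rfl⟩
  have hy₂P : y₂ ∈ (P : Subgroup G) := by rw [hy₂]; exact (hN y).1 hyP'
  have hy₃P : y₃ ∈ (P : Subgroup G) := by rw [hy₃]; exact (hN y₂).1 hy₂P
  have hy1 : y ≠ 1 := by
    rintro rfl
    exact hyg (by simp)
  have h12 : y ≠ y₂ := by
    intro h
    apply hyg
    have e1 : y * g = y₂ * g := by rw [← h]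
    rw [e1, hy₂]; group
  have hback2 : y = g⁻¹ * y₂ * g := by rw [hy₂]; group
  have hback3 : y₂ = g⁻¹ * y₃ * g := by rw [hy₃]; group
  have h23 : y₂ ≠ y₃ := by
    intro h
    apply h12
    calc y = g⁻¹ * y₂ * g := hback2
      _ = g⁻¹ * y₃ * g := by rw [h]
      _ = y₂ := hback3.symm
  have h13 : y ≠ y₃ := by
    intro h
    apply hyg
    have e1 : g ^ 2 * y = y₃ * g ^ 2 := by rw [hy₃, hy₂, pow_two]; group
    rw [← h] at e1
    have hc2 : Commute (g ^ 2) y := e1
    have hck : Commute (g ^ k) y := hcomm _ hgk _ hyP'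
    exact (commute_of_odd_pow_of_sq hk hck hc2).eq.symm
  have hy₂1 : y₂ ≠ 1 := by
    intro h
    apply hy1
    rw [hback2, h]; group
  have hy₃1 : y₃ ≠ 1 := by
    intro h
    apply hy₂1
    rw [hback3, h]; group
  have henum : ∀ z ∈ (P : Subgroup G), z ≠ 1 → ∃ n : ℕ, z = g ^ n * y * (g ^ n)⁻¹ := by
    intro z hz hz1
    have h4 := eq_of_card_four hcard (w := (1 : ↥(P : Subgroup G))) (x := ⟨y, hyP'⟩)
      (y := ⟨y₂, hy₂P⟩) (z := ⟨y₃, hy₃P⟩)
      (fun h => hy1 (congrArg Subtype.val h).symm)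
      (fun h => hy₂1 (congrArg Subtype.val h).symm)
      (fun h => hy₃1 (congrArg Subtype.val h).symm)
      (fun h => h12 (congrArg Subtype.val h))
      (fun h => h13 (congrArg Subtype.val h))
      (fun h => h23 (congrArg Subtype.val h)) ⟨z, hz⟩
    rcases h4 with h | h | h | h
    · exact absurd (congrArg Subtype.val h) hz1
    · refine ⟨0, ?_⟩
      have : z = y := congrArg Subtype.val h
      rw [this]; simp
    · refine ⟨1, ?_⟩
      have : z = y₂ := congrArg Subtype.val h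
      rw [this, hy₂]; simp
    · refine ⟨2, ?_⟩
      have : z = y₃ := congrArg Subtype.val h
      rw [this, hy₃, hy₂, pow_two]; group
  intro x hx hx1 z hz hz1
  obtain ⟨n, hn⟩ := henum x hx hx1
  obtain ⟨m, hm⟩ := henum z hz hz1
  refine ⟨g ^ m * (g ^ n)⁻¹, ?_⟩
  rw [hn, hm]; group

/-- Enumeration of a group of order four of exponent two. -/
theorem klein_enum (P : Subgroup G) (hcard : Nat.card P = 4)
    (hsq : ∀ x ∈ P, x * x = 1) {J a : G} (hJ : J ∈ P) (hJ1 : J ≠ 1) (ha : a ∈ P) (ha1 : a ≠ 1)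
    (haJ : a ≠ J) : ∀ x ∈ P, x = 1 ∨ x = J ∨ x = a ∨ x = a * J := by
  intro x hx
  have h4 := eq_of_card_four hcard (w := (1 : ↥P)) (x := ⟨J, hJ⟩) (y := ⟨a, ha⟩)
    (z := ⟨a * J, P.mul_mem ha hJ⟩)
    (fun h => hJ1 (congrArg Subtype.val h).symm)
    (fun h => ha1 (congrArg Subtype.val h).symm)
    (fun h => by
      have h1 : (1 : G) = a * J := congrArg Subtype.val h
      apply haJ
      calc a = a * (J * J) := by rw [hsq J hJ, mul_one]
        _ = (a * J) * J := by rw [mul_assoc]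
        _ = J := by rw [← h1, one_mul])
    (fun h => haJ (congrArg Subtype.val h).symm)
    (fun h => by
      have h1 : J = a * J := congrArg Subtype.val h
      apply ha1
      have h2 : a * J = 1 * J := by rw [one_mul]; exact h1.symm
      exact mul_right_cancel h2)
    (fun h => by
      have h1 : a = a * J := congrArg Subtype.val h
      apply hJ1
      have h2 : a * J = a * 1 := by rw [mul_one]; exact h1.symm
      exact mul_left_cancel h2) ⟨x, hx⟩
  rcases h4 with h | h | h | h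
  · left; exact congrArg Subtype.val h
  · right; left; exact congrArg Subtype.val h
  · right; right; left; exact congrArg Subtype.val h
  · right; right; right; exact congrArg Subtype.val h

theorem exists_third (P : Subgroup G) (hcard : Nat.card P = 4) {J : G} (hJ : J ∈ P) :
    ∃ a ∈ P, a ≠ 1 ∧ a ≠ J := by
  classical
  haveI := Fintype.ofFinite ↥P
  have hlt : ({1, ⟨J, hJ⟩} : Finset ↥P).card < (Finset.univ : Finset ↥P).card := by
    rw [Finset.card_univ, ← Nat.card_eq_fintype_card, hcard]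
    exact lt_of_le_of_lt (Finset.card_insert_le _ _) (by simp)
  obtain ⟨a, _, ha⟩ := Finset.exists_mem_notMem_of_card_lt_card hlt
  simp only [Finset.mem_insert, Finset.mem_singleton, not_or] at ha
  exact ⟨a, a.2, fun h => ha.1 (Subtype.ext h), fun h => ha.2 (Subtype.ext h)⟩

theorem centralizes_of_fix (P : Subgroup G) (hcard : Nat.card P = 4)
    (hsq : ∀ x ∈ P, x * x = 1) (hcomm : ∀ x ∈ P, ∀ y ∈ P, x * y = y * x)
    {J : G} (hJ : J ∈ P) (hJ1 : J ≠ 1) {n : G} (hnJ : n * J = J * n)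
    (hn : ∀ x ∈ P, n * x * n⁻¹ ∈ P) {k : ℕ} (hk : Odd k) (hnk : n ^ k ∈ P) :
    ∀ x ∈ P, n * x = x * n := by
  obtain ⟨a, haP, ha1, haJ⟩ := exists_third P hcard hJ
  have henum := klein_enum P hcard hsq hJ hJ1 haP ha1 haJ
  have hback : a = n⁻¹ * (n * a * n⁻¹) * n := by group
  have key : n * a = a * n := by
    have h1 : n * a * n⁻¹ ∈ P := hn a haP
    rcases henum _ h1 with h | h | h | h
    · exfalso; apply ha1
      rw [hback, h]; group
    · exfalso; apply haJ
      calc a = n⁻¹ * (n * a * n⁻¹) * n := hback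
        _ = n⁻¹ * (J * n) := by rw [h]; group
        _ = n⁻¹ * (n * J) := by rw [hnJ]
        _ = J := by group
    · calc n * a = (n * a * n⁻¹) * n := by group
        _ = a * n := by rw [h]
    · exfalso
      have h2 : n * (a * J) * n⁻¹ = a := by
        calc n * (a * J) * n⁻¹ = (n * a * n⁻¹) * ((n * J) * n⁻¹) := by group
          _ = (a * J) * ((J * n) * n⁻¹) := by rw [h, hnJ]
          _ = a * (J * J) := by group
          _ = a := by rw [hsq J hJ, mul_one]
      have e1 : n ^ 2 * a = (n * (n * a * n⁻¹) * n⁻¹) * n ^ 2 := by rw [pow_two]; group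
      rw [h, h2] at e1
      have hc2 : Commute (n ^ 2) a := e1
      have hck : Commute (n ^ k) a := hcomm _ hnk _ haP
      have hc := (commute_of_odd_pow_of_sq hk hck hc2).eq
      apply hJ1
      have h3 : n * a * n⁻¹ = a := by rw [hc]; group
      rw [h3] at h
      have h5 : a * 1 = a * J := by rw [mul_one]; exact h
      exact (mul_left_cancel h5).symm
  intro x hx
  rcases henum x hx with h | h | h | h
  · rw [h]; simp
  · rw [h]; exact hnJ
  · rw [h]; exact key
  · rw [h]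
    calc n * (a * J) = (n * a) * J := by group
      _ = (a * n) * J := by rw [key]
      _ = a * (n * J) := by group
      _ = a * (J * n) := by rw [hnJ]
      _ = a * J * n := by group

end Sylow2


section Count

variable {G : Type*} [Group G]

open scoped Classical in
/-- Size of the double coset `C g C` (as `{s | s J s⁻¹ is C-conjugate to a}`), `C = C_G(J)`. -/
theorem card_doubleCoset [Fintype G] {J : G} [Fintype ↥(centralizer ({J} : Set G))] {a ga : G}
    (hga : ga * J * ga⁻¹ = a) (haC : a ∈ centralizer ({J} : Set G)) :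
    (∑ s : G, if ∃ c : ↥(centralizer ({J} : Set G)), s * J * s⁻¹ = (c : G) * a * (c : G)⁻¹
        then 1 else 0) *
      Nat.card (centralizer ({(⟨a, haC⟩ : ↥(centralizer ({J} : Set G)))} :
        Set ↥(centralizer ({J} : Set G)))) =
    Nat.card ↥(centralizer ({J} : Set G)) * Nat.card ↥(centralizer ({J} : Set G)) := by
  have h1 : (∑ s : G, ∑ c : ↥(centralizer ({J} : Set G)),
      if s * J * s⁻¹ = (c : G) * a * (c : G)⁻¹ then 1 else 0) =
      Nat.card ↥(centralizer ({J} : Set G)) * Nat.card ↥(centralizer ({J} : Set G)) := by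
    rw [Finset.sum_comm]
    have : ∀ c : ↥(centralizer ({J} : Set G)),
        (∑ s : G, if s * J * s⁻¹ = (c : G) * a * (c : G)⁻¹ then 1 else 0) =
          Nat.card ↥(centralizer ({J} : Set G)) := by
      intro c
      have e : (c : G) * a * (c : G)⁻¹ = ((c : G) * ga) * J * ((c : G) * ga)⁻¹ := by
        rw [← hga]; group
      rw [e]
      exact sum_ite_conj J ((c : G) * ga)
    rw [Finset.sum_congr rfl fun c _ => this c, Finset.sum_const, Finset.card_univ, smul_eq_mul,
      Nat.card_eq_fintype_card]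
  rw [← h1, Finset.sum_mul]
  refine Finset.sum_congr rfl fun s _ => ?_
  by_cases hex : ∃ c : ↥(centralizer ({J} : Set G)), s * J * s⁻¹ = (c : G) * a * (c : G)⁻¹
  · rw [if_pos hex, one_mul]
    obtain ⟨c₀, hc₀⟩ := hex
    rw [← sum_ite_conj (⟨a, haC⟩ : ↥(centralizer ({J} : Set G))) c₀]
    refine Finset.sum_congr rfl fun c _ => ?_
    rw [hc₀]
    have hiff : ((c₀ : G) * a * (c₀ : G)⁻¹ = (c : G) * a * (c : G)⁻¹) ↔
        (c * (⟨a, haC⟩ : ↥(centralizer ({J} : Set G))) * c⁻¹ = c₀ * ⟨a, haC⟩ * c₀⁻¹) := by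
      constructor
      · intro h
        apply Subtype.ext
        simp only [Subgroup.coe_mul, Subgroup.coe_inv]
        exact h.symm
      · intro h
        have := congrArg Subtype.val h
        simp only [Subgroup.coe_mul, Subgroup.coe_inv] at this
        exact this.symm
    by_cases hc : (c₀ : G) * a * (c₀ : G)⁻¹ = (c : G) * a * (c : G)⁻¹
    · rw [if_pos hc, if_pos (hiff.1 hc)]
    · rw [if_neg hc, if_neg (fun h => hc (hiff.2 h))]
  · rw [if_neg hex, zero_mul]
    symm
    refine Finset.sum_eq_zero fun c _ => ?_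
    rw [if_neg]
    intro h
    exact hex ⟨c, h⟩

end Count

section Centralizer

variable {G : Type*} [Group G] [Finite G]

theorem exists_complement_centralizer {g₀ : ℕ} (hg₀ : Odd g₀) (hG : Nat.card G = 4 * g₀)
    (P : Sylow 2 G) (hcard : Nat.card (P : Subgroup G) = 4)
    (hsq : ∀ x ∈ (P : Subgroup G), x * x = 1)
    (hcomm : ∀ x ∈ (P : Subgroup G), ∀ y ∈ (P : Subgroup G), x * y = y * x)
    {J : G} (hJ : J ∈ (P : Subgroup G)) (hJ1 : J ≠ 1) :
    ∃ K : Subgroup ↥(centralizer ({J} : Set G)), K.Normal ∧ Odd (Nat.card K) ∧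
      4 * Nat.card K = Nat.card ↥(centralizer ({J} : Set G)) ∧
      (∀ c : ↥(centralizer ({J} : Set G)), ∃ π : ↥(centralizer ({J} : Set G)),
        (π : G) ∈ (P : Subgroup G) ∧ π⁻¹ * c ∈ K) ∧
      (∀ c d : ↥(centralizer ({J} : Set G)), c * d * c⁻¹ * d⁻¹ ∈ K) := by
  have : Fact (Nat.Prime 2) := ⟨Nat.prime_two⟩
  have hPC : (P : Subgroup G) ≤ centralizer ({J} : Set G) := by
    intro x hx
    rw [mem_centralizer_singleton_iff]
    exact hcomm x hx J hJ
  obtain ⟨P', hP'⟩ : ∃ P' : Sylow 2 ↥(centralizer ({J} : Set G)), P' = P.subtype hPC := ⟨_, rfl⟩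
  have hP'mem : ∀ x : ↥(centralizer ({J} : Set G)),
      x ∈ (P' : Subgroup ↥(centralizer ({J} : Set G))) ↔ (x : G) ∈ (P : Subgroup G) := by
    intro x
    rw [hP', Sylow.coe_subtype, mem_subgroupOf]
  have hle : normalizer ((P' : Subgroup ↥(centralizer ({J} : Set G))) : Set ↥(centralizer ({J} : Set G)))
      ≤ centralizer ((P' : Subgroup ↥(centralizer ({J} : Set G))) : Set ↥(centralizer ({J} : Set G))) := by
    intro n hn
    rw [mem_centralizer_iff]
    intro x hx
    have hxP : (x : G) ∈ (P : Subgroup G) := (hP'mem x).1 hx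
    obtain ⟨k, hk, hnk⟩ := exists_odd_pow_mem P' hn
    have hnk' : (n : G) ^ k ∈ (P : Subgroup G) := by
      have := (hP'mem (n ^ k)).1 hnk
      simpa using this
    have hnJ : (n : G) * J = J * (n : G) := mem_centralizer_singleton_iff.1 n.2
    have hnP : ∀ z ∈ (P : Subgroup G), (n : G) * z * (n : G)⁻¹ ∈ (P : Subgroup G) := by
      intro z hz
      have h1 := (mem_normalizer_iff.1 hn ⟨z, hPC hz⟩).1 ((hP'mem _).2 hz)
      have h2 := (hP'mem _).1 h1
      simpa using h2
    have h3 := centralizes_of_fix (P : Subgroup G) hcard hsq hcomm hJ hJ1 hnJ hnP hk hnk'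
      (x : G) hxP
    apply Subtype.ext
    simp only [Subgroup.coe_mul]
    exact h3.symm
  obtain ⟨φ, hφ⟩ : ∃ φ, φ = MonoidHom.transferSylow P' hle := ⟨_, rfl⟩
  have hcompl : (φ.ker).IsComplement' (P' : Subgroup ↥(centralizer ({J} : Set G))) := by
    rw [hφ]; exact MonoidHom.ker_transferSylow_isComplement' P' hle
  have hcardP' : Nat.card (P' : Subgroup ↥(centralizer ({J} : Set G))) = 4 := by
    rw [hP', Sylow.coe_subtype, ← hcard]
    exact Nat.card_congr (subgroupOfEquivOfLe hPC).toEquiv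
  have hmul := hcompl.card_mul_card
  rw [hcardP'] at hmul
  have hodd : Odd (Nat.card φ.ker) := by
    have h1 : Nat.card ↥(centralizer ({J} : Set G)) ∣ Nat.card G :=
      card_subgroup_dvd_card (centralizer ({J} : Set G))
    rw [← hmul, hG] at h1
    have h2 : Nat.card φ.ker ∣ g₀ := by
      have : 4 * Nat.card φ.ker ∣ 4 * g₀ := by rwa [mul_comm] at h1
      exact (Nat.mul_dvd_mul_iff_left (by norm_num)).1 this
    exact hg₀.of_dvd_nat h2
  have hcP' : ∀ p q : ↥(P' : Subgroup ↥(centralizer ({J} : Set G))), p * q = q * p := by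
    intro p q
    apply Subtype.ext
    apply Subtype.ext
    simp only [Subgroup.coe_mul]
    exact hcomm _ ((hP'mem _).1 p.2) _ ((hP'mem _).1 q.2)
  refine ⟨φ.ker, inferInstance, hodd, by omega, ?_, ?_⟩
  · intro c
    have hπ : ((φ c : ↥(P' : Subgroup ↥(centralizer ({J} : Set G)))) :
        ↥(centralizer ({J} : Set G))) ∈ (P' : Subgroup ↥(centralizer ({J} : Set G))) := (φ c).2
    refine ⟨((φ c : ↥(P' : Subgroup ↥(centralizer ({J} : Set G)))) :
        ↥(centralizer ({J} : Set G))), (hP'mem _).1 hπ, ?_⟩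
    rw [MonoidHom.mem_ker, map_mul, map_inv]
    have h1 := MonoidHom.transferSylow_eq_pow P' hle _ hπ
    rw [← hφ] at h1
    have hidx : (P' : Subgroup ↥(centralizer ({J} : Set G))).index = Nat.card φ.ker :=
      hcompl.index_eq_card
    obtain ⟨m, hm⟩ := hodd
    have hsq' : ((φ c : ↥(P' : Subgroup ↥(centralizer ({J} : Set G)))) :
        ↥(centralizer ({J} : Set G))) * ((φ c : ↥(P' : Subgroup ↥(centralizer ({J} : Set G)))) :
        ↥(centralizer ({J} : Set G))) = 1 := by
      apply Subtype.ext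
      simp only [Subgroup.coe_mul, Subgroup.coe_one]
      exact hsq _ ((hP'mem _).1 hπ)
    have hpow : ((φ c : ↥(P' : Subgroup ↥(centralizer ({J} : Set G)))) :
        ↥(centralizer ({J} : Set G))) ^ (P' : Subgroup ↥(centralizer ({J} : Set G))).index =
        ((φ c : ↥(P' : Subgroup ↥(centralizer ({J} : Set G)))) :
        ↥(centralizer ({J} : Set G))) := by
      rw [hidx, hm, pow_succ, pow_mul, pow_two, hsq', one_pow, one_mul]
    have h2 : φ ((φ c : ↥(P' : Subgroup ↥(centralizer ({J} : Set G)))) :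
        ↥(centralizer ({J} : Set G))) = φ c := by
      rw [h1]
      apply Subtype.ext
      exact hpow
    rw [h2, inv_mul_cancel]
  · intro c d
    rw [MonoidHom.mem_ker, map_mul, map_mul, map_mul, map_inv, map_inv, hcP' (φ c) (φ d)]
    group

end Centralizer

/-- The local data: `P` a Klein four group containing `J`, all of whose involutions are fused to
`J`, and `K` a normal complement of odd order to `P` in `C_G(J)`. -/
structure KData {G : Type*} [Group G] (P : Subgroup G) (J : G)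
    (K : Subgroup ↥(centralizer ({J} : Set G))) : Prop where
  card : Nat.card P = 4
  sq : ∀ x ∈ P, x * x = 1
  comm : ∀ x ∈ P, ∀ y ∈ P, x * y = y * x
  hJ : J ∈ P
  hJ1 : J ≠ 1
  normal : K.Normal
  odd : Odd (Nat.card K)
  decomp : ∀ c : ↥(centralizer ({J} : Set G)), ∃ π : ↥(centralizer ({J} : Set G)),
    (π : G) ∈ P ∧ π⁻¹ * c ∈ K
  comm_mem : ∀ c d : ↥(centralizer ({J} : Set G)), c * d * c⁻¹ * d⁻¹ ∈ K
  fus : ∀ x ∈ P, x ≠ 1 → ∃ h : G, h * J * h⁻¹ = x

namespace KData

variable {G : Type*} [Group G] [Finite G] {P : Subgroup G} {J : G}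
  {K : Subgroup ↥(centralizer ({J} : Set G))}

theorem le (h : KData P J K) : P ≤ centralizer ({J} : Set G) := by
  intro x hx
  rw [mem_centralizer_singleton_iff]
  exact h.comm x hx J h.hJ

theorem eq_one_of_sq (h : KData P J K) {x : ↥(centralizer ({J} : Set G))} (hx : x ∈ K)
    (hx2 : x * x = 1) : x = 1 := by
  have h1 : orderOf x ∣ 2 := orderOf_dvd_of_pow_eq_one (by rw [pow_two, hx2])
  have h2 : orderOf x ∣ Nat.card K := Subgroup.orderOf_dvd_natCard K hx
  rcases (Nat.dvd_prime Nat.prime_two).1 h1 with h3 | h3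
  · exact orderOf_eq_one_iff.1 h3
  · exfalso
    rw [h3] at h2
    exact h.odd.not_two_dvd_nat h2

theorem odd_orderOf (h : KData P J K) {x : ↥(centralizer ({J} : Set G))} (hx : x ∈ K) :
    Odd (orderOf x) :=
  h.odd.of_dvd_nat (Subgroup.orderOf_dvd_natCard K hx)

theorem conj_iff_coset (h : KData P J K) {a : G} (ha : a ∈ P) {u : G} (hu : u * u = 1) :
    (∃ c : ↥(centralizer ({J} : Set G)), u = (c : G) * a * (c : G)⁻¹) ↔
      ∃ κ : ↥(centralizer ({J} : Set G)), κ ∈ K ∧ u = a * (κ : G) := by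
  have haa : a * a = 1 := h.sq a ha
  have hinv : a⁻¹ = a := inv_eq_of_mul_eq_one_right haa
  constructor
  · rintro ⟨c, rfl⟩
    refine ⟨(⟨a, h.le ha⟩ : ↥(centralizer ({J} : Set G)))⁻¹ * c * ⟨a, h.le ha⟩ * c⁻¹, ?_, ?_⟩
    · have := h.comm_mem (⟨a, h.le ha⟩ : ↥(centralizer ({J} : Set G)))⁻¹ c
      rwa [inv_inv] at this
    · simp only [Subgroup.coe_mul, Subgroup.coe_inv, Subgroup.coe_mk]
      group
  · rintro ⟨κ, hκ, rfl⟩
    obtain ⟨j, hj⟩ := h.odd_orderOf hκ
    have hord : (κ : G) ^ (2 * j + 1) = 1 := by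
      have h0 : κ ^ (2 * j + 1) = 1 := by rw [← hj]; exact pow_orderOf_eq_one κ
      have := congrArg Subtype.val h0
      simpa using this
    have h1 : a * (κ : G) * a = (κ : G)⁻¹ := by
      have h0 : a * (κ : G) * a * (κ : G) = 1 := by rw [← hu]; group
      exact eq_inv_of_mul_eq_one_left h0
    have h2 : a * (κ : G) * a⁻¹ = (κ : G)⁻¹ := by rw [hinv]; exact h1
    have hs2 : (κ : G) ^ (j + 1) * (κ : G) ^ (j + 1) = (κ : G) := by
      rw [← pow_add]
      have : j + 1 + (j + 1) = 2 * j + 1 + 1 := by ring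
      rw [this, pow_succ, hord, one_mul]
    have h3 : a * (κ : G) ^ (j + 1) * a⁻¹ = ((κ : G) ^ (j + 1))⁻¹ := by
      rw [← conj_pow, h2, inv_pow]
    have h4 : ((κ : G) ^ (j + 1))⁻¹ * a = a * (κ : G) ^ (j + 1) := by
      rw [← h3]; group
    refine ⟨(κ ^ (j + 1))⁻¹, ?_⟩
    simp only [Subgroup.coe_inv, SubmonoidClass.coe_pow, inv_inv]
    rw [h4, mul_assoc, hs2]

theorem card_centralizer_eq (h : KData P J K) {a : G} (ha : a ∈ P) (ha1 : a ≠ 1) (haJ : a ≠ J) :
    Nat.card (centralizer ({(⟨a, h.le ha⟩ : ↥(centralizer ({J} : Set G)))} :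
      Set ↥(centralizer ({J} : Set G)))) = Nat.card (centralizer (P : Set G)) := by
  have henum := klein_enum P h.card h.sq h.hJ h.hJ1 ha ha1 haJ
  have hto : ∀ x : ↥(centralizer ({J} : Set G)),
      x ∈ centralizer ({(⟨a, h.le ha⟩ : ↥(centralizer ({J} : Set G)))} :
        Set ↥(centralizer ({J} : Set G))) → (x : G) ∈ centralizer (P : Set G) := by
    intro x hx
    have hxa : (x : G) * a = a * (x : G) := by
      have := congrArg Subtype.val (mem_centralizer_singleton_iff.1 hx)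
      simpa using this
    have hxJ : (x : G) * J = J * (x : G) := mem_centralizer_singleton_iff.1 x.2
    rw [mem_centralizer_iff]
    intro p hp
    rcases henum p hp with e | e | e | e
    · rw [e]; simp
    · rw [e]; exact hxJ.symm
    · rw [e]; exact hxa.symm
    · rw [e]
      calc a * J * (x : G) = a * (J * (x : G)) := by group
        _ = a * ((x : G) * J) := by rw [hxJ]
        _ = (a * (x : G)) * J := by group
        _ = ((x : G) * a) * J := by rw [hxa]
        _ = (x : G) * (a * J) := by group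
  have hfromC : ∀ y ∈ centralizer (P : Set G), y ∈ centralizer ({J} : Set G) := by
    intro y hy
    rw [mem_centralizer_singleton_iff]
    exact ((mem_centralizer_iff.1 hy) J h.hJ).symm
  have hfrom : ∀ y (hy : y ∈ centralizer (P : Set G)),
      (⟨y, hfromC y hy⟩ : ↥(centralizer ({J} : Set G))) ∈
        centralizer ({(⟨a, h.le ha⟩ : ↥(centralizer ({J} : Set G)))} :
          Set ↥(centralizer ({J} : Set G))) := by
    intro y hy
    rw [mem_centralizer_singleton_iff]
    apply Subtype.ext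
    simp only [Subgroup.coe_mul]
    exact ((mem_centralizer_iff.1 hy) a ha).symm
  exact Nat.card_congr ⟨fun x => ⟨_, hto x.1 x.2⟩, fun y => ⟨⟨y.1, hfromC _ y.2⟩, hfrom _ y.2⟩,
    fun x => Subtype.ext (Subtype.ext rfl), fun y => Subtype.ext rfl⟩

theorem prod_iff (h : KData P J K) {a : G} (ha : a ∈ P) (ha1 : a ≠ 1) (haJ : a ≠ J) {u v : G}
    (hu : u * u = 1) (hv : v * v = 1) (hu1 : u ≠ 1) (hv1 : v ≠ 1) :
    (∃ κ : ↥(centralizer ({J} : Set G)), κ ∈ K ∧ u * v = J * (κ : G)) ↔
      ((∃ κ : ↥(centralizer ({J} : Set G)), κ ∈ K ∧ u = a * (κ : G)) ∧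
        (∃ κ : ↥(centralizer ({J} : Set G)), κ ∈ K ∧ v = a * J * (κ : G))) ∨
      ((∃ κ : ↥(centralizer ({J} : Set G)), κ ∈ K ∧ u = a * J * (κ : G)) ∧
        (∃ κ : ↥(centralizer ({J} : Set G)), κ ∈ K ∧ v = a * (κ : G))) := by
  have haa : a * a = 1 := h.sq a ha
  have hinv : a⁻¹ = a := inv_eq_of_mul_eq_one_right haa
  have hJJ : J * J = 1 := h.sq J h.hJ
  have hJinv : J⁻¹ = J := inv_eq_of_mul_eq_one_right hJJ
  have haJc : a * J = J * a := h.comm a ha J h.hJ
  have hJC : J ∈ centralizer ({J} : Set G) := h.le h.hJ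
  have haC : a ∈ centralizer ({J} : Set G) := h.le ha
  constructor
  · rintro ⟨κ, hκ, huv⟩
    obtain ⟨j, hj⟩ := h.odd_orderOf hκ
    have hord : (κ : G) ^ (2 * j + 1) = 1 := by
      have h0 : κ ^ (2 * j + 1) = 1 := by rw [← hj]; exact pow_orderOf_eq_one κ
      have := congrArg Subtype.val h0
      simpa using this
    have hρJ : (κ : G) * J = J * (κ : G) := mem_centralizer_singleton_iff.1 κ.2
    have hJpow : J ^ (2 * j + 1) = J := by
      rw [pow_succ, pow_mul, pow_two, hJJ, one_pow, one_mul]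
    have hw : (u * v) ^ (2 * j + 1) = J := by
      have hc : Commute J (κ : G) := hρJ.symm
      rw [huv, hc.mul_pow, hJpow, hord, mul_one]
    have huinv : u⁻¹ = u := inv_eq_of_mul_eq_one_right hu
    have hvinv : v⁻¹ = v := inv_eq_of_mul_eq_one_right hv
    have hconj : u * (u * v) * u⁻¹ = (u * v)⁻¹ := by
      calc u * (u * v) * u⁻¹ = (u * u) * v * u⁻¹ := by group
        _ = v * u := by rw [hu, one_mul, huinv]
        _ = (u * v)⁻¹ := by rw [mul_inv_rev, huinv, hvinv]
    have huJ : u * J * u⁻¹ = J⁻¹ := by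
      rw [← hw, ← conj_pow, hconj, inv_pow]
    have huC : u ∈ centralizer ({J} : Set G) := by
      rw [mem_centralizer_singleton_iff]
      rw [hJinv] at huJ
      calc u * J = (u * J * u⁻¹) * u := by group
        _ = J * u := by rw [huJ]
    have hvC : v ∈ centralizer ({J} : Set G) := by
      have e : v = u⁻¹ * (J * (κ : G)) := by rw [← huv]; group
      rw [e]
      exact (centralizer ({J} : Set G)).mul_mem ((centralizer ({J} : Set G)).inv_mem huC)
        ((centralizer ({J} : Set G)).mul_mem hJC κ.2)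
    obtain ⟨π₁, hπ₁P, hπ₁K⟩ := h.decomp ⟨u, huC⟩
    obtain ⟨π₂, hπ₂P, hπ₂K⟩ := h.decomp ⟨v, hvC⟩
    have huv' : (⟨u, huC⟩ : ↥(centralizer ({J} : Set G))) * ⟨v, hvC⟩ = ⟨J, hJC⟩ * κ := by
      apply Subtype.ext
      simp only [Subgroup.coe_mul]
      exact huv
    have hκeq : κ = (⟨J, hJC⟩ : ↥(centralizer ({J} : Set G)))⁻¹ * (⟨u, huC⟩ * ⟨v, hvC⟩) := by
      rw [huv']; group
    have ht : (⟨J, hJC⟩ : ↥(centralizer ({J} : Set G)))⁻¹ * π₁ * π₂ ∈ K := by
      have e : (⟨J, hJC⟩ : ↥(centralizer ({J} : Set G)))⁻¹ * π₁ * π₂ =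
          κ * (π₂⁻¹ * ⟨v, hvC⟩)⁻¹ * (π₂⁻¹ * (π₁⁻¹ * ⟨u, huC⟩) * π₂⁻¹⁻¹)⁻¹ := by
        rw [hκeq]; group
      rw [e]
      exact K.mul_mem (K.mul_mem hκ (K.inv_mem hπ₂K)) (K.inv_mem (h.normal.conj_mem _ hπ₁K _))
    have htP : (J⁻¹ * (π₁ : G) * (π₂ : G)) ∈ P :=
      P.mul_mem (P.mul_mem (P.inv_mem h.hJ) hπ₁P) hπ₂P
    have ht1 : (⟨J, hJC⟩ : ↥(centralizer ({J} : Set G)))⁻¹ * π₁ * π₂ = 1 := by
      apply h.eq_one_of_sq ht
      apply Subtype.ext
      simp only [Subgroup.coe_mul, Subgroup.coe_inv, Subgroup.coe_mk, Subgroup.coe_one]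
      exact h.sq _ htP
    have hπ : (π₁ : G) * (π₂ : G) = J := by
      have := congrArg Subtype.val ht1
      simp only [Subgroup.coe_mul, Subgroup.coe_inv, Subgroup.coe_mk, Subgroup.coe_one] at this
      calc (π₁ : G) * (π₂ : G) = J * (J⁻¹ * (π₁ : G) * (π₂ : G)) := by group
        _ = J := by rw [this, mul_one]
    have hu_eq : u = (π₁ : G) * ((π₁⁻¹ * ⟨u, huC⟩ : ↥(centralizer ({J} : Set G))) : G) := by
      simp only [Subgroup.coe_mul, Subgroup.coe_inv, Subgroup.coe_mk]
      group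
    have hv_eq : v = (π₂ : G) * ((π₂⁻¹ * ⟨v, hvC⟩ : ↥(centralizer ({J} : Set G))) : G) := by
      simp only [Subgroup.coe_mul, Subgroup.coe_inv, Subgroup.coe_mk]
      group
    have hnot1 : ∀ (w : G) (hwC : w ∈ centralizer ({J} : Set G)) (π : ↥(centralizer ({J} : Set G))),
        π⁻¹ * ⟨w, hwC⟩ ∈ K → (π : G) = 1 → w * w = 1 → w = 1 := by
      intro w hwC π hπK hπ1 hw2
      have hπ' : π = 1 := Subtype.ext hπ1
      rw [hπ', inv_one, one_mul] at hπK
      have := h.eq_one_of_sq hπK (Subtype.ext hw2)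
      exact congrArg Subtype.val this
    rcases klein_enum P h.card h.sq h.hJ h.hJ1 ha ha1 haJ _ hπ₁P with e | e | e | e
    · exact absurd (hnot1 u huC π₁ hπ₁K e hu) hu1
    · exfalso
      rw [e] at hπ
      have e2 : (π₂ : G) = 1 := by
        have : J * (π₂ : G) = J * 1 := by rw [mul_one]; exact hπ
        exact mul_left_cancel this
      exact hv1 (hnot1 v hvC π₂ hπ₂K e2 hv)
    · left
      have e2 : (π₂ : G) = a * J := by
        rw [e] at hπ
        calc (π₂ : G) = a⁻¹ * (a * (π₂ : G)) := by group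
          _ = a * J := by rw [hπ, hinv]
      refine ⟨⟨_, hπ₁K, ?_⟩, ⟨_, hπ₂K, ?_⟩⟩
      · rw [← e]; exact hu_eq
      · rw [← e2]; exact hv_eq
    · right
      have e2 : (π₂ : G) = a := by
        rw [e] at hπ
        have h5 : a * J * a = J := by
          calc a * J * a = J * a * a := by rw [haJc]
            _ = J * (a * a) := by group
            _ = J := by rw [haa, mul_one]
        have : a * J * (π₂ : G) = a * J * a := by rw [hπ, h5]
        exact mul_left_cancel this
      refine ⟨⟨_, hπ₁K, ?_⟩, ⟨_, hπ₂K, ?_⟩⟩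
      · rw [← e]; exact hu_eq
      · rw [← e2]; exact hv_eq
  · rintro (⟨⟨κ₁, h1, rfl⟩, ⟨κ₂, h2, rfl⟩⟩ | ⟨⟨κ₁, h1, rfl⟩, ⟨κ₂, h2, rfl⟩⟩)
    · have hx : (⟨a, haC⟩ : ↥(centralizer ({J} : Set G))) * κ₁ * ⟨a, haC⟩⁻¹ ∈ K :=
        h.normal.conj_mem κ₁ h1 _
      have hy := h.normal.conj_mem _ hx (⟨J, hJC⟩ : ↥(centralizer ({J} : Set G)))⁻¹
      refine ⟨_, K.mul_mem hy h2, ?_⟩
      simp only [Subgroup.coe_mul, Subgroup.coe_inv, Subgroup.coe_mk]
      rw [hinv]
      group
    · have hx : (⟨a, haC⟩ : ↥(centralizer ({J} : Set G))) * κ₁ * ⟨a, haC⟩⁻¹ ∈ K :=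
        h.normal.conj_mem κ₁ h1 _
      refine ⟨_, K.mul_mem hx h2, ?_⟩
      simp only [Subgroup.coe_mul, Subgroup.coe_inv, Subgroup.coe_mk]
      rw [haJc, hinv]
      group

theorem no_sqrt (h : KData P J K) (PS : Sylow 2 G) (hPS : (PS : Subgroup G) = P)
    {κ : ↥(centralizer ({J} : Set G))} (hκ : κ ∈ K) (y : G) : y * y ≠ (κ : G) * J := by
  intro hy
  obtain ⟨j, hj⟩ := h.odd_orderOf hκ
  have hord : (κ : G) ^ (2 * j + 1) = 1 := by
    have h0 : κ ^ (2 * j + 1) = 1 := by rw [← hj]; exact pow_orderOf_eq_one κ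
    have := congrArg Subtype.val h0
    simpa using this
  have hJJ : J * J = 1 := h.sq J h.hJ
  have hρJ : Commute (κ : G) J := mem_centralizer_singleton_iff.1 κ.2
  have hJpow : J ^ (2 * j + 1) = J := by
    rw [pow_succ, pow_mul, pow_two, hJJ, one_pow, one_mul]
  have h1 : y ^ (2 * j + 1) * y ^ (2 * j + 1) = J := by
    rw [← (Commute.refl y).mul_pow, hy, hρJ.mul_pow, hord, hJpow, one_mul]
  have h2 : (y ^ (2 * j + 1)) ^ (2 ^ 2) = 1 := by
    have : (2 : ℕ) ^ 2 = 2 + 2 := by norm_num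
    rw [this, pow_add, pow_two, h1, hJJ]
  obtain ⟨g, hg⟩ := exists_conj_mem_sylow PS h2
  rw [hPS] at hg
  have h3 := h.sq _ hg
  apply h.hJ1
  have h4 : g⁻¹ * (y ^ (2 * j + 1) * y ^ (2 * j + 1)) * g = 1 := by
    rw [← h3]; group
  rw [h1] at h4
  calc J = g * (g⁻¹ * J * g) * g⁻¹ := by group
    _ = 1 := by rw [h4]; group

open scoped Classical in
/-- Number of triples `(k, s, t)`, `k ∈ K`, with `(s J s⁻¹)(t J t⁻¹) = k J`. -/
noncomputable def pairCount {G : Type*} [Group G] [Fintype G] (J : G)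
    [Fintype ↥(centralizer ({J} : Set G))] (K : Subgroup ↥(centralizer ({J} : Set G))) : ℕ :=
  ∑ k : ↥(centralizer ({J} : Set G)), if k ∈ K then
    ∑ s : G, ∑ t : G, (if (s * J * s⁻¹) * (t * J * t⁻¹) = (k : G) * J then 1 else 0) else 0

open scoped Classical in
theorem count_pairs [Fintype G] [Fintype ↥(centralizer ({J} : Set G))] (h : KData P J K) :
    (∑ k : ↥(centralizer ({J} : Set G)), if k ∈ K then
        ∑ s : G, ∑ t : G, (if (s * J * s⁻¹) * (t * J * t⁻¹) = (k : G) * J then 1 else 0) else 0) *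
      Nat.card (centralizer (P : Set G)) ^ 2 = 2 * Nat.card ↥(centralizer ({J} : Set G)) ^ 4 := by
  obtain ⟨a, haP, ha1, haJ⟩ := exists_third P h.card h.hJ
  have haa : a * a = 1 := h.sq a haP
  have hJJ : J * J = 1 := h.sq J h.hJ
  have hbP : a * J ∈ P := P.mul_mem haP h.hJ
  have hb1 : a * J ≠ 1 := by
    intro e
    apply haJ
    calc a = a * (J * J) := by rw [hJJ, mul_one]
      _ = (a * J) * J := by group
      _ = J := by rw [e, one_mul]
  have hbJ : a * J ≠ J := by
    intro e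
    apply ha1
    have : a * J = 1 * J := by rw [one_mul]; exact e
    exact mul_right_cancel this
  obtain ⟨ga, hga⟩ := h.fus a haP ha1
  obtain ⟨gb, hgb⟩ := h.fus (a * J) hbP hb1
  have hNa := card_doubleCoset hga (h.le haP)
  rw [h.card_centralizer_eq haP ha1 haJ] at hNa
  have hNb := card_doubleCoset hgb (h.le hbP)
  rw [h.card_centralizer_eq hbP hb1 hbJ] at hNb
  -- indicator identity
  have hu2 : ∀ s : G, (s * J * s⁻¹) * (s * J * s⁻¹) = 1 := by
    intro s
    calc (s * J * s⁻¹) * (s * J * s⁻¹) = s * (J * J) * s⁻¹ := by group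
      _ = 1 := by rw [hJJ]; group
  have hu1 : ∀ s : G, s * J * s⁻¹ ≠ 1 := by
    intro s e
    apply h.hJ1
    calc J = s⁻¹ * (s * J * s⁻¹) * s := by group
      _ = 1 := by rw [e]; group
  have hexcl : ∀ s : G, ¬ ((∃ c : ↥(centralizer ({J} : Set G)), s * J * s⁻¹ = (c : G) * a * (c : G)⁻¹) ∧
      (∃ c : ↥(centralizer ({J} : Set G)), s * J * s⁻¹ = (c : G) * (a * J) * (c : G)⁻¹)) := by
    intro s ⟨hA, hB⟩
    obtain ⟨κ₁, hκ₁, e1⟩ := (h.conj_iff_coset haP (hu2 s)).1 hA
    obtain ⟨κ₂, hκ₂, e2⟩ := (h.conj_iff_coset hbP (hu2 s)).1 hB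
    have hJC : J ∈ centralizer ({J} : Set G) := h.le h.hJ
    have e3 : (⟨J, hJC⟩ : ↥(centralizer ({J} : Set G))) = κ₁ * κ₂⁻¹ := by
      apply Subtype.ext
      simp only [Subgroup.coe_mul, Subgroup.coe_inv, Subgroup.coe_mk]
      have : a * (κ₁ : G) = a * J * (κ₂ : G) := by rw [← e1, ← e2]
      have h5 : (κ₁ : G) = J * (κ₂ : G) := by
        have : a * (κ₁ : G) = a * (J * (κ₂ : G)) := by rw [this]; group
        exact mul_left_cancel this
      rw [h5]; group
    have hJK : (⟨J, hJC⟩ : ↥(centralizer ({J} : Set G))) ∈ K := by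
      rw [e3]; exact K.mul_mem hκ₁ (K.inv_mem hκ₂)
    have := h.eq_one_of_sq hJK (Subtype.ext hJJ)
    exact h.hJ1 (congrArg Subtype.val this)
  have hind : ∀ s t : G, (∑ k : ↥(centralizer ({J} : Set G)),
      if k ∈ K then (if (s * J * s⁻¹) * (t * J * t⁻¹) = (k : G) * J then 1 else 0) else 0) =
      (if ∃ c : ↥(centralizer ({J} : Set G)), s * J * s⁻¹ = (c : G) * a * (c : G)⁻¹ then 1 else 0) *
        (if ∃ c : ↥(centralizer ({J} : Set G)), t * J * t⁻¹ = (c : G) * (a * J) * (c : G)⁻¹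
          then 1 else 0) +
      (if ∃ c : ↥(centralizer ({J} : Set G)), s * J * s⁻¹ = (c : G) * (a * J) * (c : G)⁻¹
          then 1 else 0) *
        (if ∃ c : ↥(centralizer ({J} : Set G)), t * J * t⁻¹ = (c : G) * a * (c : G)⁻¹
          then 1 else 0) := by
    intro s t
    have hcollapse : (∑ k : ↥(centralizer ({J} : Set G)),
        if k ∈ K then (if (s * J * s⁻¹) * (t * J * t⁻¹) = (k : G) * J then 1 else 0) else 0) =
        if (∃ κ : ↥(centralizer ({J} : Set G)), κ ∈ K ∧
          (s * J * s⁻¹) * (t * J * t⁻¹) = J * (κ : G)) then 1 else 0 := by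
      by_cases hex : ∃ κ : ↥(centralizer ({J} : Set G)), κ ∈ K ∧
          (s * J * s⁻¹) * (t * J * t⁻¹) = J * (κ : G)
      · rw [if_pos hex]
        obtain ⟨κ₀, hκ₀, e0⟩ := hex
        rw [Finset.sum_eq_single κ₀]
        · rw [if_pos hκ₀, if_pos]
          rw [e0]
          exact (mem_centralizer_singleton_iff.1 κ₀.2).symm
        · intro k _ hk
          split_ifs with h1 h2
          · exfalso
            apply hk
            apply Subtype.ext
            have : J * (k : G) = J * (κ₀ : G) := by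
              rw [← e0, h2]
              exact (mem_centralizer_singleton_iff.1 k.2).symm
            exact mul_left_cancel this
          · rfl
          · rfl
        · intro hh
          exact absurd (Finset.mem_univ _) hh
      · rw [if_neg hex]
        refine Finset.sum_eq_zero fun k _ => ?_
        split_ifs with h1 h2
        · exfalso
          apply hex
          refine ⟨k, h1, ?_⟩
          rw [h2]
          exact mem_centralizer_singleton_iff.1 k.2
        · rfl
        · rfl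
    rw [hcollapse]
    have hiff := h.prod_iff haP ha1 haJ (hu2 s) (hu2 t) (hu1 s) (hu1 t)
    rw [← h.conj_iff_coset haP (hu2 s), ← h.conj_iff_coset hbP (hu2 s),
      ← h.conj_iff_coset haP (hu2 t), ← h.conj_iff_coset hbP (hu2 t)] at hiff
    have hs := hexcl s
    have ht := hexcl t
    by_cases hA : ∃ c : ↥(centralizer ({J} : Set G)), s * J * s⁻¹ = (c : G) * a * (c : G)⁻¹
    · by_cases hB : ∃ c : ↥(centralizer ({J} : Set G)),
          s * J * s⁻¹ = (c : G) * (a * J) * (c : G)⁻¹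
      · exact absurd ⟨hA, hB⟩ hs
      · by_cases hC : ∃ c : ↥(centralizer ({J} : Set G)),
            t * J * t⁻¹ = (c : G) * (a * J) * (c : G)⁻¹
        · have hD : ¬ ∃ c : ↥(centralizer ({J} : Set G)),
              t * J * t⁻¹ = (c : G) * a * (c : G)⁻¹ := fun hD => ht ⟨hD, hC⟩
          rw [if_pos (hiff.2 (Or.inl ⟨hA, hC⟩)), if_pos hA, if_pos hC, if_neg hB, if_neg hD]
        · have hn : ¬ (∃ κ : ↥(centralizer ({J} : Set G)), κ ∈ K ∧
              (s * J * s⁻¹) * (t * J * t⁻¹) = J * (κ : G)) := by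
            intro hh
            rcases hiff.1 hh with ⟨_, h2⟩ | ⟨h1, _⟩
            · exact hC h2
            · exact hB h1
          rw [if_neg hn, if_pos hA, if_neg hC, if_neg hB]
          simp
    · by_cases hB : ∃ c : ↥(centralizer ({J} : Set G)),
          s * J * s⁻¹ = (c : G) * (a * J) * (c : G)⁻¹
      · by_cases hD : ∃ c : ↥(centralizer ({J} : Set G)),
            t * J * t⁻¹ = (c : G) * a * (c : G)⁻¹
        · have hC : ¬ ∃ c : ↥(centralizer ({J} : Set G)),
              t * J * t⁻¹ = (c : G) * (a * J) * (c : G)⁻¹ := fun hC => ht ⟨hD, hC⟩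
          rw [if_pos (hiff.2 (Or.inr ⟨hB, hD⟩)), if_neg hA, if_neg hC, if_pos hB, if_pos hD]
        · have hn : ¬ (∃ κ : ↥(centralizer ({J} : Set G)), κ ∈ K ∧
              (s * J * s⁻¹) * (t * J * t⁻¹) = J * (κ : G)) := by
            intro hh
            rcases hiff.1 hh with ⟨h1, _⟩ | ⟨_, h2⟩
            · exact hA h1
            · exact hD h2
          rw [if_neg hn, if_neg hA, if_pos hB, if_neg hD]
          simp
      · have hn : ¬ (∃ κ : ↥(centralizer ({J} : Set G)), κ ∈ K ∧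
            (s * J * s⁻¹) * (t * J * t⁻¹) = J * (κ : G)) := by
          intro hh
          rcases hiff.1 hh with ⟨h1, _⟩ | ⟨h1, _⟩
          · exact hA h1
          · exact hB h1
        rw [if_neg hn, if_neg hA, if_neg hB]
        simp
  have hW : (∑ k : ↥(centralizer ({J} : Set G)), if k ∈ K then
        ∑ s : G, ∑ t : G, (if (s * J * s⁻¹) * (t * J * t⁻¹) = (k : G) * J then 1 else 0) else 0) =
      2 * ((∑ s : G, if ∃ c : ↥(centralizer ({J} : Set G)),
          s * J * s⁻¹ = (c : G) * a * (c : G)⁻¹ then 1 else 0) *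
        (∑ s : G, if ∃ c : ↥(centralizer ({J} : Set G)),
          s * J * s⁻¹ = (c : G) * (a * J) * (c : G)⁻¹ then 1 else 0)) := by
    calc (∑ k : ↥(centralizer ({J} : Set G)), if k ∈ K then
          ∑ s : G, ∑ t : G, (if (s * J * s⁻¹) * (t * J * t⁻¹) = (k : G) * J then 1 else 0) else 0)
        = ∑ k : ↥(centralizer ({J} : Set G)), ∑ s : G, ∑ t : G, (if k ∈ K then
          (if (s * J * s⁻¹) * (t * J * t⁻¹) = (k : G) * J then 1 else 0) else 0) := by
          refine Finset.sum_congr rfl fun k _ => ?_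
          split_ifs with hk
          · rfl
          · simp
      _ = ∑ s : G, ∑ t : G, ∑ k : ↥(centralizer ({J} : Set G)), (if k ∈ K then
          (if (s * J * s⁻¹) * (t * J * t⁻¹) = (k : G) * J then 1 else 0) else 0) := by
          rw [Finset.sum_comm]
          refine Finset.sum_congr rfl fun s _ => ?_
          rw [Finset.sum_comm]
      _ = _ := by
          simp_rw [hind, Finset.sum_add_distrib, ← Finset.mul_sum, ← Finset.sum_mul]
          ring
  rw [hW]
  calc 2 * ((∑ s : G, if ∃ c : ↥(centralizer ({J} : Set G)),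
          s * J * s⁻¹ = (c : G) * a * (c : G)⁻¹ then 1 else 0) *
        (∑ s : G, if ∃ c : ↥(centralizer ({J} : Set G)),
          s * J * s⁻¹ = (c : G) * (a * J) * (c : G)⁻¹ then 1 else 0)) *
      Nat.card (centralizer (P : Set G)) ^ 2
      = 2 * (((∑ s : G, if ∃ c : ↥(centralizer ({J} : Set G)),
          s * J * s⁻¹ = (c : G) * a * (c : G)⁻¹ then 1 else 0) *
            Nat.card (centralizer (P : Set G))) *
        ((∑ s : G, if ∃ c : ↥(centralizer ({J} : Set G)),
          s * J * s⁻¹ = (c : G) * (a * J) * (c : G)⁻¹ then 1 else 0) *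
            Nat.card (centralizer (P : Set G)))) := by ring
    _ = 2 * Nat.card ↥(centralizer ({J} : Set G)) ^ 4 := by rw [hNa, hNb]; ring

theorem pairCount_eq [Fintype G] [Fintype ↥(centralizer ({J} : Set G))] (h : KData P J K) :
    pairCount J K * Nat.card (centralizer (P : Set G)) ^ 2 =
      2 * Nat.card ↥(centralizer ({J} : Set G)) ^ 4 := by
  unfold pairCount
  exact h.count_pairs

end KData


section Setup

variable {G : Type*} [Group G] [Finite G]

/-- The local data exist in a group of order `4 g₀` without normal 2-complement. -/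
theorem exists_kdata {g₀ : ℕ} (hg₀ : Odd g₀) (hG : Nat.card G = 4 * g₀)
    (hnc : ¬ ∃ N : Subgroup G, N.Normal ∧ Nat.card N = g₀) (P : Sylow 2 G) {J : G}
    (hJ : J ∈ (P : Subgroup G)) (hJ2 : orderOf J = 2) :
    ∃ K : Subgroup ↥(centralizer ({J} : Set G)), KData (P : Subgroup G) J K ∧
      4 * Nat.card K = Nat.card ↥(centralizer ({J} : Set G)) := by
  obtain ⟨hcard, hcomm, hfus⟩ := fusion hg₀ hG hnc P
  have hJ1 : J ≠ 1 := by
    intro h
    rw [h, orderOf_one] at hJ2
    norm_num at hJ2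
  have hJJ : J * J = 1 := by rw [← pow_two, ← hJ2, pow_orderOf_eq_one]
  have hsq : ∀ x ∈ (P : Subgroup G), x * x = 1 := by
    intro x hx
    by_cases hx1 : x = 1
    · rw [hx1, one_mul]
    · obtain ⟨h, hh⟩ := hfus J hJ hJ1 x hx hx1
      rw [← hh]
      calc (h * J * h⁻¹) * (h * J * h⁻¹) = h * (J * J) * h⁻¹ := by group
        _ = 1 := by rw [hJJ]; group
  obtain ⟨K, hKn, hKodd, hKcard, hdec, hcm⟩ :=
    exists_complement_centralizer hg₀ hG P hcard hsq hcomm hJ hJ1
  exact ⟨K, ⟨hcard, hsq, hcomm, hJ, hJ1, hKn, hKodd, hdec, hcm,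
    fun x hx hx1 => hfus J hJ hJ1 x hx hx1⟩, hKcard⟩

end Setup

end Cfsg.Agent.Lib.H22.KleinGroup
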