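import Mathlib
import Cfsg.Agent.Lib.H22.DihGroupD
import Cfsg.Agent.Lib.H22.KleinGroup

/-!
# Brauer's order formula for dihedral Sylow 2-subgroups: counting involutions in `C(J)` (helper22)

Abstract setting: a finite group `H` with a normal subgroup `N` of odd order and a dihedral
complement `P = ⟨σ, τ⟩` whose central involution `J = σ^(m/2)` is central in `H`.
-/

set_option autoImplicit false

namespace Cfsg.Agent.Lib.H22.DihOrder

open Cfsg.Agent.Lib.H22.Dih

section Retraction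

variable {H : Type*} [Group H]

/-- A retraction of `H` onto a complement `P` of the normal subgroup `N`. -/
structure Retr (N P : Subgroup H) (κ : H →* H) : Prop where
  mem : ∀ h, κ h ∈ P
  fix : ∀ p ∈ P, κ p = p
  ker : ∀ h, κ h = 1 ↔ h ∈ N

theorem exists_retr [Finite H] (N P : Subgroup H) [hN : N.Normal]
    (hcop : (Nat.card P).Coprime (Nat.card N)) (hcard : Nat.card P * Nat.card N = Nat.card H) :
    ∃ κ : H →* H, Retr N P κ := by
  have hc : Subgroup.IsComplement' P N := Subgroup.isComplement'_of_coprime hcard hcop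
  have hex : ∀ h : H, ∃ p : H, p ∈ P ∧ p⁻¹ * h ∈ N := by
    intro h
    obtain ⟨⟨p, ν⟩, hpν⟩ := hc.2 h
    change (p : H) * (ν : H) = h at hpν
    refine ⟨p.1, p.2, ?_⟩
    have : (p : H)⁻¹ * h = ν.1 := by
      rw [← hpν, inv_mul_cancel_left]
    rw [this]
    exact ν.2
  have huniq : ∀ h p p' : H, p ∈ P → p' ∈ P → p⁻¹ * h ∈ N → p'⁻¹ * h ∈ N → p = p' := by
    intro h p p' hp hp' h1 h2
    have h3 : p⁻¹ * p' ∈ P := P.mul_mem (P.inv_mem hp) hp'
    have h4 : p⁻¹ * p' ∈ N := by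
      have : p⁻¹ * p' = (p⁻¹ * h) * (p'⁻¹ * h)⁻¹ := by group
      rw [this]
      exact N.mul_mem h1 (N.inv_mem h2)
    have h5 := Subgroup.disjoint_def.1 hc.disjoint h3 h4
    calc p = p * (p⁻¹ * p') := by rw [h5, mul_one]
      _ = p' := by group
  set f : H → H := fun h => Classical.choose (hex h) with hf
  have hfP : ∀ h, f h ∈ P := fun h => (Classical.choose_spec (hex h)).1
  have hfN : ∀ h, (f h)⁻¹ * h ∈ N := fun h => (Classical.choose_spec (hex h)).2
  have hmul : ∀ a b : H, f (a * b) = f a * f b := by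
    intro a b
    refine huniq (a * b) _ _ (hfP _) (P.mul_mem (hfP a) (hfP b)) (hfN _) ?_
    have h1 := hN.conj_mem _ (hfN a) (f b)⁻¹
    rw [inv_inv] at h1
    have h2 := N.mul_mem h1 (hfN b)
    have : (f a * f b)⁻¹ * (a * b) = (f b)⁻¹ * ((f a)⁻¹ * a) * f b * ((f b)⁻¹ * b) := by group
    rw [this]
    exact h2
  refine ⟨MonoidHom.mk' f hmul, ⟨hfP, ?_, ?_⟩⟩
  · intro p hp
    exact huniq p _ _ (hfP p) hp (hfN p) (by rw [inv_mul_cancel]; exact N.one_mem)
  · intro h
    constructor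
    · intro h1
      have h2 := hfN h
      have h3 : f h = 1 := h1
      rw [h3, inv_one, one_mul] at h2
      exact h2
    · intro h1
      exact huniq h _ _ (hfP h) P.one_mem (hfN h) (by rw [inv_one, one_mul]; exact h1)

theorem eq_one_of_sq_of_odd [Finite H] (N : Subgroup H) (hN : Odd (Nat.card N)) {x : H}
    (hx : x ∈ N) (h2 : x * x = 1) : x = 1 := by
  have h1 : orderOf x ∣ 2 := orderOf_dvd_of_pow_eq_one (by rw [pow_two, h2])
  have h3 : orderOf x ∣ Nat.card N := Subgroup.orderOf_dvd_natCard N hx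
  rcases (Nat.dvd_prime Nat.prime_two).1 h1 with h4 | h4
  · exact orderOf_eq_one_iff.1 h4
  · exfalso
    rw [h4] at h3
    exact hN.not_two_dvd_nat h3

end Retraction

section Count

variable {H : Type*} [Group H] [Fintype H] [DecidableEq H]

/-- The involutions. -/
def invs (H : Type*) [Group H] [Fintype H] [DecidableEq H] : Finset H :=
  Finset.univ.filter (fun u => u * u = 1 ∧ u ≠ 1)

theorem mem_invs {u : H} : u ∈ invs H ↔ u * u = 1 ∧ u ≠ 1 := by
  simp [invs]

/-- Number of involutions over `p`. -/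
def aCount (κ : H →* H) (p : H) : ℕ := ((invs H).filter (fun u => κ u = p)).card

/-- Number of ways of writing `h` as a product of two involutions. -/
def rCount (h : H) : ℕ := ∑ u ∈ invs H, ∑ v ∈ invs H, if u * v = h then 1 else 0

/-- The conjugacy class as a finset. -/
def clF (a : H) : Finset H := Finset.univ.filter (fun u => ∃ c : H, c * a * c⁻¹ = u)

theorem mem_clF {a u : H} : u ∈ clF a ↔ ∃ c : H, c * a * c⁻¹ = u := by
  simp [clF]

theorem card_clF_mul (a : H) :
    (clF a).card * Nat.card (Subgroup.centralizer ({a} : Set H)) = Nat.card H := by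
  classical
  have h1 : ∀ s : H, ∑ u ∈ clF a, (if s * a * s⁻¹ = u then 1 else 0) = 1 := by
    intro s
    rw [Finset.sum_ite_eq, if_pos (mem_clF.2 ⟨s, rfl⟩)]
  have h2 : ∀ u ∈ clF a, (∑ s : H, if s * a * s⁻¹ = u then 1 else 0) =
      Nat.card (Subgroup.centralizer ({a} : Set H)) := by
    intro u hu
    obtain ⟨c, rfl⟩ := mem_clF.1 hu
    have := KleinGroup.sum_ite_conj a c
    convert this
  calc (clF a).card * Nat.card (Subgroup.centralizer ({a} : Set H))
      = ∑ u ∈ clF a, Nat.card (Subgroup.centralizer ({a} : Set H)) := by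
        rw [Finset.sum_const, smul_eq_mul]
    _ = ∑ u ∈ clF a, ∑ s : H, (if s * a * s⁻¹ = u then 1 else 0) :=
        (Finset.sum_congr rfl h2).symm
    _ = ∑ s : H, ∑ u ∈ clF a, (if s * a * s⁻¹ = u then 1 else 0) := Finset.sum_comm
    _ = ∑ s : H, 1 := Finset.sum_congr rfl (fun s _ => h1 s)
    _ = Nat.card H := by
        rw [Finset.sum_const, smul_eq_mul, mul_one, Finset.card_univ, Nat.card_eq_fintype_card]

theorem aCount_conj (κ : H →* H) (c p : H) : aCount κ (κ c * p * (κ c)⁻¹) = aCount κ p := by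
  unfold aCount
  symm
  refine Finset.card_bij' (fun u _ => c * u * c⁻¹) (fun u _ => c⁻¹ * u * c) ?_ ?_ ?_ ?_
  · intro u hu
    rw [Finset.mem_filter, mem_invs] at hu ⊢
    obtain ⟨⟨h1, h2⟩, h3⟩ := hu
    refine ⟨⟨?_, ?_⟩, ?_⟩
    · calc c * u * c⁻¹ * (c * u * c⁻¹) = c * (u * u) * c⁻¹ := by group
        _ = 1 := by rw [h1]; group
    · intro h
      apply h2
      calc u = c⁻¹ * (c * u * c⁻¹) * c := by group
        _ = 1 := by rw [h]; group
    · rw [map_mul, map_mul, map_inv, h3]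
  · intro u hu
    rw [Finset.mem_filter, mem_invs] at hu ⊢
    obtain ⟨⟨h1, h2⟩, h3⟩ := hu
    refine ⟨⟨?_, ?_⟩, ?_⟩
    · calc c⁻¹ * u * c * (c⁻¹ * u * c) = c⁻¹ * (u * u) * c := by group
        _ = 1 := by rw [h1]; group
    · intro h
      apply h2
      calc u = c * (c⁻¹ * u * c) * c⁻¹ := by group
        _ = 1 := by rw [h]; group
    · rw [map_mul, map_mul, map_inv, h3]
      group
  · intro u _
    show c⁻¹ * (c * u * c⁻¹) * c = u
    group
  · intro u _
    show c * (c⁻¹ * u * c) * c⁻¹ = u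
    group

variable {N P : Subgroup H} {κ : H →* H}

theorem κ_props (hκ : Retr N P κ) (hN : Odd (Nat.card N)) {u : H} (hu : u ∈ invs H) :
    κ u ∈ P ∧ κ u * κ u = 1 ∧ κ u ≠ 1 := by
  obtain ⟨h1, h2⟩ := mem_invs.1 hu
  refine ⟨hκ.mem u, by rw [← map_mul, h1, map_one], ?_⟩
  intro h3
  exact h2 (eq_one_of_sq_of_odd N hN ((hκ.ker u).1 h3) h1)

theorem aCount_eq_zero (hκ : Retr N P κ) (hN : Odd (Nat.card N)) {p : H}
    (hp : ¬ (p ∈ P ∧ p * p = 1 ∧ p ≠ 1)) : aCount κ p = 0 := by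
  unfold aCount
  rw [Finset.card_eq_zero, Finset.filter_eq_empty_iff]
  intro u hu h
  apply hp
  rw [← h]
  exact κ_props hκ hN hu

/-- The only involution over the central involution `J` is `J`. -/
theorem eq_of_κ_eq (hκ : Retr N P κ) (hN : Odd (Nat.card N)) {J : H} (hJP : J ∈ P)
    (hJc : ∀ h : H, h * J = J * h) (hJ2 : J * J = 1) {u : H} (hu2 : u * u = 1)
    (hκu : κ u = J) : u = J := by
  have h1 : u * J ∈ N := by
    rw [← hκ.ker, map_mul, hκu, hκ.fix J hJP, hJ2]
  have h2 : (u * J) * (u * J) = 1 := by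
    calc (u * J) * (u * J) = u * (J * u) * J := by group
      _ = u * (u * J) * J := by rw [hJc u]
      _ = (u * u) * (J * J) := by group
      _ = 1 := by rw [hu2, hJ2, one_mul]
  have h3 := eq_one_of_sq_of_odd N hN h1 h2
  calc u = (u * J) * J⁻¹ := by group
    _ = J⁻¹ := by rw [h3, one_mul]
    _ = J := inv_eq_of_mul_eq_one_right hJ2

/-- If `κ h = t` and `t ^ e = J`, then `J` is a power of `h`. -/
theorem exists_pow_eq_of_κ (hκ : Retr N P κ) (hN : Odd (Nat.card N)) {J : H} (hJP : J ∈ P)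
    (hJc : ∀ h : H, h * J = J * h) (hJ2 : J * J = 1) {h t : H} {e : ℕ} (hκh : κ h = t)
    (hte : t ^ e = J) : ∃ k : ℕ, h ^ k = J := by
  have h1 : h ^ (2 * e) ∈ N := by
    rw [← hκ.ker, map_pow, hκh, mul_comm, pow_mul, hte, pow_two, hJ2]
  set d := orderOf (h ^ (2 * e)) with hd
  have hdodd : Odd d := hN.of_dvd_nat (Subgroup.orderOf_dvd_natCard N h1)
  refine ⟨e * d, ?_⟩
  apply eq_of_κ_eq hκ hN hJP hJc hJ2
  · rw [← pow_add]
    have : e * d + e * d = (2 * e) * d := by ring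
    rw [this, pow_mul, hd, pow_orderOf_eq_one]
  · rw [map_pow, hκh, pow_mul, hte]
    obtain ⟨r, hr⟩ := hdodd
    rw [hr, pow_succ, pow_mul, pow_two, hJ2, one_pow, one_mul]

open scoped Classical in
/-- Products of two involutions in a coset of `N`. -/
theorem sum_rCount_coset (hκ : Retr N P κ) (t : H) :
    (∑ ν : H, if ν ∈ N then rCount (ν * t) else 0) =
      ∑ u ∈ invs H, aCount κ ((κ u)⁻¹ * κ t) := by
  unfold rCount aCount
  have h1 : ∀ ν : H, (if ν ∈ N then ∑ u ∈ invs H, ∑ v ∈ invs H,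
      (if u * v = ν * t then 1 else 0) else 0) =
      ∑ u ∈ invs H, ∑ v ∈ invs H, (if ν ∈ N ∧ u * v = ν * t then 1 else 0) := by
    intro ν
    by_cases hν : ν ∈ N
    · rw [if_pos hν]
      simp only [hν, true_and]
    · rw [if_neg hν]
      simp only [hν, false_and, if_false, Finset.sum_const_zero]
  rw [Finset.sum_congr rfl (fun ν _ => h1 ν), Finset.sum_comm]
  refine Finset.sum_congr rfl (fun u _ => ?_)
  rw [Finset.sum_comm, Finset.card_filter]
  refine Finset.sum_congr rfl (fun v _ => ?_)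
  have hiff : κ v = (κ u)⁻¹ * κ t ↔ u * v * t⁻¹ ∈ N := by
    rw [← hκ.ker, map_mul, map_mul, map_inv]
    constructor
    · intro h
      rw [h]
      group
    · intro h
      have h2 : κ u * κ v = κ t := by
        calc κ u * κ v = (κ u * κ v * (κ t)⁻¹) * κ t := by group
          _ = κ t := by rw [h, one_mul]
      rw [← h2]
      group
  by_cases hc : κ v = (κ u)⁻¹ * κ t
  · rw [if_pos hc, Finset.sum_eq_single (u * v * t⁻¹)]
    · rw [if_pos]
      exact ⟨hiff.1 hc, by group⟩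
    · intro ν _ hne
      rw [if_neg]
      rintro ⟨_, h⟩
      apply hne
      rw [h]
      group
    · intro h
      exact absurd (Finset.mem_univ _) h
  · rw [if_neg hc]
    refine Finset.sum_eq_zero (fun ν _ => ?_)
    rw [if_neg]
    rintro ⟨hν, h⟩
    apply hc
    rw [hiff, h]
    have : ν * t * t⁻¹ = ν := by group
    rw [this]
    exact hν

theorem sum_range_periodic_two (f : ℕ → ℕ) (hf : ∀ k, f (k + 2) = f k) (c : ℕ) :
    ∑ k ∈ Finset.range (2 * c), f k = c * (f 0 + f 1) := by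
  have h1 : ∀ k, f (2 * k) = f 0 ∧ f (2 * k + 1) = f 1 := by
    intro k
    induction k with
    | zero => simp
    | succ k ihk =>
      constructor
      · have : 2 * (k + 1) = 2 * k + 2 := by ring
        rw [this, hf]
        exact ihk.1
      · have : 2 * (k + 1) + 1 = (2 * k + 1) + 2 := by ring
        rw [this, hf]
        exact ihk.2
  induction c with
  | zero => simp
  | succ c ih =>
    have : 2 * (c + 1) = 2 * c + 1 + 1 := by ring
    rw [this, Finset.sum_range_succ, Finset.sum_range_succ, ih, (h1 c).1, (h1 c).2]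
    ring

end Count

section Dihedral

variable {H : Type*} [Group H] [Fintype H] [DecidableEq H] {N P : Subgroup H} {κ : H →* H}
  {σ : H} {m : ℕ}

theorem inv_eq_self_of_not_mem (hd : DihData P σ m) {p : H} (hp : p ∈ P)
    (hpσ : p ∉ Subgroup.zpowers σ) : p⁻¹ = p :=
  inv_eq_of_mul_eq_one_right (hd.inv p hp hpσ).1

/-- `σ^k p σ^(-k) = σ^(2k) p` for `p` outside `⟨σ⟩`. -/
theorem conj_pow_outside (hd : DihData P σ m) {p : H} (hp : p ∈ P)
    (hpσ : p ∉ Subgroup.zpowers σ) (k : ℕ) : σ ^ k * p * (σ ^ k)⁻¹ = σ ^ (2 * k) * p := by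
  have h1 := hd.conj_pow hp hpσ k
  have h2 : p * (σ ^ k)⁻¹ = σ ^ k * p := by
    have h3 : p * σ ^ k = (σ ^ k)⁻¹ * p := by
      calc p * σ ^ k = (p * σ ^ k * p⁻¹) * p := by group
        _ = (σ ^ k)⁻¹ * p := by rw [h1]
    calc p * (σ ^ k)⁻¹ = σ ^ k * ((σ ^ k)⁻¹ * p) * (σ ^ k)⁻¹ := by group
      _ = σ ^ k * (p * σ ^ k) * (σ ^ k)⁻¹ := by rw [h3]
      _ = σ ^ k * p := by group
  rw [mul_assoc, h2, ← mul_assoc, ← pow_add, two_mul]

/-- Every `P`-conjugate of `a ∉ ⟨σ⟩` has the form `σ^(2i) a`. -/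
theorem conj_form (hd : DihData P σ m) (hm0 : 0 < m) {a q : H} (ha : a ∈ P)
    (haσ : a ∉ Subgroup.zpowers σ) (hq : q ∈ P) : ∃ i : ℕ, q * a * q⁻¹ = σ ^ (2 * i) * a := by
  by_cases hqσ : q ∈ Subgroup.zpowers σ
  · obtain ⟨i, _, rfl⟩ := hd.exists_pow_eq hm0 hqσ
    exact ⟨i, conj_pow_outside hd ha haσ i⟩
  · have h1 := hd.mul_mem_zpowers hm0 hq ha hqσ haσ
    obtain ⟨i, _, hi⟩ := hd.exists_pow_eq hm0 h1
    refine ⟨i, ?_⟩
    have hqi := inv_eq_self_of_not_mem hd hq hqσ
    have hai := inv_eq_self_of_not_mem hd ha haσ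
    have hq' : q = σ ^ i * a := by
      calc q = (q * a) * a⁻¹ := by group
        _ = σ ^ i * a := by rw [hi, hai]
    calc q * a * q⁻¹ = (q * a) * q := by rw [hqi]
      _ = σ ^ i * (σ ^ i * a) := by rw [hi, ← hq']
      _ = σ ^ (2 * i) * a := by rw [← mul_assoc, ← pow_add, two_mul]

/-- Elements of `P` outside `⟨σ⟩` are conjugate to `τ` or to `σ τ`. -/
theorem conj_tau_cases (hd : DihData P σ m) (hm0 : 0 < m) {τ w : H} (hτ : τ ∈ P)
    (hτσ : τ ∉ Subgroup.zpowers σ) (hw : w ∈ P) (hwσ : w ∉ Subgroup.zpowers σ) :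
    ∃ j : ℕ, w = σ ^ j * τ * (σ ^ j)⁻¹ ∨ w = σ ^ j * (σ * τ) * (σ ^ j)⁻¹ := by
  have h1 := hd.mul_mem_zpowers hm0 hw hτ hwσ hτσ
  obtain ⟨k, _, hk⟩ := hd.exists_pow_eq hm0 h1
  have hτi := inv_eq_self_of_not_mem hd hτ hτσ
  have hw' : w = σ ^ k * τ := by
    calc w = (w * τ) * τ⁻¹ := by group
      _ = σ ^ k * τ := by rw [hk, hτi]
  have hστP : σ * τ ∈ P := P.mul_mem hd.mem hτ
  have hστσ : σ * τ ∉ Subgroup.zpowers σ := by
    intro h
    apply hτσ
    have : τ = σ⁻¹ * (σ * τ) := by group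
    rw [this]
    exact (Subgroup.zpowers σ).mul_mem ((Subgroup.zpowers σ).inv_mem (Subgroup.mem_zpowers σ)) h
  rcases Nat.even_or_odd' k with ⟨j, hj | hj⟩
  · refine ⟨j, Or.inl ?_⟩
    rw [conj_pow_outside hd hτ hτσ j, ← hj]
    exact hw'
  · refine ⟨j, Or.inr ?_⟩
    rw [conj_pow_outside hd hστP hστσ j, hw', hj, pow_succ, mul_assoc]

/-- The main counting identity. -/
theorem half_mul_aCount [Finite H] (hd : DihData P σ m) (hm0 : 0 < m) (hm : Even m)
    (hκ : Retr N P κ) (hN : Odd (Nat.card N)) (hJc : ∀ h : H, h * σ ^ (m / 2) = σ ^ (m / 2) * h)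
    {p : H} (hp : p ∈ P) (hpσ : p ∉ Subgroup.zpowers σ) :
    (m / 2) * (aCount κ p + aCount κ (p * σ)) = ((invs H).erase (σ ^ (m / 2))).card := by
  classical
  set J := σ ^ (m / 2) with hJ
  have hJP : J ∈ P := hd.pow_mem _
  have hJ2 : J * J = 1 := hd.half_mul_self hm
  have hJσ : J ∈ Subgroup.zpowers σ := Subgroup.pow_mem _ (Subgroup.mem_zpowers σ) _
  set E : Finset H := Finset.univ.filter (fun q => q ∈ P ∧ q ∉ Subgroup.zpowers σ) with hE
  have hmaps : ((↑((invs H).erase J) : Set H)).MapsTo (fun u => κ u) (↑E : Set H) := by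
    intro u hu
    rw [Finset.mem_coe, Finset.mem_erase] at hu
    obtain ⟨huJ, hu⟩ := hu
    obtain ⟨h1, h2, h3⟩ := κ_props hκ hN hu
    rw [Finset.mem_coe, hE, Finset.mem_filter]
    refine ⟨Finset.mem_univ _, h1, ?_⟩
    intro h4
    rcases hd.sq_eq_one_cases hm0 hm h4 h2 with h5 | h5
    · exact h3 h5
    · exact huJ (eq_of_κ_eq hκ hN hJP hJc hJ2 (mem_invs.1 hu).1 h5)
  have h1 := Finset.card_eq_sum_card_fiberwise hmaps
  have h2 : ∀ q ∈ E, (((invs H).erase J).filter (fun u => κ u = q)).card = aCount κ q := by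
    intro q hq
    unfold aCount
    congr 1
    ext u
    rw [Finset.mem_filter, Finset.mem_filter, Finset.mem_erase]
    constructor
    · rintro ⟨⟨_, h3⟩, h4⟩
      exact ⟨h3, h4⟩
    · rintro ⟨h3, h4⟩
      refine ⟨⟨?_, h3⟩, h4⟩
      intro h5
      rw [hE, Finset.mem_filter] at hq
      apply hq.2.2
      rw [← h4, h5, hκ.fix J hJP]
      exact hJσ
  rw [h1, Finset.sum_congr rfl h2]
  have hEimg : E = (Finset.range m).image (fun k => p * σ ^ k) := by
    ext q
    rw [hE, Finset.mem_filter, Finset.mem_image]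
    constructor
    · rintro ⟨_, hqP, hqσ⟩
      have h3 := hd.mul_mem_zpowers hm0 hp hqP hpσ hqσ
      obtain ⟨k, hk, hk'⟩ := hd.exists_pow_eq hm0 h3
      refine ⟨k, Finset.mem_range.2 hk, ?_⟩
      rw [← hk', ← mul_assoc, (hd.inv p hp hpσ).1, one_mul]
    · rintro ⟨k, _, rfl⟩
      refine ⟨Finset.mem_univ _, P.mul_mem hp (hd.pow_mem k), ?_⟩
      intro h3
      apply hpσ
      have : p = (p * σ ^ k) * (σ ^ k)⁻¹ := by group
      rw [this]
      exact (Subgroup.zpowers σ).mul_mem h3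
        ((Subgroup.zpowers σ).inv_mem (Subgroup.pow_mem _ (Subgroup.mem_zpowers σ) _))
  have hinj : ∀ x ∈ Finset.range m, ∀ y ∈ Finset.range m, p * σ ^ x = p * σ ^ y → x = y := by
    intro x hx y hy hxy
    have h3 : σ ^ x = σ ^ y := mul_left_cancel hxy
    rw [Finset.mem_range, ← hd.ord] at hx hy
    exact pow_injOn_Iio_orderOf hx hy h3
  rw [hEimg, Finset.sum_image hinj]
  obtain ⟨c, hc⟩ := hm
  have hmc : m = 2 * c := by omega
  have hper : ∀ k, aCount κ (p * σ ^ (k + 2)) = aCount κ (p * σ ^ k) := by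
    intro k
    have h3 := aCount_conj κ σ⁻¹ (p * σ ^ k)
    rw [hκ.fix _ (P.inv_mem hd.mem), inv_inv] at h3
    rw [← h3]
    congr 1
    have h4 : σ⁻¹ * p = p * σ := by
      have h5 := (hd.inv p hp hpσ).2
      calc σ⁻¹ * p = (p * σ * p⁻¹) * p := by rw [h5]
        _ = p * σ := by group
    calc p * σ ^ (k + 2) = p * σ * σ ^ k * σ := by
          rw [pow_succ, pow_succ']
          group
      _ = σ⁻¹ * (p * σ ^ k) * σ := by rw [← h4]; group
  have h3 := sum_range_periodic_two (fun k => aCount κ (p * σ ^ k)) hper c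
  rw [hmc, h3]
  have : 2 * c / 2 = c := by omega
  rw [this, pow_zero, mul_one, pow_one]

open scoped Classical in
/-- **The pair count**: `(m/2)(R_J + R_σ) = I²`. -/
theorem count_pairs [Finite H] (hd : DihData P σ m) (hm0 : 0 < m) (hm4 : 4 ∣ m)
    (hκ : Retr N P κ) (hN : Odd (Nat.card N)) (hJc : ∀ h : H, h * σ ^ (m / 2) = σ ^ (m / 2) * h) :
    (m / 2) * ((∑ ν : H, if ν ∈ N then rCount (ν * σ ^ (m / 2)) else 0) +
      (∑ ν : H, if ν ∈ N then rCount (ν * σ) else 0)) =
      ((invs H).erase (σ ^ (m / 2))).card ^ 2 := by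
  have hm : Even m := by
    obtain ⟨c, hc⟩ := hm4
    exact ⟨2 * c, by omega⟩
  set J := σ ^ (m / 2) with hJ
  have hJP : J ∈ P := hd.pow_mem _
  have hJ2 : J * J = 1 := hd.half_mul_self hm
  have hJ1 : J ≠ 1 := hd.half_ne_one hm0 hm
  have hJinv : J⁻¹ = J := inv_eq_of_mul_eq_one_right hJ2
  have hJmem : J ∈ invs H := mem_invs.2 ⟨hJ2, hJ1⟩
  rw [sum_rCount_coset hκ J, sum_rCount_coset hκ σ, hκ.fix J hJP, hκ.fix σ hd.mem,
    ← Finset.sum_add_distrib, ← Finset.add_sum_erase (invs H) _ hJmem, hκ.fix J hJP, hJinv, hJ2]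
  have hz1 : aCount κ (1 : H) = 0 := by
    apply aCount_eq_zero hκ hN
    rintro ⟨_, _, h⟩
    exact h rfl
  have hz2 : aCount κ (J * σ) = 0 := by
    apply aCount_eq_zero hκ hN
    rintro ⟨_, h, _⟩
    have h1 : σ ^ 2 = 1 := by
      calc σ ^ 2 = σ * σ := pow_two σ
        _ = (J * J) * (σ * σ) := by rw [hJ2, one_mul]
        _ = J * (J * σ) * σ := by group
        _ = J * (σ * J) * σ := by rw [hJc σ]
        _ = (J * σ) * (J * σ) := by group
        _ = 1 := h
    have h2 := orderOf_dvd_of_pow_eq_one h1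
    rw [hd.ord] at h2
    have h3 := Nat.le_of_dvd (by norm_num) h2
    obtain ⟨c, hc⟩ := hm4
    omega
  rw [hz1, hz2, zero_add, zero_add, Finset.mul_sum]
  have hterm : ∀ u ∈ (invs H).erase J, (m / 2) * (aCount κ ((κ u)⁻¹ * J) +
      aCount κ ((κ u)⁻¹ * σ)) = ((invs H).erase J).card := by
    intro u hu
    rw [Finset.mem_erase] at hu
    obtain ⟨huJ, hu⟩ := hu
    obtain ⟨h1, h2, h3⟩ := κ_props hκ hN hu
    have hpσ : κ u ∉ Subgroup.zpowers σ := by
      intro h4
      rcases hd.sq_eq_one_cases hm0 hm h4 h2 with h5 | h5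
      · exact h3 h5
      · exact huJ (eq_of_κ_eq hκ hN hJP hJc hJ2 (mem_invs.1 hu).1 h5)
    rw [inv_eq_self_of_not_mem hd h1 hpσ]
    have h4 : aCount κ (κ u * J) = aCount κ (κ u) := by
      have h5 := aCount_conj κ (σ ^ (m / 4)) (κ u)
      rw [hκ.fix _ (hd.pow_mem _), conj_pow_outside hd h1 hpσ] at h5
      rw [← h5]
      congr 1
      have : 2 * (m / 4) = m / 2 := by
        obtain ⟨c, hc⟩ := hm4
        omega
      rw [this, ← hJ, hJc]
    rw [h4]
    exact half_mul_aCount hd hm0 hm hκ hN hJc h1 hpσ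
  rw [Finset.sum_congr rfl hterm, Finset.sum_const, smul_eq_mul, pow_two]

/-- **The non-central involutions** form the two classes of `τ` and `σ τ`. -/
theorem card_invs_erase [Finite H] (hd : DihData P σ m) (hm0 : 0 < m) (hm : Even m)
    (hκ : Retr N P κ) (hJc : ∀ h : H, h * σ ^ (m / 2) = σ ^ (m / 2) * h)
    (hsyl : ∀ u : H, u * u = 1 → ∃ g : H, g⁻¹ * u * g ∈ P) {τ : H} (hτ : τ ∈ P)
    (hτσ : τ ∉ Subgroup.zpowers σ) :
    ((invs H).erase (σ ^ (m / 2))).card = (clF τ).card + (clF (σ * τ)).card := by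
  set J := σ ^ (m / 2) with hJ
  have hJσ : J ∈ Subgroup.zpowers σ := Subgroup.pow_mem _ (Subgroup.mem_zpowers σ) _
  have hστP : σ * τ ∈ P := P.mul_mem hd.mem hτ
  have hστσ : σ * τ ∉ Subgroup.zpowers σ := by
    intro h
    apply hτσ
    have : τ = σ⁻¹ * (σ * τ) := by group
    rw [this]
    exact (Subgroup.zpowers σ).mul_mem ((Subgroup.zpowers σ).inv_mem (Subgroup.mem_zpowers σ)) h
  have hcentral : ∀ c w : H, c * w * c⁻¹ = J → w = J := by
    intro c w h
    calc w = c⁻¹ * (c * w * c⁻¹) * c := by group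
      _ = c⁻¹ * (J * c) := by rw [h]; group
      _ = c⁻¹ * (c * J) := by rw [hJc c]
      _ = J := by group
  have hsub : ∀ a : H, a ∈ P → a ∉ Subgroup.zpowers σ → clF a ⊆ (invs H).erase J := by
    intro a ha haσ u hu
    obtain ⟨c, rfl⟩ := mem_clF.1 hu
    have ha2 := (hd.inv a ha haσ).1
    rw [Finset.mem_erase, mem_invs]
    refine ⟨?_, ?_, ?_⟩
    · intro h
      apply haσ
      rw [hcentral c a h]
      exact hJσ
    · calc c * a * c⁻¹ * (c * a * c⁻¹) = c * (a * a) * c⁻¹ := by group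
        _ = 1 := by rw [ha2]; group
    · intro h
      apply haσ
      have : a = c⁻¹ * (c * a * c⁻¹) * c := by group
      rw [this, h]
      simp only [mul_one, inv_mul_cancel]
      exact (Subgroup.zpowers σ).one_mem
  have hunion : (invs H).erase J = clF τ ∪ clF (σ * τ) := by
    apply Finset.Subset.antisymm
    · intro u hu
      rw [Finset.mem_erase, mem_invs] at hu
      obtain ⟨huJ, hu2, hu1⟩ := hu
      obtain ⟨g, hg⟩ := hsyl u hu2
      set w := g⁻¹ * u * g with hw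
      have hu' : u = g * w * g⁻¹ := by rw [hw]; group
      have hw2 : w * w = 1 := by
        calc w * w = g⁻¹ * (u * u) * g := by rw [hw]; group
          _ = 1 := by rw [hu2]; group
      have hwσ : w ∉ Subgroup.zpowers σ := by
        intro h
        rcases hd.sq_eq_one_cases hm0 hm h hw2 with h5 | h5
        · apply hu1
          rw [hu', h5]
          group
        · apply huJ
          rw [hu', h5]
          calc g * J * g⁻¹ = (g * J) * g⁻¹ := by group
            _ = (J * g) * g⁻¹ := by rw [hJc g]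
            _ = J := by group
      obtain ⟨j, hj | hj⟩ := conj_tau_cases hd hm0 hτ hτσ hg hwσ
      · rw [Finset.mem_union]
        left
        rw [mem_clF]
        refine ⟨g * σ ^ j, ?_⟩
        rw [hu', hj]
        group
      · rw [Finset.mem_union]
        right
        rw [mem_clF]
        refine ⟨g * σ ^ j, ?_⟩
        rw [hu', hj]
        group
    · exact Finset.union_subset (hsub τ hτ hτσ) (hsub (σ * τ) hστP hστσ)
  have hdisj : Disjoint (clF τ) (clF (σ * τ)) := by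
    rw [Finset.disjoint_left]
    intro u h1 h2
    obtain ⟨c, hc⟩ := mem_clF.1 h1
    obtain ⟨c', hc'⟩ := mem_clF.1 h2
    have h3 : κ c * τ * (κ c)⁻¹ = κ c' * (σ * τ) * (κ c')⁻¹ := by
      have e1 := congrArg κ hc
      have e2 := congrArg κ hc'
      rw [map_mul, map_mul, map_inv, hκ.fix τ hτ] at e1
      rw [map_mul, map_mul, map_inv, hκ.fix (σ * τ) hστP] at e2
      rw [e1, e2]
    set q := (κ c')⁻¹ * κ c with hq
    have hqP : q ∈ P := P.mul_mem (P.inv_mem (hκ.mem c')) (hκ.mem c)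
    have h4 : q * τ * q⁻¹ = σ * τ := by
      calc q * τ * q⁻¹ = (κ c')⁻¹ * (κ c * τ * (κ c)⁻¹) * κ c' := by rw [hq]; group
        _ = (κ c')⁻¹ * (κ c' * (σ * τ) * (κ c')⁻¹) * κ c' := by rw [h3]
        _ = σ * τ := by group
    obtain ⟨i, hi⟩ := conj_form hd hm0 hτ hτσ hqP
    rw [h4] at hi
    have h5 : σ ^ (2 * i) * σ⁻¹ = 1 := by
      have : σ = σ ^ (2 * i) := mul_right_cancel hi
      rw [← this, mul_inv_cancel]
    have h6 : σ ^ (((2 * i : ℕ) : ℤ) - 1) = 1 := by
      rw [zpow_sub, zpow_natCast, zpow_one]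
      exact h5
    have h7 := orderOf_dvd_iff_zpow_eq_one.2 h6
    rw [hd.ord] at h7
    obtain ⟨c₀, hc₀⟩ := hm
    obtain ⟨d, hd'⟩ := h7
    have h8 : ∃ w : ℤ, (m : ℤ) * d = 2 * w := ⟨(c₀ : ℤ) * d, by rw [hc₀]; push_cast; ring⟩
    obtain ⟨w, hw⟩ := h8
    rw [hw] at hd'
    push_cast at hd'
    omega
  rw [hunion, Finset.card_union_of_disjoint hdisj]

end Dihedral

end Cfsg.Agent.Lib.H22.DihOrder
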