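import Cfsg.Agent.Lib.H22.BLB
import Cfsg.Agent.Lib.H22.DihOrderC
import Cfsg.Agent.Lib.H8.LinearDual
import Cfsg.Agent.Lib.H5.NCTools

/-!
# Brauer–Leonard: the group-theoretic setup (helper22)

`P` a Sylow `p`-subgroup of the finite group `G` with `C_G(x) = C_G(P)` for all `1 ≠ x ∈ P`.
-/

set_option autoImplicit false

namespace Cfsg.Agent.Lib.H22.BL

open scoped ComplexConjugate Classical

section Grp

variable {G : Type*} [Group G] [Fintype G] {p : ℕ} [hp : Fact p.Prime] (P : Sylow p G)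

/-- Every nonidentity element of `P` has centralizer `C(P)`. -/
def Star : Prop := ∀ x ∈ (P : Subgroup G), x ≠ 1 →
    Subgroup.centralizer ({x} : Set G) = Subgroup.centralizer ((P : Subgroup G) : Set G)

/-- The centralizer of `P`. -/
abbrev Cg : Subgroup G := Subgroup.centralizer ((P : Subgroup G) : Set G)

/-- The normalizer of `P`. -/
abbrev Ng : Subgroup G := Subgroup.normalizer ((P : Subgroup G) : Set G)

variable {P}

theorem P_le_C (hs : Star P) : (P : Subgroup G) ≤ Cg P := by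
  intro x hx
  by_cases hx1 : x = 1
  · rw [hx1]; exact (Cg P).one_mem
  · have h1 : x ∈ Subgroup.centralizer ({x} : Set G) := by
      rw [Subgroup.mem_centralizer_iff]
      intro h hh
      rw [Set.mem_singleton_iff.1 hh]
    rw [hs x hx hx1] at h1
    exact h1

theorem C_le_N : Cg P ≤ Ng P := Subgroup.centralizer_le_normalizer _

theorem comm_of_mem (hs : Star P) {x y : G} (hx : x ∈ (P : Subgroup G)) (hy : y ∈ (P : Subgroup G)) :
    x * y = y * x :=
  (Subgroup.mem_centralizer_iff.1 (P_le_C hs hy)) x hx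

theorem mem_P_of_isPGroup (hs : Star P) {c : G} (hc : c ∈ Cg P)
    (hcp : IsPGroup p (Subgroup.zpowers c)) : c ∈ (P : Subgroup G) := by
  have h1 : Subgroup.zpowers c ≤ Subgroup.normalizer ((P : Subgroup G) : Set G) :=
    (Subgroup.zpowers_le.2 hc).trans C_le_N
  have h2 : IsPGroup p (Subgroup.zpowers c ⊔ (P : Subgroup G) : Subgroup G) :=
    IsPGroup.to_sup_of_normal_right' hcp P.2 h1
  have h3 := P.is_maximal' h2 le_sup_right
  have h4 : c ∈ Subgroup.zpowers c ⊔ (P : Subgroup G) :=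
    (le_sup_left : Subgroup.zpowers c ≤ _) (Subgroup.mem_zpowers c)
  rw [h3] at h4
  exact h4

/-- `P` is a TI subgroup. -/
theorem TI_P (hs : Star P) {x g : G} (hx : x ∈ (P : Subgroup G)) (hx1 : x ≠ 1)
    (hg : g * x * g⁻¹ ∈ (P : Subgroup G)) : g ∈ Ng P := by
  have hy1 : g * x * g⁻¹ ≠ 1 := by
    intro h
    apply hx1
    have : x = g⁻¹ * (g * x * g⁻¹) * g := by group
    rw [this, h]; group
  have key : ∀ z ∈ (P : Subgroup G), g * z * g⁻¹ ∈ (P : Subgroup G) := by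
    intro z hz
    apply mem_P_of_isPGroup hs
    · have hcc : Cg P = Subgroup.centralizer ({g * x * g⁻¹} : Set G) := (hs _ hg hy1).symm
      rw [hcc, Subgroup.mem_centralizer_iff]
      intro h hh
      rw [Set.mem_singleton_iff.1 hh]
      have := comm_of_mem hs hx hz
      calc g * x * g⁻¹ * (g * z * g⁻¹) = g * (x * z) * g⁻¹ := by group
        _ = g * (z * x) * g⁻¹ := by rw [this]
        _ = g * z * g⁻¹ * (g * x * g⁻¹) := by group
    · have h1 : IsPGroup p (Subgroup.zpowers z) := P.2.to_le (Subgroup.zpowers_le.2 hz)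
      have h2 := h1.map (MulAut.conj g).toMonoidHom
      rw [MonoidHom.map_zpowers] at h2
      exact h2
  have h1 : (P : Subgroup G).map (MulAut.conj g).toMonoidHom ≤ (P : Subgroup G) := by
    rintro _ ⟨z, hz, rfl⟩
    exact key z hz
  have h2 : (P : Subgroup G).map (MulAut.conj g).toMonoidHom = (P : Subgroup G) := by
    apply Subgroup.eq_of_le_of_card_ge h1
    rw [Subgroup.card_map_of_injective (MulAut.conj g).injective]
  exact Subgroup.mem_normalizer_iff_map_conj_eq.2 h2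

/-- Conjugation by an element of the normalizer preserves `C(P)`. -/
theorem conj_mem_C {n : G} (hn : n ∈ Ng P) {c : G} (hc : c ∈ Cg P) : n⁻¹ * c * n ∈ Cg P := by
  have h1 := Cfsg.Agent.Lib.H5.NC.normalizer_le_normalizer_centralizer (P : Subgroup G) hn
  have h2 : n⁻¹ ∈ Subgroup.normalizer ((Cg P : Subgroup G) : Set G) := Subgroup.inv_mem _ h1
  have h3 := (Subgroup.mem_normalizer_iff.1 h2 c).1 hc
  rwa [inv_inv] at h3

theorem conj_mem_P {n : G} (hn : n ∈ Ng P) {z : G} (hz : z ∈ (P : Subgroup G)) :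
    n⁻¹ * z * n ∈ (P : Subgroup G) := by
  have h2 : n⁻¹ ∈ Ng P := Subgroup.inv_mem _ hn
  have h3 := (Subgroup.mem_normalizer_iff.1 h2 z).1 hz
  rwa [inv_inv] at h3

/-- `P` as a subgroup of `C(P)`. -/
abbrev Qc (P : Sylow p G) : Subgroup ↥(Cg P) := (P : Subgroup G).subgroupOf (Cg P)

theorem card_Qc (hs : Star P) : Nat.card (Qc P) = Nat.card (P : Subgroup G) :=
  Nat.card_congr (Subgroup.subgroupOfEquivOfLe (P_le_C hs)).toEquiv

theorem Qc_central : Qc P ≤ Subgroup.center ↥(Cg P) := by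
  intro z hz
  rw [Subgroup.mem_center_iff]
  intro h
  apply Subtype.ext
  have h1 : (z : G) ∈ (P : Subgroup G) := hz
  have := Subgroup.mem_centralizer_iff.1 h.2 (z : G) h1
  simp only [Subgroup.coe_mul]
  exact this.symm

/-- Existence of the central complement data on `C(P)`. -/
theorem exists_cdata (hs : Star P) :
    ∃ (K : Subgroup ↥(Cg P)) (κ : ↥(Cg P) →* ↥(Cg P)) (Λ : Finset (↥(Cg P) →* ℂˣ)),
      CData (Qc P) K κ Λ ∧ K.Normal ∧ (Nat.card K).Coprime (Nat.card (Qc P)) ∧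
      Nat.card (Qc P) * Nat.card K = Nat.card ↥(Cg P) := by
  set PS : Sylow p ↥(Cg P) := P.subtype (P_le_C hs) with hPS
  have hPSQ : (PS : Subgroup ↥(Cg P)) = Qc P := Sylow.coe_subtype _ _
  have hcen : Subgroup.centralizer ((PS : Subgroup ↥(Cg P)) : Set ↥(Cg P)) = ⊤ := by
    rw [eq_top_iff]
    intro h _
    rw [Subgroup.mem_centralizer_iff]
    intro z hz
    rw [SetLike.mem_coe, hPSQ] at hz
    exact (Subgroup.mem_center_iff.1 (Qc_central hz) h).symm
  have hP : Subgroup.normalizer ((PS : Subgroup ↥(Cg P)) : Set ↥(Cg P))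
      ≤ Subgroup.centralizer ((PS : Subgroup ↥(Cg P)) : Set ↥(Cg P)) := by
    rw [hcen]; exact le_top
  set K : Subgroup ↥(Cg P) := (MonoidHom.transferSylow PS hP).ker with hK
  have hKn : K.Normal := MonoidHom.normal_ker _
  have hcompl : Subgroup.IsComplement' K (PS : Subgroup ↥(Cg P)) :=
    MonoidHom.ker_transferSylow_isComplement' PS hP
  have hcard : Nat.card K * Nat.card (PS : Subgroup ↥(Cg P)) = Nat.card ↥(Cg P) :=
    hcompl.card_mul_card
  have hcop : (Nat.card K).Coprime (Nat.card (PS : Subgroup ↥(Cg P))) := by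
    have h1 := PS.card_coprime_index
    have h2 : (PS : Subgroup ↥(Cg P)).index = Nat.card K := by
      have := (PS : Subgroup ↥(Cg P)).card_mul_index
      have hpos : 0 < Nat.card (PS : Subgroup ↥(Cg P)) := Nat.card_pos
      rw [mul_comm] at hcard
      exact Nat.eq_of_mul_eq_mul_left hpos (this.trans hcard.symm)
    rw [h2] at h1
    exact h1.symm
  rw [hPSQ] at hcard hcop
  obtain ⟨κ, hκ⟩ := Cfsg.Agent.Lib.H22.DihOrder.exists_retr K (Qc P) hcop.symm
    (by rw [mul_comm]; exact hcard)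
  have hab : ∀ x y : ↥(Cg P), x * y * x⁻¹ * y⁻¹ ∈ K := by
    intro x y
    rw [← hκ.ker]
    simp only [map_mul, map_inv]
    have h1 := Subgroup.mem_center_iff.1 (Qc_central (hκ.mem x)) (κ y)
    calc κ x * κ y * (κ x)⁻¹ * (κ y)⁻¹ = (κ y * κ x) * (κ x)⁻¹ * (κ y)⁻¹ := by rw [h1]
      _ = 1 := by group
  obtain ⟨Λ, hΛ1, hΛ2, hΛ3, hΛ4⟩ := Cfsg.Agent.Lib.H8.exists_linear_chars K hab
  have hidx : K.index = Nat.card (Qc P) := by
    have := K.card_mul_index
    have hpos : 0 < Nat.card K := Nat.card_pos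
    exact Nat.eq_of_mul_eq_mul_left hpos (this.trans hcard.symm)
  refine ⟨K, κ, Λ, ⟨Qc_central, hκ.mem, hκ.fix, hκ.ker, hΛ1, ?_, ?_, ?_⟩, hKn, hcop, ?_⟩
  · rw [hΛ2, hidx]
  · intro h hh
    rw [hΛ3 h hh, hidx]
  · intro h hh
    exact hΛ4 h hh
  · rw [mul_comm]; exact hcard

/-- Conjugation `c ↦ n⁻¹ c n` on `C(P)`, for `n` in the normalizer of `P`. -/
def cj (n : ↥(Ng P)) : ↥(Cg P) →* ↥(Cg P) where
  toFun c := ⟨(n : G)⁻¹ * c * n, conj_mem_C n.2 c.2⟩
  map_one' := by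
    apply Subtype.ext
    simp
  map_mul' a b := by
    apply Subtype.ext
    simp only [Subgroup.coe_mul]
    group

theorem cj_coe (n : ↥(Ng P)) (c : ↥(Cg P)) : ((cj n c : ↥(Cg P)) : G) = (n : G)⁻¹ * c * n := rfl

theorem cj_one (c : ↥(Cg P)) : cj (1 : ↥(Ng P)) c = c := by
  apply Subtype.ext
  rw [cj_coe]
  simp

theorem cj_mul (a b : ↥(Ng P)) (c : ↥(Cg P)) : cj (a * b) c = cj b (cj a c) := by
  apply Subtype.ext
  simp only [cj_coe, Subgroup.coe_mul]
  group

theorem cj_inv_cj (n : ↥(Ng P)) (c : ↥(Cg P)) : cj n⁻¹ (cj n c) = c := by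
  rw [← cj_mul, mul_inv_cancel, cj_one]

theorem cj_cj_inv (n : ↥(Ng P)) (c : ↥(Cg P)) : cj n (cj n⁻¹ c) = c := by
  rw [← cj_mul, inv_mul_cancel, cj_one]

theorem cj_mem_Qc (n : ↥(Ng P)) {z : ↥(Cg P)} (hz : z ∈ Qc P) : cj n z ∈ Qc P := by
  show ((cj n z : ↥(Cg P)) : G) ∈ (P : Subgroup G)
  rw [cj_coe]
  exact conj_mem_P n.2 hz

theorem cj_of_mem_C {n : ↥(Ng P)} (hn : (n : G) ∈ Cg P) {z : ↥(Cg P)} (hz : z ∈ Qc P) :
    cj n z = z := by
  apply Subtype.ext
  rw [cj_coe]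
  have h1 : (z : G) ∈ (P : Subgroup G) := hz
  have := Subgroup.mem_centralizer_iff.1 hn (z : G) h1
  rw [mul_assoc, this]
  group

section WithData

variable {K : Subgroup ↥(Cg P)} {κ : ↥(Cg P) →* ↥(Cg P)} {Λ : Finset (↥(Cg P) →* ℂˣ)}

theorem mem_K_iff (D : CData (Qc P) K κ Λ) (hcop : (Nat.card K).Coprime (Nat.card (Qc P)))
    (c : ↥(Cg P)) : c ∈ K ↔ c ^ Nat.card K = 1 := by
  constructor
  · intro hc
    have : (⟨c, hc⟩ : ↥K) ^ Nat.card ↥K = 1 := pow_card_eq_one'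
    have h2 := congrArg Subtype.val this
    rw [Subgroup.coe_pow] at h2
    exact h2
  · intro hc
    rw [← D.ker]
    have h1 : (κ c) ^ Nat.card K = 1 := by rw [← map_pow, hc, map_one]
    have h2 : orderOf (κ c) ∣ Nat.card K := orderOf_dvd_of_pow_eq_one h1
    have h3 : orderOf (κ c) ∣ Nat.card (Qc P) := Subgroup.orderOf_dvd_natCard _ (D.mem c)
    have h4 : orderOf (κ c) ∣ 1 := by
      rw [← Nat.Coprime.gcd_eq_one hcop]
      exact Nat.dvd_gcd h2 h3
    exact orderOf_eq_one_iff.1 (Nat.dvd_one.1 h4)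

theorem cj_mem_K (D : CData (Qc P) K κ Λ) (hcop : (Nat.card K).Coprime (Nat.card (Qc P)))
    (n : ↥(Ng P)) {k : ↥(Cg P)} (hk : k ∈ K) : cj n k ∈ K := by
  rw [mem_K_iff D hcop, ← map_pow, (mem_K_iff D hcop k).1 hk, map_one]

theorem kappa_cj (D : CData (Qc P) K κ Λ) (hcop : (Nat.card K).Coprime (Nat.card (Qc P)))
    (n : ↥(Ng P)) (c : ↥(Cg P)) : κ (cj n c) = cj n (κ c) := by
  have h1 : c = κ c * ((κ c)⁻¹ * c) := by group
  conv_lhs => rw [h1]
  rw [map_mul, map_mul, D.fix _ (cj_mem_Qc n (D.mem c)),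
    (D.ker _).2 (cj_mem_K D hcop n (D.kpart_mem c)), mul_one]

theorem pow_card_K (D : CData (Qc P) K κ Λ) (hcop : (Nat.card K).Coprime (Nat.card (Qc P)))
    (c : ↥(Cg P)) : c ^ Nat.card K = (κ c) ^ Nat.card K := by
  have h1 : c = κ c * ((κ c)⁻¹ * c) := by group
  have h2 : Commute (κ c) ((κ c)⁻¹ * c) := D.commute (D.mem c) _
  conv_lhs => rw [h1]
  rw [h2.mul_pow, (mem_K_iff D hcop _).1 (D.kpart_mem c), mul_one]

theorem kappa_pow_ne_one (D : CData (Qc P) K κ Λ) (hcop : (Nat.card K).Coprime (Nat.card (Qc P)))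
    {c : ↥(Cg P)} (hc : κ c ≠ 1) : (κ c) ^ Nat.card K ≠ 1 := by
  intro h1
  apply hc
  have h2 : orderOf (κ c) ∣ Nat.card K := orderOf_dvd_of_pow_eq_one h1
  have h3 : orderOf (κ c) ∣ Nat.card (Qc P) := Subgroup.orderOf_dvd_natCard _ (D.mem c)
  have h4 : orderOf (κ c) ∣ 1 := by
    rw [← Nat.Coprime.gcd_eq_one hcop]
    exact Nat.dvd_gcd h2 h3
  exact orderOf_eq_one_iff.1 (Nat.dvd_one.1 h4)

/-- The TI property of the `p`-singular elements of `C(P)`. -/
theorem TI_A (hs : Star P) (D : CData (Qc P) K κ Λ)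
    (hcop : (Nat.card K).Coprime (Nat.card (Qc P))) {a : ↥(Cg P)} (ha : κ a ≠ 1) {g : G}
    (hg : g * (a : G) * g⁻¹ ∈ Cg P) : g ∈ Ng P := by
  set m := Nat.card K with hm
  have h1 : a ^ m = (κ a) ^ m := pow_card_K D hcop a
  have h2 : (κ a) ^ m ≠ 1 := kappa_pow_ne_one D hcop ha
  have h3 : (((κ a) ^ m : ↥(Cg P)) : G) ∈ (P : Subgroup G) := (Qc P).pow_mem (D.mem a) m
  have h4 : (((κ a) ^ m : ↥(Cg P)) : G) ≠ 1 := by
    intro h
    apply h2
    exact Subtype.ext h
  set a' : ↥(Cg P) := ⟨g * (a : G) * g⁻¹, hg⟩ with ha'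
  have h5 : a' ^ m = (κ a') ^ m := pow_card_K D hcop a'
  have h6 : (((κ a') ^ m : ↥(Cg P)) : G) ∈ (P : Subgroup G) := (Qc P).pow_mem (D.mem a') m
  have h7 : g * (((κ a) ^ m : ↥(Cg P)) : G) * g⁻¹ = (((κ a') ^ m : ↥(Cg P)) : G) := by
    rw [← h1, ← h5]
    simp only [Subgroup.coe_pow, ha']
    rw [conj_pow]
  apply TI_P hs h3 h4
  rw [h7]
  exact h6

end WithData

/-- `|N(P)|` divides `|C(P)| (|P| - 1)`. -/
theorem card_N_dvd (hs : Star P) :
    Nat.card ↥(Ng P) ∣ Nat.card ↥(Cg P) * (Nat.card (P : Subgroup G) - 1) := by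
  letI act : MulAction ↥(Ng P) ↥(P : Subgroup G) :=
    { smul := fun n z => ⟨(n : G) * z * (n : G)⁻¹, (Subgroup.mem_normalizer_iff.1 n.2 z).1 z.2⟩
      one_smul := fun z => by
        apply Subtype.ext
        show ((1 : ↥(Ng P)) : G) * z * ((1 : ↥(Ng P)) : G)⁻¹ = z
        simp
      mul_smul := fun a b z => by
        apply Subtype.ext
        show ((a * b : ↥(Ng P)) : G) * z * ((a * b : ↥(Ng P)) : G)⁻¹
          = (a : G) * ((b : G) * z * (b : G)⁻¹) * (a : G)⁻¹
        simp only [Subgroup.coe_mul]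
        group }
  have hsmul : ∀ (n : ↥(Ng P)) (z : ↥(P : Subgroup G)),
      ((n • z : ↥(P : Subgroup G)) : G) = (n : G) * z * (n : G)⁻¹ := fun _ _ => rfl
  have hB := MulAction.sum_card_fixedBy_eq_card_orbits_mul_card_group ↥(Ng P) ↥(P : Subgroup G)
  have hfix : ∀ n : ↥(Ng P), Fintype.card (MulAction.fixedBy ↥(P : Subgroup G) n)
      = if (n : G) ∈ Cg P then Nat.card (P : Subgroup G) else 1 := by
    intro n
    split_ifs with hn
    · rw [Nat.card_eq_fintype_card]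
      apply Fintype.card_congr
      apply Equiv.subtypeUnivEquiv
      intro z
      rw [MulAction.mem_fixedBy]
      apply Subtype.ext
      rw [hsmul]
      have := Subgroup.mem_centralizer_iff.1 hn (z : G) z.2
      rw [← this]
      group
    · rw [Fintype.card_eq_one_iff]
      refine ⟨⟨1, ?_⟩, ?_⟩
      · rw [MulAction.mem_fixedBy]
        apply Subtype.ext
        rw [hsmul]
        simp
      · rintro ⟨z, hz⟩
        apply Subtype.ext
        simp only
        by_contra hz1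
        apply hn
        rw [MulAction.mem_fixedBy] at hz
        have h1 := congrArg Subtype.val hz
        rw [hsmul] at h1
        have hz1' : (z : G) ≠ 1 := fun h => hz1 (Subtype.ext h)
        have hcc : Cg P = Subgroup.centralizer ({(z : G)} : Set G) := (hs (z : G) z.2 hz1').symm
        rw [hcc, Subgroup.mem_centralizer_iff]
        intro h hh
        rw [Set.mem_singleton_iff.1 hh]
        calc (z : G) * (n : G) = ((n : G) * z * (n : G)⁻¹) * (n : G) := by rw [h1]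
          _ = (n : G) * z := by group
  rw [Finset.sum_congr rfl (fun n _ => hfix n), Finset.sum_ite, Finset.sum_const, Finset.sum_const,
    smul_eq_mul, smul_eq_mul, mul_one] at hB
  have hc1 : (Finset.univ.filter (fun n : ↥(Ng P) => (n : G) ∈ Cg P)).card = Nat.card ↥(Cg P) := by
    rw [← Fintype.card_subtype]
    rw [Nat.card_eq_fintype_card]
    apply Fintype.card_congr
    exact (Subgroup.subgroupOfEquivOfLe (C_le_N (P := P))).toEquiv
  have hc2 : (Finset.univ.filter (fun n : ↥(Ng P) => (n : G) ∈ Cg P)).card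
      + (Finset.univ.filter (fun n : ↥(Ng P) => ¬ (n : G) ∈ Cg P)).card = Nat.card ↥(Ng P) := by
    rw [Finset.card_filter_add_card_filter_not, Finset.card_univ, Nat.card_eq_fintype_card]
  rw [hc1] at hB hc2
  have hq : 1 ≤ Nat.card (P : Subgroup G) := Nat.card_pos
  rw [← Nat.card_eq_fintype_card (α := ↥(Ng P))] at hB
  obtain ⟨q', hq'⟩ : ∃ q', Nat.card (P : Subgroup G) = q' + 1 := ⟨_, (Nat.sub_add_cancel hq).symm⟩
  rw [hq', Nat.add_sub_cancel]
  rw [hq'] at hB
  set ω := Fintype.card (MulAction.orbitRel.Quotient ↥(Ng P) ↥(P : Subgroup G)) with hω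
  have hω1 : 1 ≤ ω := by
    rw [hω]
    exact Fintype.card_pos_iff.2 ⟨Quotient.mk'' 1⟩
  obtain ⟨ω', hω'⟩ : ∃ ω', ω = ω' + 1 := ⟨_, (Nat.sub_add_cancel hω1).symm⟩
  refine ⟨ω', ?_⟩
  rw [hω'] at hB
  have h9 : Nat.card ↥(Cg P) * (q' + 1)
      + (Finset.univ.filter (fun n : ↥(Ng P) => ¬ (n : G) ∈ Cg P)).card
      = (ω' + 1) * Nat.card ↥(Ng P) := hB
  nlinarith [h9, hc2]

end Grp

end Cfsg.Agent.Lib.H22.BL
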