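import Cfsg.Agent.Lib.H22.BLC
import Cfsg.Agent.Lib.L0.CharInd

/-!
# Brauer–Leonard: the action of the normalizer, induction from `C(P)` (helper22)
-/

set_option autoImplicit false

namespace Cfsg.Agent.Lib.H22.BL

open scoped ComplexConjugate Classical
open Cfsg.Agent.Lib.L0

section Act

variable {G : Type*} [Group G] [Fintype G] {p : ℕ} [hp : Fact p.Prime] {P : Sylow p G}

/-- The action of the normalizer on linear characters of `C(P)`. -/
def fn (n : ↥(Ng P)) (f : ↥(Cg P) →* ℂˣ) : ↥(Cg P) →* ℂˣ := f.comp (cj n)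

theorem fn_apply (n : ↥(Ng P)) (f : ↥(Cg P) →* ℂˣ) (c : ↥(Cg P)) : fn n f c = f (cj n c) := rfl

theorem fn_one_left (f : ↥(Cg P) →* ℂˣ) : fn (1 : ↥(Ng P)) f = f := by
  ext c
  rw [fn_apply, cj_one]

theorem fn_mul (a b : ↥(Ng P)) (f : ↥(Cg P) →* ℂˣ) : fn (a * b) f = fn a (fn b f) := by
  ext c
  rw [fn_apply, fn_apply, fn_apply, cj_mul]

theorem fn_hom_one (n : ↥(Ng P)) : fn n (1 : ↥(Cg P) →* ℂˣ) = 1 := by
  ext c
  rw [fn_apply]
  rfl

theorem fn_inv_fn (n : ↥(Ng P)) (f : ↥(Cg P) →* ℂˣ) : fn n⁻¹ (fn n f) = f := by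
  rw [← fn_mul, inv_mul_cancel, fn_one_left]

theorem fn_fn_inv (n : ↥(Ng P)) (f : ↥(Cg P) →* ℂˣ) : fn n (fn n⁻¹ f) = f := by
  rw [← fn_mul, mul_inv_cancel, fn_one_left]

theorem fn_ne_one (n : ↥(Ng P)) {f : ↥(Cg P) →* ℂˣ} (hf1 : f ≠ 1) : fn n f ≠ 1 := by
  intro h
  apply hf1
  rw [← fn_inv_fn n f, h, fn_hom_one]

theorem hf_fn (n : ↥(Ng P)) (f : ↥(Cg P) →* ℂˣ) :
    hf (fn n f) = fun c => hf f (cj n c) := rfl

/-- Restriction to `C(P)`. -/
def res (P : Sylow p G) (ζ : G → ℂ) : ↥(Cg P) → ℂ := fun c => ζ (c : G)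

theorem res_apply (ζ : G → ℂ) (c : ↥(Cg P)) : res P ζ c = ζ (c : G) := rfl

theorem res_cj {ζ : G → ℂ} (hζ : Cfsg.IsClassFunction G ζ) (n : ↥(Ng P)) (c : ↥(Cg P)) :
    res P ζ (cj n c) = res P ζ c := by
  rw [res_apply, res_apply, cj_coe]
  have := hζ (c : G) (n : G)⁻¹
  rw [inv_inv] at this
  exact this

/-- Compatibility of components with the action. -/
theorem comp_fn (n : ↥(Ng P)) (f : ↥(Cg P) →* ℂˣ) {η : ↥(Cg P) → ℂ}
    (hη : ∀ c, η (cj n c) = η c) (h : ↥(Cg P)) :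
    comp (Qc P) (fn n f) η h = comp (Qc P) f η (cj n h) := by
  rw [comp_apply, comp_apply]
  congr 1
  refine Finset.sum_bij' (fun z _ => cj n z) (fun z _ => cj n⁻¹ z) ?_ ?_ ?_ ?_ ?_
  · intro z hz
    exact mem_fs.2 (cj_mem_Qc n (mem_fs.1 hz))
  · intro z hz
    exact mem_fs.2 (cj_mem_Qc n⁻¹ (mem_fs.1 hz))
  · intro z _
    exact cj_inv_cj n z
  · intro z _
    exact cj_cj_inv n z
  · intro z _
    rw [fn_apply, ← map_mul, hη]

theorem card_filter_mem_C :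
    (Finset.univ.filter (fun n : ↥(Ng P) => (n : G) ∈ Cg P)).card = Nat.card ↥(Cg P) := by
  rw [← Fintype.card_subtype, Nat.card_eq_fintype_card]
  apply Fintype.card_congr
  exact (Subgroup.subgroupOfEquivOfLe (C_le_N (P := P))).toEquiv

/-- The number of elements of the normalizer carrying `f` to `a`. -/
noncomputable def cnt (f a : ↥(Cg P) →* ℂˣ) : ℕ :=
  (Finset.univ.filter (fun n : ↥(Ng P) => fn n f = a)).card

theorem cnt_eq_zero {f a : ↥(Cg P) →* ℂˣ} (h : ∀ n : ↥(Ng P), fn n f ≠ a) : cnt f a = 0 := by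
  unfold cnt
  rw [Finset.card_eq_zero, Finset.filter_eq_empty_iff]
  intro n _
  exact h n

theorem cnt_one_one : cnt (P := P) 1 1 = Nat.card ↥(Ng P) := by
  unfold cnt
  rw [Finset.filter_true_of_mem (fun n _ => fn_hom_one n), Finset.card_univ,
    Nat.card_eq_fintype_card]

theorem cnt_one_ne {a : ↥(Cg P) →* ℂˣ} (ha : a ≠ 1) : cnt (P := P) 1 a = 0 := by
  apply cnt_eq_zero
  intro n h
  rw [fn_hom_one] at h
  exact ha h.symm

theorem cnt_ne_one {f : ↥(Cg P) →* ℂˣ} (hf1 : f ≠ 1) : cnt (P := P) f 1 = 0 := by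
  apply cnt_eq_zero
  intro n
  exact fn_ne_one n hf1

theorem sum_ite_cnt (f a : ↥(Cg P) →* ℂˣ) :
    ∑ n : ↥(Ng P), (if a = fn n f then (1 : ℂ) else 0) = (cnt f a : ℂ) := by
  rw [Finset.sum_boole]
  unfold cnt
  congr 2
  ext n
  simp only [Finset.mem_filter, Finset.mem_univ, true_and]
  exact eq_comm

/-- The orbit of a linear character. -/
noncomputable def orb (f : ↥(Cg P) →* ℂˣ) : Finset (↥(Cg P) →* ℂˣ) :=
  Finset.univ.image (fun n : ↥(Ng P) => fn n f)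

theorem mem_orb {f a : ↥(Cg P) →* ℂˣ} : a ∈ orb f ↔ ∃ n : ↥(Ng P), fn n f = a := by
  simp [orb]

theorem self_mem_orb (f : ↥(Cg P) →* ℂˣ) : f ∈ orb f := mem_orb.2 ⟨1, fn_one_left f⟩

theorem mem_orb_symm {f a : ↥(Cg P) →* ℂˣ} (h : a ∈ orb f) : f ∈ orb a := by
  obtain ⟨n, rfl⟩ := mem_orb.1 h
  exact mem_orb.2 ⟨n⁻¹, fn_inv_fn n f⟩

theorem one_not_mem_orb {f : ↥(Cg P) →* ℂˣ} (hf1 : f ≠ 1) : (1 : ↥(Cg P) →* ℂˣ) ∉ orb f := by
  intro h
  obtain ⟨n, hn⟩ := mem_orb.1 h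
  exact fn_ne_one n hf1 hn

variable {K : Subgroup ↥(Cg P)} {κ : ↥(Cg P) →* ↥(Cg P)} {Λ : Finset (↥(Cg P) →* ℂˣ)}

theorem fn_mem (D : CData (Qc P) K κ Λ) (hcop : (Nat.card K).Coprime (Nat.card (Qc P)))
    (n : ↥(Ng P)) {f : ↥(Cg P) →* ℂˣ} (hf' : f ∈ Λ) : fn n f ∈ Λ := by
  apply D.complete
  intro k hk
  rw [fn_apply]
  exact D.triv f hf' _ (cj_mem_K D hcop n hk)

theorem fn_of_mem_C (D : CData (Qc P) K κ Λ) (hcop : (Nat.card K).Coprime (Nat.card (Qc P)))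
    {n : ↥(Ng P)} (hn : (n : G) ∈ Cg P) {f : ↥(Cg P) →* ℂˣ} (hf' : f ∈ Λ) : fn n f = f := by
  ext c
  rw [fn_apply, D.hom_eq hf' (cj n c), kappa_cj D hcop, cj_of_mem_C hn (D.mem c), ← D.hom_eq hf']

theorem orb_subset_Lam (D : CData (Qc P) K κ Λ) (hcop : (Nat.card K).Coprime (Nat.card (Qc P)))
    {f : ↥(Cg P) →* ℂˣ} (hf' : f ∈ Λ) : orb f ⊆ Λ := by
  intro a ha
  obtain ⟨n, rfl⟩ := mem_orb.1 ha
  exact fn_mem D hcop n hf'

/-- The action is semiregular on nonprincipal characters. -/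
theorem mem_C_of_fn_eq (hs : Star P) (D : CData (Qc P) K κ Λ) {n : ↥(Ng P)}
    {f : ↥(Cg P) →* ℂˣ} (hf' : f ∈ Λ) (hf1 : f ≠ 1) (hfix : fn n f = f) : (n : G) ∈ Cg P := by
  by_contra hn
  let ψ : ↥(Qc P) → ↥(Qc P) := fun z =>
    ⟨(z : ↥(Cg P))⁻¹ * cj n z, (Qc P).mul_mem ((Qc P).inv_mem z.2) (cj_mem_Qc n z.2)⟩
  have hinj : Function.Injective ψ := by
    intro z w hzw
    have h1 : (z : ↥(Cg P))⁻¹ * cj n z = (w : ↥(Cg P))⁻¹ * cj n w := congrArg Subtype.val hzw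
    have h2 : cj n ((w : ↥(Cg P)) * (z : ↥(Cg P))⁻¹) = (w : ↥(Cg P)) * (z : ↥(Cg P))⁻¹ := by
      rw [map_mul, map_inv]
      have h3 : cj n (w : ↥(Cg P)) = (w : ↥(Cg P)) * ((z : ↥(Cg P))⁻¹ * cj n z) := by
        rw [h1]; group
      rw [h3]; group
    by_contra hne
    have hy1 : ((w : ↥(Cg P)) * (z : ↥(Cg P))⁻¹ : ↥(Cg P)) ≠ 1 := by
      intro h
      apply hne
      apply Subtype.ext
      exact (mul_inv_eq_one.1 h).symm
    have hyQ : ((w : ↥(Cg P)) * (z : ↥(Cg P))⁻¹ : ↥(Cg P)) ∈ Qc P :=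
      (Qc P).mul_mem w.2 ((Qc P).inv_mem z.2)
    obtain ⟨y, hy⟩ : ∃ y : ↥(Cg P), y = (w : ↥(Cg P)) * (z : ↥(Cg P))⁻¹ := ⟨_, rfl⟩
    rw [← hy] at h2 hy1 hyQ
    have hyP : (y : G) ∈ (P : Subgroup G) := hyQ
    have hy1' : (y : G) ≠ 1 := fun h => hy1 (Subtype.ext h)
    apply hn
    have hcc : Cg P = Subgroup.centralizer ({(y : G)} : Set G) := (hs (y : G) hyP hy1').symm
    rw [hcc, Subgroup.mem_centralizer_iff]
    intro h hh
    rw [Set.mem_singleton_iff.1 hh]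
    have h4 : (n : G)⁻¹ * (y : G) * n = y := congrArg Subtype.val h2
    calc (y : G) * n = n * ((n : G)⁻¹ * y * n) := by group
      _ = n * y := by rw [h4]
  have hsurj : Function.Surjective ψ := Finite.injective_iff_surjective.1 hinj
  apply hf1
  ext h
  rw [D.hom_eq hf' h]
  obtain ⟨z', hz'⟩ := hsurj ⟨κ h, D.mem h⟩
  have h5 : κ h = (z' : ↥(Cg P))⁻¹ * cj n z' := (congrArg Subtype.val hz').symm
  rw [h5, map_mul, map_inv]
  have h6 : f (cj n z') = f z' := by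
    conv_rhs => rw [← hfix]
    rfl
  rw [h6, inv_mul_cancel]
  rfl

theorem cnt_fn (hs : Star P) (D : CData (Qc P) K κ Λ)
    (hcop : (Nat.card K).Coprime (Nat.card (Qc P))) {f : ↥(Cg P) →* ℂˣ} (hf' : f ∈ Λ)
    (hf1 : f ≠ 1) (n₀ : ↥(Ng P)) : cnt f (fn n₀ f) = Nat.card ↥(Cg P) := by
  rw [← card_filter_mem_C (P := P)]
  unfold cnt
  refine Finset.card_bij' (fun n _ => n₀⁻¹ * n) (fun m _ => n₀ * m) ?_ ?_ ?_ ?_
  · intro n hn
    rw [Finset.mem_filter] at hn ⊢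
    refine ⟨Finset.mem_univ _, ?_⟩
    apply mem_C_of_fn_eq hs D hf' hf1
    rw [fn_mul, hn.2, fn_inv_fn]
  · intro m hm
    rw [Finset.mem_filter] at hm ⊢
    refine ⟨Finset.mem_univ _, ?_⟩
    rw [fn_mul, fn_of_mem_C D hcop hm.2 hf']
  · intro n _
    group
  · intro m _
    group

theorem cnt_self (hs : Star P) (D : CData (Qc P) K κ Λ)
    (hcop : (Nat.card K).Coprime (Nat.card (Qc P))) {f : ↥(Cg P) →* ℂˣ} (hf' : f ∈ Λ)
    (hf1 : f ≠ 1) : cnt f f = Nat.card ↥(Cg P) := by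
  have := cnt_fn hs D hcop hf' hf1 1
  rwa [fn_one_left] at this

theorem cnt_of_mem_orb (hs : Star P) (D : CData (Qc P) K κ Λ)
    (hcop : (Nat.card K).Coprime (Nat.card (Qc P))) {f a : ↥(Cg P) →* ℂˣ} (hf' : f ∈ Λ)
    (hf1 : f ≠ 1) (ha : a ∈ orb f) : cnt f a = Nat.card ↥(Cg P) := by
  obtain ⟨n, rfl⟩ := mem_orb.1 ha
  exact cnt_fn hs D hcop hf' hf1 n

theorem cnt_of_not_mem_orb {f a : ↥(Cg P) →* ℂˣ} (ha : a ∉ orb f) : cnt f a = 0 := by
  apply cnt_eq_zero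
  intro n h
  exact ha (mem_orb.2 ⟨n, h⟩)

theorem card_orb (hs : Star P) (D : CData (Qc P) K κ Λ)
    (hcop : (Nat.card K).Coprime (Nat.card (Qc P))) {f : ↥(Cg P) →* ℂˣ} (hf' : f ∈ Λ)
    (hf1 : f ≠ 1) : (orb f).card * Nat.card ↥(Cg P) = Nat.card ↥(Ng P) := by
  have h1 := Finset.card_eq_sum_card_image (fun n : ↥(Ng P) => fn n f) Finset.univ
  have h2 : ∀ a ∈ Finset.univ.image (fun n : ↥(Ng P) => fn n f),
      (Finset.univ.filter (fun n : ↥(Ng P) => fn n f = a)).card = Nat.card ↥(Cg P) := by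
    intro a ha
    obtain ⟨n₀, -, rfl⟩ := Finset.mem_image.1 ha
    exact cnt_fn hs D hcop hf' hf1 n₀
  rw [Finset.sum_congr rfl h2, Finset.sum_const, smul_eq_mul, Finset.card_univ,
    ← Nat.card_eq_fintype_card] at h1
  rw [h1]
  rfl

/-- Supports of restrictions of class functions are stable. -/
theorem fn_mem_supp (D : CData (Qc P) K κ Λ) (hcop : (Nat.card K).Coprime (Nat.card (Qc P)))
    {ζ : G → ℂ} (hζ : Cfsg.IsClassFunction G ζ) (n : ↥(Ng P)) {f : ↥(Cg P) →* ℂˣ}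
    (hf' : f ∈ D.supp (res P ζ)) : fn n f ∈ D.supp (res P ζ) := by
  rw [D.mem_supp] at hf' ⊢
  refine ⟨fn_mem D hcop n hf'.1, ?_⟩
  intro h0
  apply hf'.2
  funext c
  have := congrFun h0 (cj n⁻¹ c)
  rw [comp_fn n f (res_cj hζ n), cj_cj_inv] at this
  exact this

theorem orb_subset_supp (D : CData (Qc P) K κ Λ) (hcop : (Nat.card K).Coprime (Nat.card (Qc P)))
    {ζ : G → ℂ} (hζ : Cfsg.IsClassFunction G ζ) {f : ↥(Cg P) →* ℂˣ}
    (hf' : f ∈ D.supp (res P ζ)) : orb f ⊆ D.supp (res P ζ) := by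
  intro a ha
  obtain ⟨n, rfl⟩ := mem_orb.1 ha
  exact fn_mem_supp D hcop hζ n hf'

theorem comp_fn_one {ζ : G → ℂ} (hζ : Cfsg.IsClassFunction G ζ) (n : ↥(Ng P))
    (f : ↥(Cg P) →* ℂˣ) : comp (Qc P) (fn n f) (res P ζ) 1 = comp (Qc P) f (res P ζ) 1 := by
  rw [comp_fn n f (res_cj hζ n), map_one]

end Act

section Ind

variable {G : Type*} [Group G] [Fintype G] {p : ℕ} [hp : Fact p.Prime] {P : Sylow p G}
variable {K : Subgroup ↥(Cg P)} {κ : ↥(Cg P) →* ↥(Cg P)} {Λ : Finset (↥(Cg P) →* ℂˣ)}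

/-- The value of an induced function at a `p`-singular element of `C(P)`. -/
theorem indFun_apply_of_kappa_ne (hs : Star P) (D : CData (Qc P) K κ Λ)
    (hcop : (Nat.card K).Coprime (Nat.card (Qc P))) (δ : ↥(Cg P) → ℂ) {c : ↥(Cg P)}
    (hc : κ c ≠ 1) :
    Cfsg.indFun (Cg P) δ (c : G) = (Nat.card ↥(Cg P) : ℂ)⁻¹ * ∑ n : ↥(Ng P), δ (cj n c) := by
  rw [indFun_apply]
  congr 1
  have h1 : ∀ x : G, x ∉ Ng P → Cfsg.extendByZero (Cg P) δ (x⁻¹ * (c : G) * x) = 0 := by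
    intro x hx
    apply extendByZero_apply_not_mem
    intro hmem
    apply hx
    have h2 : x⁻¹ * (c : G) * x⁻¹⁻¹ ∈ Cg P := by rwa [inv_inv]
    have h3 := TI_A hs D hcop hc h2
    have h4 := (Ng P).inv_mem h3
    rwa [inv_inv] at h4
  have h2 : ∑ x : G, Cfsg.extendByZero (Cg P) δ (x⁻¹ * (c : G) * x)
      = ∑ x ∈ Finset.univ.filter (fun x : G => x ∈ Ng P),
          Cfsg.extendByZero (Cg P) δ (x⁻¹ * (c : G) * x) := by
    rw [Finset.sum_filter]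
    refine Finset.sum_congr rfl fun x _ => ?_
    split_ifs with hx
    · rfl
    · exact h1 x hx
  rw [h2, Finset.sum_subtype (p := fun x : G => x ∈ Ng P) _ (by simp)]
  refine Finset.sum_congr rfl fun n _ => ?_
  exact extendByZero_apply_mem (Cg P) δ (cj n c)

theorem indFun_apply_one (δ : ↥(Cg P) → ℂ) (h : δ 1 = 0) : Cfsg.indFun (Cg P) δ 1 = 0 := by
  rw [indFun_apply]
  have h1 : ∀ x : G, Cfsg.extendByZero (Cg P) δ (x⁻¹ * 1 * x) = 0 := by
    intro x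
    have h2 : x⁻¹ * 1 * x = ((1 : ↥(Cg P)) : G) := by simp
    rw [h2, extendByZero_apply_mem, h]
  rw [Finset.sum_congr rfl (fun x _ => h1 x)]
  simp

/-- Inner products of induced functions, the first of which vanishes on the `p`-regular part. -/
theorem classInner_ind_ind (hs : Star P) (D : CData (Qc P) K κ Λ)
    (hcop : (Nat.card K).Coprime (Nat.card (Qc P))) (γ δ : ↥(Cg P) → ℂ)
    (hγ : ∀ k ∈ K, γ k = 0) :
    Cfsg.classInner (Cfsg.indFun (Cg P) γ) (Cfsg.indFun (Cg P) δ)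
      = (Nat.card ↥(Cg P) : ℂ)⁻¹
        * ∑ n : ↥(Ng P), Cfsg.classInner γ (fun c => δ (cj n c)) := by
  rw [frobenius_reciprocity (Cg P) γ _ (indFun_isClassFunction (Cg P) δ)]
  unfold Cfsg.classInner
  have h1 : ∀ c : ↥(Cg P), γ c * conj (Cfsg.indFun (Cg P) δ (c : G))
      = γ c * conj ((Nat.card ↥(Cg P) : ℂ)⁻¹ * ∑ n : ↥(Ng P), δ (cj n c)) := by
    intro c
    by_cases hc : κ c = 1
    · rw [hγ c ((D.ker c).1 hc), zero_mul, zero_mul]
    · rw [indFun_apply_of_kappa_ne hs D hcop δ hc]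
  rw [Finset.sum_congr rfl (fun c _ => h1 c)]
  simp only [map_mul, map_sum, map_inv₀, Complex.conj_natCast, Finset.mul_sum]
  rw [Finset.sum_comm]
  refine Finset.sum_congr rfl fun n _ => Finset.sum_congr rfl fun c _ => ?_
  ring

theorem hf_sub_vanish (D : CData (Qc P) K κ Λ) {a b : ↥(Cg P) →* ℂˣ} (ha : a ∈ Λ) (hb : b ∈ Λ) :
    ∀ k ∈ K, (hf a - hf b) k = 0 := by
  intro k hk
  rw [Pi.sub_apply, hf_apply, hf_apply, D.triv a ha k hk, D.triv b hb k hk, sub_self]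

/-- The Gram matrix of differences of induced linear characters. -/
theorem gram (hs : Star P) (D : CData (Qc P) K κ Λ)
    (hcop : (Nat.card K).Coprime (Nat.card (Qc P))) {a b : ↥(Cg P) →* ℂˣ} (ha : a ∈ Λ)
    (hb : b ∈ Λ) (c d : ↥(Cg P) →* ℂˣ) :
    Cfsg.classInner (Cfsg.indFun (Cg P) (hf a - hf b)) (Cfsg.indFun (Cg P) (hf c - hf d))
      = (Nat.card ↥(Cg P) : ℂ)⁻¹
        * ((cnt c a : ℂ) - (cnt d a : ℂ) - (cnt c b : ℂ) + (cnt d b : ℂ)) := by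
  rw [classInner_ind_ind hs D hcop _ _ (hf_sub_vanish D ha hb)]
  congr 1
  have h1 : ∀ n : ↥(Ng P), Cfsg.classInner (hf a - hf b) (fun x => (hf c - hf d) (cj n x))
      = (if a = fn n c then (1 : ℂ) else 0) - (if a = fn n d then (1 : ℂ) else 0)
        - (if b = fn n c then (1 : ℂ) else 0) + (if b = fn n d then (1 : ℂ) else 0) := by
    intro n
    have h2 : (fun x => (hf c - hf d) (cj n x)) = hf (fn n c) - hf (fn n d) := by
      funext x
      rfl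
    rw [h2, classInner_sub_left, classInner_sub_right, classInner_sub_right, classInner_hf,
      classInner_hf, classInner_hf, classInner_hf]
    ring
  rw [Finset.sum_congr rfl (fun n _ => h1 n), Finset.sum_add_distrib, Finset.sum_sub_distrib,
    Finset.sum_sub_distrib, sum_ite_cnt, sum_ite_cnt, sum_ite_cnt, sum_ite_cnt]

/-- Frobenius reciprocity against a class function. -/
theorem classInner_ind_res (γ : ↥(Cg P) → ℂ) {ζ : G → ℂ} (hζ : Cfsg.IsClassFunction G ζ) :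
    Cfsg.classInner (Cfsg.indFun (Cg P) γ) ζ = Cfsg.classInner γ (res P ζ) :=
  frobenius_reciprocity (Cg P) γ ζ hζ

/-- The counting lemma: an irreducible character carries little norm on the `p`-singular
part of `C(P)`. -/
theorem sum_A_lt (hs : Star P) (D : CData (Qc P) K κ Λ)
    (hcop : (Nat.card K).Coprime (Nat.card (Qc P))) {ζ : G → ℂ}
    (hcf : Cfsg.IsClassFunction G ζ) (hn : nrm ζ = 1) (h1 : ζ 1 ≠ 0) :
    ∑ h ∈ Finset.univ.filter (fun h : ↥(Cg P) => h ∉ K), ‖res P ζ h‖ ^ 2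
      < (Nat.card ↥(Ng P) : ℝ) := by
  obtain ⟨A', hA'⟩ : ∃ A' : Finset ↥(Cg P), A' = Finset.univ.filter (fun h : ↥(Cg P) => h ∉ K) :=
    ⟨_, rfl⟩
  rw [← hA']
  have hmemA : ∀ a : ↥(Cg P), a ∈ A' ↔ a ∉ K := by
    intro a
    rw [hA']
    simp
  obtain ⟨F, hF⟩ : ∃ F : G → ℝ, F = fun g => ‖ζ g‖ ^ 2 := ⟨_, rfl⟩
  have hFc : ∀ x g : G, F (x * g * x⁻¹) = F g := by
    intro x g
    rw [hF]
    simp only
    rw [hcf g x]
  have hFnn : ∀ g, 0 ≤ F g := by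
    intro g
    rw [hF]
    positivity
  have hS : ∑ h ∈ A', ‖res P ζ h‖ ^ 2 = ∑ a ∈ A', F (a : G) := by
    rw [hF]
    rfl
  rw [hS]
  obtain ⟨S, hSdef⟩ : ∃ S : ℝ, S = ∑ a ∈ A', F (a : G) := ⟨_, rfl⟩
  rw [← hSdef]
  let φ : G × ↥(Cg P) → G := fun q => q.1 * (q.2 : G) * q.1⁻¹
  have h2 : ∑ q ∈ (Finset.univ : Finset G) ×ˢ A', F (φ q) = (Nat.card G : ℝ) * S := by
    rw [Finset.sum_product]
    have : ∀ x : G, ∑ a ∈ A', F (φ (x, a)) = S := by
      intro x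
      rw [hSdef]
      refine Finset.sum_congr rfl fun a _ => ?_
      exact hFc x a
    rw [Finset.sum_congr rfl (fun x _ => this x), Finset.sum_const, Finset.card_univ,
      nsmul_eq_mul, Nat.card_eq_fintype_card]
  have h3 := Finset.sum_comp (s := (Finset.univ : Finset G) ×ˢ A') F φ
  have h4 : ∀ g ∈ ((Finset.univ : Finset G) ×ˢ A').image φ,
      (((Finset.univ : Finset G) ×ˢ A').filter (fun q => φ q = g)).card ≤ Nat.card ↥(Ng P) := by
    intro g hg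
    obtain ⟨q₀, hq₀, hq₀g⟩ := Finset.mem_image.1 hg
    rw [← card_fs (Ng P)]
    apply Finset.card_le_card_of_injOn (fun q => q₀.1⁻¹ * q.1)
    · intro q hq
      rw [Finset.mem_coe, Finset.mem_filter, Finset.mem_product] at hq
      rw [Finset.mem_coe, mem_fs]
      have hqA : κ q.2 ≠ 1 := by
        intro h
        exact (hmemA q.2).1 hq.1.2 ((D.ker q.2).1 h)
      apply TI_A hs D hcop hqA
      have h5 : q₀.1⁻¹ * q.1 * (q.2 : G) * (q₀.1⁻¹ * q.1)⁻¹ = (q₀.2 : G) := by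
        have h6 : q.1 * (q.2 : G) * q.1⁻¹ = q₀.1 * (q₀.2 : G) * q₀.1⁻¹ := by
          rw [← show φ q₀ = q₀.1 * (q₀.2 : G) * q₀.1⁻¹ from rfl, hq₀g]
          exact hq.2
        calc q₀.1⁻¹ * q.1 * (q.2 : G) * (q₀.1⁻¹ * q.1)⁻¹
            = q₀.1⁻¹ * (q.1 * (q.2 : G) * q.1⁻¹) * q₀.1 := by group
          _ = q₀.1⁻¹ * (q₀.1 * (q₀.2 : G) * q₀.1⁻¹) * q₀.1 := by rw [h6]
          _ = (q₀.2 : G) := by group
      rw [h5]
      exact q₀.2.2
    · intro q hq q' hq' hqq'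
      rw [Finset.mem_coe, Finset.mem_filter] at hq hq'
      have h5 : q.1 = q'.1 := mul_left_cancel hqq'
      have h6 : q.1 * (q.2 : G) * q.1⁻¹ = q'.1 * (q'.2 : G) * q'.1⁻¹ := hq.2.trans hq'.2.symm
      rw [← h5] at h6
      have h7 : (q.2 : G) = (q'.2 : G) := by
        have := mul_right_cancel h6
        exact mul_left_cancel this
      exact Prod.ext h5 (Subtype.ext h7)
  have h5 : ((Finset.univ : Finset G) ×ˢ A').image φ ⊆ Finset.univ.erase 1 := by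
    intro g hg
    obtain ⟨q, hq, rfl⟩ := Finset.mem_image.1 hg
    rw [Finset.mem_product] at hq
    rw [Finset.mem_erase]
    refine ⟨?_, Finset.mem_univ _⟩
    intro h
    have h6 : (q.2 : G) = 1 := by
      have h7 : (q.2 : G) = q.1⁻¹ * (q.1 * (q.2 : G) * q.1⁻¹) * q.1 := by group
      rw [h7]
      have h8 : q.1 * (q.2 : G) * q.1⁻¹ = 1 := h
      rw [h8]
      group
    have h7 : q.2 = 1 := Subtype.ext h6
    apply (hmemA q.2).1 hq.2
    rw [h7]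
    exact K.one_mem
  have hNpos : (0 : ℝ) < Nat.card ↥(Ng P) := by exact_mod_cast Nat.card_pos (α := ↥(Ng P))
  have hGpos : (0 : ℝ) < Nat.card G := by exact_mod_cast Nat.card_pos (α := G)
  have h6 : (Nat.card G : ℝ) * S ≤ (Nat.card ↥(Ng P) : ℝ) * ∑ g ∈ Finset.univ.erase (1 : G), F g := by
    rw [← h2, h3]
    calc ∑ g ∈ ((Finset.univ : Finset G) ×ˢ A').image φ,
          (((Finset.univ : Finset G) ×ˢ A').filter (fun q => φ q = g)).card • F g
        ≤ ∑ g ∈ ((Finset.univ : Finset G) ×ˢ A').image φ, (Nat.card ↥(Ng P) : ℝ) * F g := by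
          apply Finset.sum_le_sum
          intro g hg
          rw [nsmul_eq_mul]
          apply mul_le_mul_of_nonneg_right _ (hFnn g)
          exact_mod_cast h4 g hg
      _ ≤ ∑ g ∈ Finset.univ.erase (1 : G), (Nat.card ↥(Ng P) : ℝ) * F g := by
          apply Finset.sum_le_sum_of_subset_of_nonneg h5
          intro g _ _
          exact mul_nonneg hNpos.le (hFnn g)
      _ = (Nat.card ↥(Ng P) : ℝ) * ∑ g ∈ Finset.univ.erase (1 : G), F g := by
          rw [Finset.mul_sum]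
  have h7 : ∑ g ∈ Finset.univ.erase (1 : G), F g = (Nat.card G : ℝ) - F 1 := by
    have h8 := Finset.add_sum_erase Finset.univ F (Finset.mem_univ (1 : G))
    have h9 : ∑ g : G, F g = (Nat.card G : ℝ) * nrm ζ := by
      rw [hF]
      exact sum_normSq_eq ζ
    rw [hn, mul_one] at h9
    linarith
  have h8 : 0 < F 1 := by
    rw [hF]
    have : 0 < ‖ζ 1‖ := norm_pos_iff.2 h1
    positivity
  rw [h7] at h6
  have h9 : (Nat.card G : ℝ) * S < (Nat.card G : ℝ) * (Nat.card ↥(Ng P) : ℝ) := by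
    nlinarith
  exact lt_of_mul_lt_mul_left h9 hGpos.le

end Ind

end Cfsg.Agent.Lib.H22.BL
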