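import Cfsg.Agent.Lib.H22.BLD
import Cfsg.Agent.Lib.L0.CharIndChar
import Cfsg.Agent.Lib.H8.GenChar
import Cfsg.Agent.Lib.H24.CharKer

/-!
# Brauer–Leonard: the core theorem (helper22)

`P` a Sylow `p`-subgroup with `C(x) = C(P)` for `1 ≠ x ∈ P`, not contained in a proper normal
subgroup.  A nonprincipal irreducible character `ξ` with `ξ(1)² + 1 < |P|` is linear, and
`N(P) = C(P)`.
-/

set_option autoImplicit false

namespace Cfsg.Agent.Lib.H22.BL

open scoped ComplexConjugate Classical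
open Cfsg.Agent.Lib.L0

theorem arith_core (e k j v m : ℤ) (he : 2 ≤ e) (hk : 1 ≤ k) (h1 : e * k ^ 2 + 1 ≤ j)
    (hv1 : e + 1 ≤ v) (hv2 : v + 1 ≤ e ^ 2 * k ^ 2) (hvm : v ≤ m)
    (h3 : (e * j + 1 - v) * m < (e * j + 1) * e) :
    j = e + 1 ∧ v = e + 1 ∧ m = e + 1 := by
  have hk2 : 1 ≤ k ^ 2 := by nlinarith
  have hq : 0 < e * j + 1 - v := by nlinarith
  have h4 : (e * j + 1 - v) * v < (e * j + 1) * e := by
    have : (e * j + 1 - v) * v ≤ (e * j + 1 - v) * m := mul_le_mul_of_nonneg_left hvm hq.le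
    linarith
  have hw : 0 ≤ v - e - 1 := by linarith
  have ht : 0 ≤ (e * j + 1) - 2 - e - v := by nlinarith
  have hwt : 0 ≤ (v - e - 1) * ((e * j + 1) - 2 - e - v) := mul_nonneg hw ht
  have hA : (v - e - 1) * ((e * j + 1) - 2 - e - v) + v + (e * j + 1) < (e + 1) * (e + 2) := by
    nlinarith
  have hj : j = e + 1 := by
    have h5 : e * j < e * (e + 2) := by nlinarith
    have h6 : j < e + 2 := lt_of_mul_lt_mul_left h5 (by linarith)
    have h7 : e * 1 ≤ e * k ^ 2 := mul_le_mul_of_nonneg_left hk2 (by linarith)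
    linarith
  subst hj
  have hv : v = e + 1 := by
    by_contra hne
    have hw1 : 1 ≤ v - e - 1 := by
      have : e + 1 < v := lt_of_le_of_ne hv1 (Ne.symm hne)
      linarith
    obtain ⟨w, hwdef⟩ : ∃ w : ℤ, w = v - e - 1 := ⟨_, rfl⟩
    obtain ⟨t, htdef⟩ : ∃ t : ℤ, t = (e * (e + 1) + 1) - 2 - e - v := ⟨_, rfl⟩
    rw [← hwdef, ← htdef] at hA hwt
    rw [← htdef] at ht
    rw [← hwdef] at hw1
    have h8 : 0 ≤ (w - 1) * t := mul_nonneg (by linarith) ht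
    have h9 : t + w < e := by nlinarith
    have h10 : t + w = e ^ 2 - e - 2 := by rw [hwdef, htdef]; ring
    rcases le_or_gt e 2 with h11 | h11
    · have : e = 2 := le_antisymm h11 he
      subst this
      linarith
    · have : 3 ≤ e := h11
      nlinarith
  subst hv
  refine ⟨rfl, rfl, ?_⟩
  have h9 : e * m < e * (e + 2) := by nlinarith
  have h10 : m < e + 2 := lt_of_mul_lt_mul_left h9 (by linarith)
  linarith

/-- A generalized character of norm two vanishing at `1` is a difference of two distinct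
irreducible characters. -/
theorem genChar_two_deg_zero {X : Type*} [Group X] [Fintype X] {θ : X → ℂ}
    (hθ : Cfsg.IsGeneralizedCharacter X θ) (h2 : Cfsg.classInner θ θ = 2) (h1 : θ 1 = 0) :
    ∃ a b : X → ℂ, Cfsg.IsIrrCharacter X a ∧ Cfsg.IsIrrCharacter X b ∧ a ≠ b ∧ θ = a - b := by
  obtain ⟨α, β, hα, hβ, horth, rfl⟩ := Cfsg.Agent.Lib.H8.genChar_norm_two hθ h2
  have hdeg : ∀ γ : X → ℂ, Cfsg.IsIrrCharacter X γ → ∃ n : ℕ, 0 < n ∧ γ 1 = n :=
    fun γ hγ => Cfsg.Agent.Lib.H24.irr_one_eq ⟨γ, hγ⟩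
  have hne : ∀ a b : X → ℂ, Cfsg.IsIrrCharacter X a → Cfsg.classInner a b = 0 → a ≠ b := by
    intro a b ha h0 hab
    rw [← hab, irr_classInner_self ha] at h0
    exact one_ne_zero h0
  rw [Pi.add_apply] at h1
  rcases hα with hα | hα <;> rcases hβ with hβ | hβ
  · exfalso
    obtain ⟨n, hn0, hn⟩ := hdeg α hα
    obtain ⟨m, hm0, hm⟩ := hdeg β hβ
    rw [hn, hm] at h1
    have : (n + m : ℕ) = 0 := by exact_mod_cast h1
    omega
  · refine ⟨α, -β, hα, hβ, hne α (-β) hα ?_, ?_⟩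
    · rw [classInner_neg_right, horth, neg_zero]
    · funext x; simp [sub_eq_add_neg]
  · refine ⟨β, -α, hβ, hα, hne β (-α) hβ ?_, ?_⟩
    · rw [classInner_neg_right, ← classInner_conj_symm, horth, map_zero, neg_zero]
    · funext x; simp [sub_eq_add_neg, add_comm]
  · exfalso
    obtain ⟨n, hn0, hn⟩ := hdeg (-α) hα
    obtain ⟨m, hm0, hm⟩ := hdeg (-β) hβ
    rw [Pi.neg_apply] at hn hm
    have e1 : α 1 = -(n : ℂ) := by rw [← hn]; ring
    have e2 : β 1 = -(m : ℂ) := by rw [← hm]; ring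
    rw [e1, e2] at h1
    have : ((n + m : ℕ) : ℂ) = 0 := by push_cast; linear_combination -h1
    have : (n + m : ℕ) = 0 := by exact_mod_cast this
    omega

theorem nrm_irr {X : Type*} [Group X] [Fintype X] {ζ : X → ℂ} (hζ : Cfsg.IsIrrCharacter X ζ) :
    nrm ζ = 1 := by
  have := irr_classInner_self hζ
  rw [classInner_self_nrm] at this
  exact_mod_cast this

section Core

variable {G : Type*} [Group G] [Fintype G] {p : ℕ} [hp : Fact p.Prime] {P : Sylow p G}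
variable {K : Subgroup ↥(Cg P)} {κ : ↥(Cg P) →* ↥(Cg P)} {Λ : Finset (↥(Cg P) →* ℂˣ)}

theorem isCharacter_res {ζ : G → ℂ} (hζ : Cfsg.IsCharacter G ζ) :
    Cfsg.IsCharacter ↥(Cg P) (res P ζ) :=
  isCharacter_restrict (Cg P) hζ

theorem basic_ineq (hs : Star P) (D : CData (Qc P) K κ Λ)
    (hcop : (Nat.card K).Coprime (Nat.card (Qc P))) {e : ℕ}
    (he : Nat.card ↥(Ng P) = e * Nat.card ↥(Cg P)) {ζ : G → ℂ}
    (hζ : Cfsg.IsIrrCharacter G ζ) :
    ((Nat.card (Qc P) : ℝ) - ((D.supp (res P ζ)).card : ℝ)) * nrm (res P ζ)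
      < (Nat.card (Qc P) : ℝ) * (e : ℝ) := by
  have h1 := D.main_ineq (res P ζ)
  have hcf := isClassFunction_of_isCharacter (isCharacter_of_irr hζ)
  have h10 : ζ 1 ≠ 0 := Cfsg.Agent.Lib.H24.irr_one_ne_zero ⟨ζ, hζ⟩
  have h2 := sum_A_lt hs D hcop hcf (nrm_irr hζ) h10
  have hq : (0 : ℝ) < Nat.card (Qc P) := by exact_mod_cast Nat.card_pos (α := ↥(Qc P))
  have hC : (0 : ℝ) < Nat.card ↥(Cg P) := by exact_mod_cast Nat.card_pos (α := ↥(Cg P))
  rw [he] at h2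
  push_cast at h2
  have h3 := mul_lt_mul_of_pos_left h2 hq
  have h4 : (((Nat.card (Qc P) : ℝ) - ((D.supp (res P ζ)).card : ℝ)) * nrm (res P ζ))
      * (Nat.card ↥(Cg P) : ℝ) < ((Nat.card (Qc P) : ℝ) * (e : ℝ)) * (Nat.card ↥(Cg P) : ℝ) := by
    calc (((Nat.card (Qc P) : ℝ) - ((D.supp (res P ζ)).card : ℝ)) * nrm (res P ζ))
          * (Nat.card ↥(Cg P) : ℝ)
        = ((Nat.card (Qc P) : ℝ) - ((D.supp (res P ζ)).card : ℝ))
          * ((Nat.card ↥(Cg P) : ℝ) * nrm (res P ζ)) := by ring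
      _ ≤ _ := h1
      _ < _ := h3
      _ = _ := by ring
  exact lt_of_mul_lt_mul_right h4 hC.le

theorem one_mem_supp_of_classInner_ne (D : CData (Qc P) K κ Λ) {η : ↥(Cg P) → ℂ}
    (h : Cfsg.classInner η (fun _ => (1 : ℂ)) ≠ 0) : (1 : ↥(Cg P) →* ℂˣ) ∈ D.supp η := by
  by_contra hcon
  apply h
  have hηsum : η = ∑ a ∈ D.supp η, comp (Qc P) a η := by
    funext c
    rw [Finset.sum_apply, D.sum_supp]
  conv_lhs => rw [hηsum]
  rw [classInner_sum_left]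
  apply Finset.sum_eq_zero
  intro a ha
  exact D.classInner_comp_one (D.supp_subset η ha) (fun h1 => hcon (h1 ▸ ha)) η

theorem exists_ne_one_mem_supp (hs : Star P) (D : CData (Qc P) K κ Λ)
    (hNP : ∀ M : Subgroup G, M.Normal → (P : Subgroup G) ≤ M → M = ⊤)
    {ζ : G → ℂ} (hζ : Cfsg.IsIrrCharacter G ζ) (hne : ζ ≠ fun _ => 1) :
    ∃ f ∈ D.supp (res P ζ), f ≠ 1 := by
  by_contra hcon
  push Not at hcon
  have h1 : ∀ z ∈ Qc P, res P ζ z = res P ζ 1 := by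
    intro z hz
    rw [← D.sum_supp (res P ζ) z, ← D.sum_supp (res P ζ) 1]
    refine Finset.sum_congr rfl fun f hf => ?_
    have hf1 := hcon f hf
    have := comp_mul_left (Qc P) f (res P ζ) hz 1
    rw [mul_one] at this
    rw [this, hf1]
    simp
  have hchar := isCharacter_of_irr hζ
  have h2 : (P : Subgroup G) ≤ Cfsg.Agent.Lib.H24.charKer ζ hchar := by
    intro z hz
    rw [Cfsg.Agent.Lib.H24.mem_charKer]
    exact h1 ⟨z, P_le_C hs hz⟩ hz
  have h3 := hNP _ (Cfsg.Agent.Lib.H24.charKer_normal ζ hchar) h2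
  exact hne (Cfsg.Agent.Lib.H24.irr_eq_trivial_of_charKer_eq_top hζ h3)

theorem card_orb_eq (hs : Star P) (D : CData (Qc P) K κ Λ)
    (hcop : (Nat.card K).Coprime (Nat.card (Qc P))) {e : ℕ}
    (he : Nat.card ↥(Ng P) = e * Nat.card ↥(Cg P)) {f : ↥(Cg P) →* ℂˣ} (hf' : f ∈ Λ)
    (hf1 : f ≠ 1) : (orb f).card = e := by
  have := card_orb hs D hcop hf' hf1
  rw [he] at this
  exact Nat.eq_of_mul_eq_mul_right (Nat.card_pos (α := ↥(Cg P))) this

theorem small_structure (hs : Star P) (D : CData (Qc P) K κ Λ)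
    (hcop : (Nat.card K).Coprime (Nat.card (Qc P)))
    (hNP : ∀ M : Subgroup G, M.Normal → (P : Subgroup G) ≤ M → M = ⊤) {e : ℕ}
    (he : Nat.card ↥(Ng P) = e * Nat.card ↥(Cg P)) {ξ : G → ℂ}
    (hξ : Cfsg.IsIrrCharacter G ξ) (hne : ξ ≠ fun _ => 1) {x : ℕ} (hx : ξ 1 = x)
    (hsmall : x ^ 2 + 1 < Nat.card (Qc P)) :
    ∃ f₀ ∈ Λ, f₀ ≠ 1 ∧ D.supp (res P ξ) = orb f₀ ∧ (orb f₀).card = e ∧ e ∣ x := by
  have hchar := isCharacter_of_irr hξ
  have hcf := isClassFunction_of_isCharacter hchar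
  have hcharC : Cfsg.IsCharacter ↥(Cg P) (res P ξ) := isCharacter_res hchar
  obtain ⟨f₀, hf₀U, hf₀1⟩ := exists_ne_one_mem_supp hs D hNP hξ hne
  have hf₀Λ : f₀ ∈ Λ := D.supp_subset _ hf₀U
  have horbcard : (orb f₀).card = e := card_orb_eq hs D hcop he hf₀Λ hf₀1
  have hsub : orb f₀ ⊆ D.supp (res P ξ) := orb_subset_supp D hcop hcf hf₀U
  have hle : e ≤ (D.supp (res P ξ)).card := by
    rw [← horbcard]; exact Finset.card_le_card hsub
  have hineq := basic_ineq hs D hcop he hξ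
  have hun : ((D.supp (res P ξ)).card : ℝ) ≤ nrm (res P ξ) := D.card_supp_le_nrm hcharC
  have hx' : res P ξ 1 = x := hx
  have hux : (D.supp (res P ξ)).card ≤ x := D.card_supp_le_degree hcharC hx'
  have huq : (D.supp (res P ξ)).card ≤ Nat.card (Qc P) := D.card_supp_le _
  have hue : (D.supp (res P ξ)).card ≤ e := by
    by_contra hcon
    push Not at hcon
    obtain ⟨u, hu⟩ : ∃ u, u = (D.supp (res P ξ)).card := ⟨_, rfl⟩
    rw [← hu] at hcon hineq hun hux huq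
    obtain ⟨q, hq⟩ : ∃ q, q = Nat.card (Qc P) := ⟨_, rfl⟩
    rw [← hq] at hineq huq hsmall
    have huqR : (u : ℝ) ≤ q := by exact_mod_cast huq
    have a1 : ((q : ℝ) - u) * u ≤ ((q : ℝ) - u) * nrm (res P ξ) :=
      mul_le_mul_of_nonneg_left hun (sub_nonneg.2 huqR)
    have a2 : ((q : ℝ) - u) * u < q * e := lt_of_le_of_lt a1 hineq
    have a3 : (q : ℝ) * ((u : ℝ) - e) < u * u := by
      linarith [show (q : ℝ) * ((u : ℝ) - e) = ((q : ℝ) - u) * u + u * u - q * e by ring]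
    have a4 : (q : ℝ) ≤ q * ((u : ℝ) - e) := by
      have h1 : (1 : ℝ) ≤ (u : ℝ) - e := by
        have : (e : ℝ) + 1 ≤ u := by exact_mod_cast hcon
        linarith
      have hq0 : (0 : ℝ) ≤ q := Nat.cast_nonneg q
      nlinarith
    have a5 : (u : ℝ) * u ≤ (x : ℝ) * x := by
      have : (u : ℝ) ≤ x := by exact_mod_cast hux
      exact mul_self_le_mul_self (Nat.cast_nonneg u) this
    have a6 : (x : ℝ) * x + 1 < q := by
      have : x * x + 1 < q := by rw [← pow_two]; exact hsmall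
      exact_mod_cast this
    linarith
  have hUeq : D.supp (res P ξ) = orb f₀ := by
    symm
    apply Finset.eq_of_subset_of_card_le hsub
    rw [horbcard]; exact hue
  refine ⟨f₀, hf₀Λ, hf₀1, hUeq, horbcard, ?_⟩
  obtain ⟨d, _, hd⟩ := one_le_apply_one (isCharacter_comp_central (Qc P) D.central f₀ hcharC)
    ((D.mem_supp _ f₀).1 hf₀U).2
  have h1 := D.sum_supp (res P ξ) 1
  rw [hUeq] at h1
  have h2 : ∀ f ∈ orb f₀, comp (Qc P) f (res P ξ) 1 = (d : ℂ) := by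
    intro f hf
    obtain ⟨n, rfl⟩ := mem_orb.1 hf
    rw [comp_fn_one hcf, hd]
  rw [Finset.sum_congr rfl h2, Finset.sum_const, horbcard, nsmul_eq_mul, hx'] at h1
  have h4 : e * d = x := by exact_mod_cast h1
  exact ⟨d, h4.symm⟩

theorem degree_eq_one_of_e_one (hs : Star P) (D : CData (Qc P) K κ Λ)
    (hcop : (Nat.card K).Coprime (Nat.card (Qc P)))
    (hNP : ∀ M : Subgroup G, M.Normal → (P : Subgroup G) ≤ M → M = ⊤)
    (he : Nat.card ↥(Ng P) = 1 * Nat.card ↥(Cg P)) {ξ : G → ℂ}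
    (hξ : Cfsg.IsIrrCharacter G ξ) (hne : ξ ≠ fun _ => 1) {x : ℕ} (hx : ξ 1 = x)
    (hsmall : x ^ 2 + 1 < Nat.card (Qc P)) : x = 1 := by
  obtain ⟨f₀, hf₀Λ, hf₀1, hUeq, horbcard, -⟩ :=
    small_structure hs D hcop hNP he hξ hne hx hsmall
  have hchar := isCharacter_of_irr hξ
  have hsingle : orb f₀ = {f₀} := by
    obtain ⟨a, ha⟩ := Finset.card_eq_one.1 horbcard
    have := self_mem_orb f₀
    rw [ha, Finset.mem_singleton] at this
    rw [ha, this]
  have h1 : ∀ z ∈ Qc P, res P ξ z = ((f₀ z : ℂˣ) : ℂ) * res P ξ 1 := by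
    intro z hz
    rw [← D.sum_supp (res P ξ) z, ← D.sum_supp (res P ξ) 1, hUeq, hsingle,
      Finset.sum_singleton, Finset.sum_singleton]
    have := comp_mul_left (Qc P) f₀ (res P ξ) hz 1
    rwa [mul_one] at this
  obtain ⟨ψ, hψ⟩ : ∃ ψ : G → ℂ, ψ = ξ * (fun g => conj (ξ g)) := ⟨_, rfl⟩
  have hψchar : Cfsg.IsCharacter G ψ := by
    rw [hψ]; exact isCharacter_mul hchar (isCharacter_conj hchar)
  have hψval : ∀ g, ψ g = ((‖ξ g‖ ^ 2 : ℝ) : ℂ) := by
    intro g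
    rw [hψ, Pi.mul_apply, Complex.mul_conj']
    push_cast
    rfl
  have h2 : (P : Subgroup G) ≤ Cfsg.Agent.Lib.H24.charKer ψ hψchar := by
    intro z hz
    rw [Cfsg.Agent.Lib.H24.mem_charKer, hψval, hψval]
    have h3 := h1 ⟨z, P_le_C hs hz⟩ hz
    rw [res_apply, res_apply] at h3
    have h4 : ‖ξ z‖ = ‖ξ 1‖ := by
      have := congrArg norm h3
      rw [norm_mul, norm_hom, one_mul] at this
      exact this
    rw [h4]
  have h3 := hNP _ (Cfsg.Agent.Lib.H24.charKer_normal ψ hψchar) h2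
  have h4 : ∀ g : G, ‖ξ g‖ ^ 2 = ‖ξ 1‖ ^ 2 := by
    intro g
    have : g ∈ Cfsg.Agent.Lib.H24.charKer ψ hψchar := by rw [h3]; trivial
    rw [Cfsg.Agent.Lib.H24.mem_charKer, hψval, hψval] at this
    exact_mod_cast this
  have h5 := nrm_irr hξ
  unfold nrm at h5
  have hG : (Nat.card G : ℝ) ≠ 0 := by exact_mod_cast (Nat.card_pos (α := G)).ne'
  rw [Finset.sum_congr rfl (fun g _ => h4 g), Finset.sum_const, Finset.card_univ, nsmul_eq_mul,
    ← Nat.card_eq_fintype_card, ← mul_assoc, inv_mul_cancel₀ hG, one_mul, hx] at h5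
  have h6 : (x : ℝ) ^ 2 = 1 := by simpa using h5
  have h7 : x ^ 2 = 1 := by exact_mod_cast h6
  exact (Nat.pow_eq_one.1 h7).resolve_right (by norm_num)

theorem exists_constituent {ξ : G → ℂ} (hξ : Cfsg.IsIrrCharacter G ξ) {x : ℕ} (hx : ξ 1 = x)
    (hN2 : 2 ≤ nrm (res P ξ)) :
    ∃ ζ : G → ℂ, Cfsg.IsIrrCharacter G ζ ∧ ζ ≠ (fun _ => 1) ∧
      Cfsg.classInner (res P ζ) (fun _ => (1 : ℂ)) ≠ 0 ∧ ∃ d : ℕ, ζ 1 = d ∧ d + 1 ≤ x ^ 2 := by
  haveI : Fintype (Cfsg.IrrCharacter G) := Fintype.ofFinite _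
  have hchar := isCharacter_of_irr hξ
  obtain ⟨ψ, hψ⟩ : ∃ ψ : G → ℂ, ψ = ξ * (fun g => conj (ξ g)) := ⟨_, rfl⟩
  have hψchar : Cfsg.IsCharacter G ψ := by
    rw [hψ]; exact isCharacter_mul hchar (isCharacter_conj hchar)
  have hψcf := isClassFunction_of_isCharacter hψchar
  have hm : ∀ ζ : Cfsg.IrrCharacter G, ∃ n : ℕ, Cfsg.classInner ψ (ζ : G → ℂ) = n :=
    fun ζ => classInner_char_irr_nat hψchar ζ.2
  choose m hm using hm
  have hdg : ∀ ζ : Cfsg.IrrCharacter G, ∃ n : ℕ, 0 < n ∧ (ζ : G → ℂ) 1 = n :=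
    fun ζ => Cfsg.Agent.Lib.H24.irr_one_eq ζ
  choose dg hdg0 hdg using hdg
  have hexp : ψ = ∑ ζ : Cfsg.IrrCharacter G, (m ζ : ℂ) • (ζ : G → ℂ) := by
    have := Cfsg.Agent.Lib.H24.classFunction_expansion ψ hψcf
    simp only [hm] at this
    exact this
  obtain ⟨triv, htriv⟩ : ∃ t : Cfsg.IrrCharacter G, t = Cfsg.Agent.Lib.H24.trivialIrr G :=
    ⟨_, rfl⟩
  have htrivval : (triv : G → ℂ) = fun _ => 1 := by rw [htriv]; rfl
  have hm1 : m triv = 1 := by
    have h1 : Cfsg.classInner ψ (triv : G → ℂ) = Cfsg.classInner ξ ξ := by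
      unfold Cfsg.classInner
      congr 1
      refine Finset.sum_congr rfl fun g _ => ?_
      rw [hψ, htrivval]
      simp
    rw [hm, irr_classInner_self hξ] at h1
    exact_mod_cast h1
  have hres : Cfsg.classInner (res P ψ) (fun _ => (1 : ℂ)) = ((nrm (res P ξ) : ℝ) : ℂ) := by
    rw [← classInner_self_nrm]
    unfold Cfsg.classInner
    congr 1
    refine Finset.sum_congr rfl fun c _ => ?_
    rw [res_apply, res_apply, hψ]
    simp
  have hresexp : res P ψ = ∑ ζ : Cfsg.IrrCharacter G, (m ζ : ℂ) • res P (ζ : G → ℂ) := by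
    funext c
    rw [res_apply]
    conv_lhs => rw [hexp]
    simp only [Finset.sum_apply, Pi.smul_apply, res_apply]
  rw [hresexp, classInner_sum_left] at hres
  simp only [classInner_smul_left] at hres
  rw [← Finset.add_sum_erase _ _ (Finset.mem_univ triv)] at hres
  have hatriv : Cfsg.classInner (res P (triv : G → ℂ)) (fun _ => (1 : ℂ)) = 1 := by
    have : res P (triv : G → ℂ) = fun _ => (1 : ℂ) := by rw [htrivval]; rfl
    rw [this]
    exact irr_classInner_self Cfsg.Agent.Lib.H24.isIrrCharacter_one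
  rw [hatriv, hm1] at hres
  have hsum_ne : ∑ ζ ∈ Finset.univ.erase triv,
      (m ζ : ℂ) * Cfsg.classInner (res P (ζ : G → ℂ)) (fun _ => (1 : ℂ)) ≠ 0 := by
    intro h0
    rw [h0] at hres
    have h1 : ((1 : ℕ) : ℂ) * 1 + 0 = ((1 : ℝ) : ℂ) := by push_cast; ring
    rw [h1] at hres
    have h2 : (1 : ℝ) = nrm (res P ξ) := by exact_mod_cast hres
    linarith
  obtain ⟨ζ, hζmem, hζne⟩ := Finset.exists_ne_zero_of_sum_ne_zero hsum_ne
  have hζtriv : ζ ≠ triv := Finset.ne_of_mem_erase hζmem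
  have hmζ : m ζ ≠ 0 := by
    intro h; apply hζne; rw [h]; simp
  have hin : Cfsg.classInner (res P (ζ : G → ℂ)) (fun _ => (1 : ℂ)) ≠ 0 := by
    intro h; apply hζne; rw [h]; simp
  refine ⟨ζ, ζ.2, ?_, hin, dg ζ, hdg ζ, ?_⟩
  · intro h
    apply hζtriv
    apply Subtype.ext
    rw [h, htrivval]
  · have h1 : ψ 1 = ((x ^ 2 : ℕ) : ℂ) := by
      rw [hψ, Pi.mul_apply, hx]
      simp [pow_two]
    have h2 : ψ 1 = ((∑ ζ : Cfsg.IrrCharacter G, m ζ * dg ζ : ℕ) : ℂ) := by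
      conv_lhs => rw [hexp]
      simp only [Finset.sum_apply, Pi.smul_apply, smul_eq_mul, hdg]
      push_cast
      rfl
    have h3 : x ^ 2 = ∑ ζ : Cfsg.IrrCharacter G, m ζ * dg ζ := by
      have := h1.symm.trans h2
      exact_mod_cast this
    have h4 : ∑ ζ' ∈ ({triv, ζ} : Finset (Cfsg.IrrCharacter G)), m ζ' * dg ζ'
        ≤ ∑ ζ' : Cfsg.IrrCharacter G, m ζ' * dg ζ' :=
      Finset.sum_le_sum_of_subset (Finset.subset_univ _)
    rw [Finset.sum_pair hζtriv.symm, hm1] at h4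
    have h5 : dg triv = 1 := by
      have h6 := hdg triv
      rw [htrivval] at h6
      have h7 : (1 : ℂ) = (dg triv : ℂ) := h6
      exact_mod_cast h7.symm
    have h6 : 1 ≤ m ζ := Nat.one_le_iff_ne_zero.2 hmζ
    have h7 : dg ζ ≤ m ζ * dg ζ := Nat.le_mul_of_pos_left _ h6
    rw [h3]
    omega

theorem borderline (hs : Star P) (D : CData (Qc P) K κ Λ)
    (hcop : (Nat.card K).Coprime (Nat.card (Qc P)))
    (hNP : ∀ M : Subgroup G, M.Normal → (P : Subgroup G) ≤ M → M = ⊤) {e : ℕ}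
    (he : Nat.card ↥(Ng P) = e * Nat.card ↥(Cg P)) (he2 : 2 ≤ e)
    (hediv : e ∣ Nat.card (Qc P) - 1) {x : ℕ} (hex : e ∣ x) (hx1 : 1 ≤ x)
    (hsmall : x ^ 2 + 1 < Nat.card (Qc P)) {ζ : G → ℂ} (hζ : Cfsg.IsIrrCharacter G ζ)
    (hζ1 : ζ ≠ fun _ => 1) (hin : Cfsg.classInner (res P ζ) (fun _ => (1 : ℂ)) ≠ 0) {d : ℕ}
    (hd : ζ 1 = d) (hdx : d + 1 ≤ x ^ 2) :
    Nat.card (Qc P) = e ^ 2 + e + 1 ∧ ∃ f₁ ∈ Λ, f₁ ≠ 1 ∧
      D.supp (res P ζ) = insert 1 (orb f₁) ∧ (orb f₁).card = e ∧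
      ∀ a : ↥(Cg P) →* ℂˣ, Cfsg.classInner (res P ζ) (hf a)
        = if a ∈ D.supp (res P ζ) then 1 else 0 := by
  have hchar := isCharacter_of_irr hζ
  have hcf := isClassFunction_of_isCharacter hchar
  have hcharC : Cfsg.IsCharacter ↥(Cg P) (res P ζ) := isCharacter_res hchar
  have h1U : (1 : ↥(Cg P) →* ℂˣ) ∈ D.supp (res P ζ) := one_mem_supp_of_classInner_ne D hin
  obtain ⟨f₁, hf₁U, hf₁1⟩ := exists_ne_one_mem_supp hs D hNP hζ hζ1
  have hf₁Λ : f₁ ∈ Λ := D.supp_subset _ hf₁U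
  have horbcard : (orb f₁).card = e := card_orb_eq hs D hcop he hf₁Λ hf₁1
  have hsub : insert 1 (orb f₁) ⊆ D.supp (res P ζ) := by
    intro a ha
    rcases Finset.mem_insert.1 ha with rfl | ha
    · exact h1U
    · exact orb_subset_supp D hcop hcf hf₁U ha
  have hcardins : (insert (1 : ↥(Cg P) →* ℂˣ) (orb f₁)).card = e + 1 := by
    rw [Finset.card_insert_of_notMem (one_not_mem_orb hf₁1), horbcard]
  have hule : e + 1 ≤ (D.supp (res P ζ)).card := by
    rw [← hcardins]; exact Finset.card_le_card hsub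
  have hd' : res P ζ 1 = d := hd
  have hud : (D.supp (res P ζ)).card ≤ d := D.card_supp_le_degree hcharC hd'
  obtain ⟨m, hm⟩ := nrm_nat hcharC
  have hum : (D.supp (res P ζ)).card ≤ m := by
    have := D.card_supp_le_nrm hcharC
    rw [hm] at this
    exact_mod_cast this
  have hineq := basic_ineq hs D hcop he hζ
  rw [hm] at hineq
  obtain ⟨k, rfl⟩ := hex
  obtain ⟨j, hj⟩ := hediv
  have hqpos : 1 ≤ Nat.card (Qc P) := Nat.card_pos
  have hq : Nat.card (Qc P) = e * j + 1 := by omega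
  obtain ⟨u, hu⟩ : ∃ u, u = (D.supp (res P ζ)).card := ⟨_, rfl⟩
  rw [← hu] at hule hud hum hineq
  rw [hq] at hineq hsmall
  have hineqZ : ((e : ℤ) * j + 1 - u) * m < ((e : ℤ) * j + 1) * e := by
    have h1 : ((((e : ℤ) * j + 1 - u) * m : ℤ) : ℝ) < ((((e : ℤ) * j + 1) * e : ℤ) : ℝ) := by
      push_cast
      push_cast at hineq
      exact hineq
    exact_mod_cast h1
  have hk1 : (1 : ℤ) ≤ k := by
    have : 1 ≤ k := by
      rcases Nat.eq_zero_or_pos k with h | h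
      · rw [h, mul_zero] at hx1; omega
      · exact h
    exact_mod_cast this
  have h1Z : (e : ℤ) * (k : ℤ) ^ 2 + 1 ≤ j := by
    have h1 : e * (e * k ^ 2) < e * j := by
      have : (e * k) ^ 2 = e * (e * k ^ 2) := by ring
      rw [this] at hsmall
      omega
    have h2 : e * k ^ 2 < j := Nat.lt_of_mul_lt_mul_left h1
    have h3 : e * k ^ 2 + 1 ≤ j := h2
    exact_mod_cast h3
  have hv2 : (u : ℤ) + 1 ≤ (e : ℤ) ^ 2 * (k : ℤ) ^ 2 := by
    have h1 : u + 1 ≤ (e * k) ^ 2 := by omega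
    have h2 : (e * k) ^ 2 = e ^ 2 * k ^ 2 := by ring
    rw [h2] at h1
    exact_mod_cast h1
  obtain ⟨hjv, huv, hmv⟩ := arith_core e k j u m (by exact_mod_cast he2) hk1 h1Z
    (by exact_mod_cast hule) hv2 (by exact_mod_cast hum) hineqZ
  have hj' : j = e + 1 := by exact_mod_cast hjv
  have hu' : u = e + 1 := by exact_mod_cast huv
  have hm' : m = e + 1 := by exact_mod_cast hmv
  have hq' : Nat.card (Qc P) = e ^ 2 + e + 1 := by rw [hq, hj']; ring
  have hUeq : D.supp (res P ζ) = insert 1 (orb f₁) := by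
    symm
    apply Finset.eq_of_subset_of_card_le hsub
    rw [hcardins, ← hu, hu']
  refine ⟨hq', f₁, hf₁Λ, hf₁1, hUeq, horbcard, ?_⟩
  apply D.final_mult hcharC e ?_ (by rw [← hu, hu']) ?_ hin ?_
  · rw [hq']; nlinarith
  · rw [hm, hm']; push_cast; ring
  · have h2 := sum_A_lt hs D hcop hcf (nrm_irr hζ) (Cfsg.Agent.Lib.H24.irr_one_ne_zero ⟨ζ, hζ⟩)
    rw [he] at h2
    push_cast at h2
    have hqpos' : (0 : ℝ) < Nat.card (Qc P) := by exact_mod_cast Nat.card_pos (α := ↥(Qc P))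
    calc (Nat.card (Qc P) : ℝ)
          * ∑ h ∈ Finset.univ.filter (fun h : ↥(Cg P) => h ∉ K), ‖res P ζ h‖ ^ 2
        < (Nat.card (Qc P) : ℝ) * ((e : ℝ) * (Nat.card ↥(Cg P) : ℝ)) :=
          mul_lt_mul_of_pos_left h2 hqpos'
      _ = (e : ℝ) * (Nat.card (Qc P) : ℝ) * (Nat.card ↥(Cg P) : ℝ) := by ring

end Core

end Cfsg.Agent.Lib.H22.BL
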