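import Cfsg.Agent.Lib.H22.BLE

/-!
# Brauer–Leonard: the exceptional characters in the borderline case, and the core theorem
(helper22)
-/

set_option autoImplicit false

namespace Cfsg.Agent.Lib.H22.BL

open scoped ComplexConjugate Classical
open Cfsg.Agent.Lib.L0

section End

variable {G : Type*} [Group G] [Fintype G] {p : ℕ} [hp : Fact p.Prime] {P : Sylow p G}
variable {K : Subgroup ↥(Cg P)} {κ : ↥(Cg P) →* ↥(Cg P)} {Λ : Finset (↥(Cg P) →* ℂˣ)}

theorem indFun_hf_sub (a b : ↥(Cg P) →* ℂˣ) :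
    Cfsg.indFun (Cg P) (hf a - hf b)
      = Cfsg.indFun (Cg P) (hf a) - Cfsg.indFun (Cg P) (hf b) := by
  have h1 : hf a - hf b = hf a + (-1 : ℂ) • hf b := by
    funext c
    simp [sub_eq_add_neg]
  rw [h1, indFun_add, indFun_smul]
  funext g
  simp [sub_eq_add_neg]

theorem isGenChar_ind_sub (a b : ↥(Cg P) →* ℂˣ) :
    Cfsg.IsGeneralizedCharacter G (Cfsg.indFun (Cg P) (hf a - hf b)) := by
  rw [indFun_hf_sub]
  exact ⟨_, _, isCharacter_indFun (Cg P) (isCharacter_of_irr (isIrr_hf a)),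
    isCharacter_indFun (Cg P) (isCharacter_of_irr (isIrr_hf b)), rfl⟩

theorem ind_sub_apply_one (a b : ↥(Cg P) →* ℂˣ) :
    Cfsg.indFun (Cg P) (hf a - hf b) 1 = 0 := by
  apply indFun_apply_one
  rw [Pi.sub_apply, hf_apply, hf_apply, map_one, map_one, sub_self]

theorem classInner_ind_sub_cf {ζ : G → ℂ} (hcf : Cfsg.IsClassFunction G ζ)
    (a b : ↥(Cg P) →* ℂˣ) :
    Cfsg.classInner (Cfsg.indFun (Cg P) (hf a - hf b)) ζ
      = conj (Cfsg.classInner (res P ζ) (hf a)) - conj (Cfsg.classInner (res P ζ) (hf b)) := by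
  rw [classInner_ind_res _ hcf, classInner_sub_left, classInner_conj_symm, classInner_conj_symm]

theorem classInner_ind_sub_one (a b : ↥(Cg P) →* ℂˣ) :
    Cfsg.classInner (Cfsg.indFun (Cg P) (hf a - hf b)) (fun _ => (1 : ℂ))
      = (if a = 1 then (1 : ℂ) else 0) - (if b = 1 then (1 : ℂ) else 0) := by
  have hcf : Cfsg.IsClassFunction G (fun _ => (1 : ℂ)) := fun _ _ => rfl
  rw [classInner_ind_res _ hcf]
  have : res P (fun _ : G => (1 : ℂ)) = hf (1 : ↥(Cg P) →* ℂˣ) := by rw [hf_one]; rfl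
  rw [this, classInner_sub_left, classInner_hf, classInner_hf]

/-- The borderline configuration is impossible: the exceptional characters. -/
theorem endgame (hs : Star P) (D : CData (Qc P) K κ Λ)
    (hcop : (Nat.card K).Coprime (Nat.card (Qc P))) {e : ℕ}
    (he : Nat.card ↥(Ng P) = e * Nat.card ↥(Cg P)) (he2 : 2 ≤ e)
    (hq : Nat.card (Qc P) = e ^ 2 + e + 1) {ζ : G → ℂ} (hζ : Cfsg.IsIrrCharacter G ζ)
    (hζ1 : ζ ≠ fun _ => 1) {f₁ : ↥(Cg P) →* ℂˣ} (hf₁Λ : f₁ ∈ Λ) (hf₁1 : f₁ ≠ 1)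
    (hU : D.supp (res P ζ) = insert 1 (orb f₁)) (horb : (orb f₁).card = e)
    (hmult : ∀ a : ↥(Cg P) →* ℂˣ, Cfsg.classInner (res P ζ) (hf a)
      = if a ∈ D.supp (res P ζ) then 1 else 0) : False := by
  haveI : Fintype (Cfsg.IrrCharacter G) := Fintype.ofFinite _
  haveI : Nonempty (Cfsg.IrrCharacter G) := ⟨Cfsg.Agent.Lib.H24.trivialIrr G⟩
  have hCpos : 0 < Nat.card ↥(Cg P) := Nat.card_pos
  have hCne : (Nat.card ↥(Cg P) : ℂ) ≠ 0 := by exact_mod_cast hCpos.ne'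
  have hcfζ := isClassFunction_of_isCharacter (isCharacter_of_irr hζ)
  obtain ⟨U, hUdef⟩ : ∃ U, U = D.supp (res P ζ) := ⟨_, rfl⟩
  rw [← hUdef] at hU hmult
  have h1Λ : (1 : ↥(Cg P) →* ℂˣ) ∈ Λ := D.one_mem
  have hf₁U : f₁ ∈ U := by rw [hU]; exact Finset.mem_insert_of_mem (self_mem_orb f₁)
  have h1U : (1 : ↥(Cg P) →* ℂˣ) ∈ U := by rw [hU]; exact Finset.mem_insert_self _ _
  have hUΛ : U ⊆ Λ := by rw [hUdef]; exact D.supp_subset _
  obtain ⟨S, hSdef⟩ : ∃ S, S = Λ \ U := ⟨_, rfl⟩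
  have hSprop : ∀ g ∈ S, g ∈ Λ ∧ g ∉ U ∧ g ≠ 1 ∧ g ∉ orb f₁ ∧ f₁ ∉ orb g := by
    intro g hg
    rw [hSdef, Finset.mem_sdiff] at hg
    refine ⟨hg.1, hg.2, ?_, ?_, ?_⟩
    · rintro rfl; exact hg.2 h1U
    · intro h; apply hg.2; rw [hU]; exact Finset.mem_insert_of_mem h
    · intro h; apply hg.2; rw [hU]; exact Finset.mem_insert_of_mem (mem_orb_symm h)
  have hScard : S.card = e ^ 2 := by
    rw [hSdef, Finset.card_sdiff_of_subset hUΛ, D.card, hq, hU,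
      Finset.card_insert_of_notMem (one_not_mem_orb hf₁1), horb]
    generalize e ^ 2 = t
    omega
  -- inner products with ζ
  have hζab : ∀ a b : ↥(Cg P) →* ℂˣ,
      Cfsg.classInner (Cfsg.indFun (Cg P) (hf a - hf b)) ζ
        = (if a ∈ U then (1 : ℂ) else 0) - (if b ∈ U then (1 : ℂ) else 0) := by
    intro a b
    rw [classInner_ind_sub_cf hcfζ, hmult, hmult]
    split_ifs <;> simp
  -- Gram values
  have hcntN : (cnt (P := P) 1 1 : ℂ) = (e : ℂ) * (Nat.card ↥(Cg P) : ℂ) := by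
    rw [cnt_one_one, he]
    push_cast
    rfl
  have hDD : ∀ g ∈ S, ∀ g' ∈ S,
      Cfsg.classInner (Cfsg.indFun (Cg P) (hf f₁ - hf g)) (Cfsg.indFun (Cg P) (hf f₁ - hf g'))
        = 1 + (Nat.card ↥(Cg P) : ℂ)⁻¹ * (cnt g' g : ℂ) := by
    intro g hg g' hg'
    obtain ⟨hgΛ, -, hg1, hgo, hfo⟩ := hSprop g hg
    obtain ⟨hgΛ', -, hg1', hgo', hfo'⟩ := hSprop g' hg'
    rw [gram hs D hcop hf₁Λ hgΛ f₁ g', cnt_self hs D hcop hf₁Λ hf₁1, cnt_of_not_mem_orb hfo',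
      cnt_of_not_mem_orb hgo, Nat.cast_zero, sub_zero, sub_zero, mul_add, inv_mul_cancel₀ hCne]
  have hDself : ∀ g ∈ S,
      Cfsg.classInner (Cfsg.indFun (Cg P) (hf f₁ - hf g)) (Cfsg.indFun (Cg P) (hf f₁ - hf g))
        = 2 := by
    intro g hg
    obtain ⟨hgΛ, -, hg1, -, -⟩ := hSprop g hg
    rw [hDD g hg g hg, cnt_self hs D hcop hgΛ hg1, inv_mul_cancel₀ hCne]
    norm_num
  have hΘD : ∀ g ∈ S,
      Cfsg.classInner (Cfsg.indFun (Cg P) (hf 1 - hf f₁)) (Cfsg.indFun (Cg P) (hf f₁ - hf g))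
        = -1 := by
    intro g hg
    obtain ⟨hgΛ, -, hg1, hgo, hfo⟩ := hSprop g hg
    rw [gram hs D hcop h1Λ hf₁Λ f₁ g, cnt_ne_one hf₁1, cnt_ne_one hg1,
      cnt_self hs D hcop hf₁Λ hf₁1, cnt_of_not_mem_orb hfo, Nat.cast_zero, sub_zero, zero_sub,
      add_zero, mul_neg, inv_mul_cancel₀ hCne]
  have hΘΘ : Cfsg.classInner (Cfsg.indFun (Cg P) (hf 1 - hf f₁))
      (Cfsg.indFun (Cg P) (hf 1 - hf f₁)) = (e : ℂ) + 1 := by
    rw [gram hs D hcop h1Λ hf₁Λ 1 f₁, hcntN, cnt_ne_one hf₁1, cnt_one_ne hf₁1,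
      cnt_self hs D hcop hf₁Λ hf₁1, Nat.cast_zero, sub_zero, sub_zero, mul_add,
      inv_mul_cancel₀ hCne, mul_comm (e : ℂ), ← mul_assoc, inv_mul_cancel₀ hCne, one_mul]
  -- the exceptional characters
  have hex : ∀ g ∈ S, ∃ X : Cfsg.IrrCharacter G,
      Cfsg.indFun (Cg P) (hf f₁ - hf g) = ζ - (X : G → ℂ) := by
    intro g hg
    obtain ⟨hgΛ, hgU, hg1, hgo, hfo⟩ := hSprop g hg
    obtain ⟨a, b, ha, hb, hab, hD⟩ := genChar_two_deg_zero (isGenChar_ind_sub f₁ g)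
      (hDself g hg) (ind_sub_apply_one f₁ g)
    have h1 : Cfsg.classInner (a - b) ζ = 1 := by
      rw [← hD, hζab, if_pos hf₁U, if_neg hgU, sub_zero]
    rw [classInner_sub_left, irr_classInner_eq ha hζ, irr_classInner_eq hb hζ] at h1
    have haζ : a = ζ := by
      by_contra hne
      rw [if_neg hne] at h1
      split_ifs at h1 <;> norm_num at h1
    refine ⟨⟨b, hb⟩, ?_⟩
    rw [hD, haζ]
  choose! X hX using hex
  have hXfun : ∀ g ∈ S, ((X g : Cfsg.IrrCharacter G) : G → ℂ)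
      = ζ - Cfsg.indFun (Cg P) (hf f₁ - hf g) := by
    intro g hg
    rw [hX g hg, sub_sub_cancel]
  have hΘζ : Cfsg.classInner (Cfsg.indFun (Cg P) (hf 1 - hf f₁)) ζ = 0 := by
    rw [hζab, if_pos h1U, if_pos hf₁U, sub_self]
  have hΘX : ∀ g ∈ S, Cfsg.classInner (Cfsg.indFun (Cg P) (hf 1 - hf f₁))
      ((X g : Cfsg.IrrCharacter G) : G → ℂ) = 1 := by
    intro g hg
    rw [hXfun g hg, classInner_sub_right, hΘζ, hΘD g hg]
    norm_num
  have hζone : Cfsg.classInner ζ (fun _ => (1 : ℂ)) = 0 :=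
    irr_classInner_ne hζ Cfsg.Agent.Lib.H24.isIrrCharacter_one hζ1
  have hXne : ∀ g ∈ S, X g ≠ Cfsg.Agent.Lib.H24.trivialIrr G := by
    intro g hg hXt
    obtain ⟨hgΛ, hgU, hg1, hgo, hfo⟩ := hSprop g hg
    have h1 := classInner_ind_sub_one (P := P) f₁ g
    rw [if_neg hf₁1, if_neg hg1, sub_zero, hX g hg, hXt, classInner_sub_left, hζone] at h1
    have h2 : Cfsg.classInner ((Cfsg.Agent.Lib.H24.trivialIrr G : Cfsg.IrrCharacter G) : G → ℂ)
        (fun _ => (1 : ℂ)) = 1 := irr_classInner_self Cfsg.Agent.Lib.H24.isIrrCharacter_one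
    rw [h2] at h1
    norm_num at h1
  have hfib : ∀ g ∈ S, ∀ g' ∈ S, X g' = X g → g' ∈ orb g := by
    intro g hg g' hg' hXX
    have h1 : Cfsg.indFun (Cg P) (hf f₁ - hf g') = Cfsg.indFun (Cg P) (hf f₁ - hf g) := by
      rw [hX g' hg', hX g hg, hXX]
    have h2 := hDD g hg g' hg'
    rw [h1, hDself g hg] at h2
    by_contra hno
    have h3 : g ∉ orb g' := fun h => hno (mem_orb_symm h)
    rw [cnt_of_not_mem_orb h3] at h2
    norm_num at h2
  have horbS : ∀ g ∈ S, (orb g).card = e := fun g hg =>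
    card_orb_eq hs D hcop he (hSprop g hg).1 (hSprop g hg).2.2.1
  have hI : e ≤ (S.image X).card := by
    have h1 : S.card ≤ e * (S.image X).card := by
      apply Finset.card_le_mul_card_image
      intro b hb
      obtain ⟨g, hg, rfl⟩ := Finset.mem_image.1 hb
      rw [← horbS g hg]
      apply Finset.card_le_card
      intro g' hg'
      rw [Finset.mem_filter] at hg'
      exact hfib g hg g' hg'.1 hg'.2
    rw [hScard, pow_two] at h1
    exact Nat.le_of_mul_le_mul_left h1 (by omega)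
  -- the expansion of Θ
  have hΘgc := isGenChar_ind_sub (P := P) (G := G) 1 f₁
  have hc : ∀ ζ' : Cfsg.IrrCharacter G, ∃ c : ℤ,
      Cfsg.classInner (Cfsg.indFun (Cg P) (hf 1 - hf f₁)) (ζ' : G → ℂ) = c :=
    fun ζ' => Cfsg.Agent.Lib.H8.genChar_classInner_irr_int hΘgc ζ'.2
  choose cf hcf using hc
  have hnorm := Cfsg.Agent.Lib.H8.genChar_norm hΘgc cf hcf
  rw [hΘΘ] at hnorm
  have hnormZ : ∑ ζ' : Cfsg.IrrCharacter G, cf ζ' ^ 2 = (e : ℤ) + 1 := by
    exact_mod_cast hnorm.symm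
  obtain ⟨triv, htriv⟩ : ∃ t : Cfsg.IrrCharacter G, t = Cfsg.Agent.Lib.H24.trivialIrr G :=
    ⟨_, rfl⟩
  have htrivval : (triv : G → ℂ) = fun _ => 1 := by rw [htriv]; rfl
  have hcf1 : cf triv = 1 := by
    have h1 := hcf triv
    rw [htrivval, classInner_ind_sub_one, if_pos rfl, if_neg hf₁1, sub_zero] at h1
    exact_mod_cast h1.symm
  have hcfX : ∀ g ∈ S, cf (X g) = 1 := by
    intro g hg
    have h1 := hcf (X g)
    rw [hΘX g hg] at h1
    exact_mod_cast h1.symm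
  obtain ⟨T, hT⟩ : ∃ T, T = insert triv (S.image X) := ⟨_, rfl⟩
  have htrivI : triv ∉ S.image X := by
    intro h
    obtain ⟨g, hg, hgt⟩ := Finset.mem_image.1 h
    exact hXne g hg (hgt.trans htriv)
  have hTcard : T.card = (S.image X).card + 1 := by
    rw [hT, Finset.card_insert_of_notMem htrivI]
  have hcfT : ∀ ζ' ∈ T, cf ζ' = 1 := by
    intro ζ' h
    rw [hT, Finset.mem_insert] at h
    rcases h with rfl | h
    · exact hcf1
    · obtain ⟨g, hg, rfl⟩ := Finset.mem_image.1 h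
      exact hcfX g hg
  have hsplit : ∑ ζ' : Cfsg.IrrCharacter G, cf ζ' ^ 2
      = ∑ ζ' ∈ Finset.univ \ T, cf ζ' ^ 2 + ∑ ζ' ∈ T, cf ζ' ^ 2 :=
    (Finset.sum_sdiff (Finset.subset_univ T)).symm
  have hsumT : ∑ ζ' ∈ T, cf ζ' ^ 2 = (T.card : ℤ) := by
    have h1 : ∀ ζ' ∈ T, cf ζ' ^ 2 = 1 := by
      intro ζ' h
      rw [hcfT ζ' h]
      norm_num
    rw [Finset.sum_congr rfl h1]
    simp
  have hrest : ∑ ζ' ∈ Finset.univ \ T, cf ζ' ^ 2 = 0 := by
    have h1 : 0 ≤ ∑ ζ' ∈ Finset.univ \ T, cf ζ' ^ 2 :=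
      Finset.sum_nonneg (fun _ _ => sq_nonneg _)
    have h2 : (e : ℤ) + 1 ≤ (T.card : ℤ) := by
      rw [hTcard]
      push_cast
      have : (e : ℤ) ≤ ((S.image X).card : ℤ) := by exact_mod_cast hI
      linarith
    linarith [hsplit, hnormZ, hsumT]
  have hcf0 : ∀ ζ' : Cfsg.IrrCharacter G, ζ' ∉ T → cf ζ' = 0 := by
    intro ζ' h
    have h1 := (Finset.sum_eq_zero_iff_of_nonneg (fun _ _ => sq_nonneg _)).1 hrest ζ'
      (Finset.mem_sdiff.2 ⟨Finset.mem_univ _, h⟩)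
    exact pow_eq_zero_iff (two_ne_zero) |>.1 h1
  have hexp := Cfsg.Agent.Lib.H8.genChar_expansion hΘgc cf hcf
  have hΘ1 : Cfsg.indFun (Cg P) (hf (1 : ↥(Cg P) →* ℂˣ) - hf f₁) 1 = 0 :=
    ind_sub_apply_one 1 f₁
  have hdg : ∀ ζ' : Cfsg.IrrCharacter G, ∃ n : ℕ, 0 < n ∧ (ζ' : G → ℂ) 1 = n :=
    fun ζ' => Cfsg.Agent.Lib.H24.irr_one_eq ζ'
  choose dg hdg0 hdg using hdg
  have h1 : Cfsg.indFun (Cg P) (hf (1 : ↥(Cg P) →* ℂˣ) - hf f₁) 1
      = ((∑ ζ' ∈ T, dg ζ' : ℕ) : ℂ) := by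
    conv_lhs => rw [hexp]
    rw [Finset.sum_apply, ← Finset.sum_subset (Finset.subset_univ T)]
    · push_cast
      refine Finset.sum_congr rfl fun ζ' h => ?_
      rw [Pi.smul_apply, hcfT ζ' h, hdg]
      simp
    · intro ζ' _ h
      rw [Pi.smul_apply, hcf0 ζ' h]
      simp
  rw [hΘ1] at h1
  have h2 : ∑ ζ' ∈ T, dg ζ' = 0 := by exact_mod_cast h1.symm
  have h3 : triv ∈ T := by rw [hT]; exact Finset.mem_insert_self _ _
  have h4 := Finset.single_le_sum (f := dg) (fun _ _ => Nat.zero_le _) h3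
  have h5 := hdg0 triv
  omega

end End

section Main

variable {G : Type*} [Group G] [Fintype G] {p : ℕ} [hp : Fact p.Prime] {P : Sylow p G}

/-- The core theorem. -/
theorem core (hs : Star P)
    (hNP : ∀ M : Subgroup G, M.Normal → (P : Subgroup G) ≤ M → M = ⊤)
    {ξ : G → ℂ} (hξ : Cfsg.IsIrrCharacter G ξ) (hne : ξ ≠ fun _ => 1) {x : ℕ} (hx : ξ 1 = x)
    (hsmall : x ^ 2 + 1 < Nat.card (P : Subgroup G)) : Ng P ≤ Cg P ∧ x = 1 := by
  obtain ⟨K, κ, Λ, D, -, hcop, -⟩ := exists_cdata hs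
  have hq := card_Qc hs
  have hCpos : 0 < Nat.card ↥(Cg P) := Nat.card_pos
  have hNpos : 0 < Nat.card ↥(Ng P) := Nat.card_pos
  obtain ⟨e, he⟩ := Subgroup.card_dvd_of_le (C_le_N (P := P))
  rw [mul_comm] at he
  have hediv : e ∣ Nat.card (Qc P) - 1 := by
    have h1 := card_N_dvd hs
    rw [he, mul_comm e, ← hq] at h1
    exact Nat.dvd_of_mul_dvd_mul_left hCpos h1
  rw [← hq] at hsmall
  obtain ⟨f₀, hf₀Λ, hf₀1, hUeq, horbcard, hex⟩ :=
    small_structure hs D hcop hNP he hξ hne hx hsmall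
  have hx1 : 1 ≤ x := by
    obtain ⟨n, hn0, hn⟩ := Cfsg.Agent.Lib.H24.irr_one_eq ⟨ξ, hξ⟩
    have h1 : (x : ℂ) = n := by rw [← hx]; exact hn
    have h2 : x = n := by exact_mod_cast h1
    omega
  have he0 : 1 ≤ e := by
    rcases Nat.eq_zero_or_pos e with h | h
    · rw [h, zero_mul] at he; omega
    · exact h
  rcases Nat.lt_or_ge e 2 with h2 | h2
  · have he1 : e = 1 := by omega
    subst he1
    refine ⟨?_, degree_eq_one_of_e_one hs D hcop hNP he hξ hne hx hsmall⟩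
    have hcardeq : Nat.card ↥(Ng P) = Nat.card ↥(Cg P) := by rw [he, one_mul]
    have h3 : Cg P = Ng P := Subgroup.eq_of_le_of_card_ge C_le_N (by rw [hcardeq])
    rw [← h3]
  · exfalso
    have hcharC : Cfsg.IsCharacter ↥(Cg P) (res P ξ) := isCharacter_res (isCharacter_of_irr hξ)
    have hN2 : (2 : ℝ) ≤ nrm (res P ξ) := by
      have h3 := D.card_supp_le_nrm hcharC
      rw [hUeq, horbcard] at h3
      have h4 : (2 : ℝ) ≤ e := by exact_mod_cast h2
      linarith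
    obtain ⟨ζ, hζ, hζ1, hin, d, hd, hdx⟩ := exists_constituent hξ hx hN2
    obtain ⟨hq', f₁, hf₁Λ, hf₁1, hU', horb', hmult⟩ :=
      borderline hs D hcop hNP he h2 hediv hex hx1 hsmall hζ hζ1 hin hd hdx
    exact endgame hs D hcop he h2 hq' hζ hζ1 hf₁Λ hf₁1 hU' horb' hmult

/-- The hypothesis passes to subgroups containing `P`. -/
theorem star_subtype {M : Subgroup G} (hPM : (P : Subgroup G) ≤ M) (hs : Star P) :
    Star (P.subtype hPM) := by
  intro x hx hx1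
  rw [Sylow.coe_subtype] at hx ⊢
  have hxP : (x : G) ∈ (P : Subgroup G) := hx
  have hx1' : (x : G) ≠ 1 := fun h => hx1 (Subtype.ext h)
  have hcc := hs (x : G) hxP hx1'
  ext h
  rw [Subgroup.mem_centralizer_iff, Subgroup.mem_centralizer_iff]
  constructor
  · intro hh z hz
    have h1 : (x : G) * (h : G) = (h : G) * (x : G) := by
      have := hh x (Set.mem_singleton x)
      exact congrArg Subtype.val this
    have h2 : (h : G) ∈ Subgroup.centralizer ({(x : G)} : Set G) := by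
      rw [Subgroup.mem_centralizer_iff]
      intro y hy
      rw [Set.mem_singleton_iff.1 hy]
      exact h1
    rw [hcc, Subgroup.mem_centralizer_iff] at h2
    have hzP : (z : G) ∈ (P : Subgroup G) := hz
    exact Subtype.ext (h2 (z : G) hzP)
  · intro hh y hy
    rw [Set.mem_singleton_iff.1 hy]
    exact hh x hx

end Main

end Cfsg.Agent.Lib.H22.BL
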