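import Cfsg.Agent.Lib.H22.BLF

/-!
# Brauer–Leonard: faithful characters of small degree (helper22)
-/

set_option autoImplicit false

namespace Cfsg.Agent.Lib.H22.BL

open scoped ComplexConjugate Classical
open Cfsg.Agent.Lib.L0

universe u

/-- A group with a faithful character of small degree (relative to a Sylow subgroup `P` all of
whose nonidentity elements have centralizer `C(P)`) has `P` normal. -/
theorem normal_of_small_aux (N : ℕ) : ∀ (G : Type u) [Group G] [Fintype G] (p : ℕ) [Fact p.Prime]
    (P : Sylow p G), Nat.card G = N → Star P → ∀ (χ : G → ℂ), Cfsg.IsCharacter G χ →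
    (∀ g : G, χ g = χ 1 → g = 1) → ∀ x : ℕ, χ 1 = x → x ^ 2 + 1 < Nat.card (P : Subgroup G) →
    (P : Subgroup G).Normal := by
  induction N using Nat.strong_induction_on with
  | _ N ih =>
    intro G _ _ p _ P hcard hs χ hχ hfaith x hx hsmall
    by_cases hNP : ∃ M : Subgroup G, M.Normal ∧ M ≠ ⊤ ∧ (P : Subgroup G) ≤ M
    · obtain ⟨M, hMn, hMtop, hPM⟩ := hNP
      have hlt : Nat.card ↥M < N := by
        rw [← hcard]
        have h1 : Nat.card ↥M ≤ Nat.card G := Subgroup.card_le_card_group M
        have h2 : Nat.card ↥M ≠ Nat.card G := fun h => hMtop (Subgroup.eq_top_of_card_eq M h)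
        omega
      have hPMcard : Nat.card ((P.subtype hPM : Sylow p ↥M) : Subgroup ↥M)
          = Nat.card (P : Subgroup G) := by
        rw [Sylow.coe_subtype]
        exact Nat.card_congr (Subgroup.subgroupOfEquivOfLe hPM).toEquiv
      have hnorm : ((P.subtype hPM : Sylow p ↥M) : Subgroup ↥M).Normal :=
        ih (Nat.card ↥M) hlt ↥M p (P.subtype hPM) rfl (star_subtype hPM hs) (fun m => χ m)
          (isCharacter_restrict M hχ) (fun m hm => Subtype.ext (hfaith m hm)) x hx
          (by rw [hPMcard]; exact hsmall)
      have hchar : ((P.subtype hPM : Sylow p ↥M) : Subgroup ↥M).Characteristic :=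
        Sylow.characteristic_of_normal _ hnorm
      haveI := hchar
      haveI := hMn
      have h3 : (((P.subtype hPM : Sylow p ↥M) : Subgroup ↥M).map M.subtype).Normal :=
        ConjAct.normal_of_characteristic_of_normal
      rw [Sylow.coe_subtype, Subgroup.subgroupOf_map_subtype, inf_of_le_left hPM] at h3
      exact h3
    · have hNP' : ∀ M : Subgroup G, M.Normal → (P : Subgroup G) ≤ M → M = ⊤ := by
        intro M hM hPM
        by_contra h
        exact hNP ⟨M, hM, h, hPM⟩
      have hlin : ∀ ψ : Cfsg.IrrCharacter G, ∀ n : ℕ, (ψ : G → ℂ) 1 = n → n ≤ x → n = 1 := by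
        intro ψ n hn hnx
        by_cases hψ1 : (ψ : G → ℂ) = fun _ => 1
        · rw [hψ1] at hn
          have h1 : (1 : ℂ) = n := hn
          exact_mod_cast h1.symm
        · have hsm : n ^ 2 + 1 < Nat.card (P : Subgroup G) := by
            have : n ^ 2 ≤ x ^ 2 := Nat.pow_le_pow_left hnx 2
            omega
          exact (core hs hNP' ψ.2 hψ1 hn hsm).2
      have hcomm : ∀ a b : G, a * b = b * a := by
        intro a b
        have h1 := Cfsg.Agent.Lib.H24.char_commutator_eq hχ x hx hlin a b
        have h2 := hfaith _ h1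
        calc a * b = (a * b * a⁻¹ * b⁻¹) * (b * a) := by group
          _ = b * a := by rw [h2, one_mul]
      constructor
      intro z hz g
      have h1 : g * z * g⁻¹ = z := by rw [hcomm g z]; group
      rw [h1]
      exact hz

end Cfsg.Agent.Lib.H22.BL
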