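import Mathlib
import Cfsg.Agent.Lib.H8.BQ0

/-!
# S4719 Part II, piece G5: `C_G(X)` is normalized by whatever normalizes `G` and `X`
-/

set_option autoImplicit false

universe u

namespace Cfsg.Agent.Lib.H22.BQ

open Subgroup Cfsg.Agent.Lib.H8.BQ

/-- G5. `C_G(X)` is normalized by whatever normalizes `G` and `X`. -/
theorem le_normalizer_inf_centralizer {Γ : Type u} [Group Γ] (G X K : Subgroup Γ)
    (hKG : K ≤ normalizer (G : Set Γ)) (hKX : K ≤ normalizer (X : Set Γ)) :
    K ≤ normalizer ((G ⊓ centralizer (X : Set Γ) : Subgroup Γ) : Set Γ) := by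
  have key : ∀ k ∈ K, ∀ h ∈ centralizer (X : Set Γ), k * h * k⁻¹ ∈ centralizer (X : Set Γ) := by
    intro k hk h hh
    rw [mem_centralizer_iff] at hh ⊢
    intro x hx
    have hx' : k⁻¹ * x * k ∈ X := by
      have := (mem_normalizer_iff.mp (hKX (K.inv_mem hk)) x).mp hx
      simpa using this
    have hc := hh _ hx'
    calc x * (k * h * k⁻¹) = k * ((k⁻¹ * x * k) * h) * k⁻¹ := by group
      _ = k * (h * (k⁻¹ * x * k)) * k⁻¹ := by rw [hc]
      _ = k * h * k⁻¹ * x := by group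
  intro k hk
  rw [mem_normalizer_iff]
  intro h
  constructor
  · rintro ⟨h1, h2⟩
    exact ⟨(mem_normalizer_iff.mp (hKG hk) h).mp h1, key k hk h h2⟩
  · rintro ⟨h1, h2⟩
    refine ⟨(mem_normalizer_iff.mp (hKG hk) h).mpr h1, ?_⟩
    have := key k⁻¹ (K.inv_mem hk) _ h2
    simpa [mul_assoc] using this

end Cfsg.Agent.Lib.H22.BQ
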