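import Mathlib
import Cfsg.Agent.Lib.L0.BlockKer
import Cfsg.Agent.Lib.H23.BlockVanish
import Cfsg.Agent.Lib.H23.BlockOsima
import Cfsg.Agent.Lib.H23.BlockLocal

/-!
# Blocks and normal `p`-subgroups (helper22)

* `centralizer_le_comap_mk`, `centralChar_comp_mk`: the central character of an inflated
  function is a natural multiple of the central character of the original function.
* `exists_mem_blockOf_trivial_on`: every block contains an irreducible character with a given
  normal `p`-subgroup in its kernel.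
* `exists_pRegular_lift`: `p`-regular elements lift to `p`-regular elements along homs of finite
  groups.
-/

set_option autoImplicit false

namespace Cfsg.Agent.Lib.H22.BlockNormalP

open Cfsg Cfsg.Agent.Lib.H23
open scoped ComplexConjugate

theorem centralizer_le_comap_mk {H : Type*} [Group H] (N : Subgroup H) [N.Normal] (x : H) :
    Subgroup.centralizer ({x} : Set H) ≤
      (Subgroup.centralizer ({(QuotientGroup.mk x : H ⧸ N)} : Set (H ⧸ N))).comap
        (QuotientGroup.mk' N) := by
  intro c hc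
  rw [Subgroup.mem_comap, Subgroup.mem_centralizer_singleton_iff]
  rw [Subgroup.mem_centralizer_singleton_iff] at hc
  show (QuotientGroup.mk c : H ⧸ N) * QuotientGroup.mk x = QuotientGroup.mk x * QuotientGroup.mk c
  rw [← QuotientGroup.mk_mul, ← QuotientGroup.mk_mul, hc]

/-- The central character of an inflated function. -/
theorem centralChar_comp_mk {H : Type*} [Group H] (N : Subgroup H) [N.Normal]
    (f : H ⧸ N → ℂ) (x : H) :
    centralChar (f ∘ QuotientGroup.mk) x =
      (((Subgroup.centralizer ({x} : Set H)).relIndex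
        ((Subgroup.centralizer ({(QuotientGroup.mk x : H ⧸ N)} : Set (H ⧸ N))).comap
          (QuotientGroup.mk' N)) : ℕ) : ℂ) * centralChar f (QuotientGroup.mk x) := by
  have h1 := Subgroup.relIndex_mul_index (centralizer_le_comap_mk N x)
  rw [Subgroup.index_comap_of_surjective _ (QuotientGroup.mk'_surjective N)] at h1
  unfold centralChar
  rw [← h1]
  simp only [Function.comp_apply, QuotientGroup.mk_one]
  push_cast
  ring

/-- Every block contains an irreducible character having a given normal `p`-subgroup in its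
kernel. -/
theorem exists_mem_blockOf_trivial_on {H : Type*} [Group H] [Fintype H] {p : ℕ} [Fact p.Prime]
    {M : Ideal AlgInt} (hM : IsPModular p M) (R : Subgroup H) [R.Normal] (hR : IsPGroup p R)
    (χ₀ : IrrCharacter H) :
    ∃ θ ∈ blockOf M (χ₀ : H → ℂ), ∀ n ∈ R, (θ : H → ℂ) n = (θ : H → ℂ) 1 := by
  classical
  haveI := Fintype.ofFinite (IrrCharacter H)
  haveI hP := isPrime_of_isPModular hM
  have hp : p.Prime := Fact.out
  by_contra hcon
  push Not at hcon
  have hsum0 : ∀ θ ∈ blockOf M (χ₀ : H → ℂ), ∑ n : R, (θ : H → ℂ) (n : H) = 0 := by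
    intro θ hθ
    rcases Cfsg.Agent.Lib.L0.BlockKer.normal_sum_dichotomy θ.2 R with h | h
    · obtain ⟨n, hn, hne⟩ := hcon θ hθ
      exact absurd (h n hn) hne
    · exact h
  have h1 : ∑ n : R, blockCoeff (blockOf M (χ₀ : H → ℂ)) (n : H) =
      blockCoeff (blockOf M (χ₀ : H → ℂ)) 1 := by
    rw [Finset.sum_eq_single (1 : R)]
    · rfl
    · intro n _ hn
      apply blockCoeff_eq_zero_of_dvd_orderOf hM χ₀
      obtain ⟨k, hk⟩ := hR n
      have hdvd : orderOf n ∣ p ^ k := orderOf_dvd_of_pow_eq_one hk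
      obtain ⟨j, hj, hjeq⟩ := (Nat.dvd_prime_pow hp).1 hdvd
      rw [Subgroup.orderOf_coe, hjeq]
      rcases Nat.eq_zero_or_pos j with rfl | hjpos
      · rw [pow_zero, orderOf_eq_one_iff] at hjeq
        exact absurd hjeq hn
      · exact dvd_pow_self p hjpos.ne'
    · intro h
      exact absurd (Finset.mem_univ _) h
  have h2 : ∑ n : R, blockCoeff (blockOf M (χ₀ : H → ℂ)) (n : H) = 0 := by
    simp_rw [blockCoeff_eq_sum]
    rw [← Finset.mul_sum, Finset.sum_comm]
    rw [Finset.sum_eq_zero, mul_zero]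
    intro χ _
    by_cases hχ : χ ∈ blockOf M (χ₀ : H → ℂ)
    · simp only [if_pos hχ]
      rw [← Finset.mul_sum, ← map_sum, hsum0 χ hχ, map_zero, mul_zero]
    · simp only [if_neg hχ, Finset.sum_const_zero]
  exact Cfsg.Agent.Lib.L0.BlockKer.blockCoeff_one_ne_zero (M := M) χ₀ (h1.symm.trans h2)

/-- `p`-regular elements lift to `p`-regular elements. -/
theorem exists_pRegular_lift {H K : Type*} [Group H] [Group K] [Finite H] (f : H →* K) (p : ℕ)
    [Fact p.Prime] (g₀ : H) (hq : ¬ p ∣ orderOf (f g₀)) :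
    ∃ g : H, f g = f g₀ ∧ ¬ p ∣ orderOf g := by
  have hp : p.Prime := Fact.out
  have hn0 : orderOf g₀ ≠ 0 := (orderOf_pos g₀).ne'
  obtain ⟨a, m, hm, hnm⟩ := Nat.exists_eq_pow_mul_and_not_dvd hn0 p hp.ne_one
  have hco : (p ^ a).Coprime m :=
    Nat.Coprime.pow_left a ((Nat.Prime.coprime_iff_not_dvd hp).2 hm)
  obtain ⟨k, hk0, hk1⟩ := Nat.chineseRemainder hco 0 1
  refine ⟨g₀ ^ k, ?_, ?_⟩
  · rw [map_pow]
    have hdvd : orderOf (f g₀) ∣ m := by
      have h1 : orderOf (f g₀) ∣ p ^ a * m := hnm ▸ orderOf_map_dvd f g₀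
      have h2 : (orderOf (f g₀)).Coprime (p ^ a) :=
        Nat.Coprime.pow_right a ((Nat.Prime.coprime_iff_not_dvd hp).2 hq).symm
      exact h2.dvd_of_dvd_mul_left h1
    have h3 : k ≡ 1 [MOD orderOf (f g₀)] := Nat.ModEq.of_dvd hdvd hk1
    have h4 := (pow_eq_pow_iff_modEq (x := f g₀)).2 h3
    rw [h4, pow_one]
  · intro hdvd
    apply hm
    have h1 : (g₀ ^ k) ^ m = 1 := by
      rw [← pow_mul]
      apply orderOf_dvd_iff_pow_eq_one.1
      rw [hnm]
      have h5 : p ^ a ∣ k := Nat.modEq_zero_iff_dvd.1 hk0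
      exact Nat.mul_dvd_mul h5 (dvd_refl m)
    exact hdvd.trans (orderOf_dvd_of_pow_eq_one h1)

end Cfsg.Agent.Lib.H22.BlockNormalP
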