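import Mathlib
import Cfsg.Prelude.Def_ChevStructure
import Cfsg.Agent.Lib.H29.ChevAut1
import Cfsg.Agent.Lib.H29.BtDefs2

/-!
# S2154 (Borel–Tits), stage 2, piece LIN: the real functionals (no matrices)

Exact signatures of `tools/blueprints/S2154_sigs2.lean` (piece LIN), namespace `Cfsg.Agent.Lib.H22.BT2`.
-/

set_option autoImplicit false
set_option linter.unusedSectionVars false
set_option linter.unusedVariables false

namespace Cfsg.Agent.Lib.H22.BT2

open Cfsg.Lie Matrix Cfsg.Agent.Lib.H29.BT Cfsg.Agent.Lib.H29.Chev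

variable {D : ChevalleyDatum} {fd : FD} {fx : FX} {fc : FC} {fz : FZ} {F : Type*} [Field F]

/-! ## piece LIN : the real functionals (no matrices) -/

theorem omR_lt (a : Fin fd.l → ℝ) (c : ℕ) (hc : c < fd.l) : fd.omR fx a c = 0 := by
  unfold FD.omR FD.coordZ
  have : Nat.blt c fd.l = true := (natBlt_iff _ _).mpr hc
  simp [this]

theorem omR_ge (a : Fin fd.l → ℝ) (c : ℕ) (hc : ¬ c < fd.l) : fd.omR fx a c = fd.omrR fx a (c - fd.l) := by
  unfold FD.omR FD.omrR FD.coordZ
  have : Nat.blt c fd.l = false := by rw [← Bool.not_eq_true, natBlt_iff]; exact hc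
  simp [this]

theorem omrR_castF (a : ℕ → ℤ) (r : ℕ) : fd.omrR fx (fd.castF a) r = ((fd.omr fx a r : ℤ) : ℝ) := by
  unfold FD.omrR FD.omr FD.castF
  rw [listsum_eq, Int.cast_sum, ← Fin.sum_univ_eq_sum_range (fun j => ((a j * fd.rcZ fx r j : ℤ) : ℝ)) fd.l]
  apply Finset.sum_congr rfl
  intro j _
  push_cast
  ring

theorem omR_castF (a : ℕ → ℤ) (c : ℕ) : fd.omR fx (fd.castF a) c = ((fd.om fx a c : ℤ) : ℝ) := by
  unfold FD.omR FD.om FD.castF
  rw [listsum_eq, Int.cast_sum, ← Fin.sum_univ_eq_sum_range (fun j => ((a j * fd.coordZ fx c j : ℤ) : ℝ)) fd.l]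
  apply Finset.sum_congr rfl
  intro j _
  push_cast
  ring

theorem omrR_mid (a b : Fin fd.l → ℝ) (r : ℕ) :
    fd.omrR fx (fun j => (a j + b j) / 2) r = (fd.omrR fx a r + fd.omrR fx b r) / 2 := by
  unfold FD.omrR
  rw [← Finset.sum_add_distrib, Finset.sum_div]
  apply Finset.sum_congr rfl
  intro j _
  ring

theorem omrR_half_sub (a b : Fin fd.l → ℝ) (r : ℕ) :
    fd.omrR fx (fun j => (a j - b j) / 2) r = (fd.omrR fx a r - fd.omrR fx b r) / 2 := by
  unfold FD.omrR
  rw [← Finset.sum_sub_distrib, Finset.sum_div]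
  apply Finset.sum_congr rfl
  intro j _
  ring

theorem wR_mid (a b : Fin fd.l → ℝ) :
    (fun i => (wR D fd fx a i + wR D fd fx b i) / 2) = wR D fd fx (fun j => (a j + b j) / 2) := by
  funext i
  unfold wR FD.omR
  rw [← Finset.sum_add_distrib, Finset.sum_div]
  apply Finset.sum_congr rfl
  intro j _
  ring

theorem wR_zero : wR D fd fx (fun _ => 0) = fun _ => 0 := by
  funext i
  unfold wR FD.omR
  simp

theorem wR_inl (C : Cert12 D fd fx fc fz) (a : Fin fd.l → ℝ) (i : Fin D.rank) : wR D fd fx a (Sum.inl i) = 0 := by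
  unfold wR
  rw [code_inl]
  exact omR_lt a _ (by rw [← C.c6.c2.rank_eq]; exact i.isLt)

theorem wR_inr (C : Cert12 D fd fx fc fz) (a : Fin fd.l → ℝ) (s : Fin D.nroots) :
    wR D fd fx a (Sum.inr s) = fd.omrR fx a s.val := by
  unfold wR
  rw [code_inr, omR_ge a _ (by rw [C.c6.c2.rank_eq]; omega), C.c6.c2.rank_eq, Nat.add_sub_cancel_left]

theorem omrR_nw (C : Cert12 D fd fx fc fz) (a : Fin fd.l → ℝ) (r s : ℕ) (hr : r < fd.n) (hs : s < fd.n) :
    fd.omrR fx a (fd.nw fx r s) = fd.omrR fx a s - ((fd.pr s r : ℤ) : ℝ) * fd.omrR fx a r := by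
  unfold FD.omrR
  rw [Finset.mul_sum, ← Finset.sum_sub_distrib]
  apply Finset.sum_congr rfl
  intro j _
  rw [(fd.nw_spec C.c6.c2.chk.nn r s hr hs).2 j.val j.isLt]
  push_cast
  ring

/-- the real functional as a sum over `Finset.range` -/
theorem omr_eq_sum (a : ℕ → ℤ) (r : ℕ) :
    ((fd.omr fx a r : ℤ) : ℝ) = ∑ j : Fin fd.l, ((a j.val : ℤ) : ℝ) * ((fd.rcZ fx r j.val : ℤ) : ℝ) := by
  rw [← omrR_castF]
  rfl

theorem omrR_sR (C : Cert12 D fd fx fc fz) (a : Fin fd.l → ℝ) (p s : ℕ) (hp : p < fd.n) (hs : s < fd.n) :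
    fd.omrR fx (fd.sR fx p a) s = fd.omrR fx a (fd.nw fx p s) := by
  rw [omrR_nw C a p s hp hs, fd.pr_lin C.c6.c2.chk.lin s p hs, omr_eq_sum]
  unfold FD.sR
  generalize fd.omrR fx a p = c
  unfold FD.omrR
  rw [Finset.sum_mul, ← Finset.sum_sub_distrib]
  apply Finset.sum_congr rfl
  intro j _
  ring

theorem omrR_neg (C : Cert12 D fd fx fc fz) (a : Fin fd.l → ℝ) (r : ℕ) (hr : r < fd.n) :
    fd.omrR fx a (fd.n - 1 - r) = - fd.omrR fx a r := by
  have := C.c6.c2.chk.pref r hr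
  simp only [FD.chkPrefR, Bool.and_eq_true, List.all_eq_true, List.mem_range, intBeq_iff] at this
  unfold FD.omrR
  rw [← Finset.sum_neg_distrib]
  apply Finset.sum_congr rfl
  intro j _
  rw [this.2 j.val j.isLt]
  push_cast
  ring

theorem omrR_simple (C : Cert12 D fd fx fc fz) (a : Fin fd.l → ℝ) (j : Fin fd.l) :
    fd.omrR fx a (fd.simples.getD j.val 0) = a j := by
  unfold FD.omrR
  rw [Finset.sum_eq_single j]
  · rw [(fd.simple_spec C.c6.c2.simple j.val j.isLt).2.1 j.val j.isLt]; simp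
  · intro k _ hk
    rw [(fd.simple_spec C.c6.c2.simple j.val j.isLt).2.1 k.val k.isLt]
    have : j.val ≠ k.val := fun h => hk (Fin.ext h.symm)
    simp [this]
  · intro h; exact absurd (Finset.mem_univ j) h

/-- `Q` is invariant under the fundamental reflections (`fd.nw fx p` is an involution of `range fd.n` by
`FD.up_spec` and `FD.nw_spec`) -/
theorem QR_sR (C : Cert12 D fd fx fc fz) (i : ℕ) (hi : i < fd.l) (a : Fin fd.l → ℝ) :
    fd.QR fx (fd.sR fx (fd.simples.getD i 0) a) = fd.QR fx a := by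
  have hp : fd.simples.getD i 0 < fd.n := C.c6.c2.simple_lt i hi
  unfold FD.QR
  refine Finset.sum_bij' (fun s _ => fd.nw fx (fd.simples.getD i 0) s)
    (fun s _ => fd.nw fx (fd.simples.getD i 0) s) ?_ ?_ ?_ ?_ ?_
  · intro s hs
    exact Finset.mem_range.mpr (fd.nw_spec C.c6.c2.chk.nn _ s hp (Finset.mem_range.mp hs)).1
  · intro s hs
    exact Finset.mem_range.mpr (fd.nw_spec C.c6.c2.chk.nn _ s hp (Finset.mem_range.mp hs)).1
  · intro s hs
    exact (fd.up_spec C.c6.up i hi s (Finset.mem_range.mp hs)).2.1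
  · intro s hs
    exact (fd.up_spec C.c6.up i hi s (Finset.mem_range.mp hs)).2.1
  · intro s hs
    rw [omrR_sR C a _ s hp (Finset.mem_range.mp hs)]

theorem QR_parallelogram (a b : Fin fd.l → ℝ) :
    fd.QR fx (fun j => (a j + b j) / 2) + fd.QR fx (fun j => (a j - b j) / 2) = (fd.QR fx a + fd.QR fx b) / 2 := by
  unfold FD.QR
  rw [← Finset.sum_add_distrib, ← Finset.sum_add_distrib, Finset.sum_div]
  apply Finset.sum_congr rfl
  intro s _
  rw [omrR_mid, omrR_half_sub]
  ring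

theorem sq_le_QR (C : Cert12 D fd fx fc fz) (a : Fin fd.l → ℝ) (j : Fin fd.l) : (a j) ^ 2 ≤ fd.QR fx a := by
  have hp : fd.simples.getD j.val 0 < fd.n := C.c6.c2.simple_lt j.val j.isLt
  unfold FD.QR
  have := Finset.single_le_sum (f := fun s => (fd.omrR fx a s) ^ 2) (s := Finset.range fd.n)
    (fun s _ => sq_nonneg _) (Finset.mem_range.mpr hp)
  simp only [omrR_simple C a j] at this
  exact this

theorem eq_of_QR_half_sub (C : Cert12 D fd fx fc fz) (a b : Fin fd.l → ℝ)
    (h : fd.QR fx (fun j => (a j - b j) / 2) ≤ 0) : a = b := by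
  funext j
  have h1 := sq_le_QR C (fun j => (a j - b j) / 2) j
  have h2 : ((a j - b j) / 2) ^ 2 ≤ 0 := le_trans h1 h
  have h3 : (a j - b j) / 2 = 0 := by
    have := sq_nonneg ((a j - b j) / 2)
    exact pow_eq_zero_iff (two_ne_zero) |>.mp (le_antisymm h2 this)
  linarith

/-- a functional is determined by its values on the roots -/
theorem eq_of_omrR_eq (C : Cert12 D fd fx fc fz) (a b : Fin fd.l → ℝ)
    (h : ∀ s < fd.n, fd.omrR fx a s = fd.omrR fx b s) : a = b := by
  funext j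
  have hp : fd.simples.getD j.val 0 < fd.n := C.c6.c2.simple_lt j.val j.isLt
  rw [← omrR_simple C a j, ← omrR_simple C b j]
  exact h _ hp

theorem continuous_QR : Continuous (fd.QR fx) := by
  unfold FD.QR FD.omrR
  fun_prop

theorem continuous_wR (i : D.Idx) : Continuous fun a : Fin fd.l → ℝ => wR D fd fx a i := by
  unfold wR FD.omR
  fun_prop

end Cfsg.Agent.Lib.H22.BT2
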