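import Mathlib
import Cfsg.Agent.Lib.L0.BrauerFeit3

/-!
# 2-blocks of defect two have exactly four irreducible characters (helper22)

`card_blockOf_eq_four`: if `p = 2` and `B` has defect `2`, then all characters of `B` have height
zero (`height_add_two_le`), the Brauer–Feit integers `m_{χ₁ψ} = 2^t n_ψ` have `n_ψ` odd,
`∑ n_ψ² = 4 n_{χ₁}` gives `k(B) ≡ 4 (mod 8)` and `4 k(B) ≤ 20` gives `k(B) = 4`.
-/

set_option autoImplicit false

namespace Cfsg.Agent.Lib.H22.KleinDefect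

open Cfsg Cfsg.Agent.Lib.H23 Cfsg.Agent.Lib.H24 Cfsg.Agent.Lib.L0 Cfsg.Agent.Lib.L0.Tilde
  Cfsg.Agent.Lib.L0.BlockMinMax Cfsg.Agent.Lib.L0.BrauerFeit
open scoped ComplexConjugate

variable {G : Type*} [Group G] [Fintype G] {M : Ideal AlgInt}

theorem sq_emod_eight_of_odd (n : ℤ) (h : ¬ (2 : ℤ) ∣ n) : n ^ 2 % 8 = 1 := by
  have h1 : n % 8 = 1 ∨ n % 8 = 3 ∨ n % 8 = 5 ∨ n % 8 = 7 := by omega
  have h2 : n ^ 2 = n * n := sq n
  rw [h2]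
  rcases h1 with h1 | h1 | h1 | h1 <;> simp [Int.mul_emod, h1]

theorem card_filter_blockOf_eq_four [Fintype (IrrCharacter G)] (hM : IsPModular 2 M)
    (χ₁ : IrrCharacter G) [DecidablePred (· ∈ blockOf M (χ₁ : G → ℂ))]
    (hd : blockDefect 2 (blockOf M (χ₁ : G → ℂ)) = 2) :
    (Finset.univ.filter (· ∈ blockOf M (χ₁ : G → ℂ))).card = 4 := by
  haveI hPr := isPrime_of_isPModular hM
  haveI : Fact (Nat.Prime 2) := ⟨Nat.prime_two⟩
  obtain ⟨t, ht⟩ : ∃ t, t = minDeg 2 (blockOf M (χ₁ : G → ℂ)) := ⟨_, rfl⟩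
  obtain ⟨a, ha⟩ : ∃ a, a = (Nat.card G).factorization 2 := ⟨_, rfl⟩
  have hat : a = t + 2 := by
    have h := card_factorization_eq (p := 2) (M := M) χ₁
    rw [hd] at h
    rw [ha, ht]; exact h
  -- all heights are zero
  have hdeg : ∀ ψ ∈ blockOf M (χ₁ : G → ℂ), (charDegree (ψ : G → ℂ)).factorization 2 = t := by
    intro ψ hψ
    have h1 := minDeg_le (p := 2) χ₁ hψ
    by_contra hne
    have hpos : 0 < blockHeight 2 (blockOf M (χ₁ : G → ℂ)) (ψ : G → ℂ) := by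
      rw [blockHeight_eq]
      omega
    have h2 := height_add_two_le hM χ₁ ψ hψ hpos
    rw [hd] at h2
    omega
  have hmin : ∀ ψ : IrrCharacter G, SameBlock M (χ₁ : G → ℂ) (ψ : G → ℂ) →
      (charDegree (χ₁ : G → ℂ)).factorization 2 ≤ (charDegree (ψ : G → ℂ)).factorization 2 := by
    intro ψ hs
    rw [hdeg χ₁ (mem_blockOf_self χ₁), hdeg ψ hs]
  have hodd : ∀ ψ ∈ blockOf M (χ₁ : G → ℂ),
      ∃ n : ℤ, AAz hM.1 χ₁ ψ = 2 ^ t * n ∧ ¬ (2 : ℤ) ∣ n := by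
    intro ψ hψ
    have h1 : (2 : ℤ) ^ t ∣ AAz hM.1 χ₁ ψ := by
      have h := pow_dvd_AAz_right hM.1 χ₁ ψ
      rw [hdeg ψ hψ] at h
      exact_mod_cast h
    obtain ⟨n, hn⟩ := h1
    refine ⟨n, hn, ?_⟩
    intro h2
    apply not_pow_succ_dvd_AAz hM χ₁ hmin ψ hψ
    rw [hdeg ψ hψ, hn]
    obtain ⟨k, rfl⟩ := h2
    exact ⟨k, by push_cast; ring⟩
  choose! n hn hnodd using hodd
  -- the sum identity
  have hsum := sum_AAz_sq hM.1 χ₁
  have hsplit : ∑ ψ : IrrCharacter G, AAz hM.1 χ₁ ψ ^ 2 =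
      ∑ ψ ∈ Finset.univ.filter (· ∈ blockOf M (χ₁ : G → ℂ)), AAz hM.1 χ₁ ψ ^ 2 := by
    rw [Finset.sum_filter]
    refine Finset.sum_congr rfl fun ψ _ => ?_
    by_cases hψ : ψ ∈ blockOf M (χ₁ : G → ℂ)
    · rw [if_pos hψ]
    · rw [if_neg hψ, AAz_eq_zero_of_not_sameBlock hM χ₁ ψ hψ]
      ring
  have hsum2 : ∑ ψ ∈ Finset.univ.filter (· ∈ blockOf M (χ₁ : G → ℂ)), n ψ ^ 2 = 4 * n χ₁ := by
    have h1 : ∑ ψ ∈ Finset.univ.filter (· ∈ blockOf M (χ₁ : G → ℂ)), AAz hM.1 χ₁ ψ ^ 2 =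
        (2 : ℤ) ^ (2 * t) * ∑ ψ ∈ Finset.univ.filter (· ∈ blockOf M (χ₁ : G → ℂ)), n ψ ^ 2 := by
      rw [Finset.mul_sum]
      refine Finset.sum_congr rfl fun ψ hψ => ?_
      rw [hn ψ (Finset.mem_filter.1 hψ).2]
      ring
    rw [hsplit, h1, ← ha, hat, hn χ₁ (mem_blockOf_self χ₁)] at hsum
    have h2 : (2 : ℤ) ^ (2 * t) ≠ 0 := pow_ne_zero _ (by norm_num)
    apply mul_left_cancel₀ h2
    rw [hsum]
    push_cast
    ring
  -- mod 8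
  have hmod : ((Finset.univ.filter (· ∈ blockOf M (χ₁ : G → ℂ))).card : ℤ) % 8 = 4 := by
    have h1 : (∑ ψ ∈ Finset.univ.filter (· ∈ blockOf M (χ₁ : G → ℂ)), n ψ ^ 2) % 8 =
        (∑ ψ ∈ Finset.univ.filter (· ∈ blockOf M (χ₁ : G → ℂ)), (1 : ℤ)) % 8 := by
      rw [Finset.sum_int_mod]
      have h3 : ∑ ψ ∈ Finset.univ.filter (· ∈ blockOf M (χ₁ : G → ℂ)), n ψ ^ 2 % 8 =
          ∑ ψ ∈ Finset.univ.filter (· ∈ blockOf M (χ₁ : G → ℂ)), (1 : ℤ) :=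
        Finset.sum_congr rfl fun ψ hψ =>
          sq_emod_eight_of_odd _ (hnodd ψ (Finset.mem_filter.1 hψ).2)
      rw [h3]
    rw [hsum2, Finset.sum_const, nsmul_eq_mul, mul_one] at h1
    have h4 := hnodd χ₁ (mem_blockOf_self χ₁)
    omega
  have hle := four_mul_card_le hM χ₁
  rw [hd] at hle
  norm_num at hle
  omega

theorem natCard_blockOf_eq_four (hM : IsPModular 2 M) (χ₁ : IrrCharacter G)
    (hd : blockDefect 2 (blockOf M (χ₁ : G → ℂ)) = 2) :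
    Nat.card (blockOf M (χ₁ : G → ℂ)) = 4 := by
  classical
  haveI : Fintype (IrrCharacter G) := Fintype.ofFinite _
  rw [← card_filter_blockOf_eq_four hM χ₁ hd, Nat.card_eq_fintype_card, Fintype.card_subtype]

end Cfsg.Agent.Lib.H22.KleinDefect
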