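import Mathlib
import Cfsg.Agent.Lib.H22.SubsecBasic

/-!
# Subsections of a block with abelian defect group (helper22)

`(P, e)` a maximal `B`-pair with `P` abelian, `T = N_G(P, e)`.

* `fusion_of_abelian`: two pairs below `(P, e)` conjugate under `x` are conjugate under an element
  of `T` differing from `x` by an element of the centralizer;
* `exists_sub`: for `u ∈ P` there is a block `b` of `C_G(u)` inducing `B` with `(⟨u⟩, b) ≤ (P, e)`;
* `exists_conj_sub`: every subsection `(x, b)` of `B` is conjugate to one below `(P, e)`;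
* `fusion_elt`: conjugate subsections below `(P, e)` are `T`-conjugate.
-/

set_option autoImplicit false

namespace Cfsg.Agent.Lib.H22.Subsec

open Cfsg MonoidAlgebra Cfsg.Agent.Lib.H23 Cfsg.Agent.Lib.H24 Cfsg.Agent.Lib.L0
  Cfsg.Agent.Lib.L0.BrauerPairHom Cfsg.Agent.Lib.L0.BrauerLam
  Cfsg.Agent.Lib.L0.BrauerNormal Cfsg.Agent.Lib.L0.BrauerSubpair Cfsg.Agent.Lib.L0.BrauerConj
  Cfsg.Agent.Lib.L0.BrauerDefect Cfsg.Agent.Lib.L0.BrauerSylow Cfsg.Agent.Lib.L0.BrauerCentric
  Cfsg.Agent.Lib.L0.BlockOrbitCover Cfsg.Agent.Lib.L0.BrauerNormalizer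
  Cfsg.Agent.Lib.L0.BrauerFully Cfsg.Agent.Lib.L0.BrauerRelative Cfsg.Agent.Lib.L0.BrauerStab
  Cfsg.Agent.Lib.L0.BrauerAutomizer Cfsg.Agent.Lib.L0.BrauerAbelian
  Cfsg.Agent.Lib.L0.BrauerNilpotent Cfsg.Agent.Lib.L0.BlockRankTrace
open scoped ComplexConjugate

variable {G : Type*} [Group G] [Fintype G] {p : ℕ} {M : Ideal AlgInt}

/-- Burnside's fusion argument for two pairs below an abelian maximal pair. -/
theorem fusion_of_abelian (hM : IsPModular p M) {B : Set (IrrCharacter G)} {P : Subgroup G}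
    {e : Set (IrrCharacter (Subgroup.centralizer (P : Set G)))}
    (hmax : IsMaximalBrauerPair p M B P e) (hab : ∀ x ∈ P, ∀ y ∈ P, x * y = y * x)
    {a a' : BrauerPairIdx G} (ha' : IsPBlock M a'.2)
    (hle : Relation.ReflTransGen (NormalSubpairRel p M) a ⟨P, e⟩)
    (hle' : Relation.ReflTransGen (NormalSubpairRel p M) a' ⟨P, e⟩) {x : G}
    (hx : conjPair x a = a') :
    ∃ y : G, (y ∈ Subgroup.normalizer (P : Set G) ∧
      StabilizesBlock (Subgroup.centralizer (P : Set G)) e y) ∧
      ∃ t ∈ Subgroup.centralizer (a'.1 : Set G), y = t * x := by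
  classical
  obtain ⟨Q, f⟩ := a
  obtain ⟨Q', f'⟩ := a'
  haveI hPr := isPrime_of_isPModular hM
  have hf' : IsPBlock M f' := ha'
  have hPe : IsBrauerPair p M P e := hmax.1.1
  have hQP : Q ≤ P := fst_le_of_reflTransGen (a := ⟨Q, f⟩) (b := ⟨P, e⟩) hle
  have hQ'P : Q' ≤ P := fst_le_of_reflTransGen (a := ⟨Q', f'⟩) (b := ⟨P, e⟩) hle'
  have hPC : P ≤ Subgroup.centralizer (Q : Set G) := le_centralizer_of_abelian hab hQP
  have hPC' : P ≤ Subgroup.centralizer (Q' : Set G) := le_centralizer_of_abelian hab hQ'P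
  have hCN := Subgroup.centralizer_le_normalizer ((Q : Subgroup G) : Set G)
  have hCN' := Subgroup.centralizer_le_normalizer ((Q' : Subgroup G) : Set G)
  have hnorm : IsNormalSubpair p M Q f P e :=
    normalSubpair_of_subpairLE hM (a := ⟨Q, f⟩) (c := ⟨P, e⟩) hle hPe (hPC.trans hCN)
  have hnorm₂ : IsNormalSubpair p M Q' f' P e :=
    normalSubpair_of_subpairLE hM (a := ⟨Q', f'⟩) (c := ⟨P, e⟩) hle' hPe (hPC'.trans hCN')
  have hloc : LocalMax p M P Q' f' (fun Q₁ => Subgroup.centralizer (Q₁ : Set G)) := by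
    refine localMax_of_fully hM hmax hle' _ map_conj_centralizer_le fun y hy => ?_
    have hyP : Q'.map (MulAut.conj y).toMonoidHom ≤ P :=
      fst_le_of_reflTransGen (a := ⟨_, conjBlock Q' y f'⟩) (b := ⟨P, e⟩) hy
    have h1 : P ⊓ Subgroup.centralizer
        ((Q'.map (MulAut.conj y).toMonoidHom : Subgroup G) : Set G) = P :=
      inf_eq_left.2 (le_centralizer_of_abelian hab hyP)
    have h2 : P ⊓ Subgroup.centralizer (Q' : Set G) = P := inf_eq_left.2 hPC'
    show Nat.card ↥(P ⊓ Subgroup.centralizer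
      ((Q'.map (MulAut.conj y).toMonoidHom : Subgroup G) : Set G)) ≤
      Nat.card ↥(P ⊓ Subgroup.centralizer (Q' : Set G))
    rw [h1, h2]
  have hD := isDefectGroup_centralizer_of_localMax hM hPe hf' hle' hloc
  rw [inf_eq_left.2 hPC'] at hD
  have hnorm' : NormalSubpairRel p M (conjPair x ⟨Q, f⟩) (conjPair x ⟨P, e⟩) :=
    isNormalSubpair_conj x hnorm
  rw [hx] at hnorm'
  have hnorm'' : IsNormalSubpair p M Q' f' (P.map (MulAut.conj x).toMonoidHom)
      (conjBlock P x e) := hnorm'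
  have hQeq : Q.map (MulAut.conj x).toMonoidHom = Q' := congrArg Sigma.fst hx
  have hxPC : P.map (MulAut.conj x).toMonoidHom ≤ Subgroup.centralizer (Q' : Set G) := by
    rintro _ ⟨u, hu, rfl⟩
    have h1 := conj_mem_centralizer_conjSub (x := x) (hPC hu)
    rw [hQeq] at h1
    simpa [MulAut.conj_apply] using h1
  have hfc : ∀ t : Subgroup.centralizer (Q' : Set G), blockCoeff f' t =
      subgroupBlockCoeff (Subgroup.centralizer (Q' : Set G)) f' (t : G) := by
    intro t
    unfold subgroupBlockCoeff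
    rw [dif_pos t.2]
  obtain ⟨t, ht, hchain⟩ := exists_conj_le_relative (Subgroup.centralizer (Q' : Set G)) hM
    le_rfl hCN' f' hf' hfc hnorm₂ hPC' hD hnorm'' hxPC
  have hmul : conjPair t (conjPair x (⟨P, e⟩ : BrauerPairIdx G)) = conjPair (t * x) ⟨P, e⟩ :=
    conjPair_mul (M := M) t x (a := (⟨P, e⟩ : BrauerPairIdx G)) hPe.2
  have hchain' : Relation.ReflTransGen (NormalSubpairRel p M)
      (conjPair (t * x) (⟨P, e⟩ : BrauerPairIdx G)) ⟨P, e⟩ := by
    rw [← hmul]; exact hchain
  have hle2 : P.map (MulAut.conj (t * x)).toMonoidHom ≤ P :=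
    fst_le_of_reflTransGen (a := conjPair (t * x) ⟨P, e⟩) (b := ⟨P, e⟩) hchain'
  have heq : P.map (MulAut.conj (t * x)).toMonoidHom = P :=
    Subgroup.eq_of_le_of_card_ge hle2
      (by rw [Subgroup.card_map_of_injective (MulAut.conj (t * x)).injective])
  have hfix : conjPair (t * x) (⟨P, e⟩ : BrauerPairIdx G) = ⟨P, e⟩ :=
    eq_of_reflTransGen_of_le hM hchain' (le_of_eq heq.symm)
  exact ⟨t * x, stab_of_conjPair_eq_self hfix, t, ht, rfl⟩

/-- Conjugation by an element of `N_G(P, e)` preserves the pairs below `(P, e)`. -/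
theorem conj_le_of_stab (hM : IsPModular p M) {P : Subgroup G}
    {e : Set (IrrCharacter (Subgroup.centralizer (P : Set G)))} (he : IsPBlock M e)
    {a : BrauerPairIdx G} (hle : Relation.ReflTransGen (NormalSubpairRel p M) a ⟨P, e⟩) {y : G}
    (hyP : y ∈ Subgroup.normalizer (P : Set G))
    (hyst : StabilizesBlock (Subgroup.centralizer (P : Set G)) e y) :
    Relation.ReflTransGen (NormalSubpairRel p M) (conjPair y a) ⟨P, e⟩ := by
  haveI hPr := isPrime_of_isPModular hM
  have h1 := reflTransGen_conjPair y hle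
  rwa [conjPair_eq_self_of_stab he hyP hyst] at h1

/-- The centralizer of `Q` fixes every pair `(Q, f)`. -/
theorem conjPair_eq_self_of_mem_centralizer [hPr : M.IsPrime] {a : BrauerPairIdx G}
    (ha : IsPBlock M a.2) {t : G} (ht : t ∈ Subgroup.centralizer (a.1 : Set G)) :
    conjPair t a = a := by
  obtain ⟨Q, f⟩ := a
  exact conjPair_eq_self_of_stab ha (Subgroup.centralizer_le_normalizer _ ht)
    (stabilizesBlock_of_mem_sup _ _ (Subgroup.mem_sup_right ht))

omit [Fintype G] in
theorem map_conj_zpowers (g x : G) :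
    (Subgroup.zpowers x).map (MulAut.conj g).toMonoidHom = Subgroup.zpowers (g * x * g⁻¹) := by
  rw [MonoidHom.map_zpowers]
  rfl

omit [Fintype G] in
theorem isPGroup_zpowers_of_mem {P : Subgroup G} (hP : IsPGroup p P) {u : G} (hu : u ∈ P) :
    IsPGroup p (Subgroup.zpowers u) :=
  hP.to_le ((Subgroup.zpowers_le).2 hu)

/-- **(F1)** the subsection `(u, b_u)` below `(P, e)` for `u ∈ P`. -/
theorem exists_sub (hM : IsPModular p M) {B : Set (IrrCharacter G)} {P : Subgroup G}
    {e : Set (IrrCharacter (Subgroup.centralizer (P : Set G)))}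
    (hmax : IsMaximalBrauerPair p M B P e) {u : G} (hu : u ∈ P) :
    ∃ b : Set (IrrCharacter (Subgroup.centralizer ({u} : Set G))),
      IsInducedBlock M (Subgroup.centralizer ({u} : Set G)) b B ∧
      Relation.ReflTransGen (NormalSubpairRel p M) (toPair u b) ⟨P, e⟩ := by
  classical
  haveI hPr := isPrime_of_isPModular hM
  have hPe : IsBrauerPair p M P e := hmax.1.1
  have hQP : Subgroup.zpowers u ≤ P := (Subgroup.zpowers_le).2 hu
  obtain ⟨f, ⟨hf, hle⟩, _⟩ := exists_unique_subpairLE hM P (Subgroup.zpowers u) e hPe hQP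
  obtain ⟨b, hb⟩ := exists_toPair_eq u ⟨Subgroup.zpowers u, f⟩ rfl
  have hle' : Relation.ReflTransGen (NormalSubpairRel p M) (toPair u b) ⟨P, e⟩ := by
    rw [hb]; exact hle
  refine ⟨b, ?_, hle'⟩
  have h1 : IsBrauerPairOf p M B (toPair u b).1 (toPair u b).2 :=
    (isBrauerPairOf_iff_of_reflTransGen hM hle' B).2 hmax.1
  haveI : Fintype (Subgroup.centralizer ((toPair u b).1 : Set G)) := Fintype.ofFinite _
  exact (isInducedBlock_toPair u b B).1 (isInducedBlock_of_pair hM h1)

/-- **(F2)** every subsection is conjugate to one below `(P, e)`. -/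
theorem exists_conj_sub (hM : IsPModular p M) {B : Set (IrrCharacter G)} {P : Subgroup G}
    {e : Set (IrrCharacter (Subgroup.centralizer (P : Set G)))}
    (hmax : IsMaximalBrauerPair p M B P e) {x : G} (hx : IsPGroup p (Subgroup.zpowers x))
    {b : Set (IrrCharacter (Subgroup.centralizer ({x} : Set G)))}
    (hb : IsInducedBlock M (Subgroup.centralizer ({x} : Set G)) b B) :
    ∃ g : G, g * x * g⁻¹ ∈ P ∧
      Relation.ReflTransGen (NormalSubpairRel p M) (conjPair g (toPair x b)) ⟨P, e⟩ := by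
  classical
  haveI hPr := isPrime_of_isPModular hM
  have h1 : IsInducedBlock M (Subgroup.centralizer ((toPair x b).1 : Set G)) (toPair x b).2 B :=
    (isInducedBlock_toPair x b B).2 hb
  have h2 : IsBrauerPairOf p M B (toPair x b).1 (toPair x b).2 :=
    (isBrauerPairOf_iff_isInducedBlock hM (Q := (toPair x b).1) hx).2 h1
  obtain ⟨g, hg⟩ := exists_conj_le_of_maximal hM hmax h2
  refine ⟨g, ?_, hg⟩
  have h3 : (Subgroup.zpowers x).map (MulAut.conj g).toMonoidHom ≤ P :=
    fst_le_of_reflTransGen (a := conjPair g (toPair x b)) (b := ⟨P, e⟩) hg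
  exact h3 (conj_mem_conjSub (Subgroup.mem_zpowers x))

/-- **(F3)** conjugate subsections below `(P, e)` are conjugate under `N_G(P, e)`. -/
theorem fusion_elt (hM : IsPModular p M) {B : Set (IrrCharacter G)} {P : Subgroup G}
    {e : Set (IrrCharacter (Subgroup.centralizer (P : Set G)))}
    (hmax : IsMaximalBrauerPair p M B P e) (hab : ∀ x ∈ P, ∀ y ∈ P, x * y = y * x)
    {u u' : G}
    {b : Set (IrrCharacter (Subgroup.centralizer ({u} : Set G)))}
    {b' : Set (IrrCharacter (Subgroup.centralizer ({u'} : Set G)))}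
    (hb' : IsPBlock M b')
    (hle : Relation.ReflTransGen (NormalSubpairRel p M) (toPair u b) ⟨P, e⟩)
    (hle' : Relation.ReflTransGen (NormalSubpairRel p M) (toPair u' b') ⟨P, e⟩) {g : G}
    (hg : conjPair g (toPair u b) = toPair u' b') (hgu : g * u * g⁻¹ = u') :
    ∃ y : G, (y ∈ Subgroup.normalizer (P : Set G) ∧
      StabilizesBlock (Subgroup.centralizer (P : Set G)) e y) ∧ y * u * y⁻¹ = u' := by
  obtain ⟨y, hy, t, ht, rfl⟩ := fusion_of_abelian hM hmax hab
    ((isPBlock_toPair u' b').2 hb') hle hle' hg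
  refine ⟨t * g, hy, ?_⟩
  have h1 : t * u' = u' * t := by
    have := Subgroup.mem_centralizer_iff.1 ht u' (Subgroup.mem_zpowers u')
    exact this.symm
  calc t * g * u * (t * g)⁻¹ = t * (g * u * g⁻¹) * t⁻¹ := by group
    _ = t * u' * t⁻¹ := by rw [hgu]
    _ = u' := by rw [h1]; group

end Cfsg.Agent.Lib.H22.Subsec
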