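import Mathlib
import Cfsg.Agent.Lib.H22.SubsecFusion

/-!
# Counting subsections of a block with abelian defect group (helper22)

`secCount p M B x` is the contribution of the `p`-element `x` to Brauer's formula
`k(B) = ∑_x ∑_{b^G = B} l(b)`.

* `card_le_secCount`: if `N_G(P, e) = C_G(P)`, then distinct elements of `P` conjugate to `x` give
  distinct subsections at `x`;
* `secCount_eq_of_trans`: if `N_G(P, e)` is transitive on `P ∖ 1`, the contribution of `x ≠ 1` is
  `l(b₁)` or `0`;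
* `card_le_sum_secCount`, `sum_secCount_eq_of_trans`: the same, summed over representatives.
-/

set_option autoImplicit false

namespace Cfsg.Agent.Lib.H22.Subsec

open Cfsg MonoidAlgebra Cfsg.Agent.Lib.H23 Cfsg.Agent.Lib.H24 Cfsg.Agent.Lib.L0
  Cfsg.Agent.Lib.L0.BrauerPairHom Cfsg.Agent.Lib.L0.BrauerLam
  Cfsg.Agent.Lib.L0.BrauerNormal Cfsg.Agent.Lib.L0.BrauerSubpair Cfsg.Agent.Lib.L0.BrauerConj
  Cfsg.Agent.Lib.L0.BrauerDefect Cfsg.Agent.Lib.L0.BrauerSylow Cfsg.Agent.Lib.L0.BrauerCentric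
  Cfsg.Agent.Lib.L0.BlockOrbitCover Cfsg.Agent.Lib.L0.BrauerNormalizer
  Cfsg.Agent.Lib.L0.BrauerFully Cfsg.Agent.Lib.L0.BrauerRelative Cfsg.Agent.Lib.L0.BrauerStab
  Cfsg.Agent.Lib.L0.BrauerAutomizer Cfsg.Agent.Lib.L0.BrauerAbelian
  Cfsg.Agent.Lib.L0.BrauerNilpotent Cfsg.Agent.Lib.L0.BlockRankTrace
open scoped ComplexConjugate

variable {G : Type*} [Group G] [Fintype G] {p : ℕ} {M : Ideal AlgInt}

/-- The contribution of `x` to Brauer's count of `k(B)`. -/
noncomputable def secCount (p : ℕ) (M : Ideal AlgInt) (B : Set (IrrCharacter G)) (x : G) : ℕ :=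
  ∑ᶠ b ∈ {b : Set (IrrCharacter (Subgroup.centralizer ({x} : Set G))) |
    IsInducedBlock M (Subgroup.centralizer ({x} : Set G)) b B}, blockRank p b

theorem card_le_secCount (hM : IsPModular p M) {B : Set (IrrCharacter G)} {P : Subgroup G}
    {e : Set (IrrCharacter (Subgroup.centralizer (P : Set G)))}
    (hmax : IsMaximalBrauerPair p M B P e) (hab : ∀ x ∈ P, ∀ y ∈ P, x * y = y * x)
    (hT : ∀ y : G, y ∈ Subgroup.normalizer (P : Set G) →
      StabilizesBlock (Subgroup.centralizer (P : Set G)) e y →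
      y ∈ Subgroup.centralizer (P : Set G))
    (x : G) (U' : Finset G) (hU' : ∀ u ∈ U', u ∈ P ∧ IsConj u x) :
    U'.card ≤ secCount p M B x := by
  classical
  haveI hPr := isPrime_of_isPModular hM
  have hp : p.Prime := hM.1
  haveI : Fintype (Subgroup.centralizer ({x} : Set G)) := Fintype.ofFinite _
  have key : ∀ u ∈ U', ∃ β : Set (IrrCharacter (Subgroup.centralizer ({x} : Set G))),
      IsInducedBlock M (Subgroup.centralizer ({x} : Set G)) β B ∧ ∃ g : G, g * u * g⁻¹ = x ∧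
      ∃ b : Set (IrrCharacter (Subgroup.centralizer ({u} : Set G))),
        Relation.ReflTransGen (NormalSubpairRel p M) (toPair u b) ⟨P, e⟩ ∧ IsPBlock M b ∧
        conjPair g (toPair u b) = toPair x β := by
    intro u hu
    obtain ⟨huP, huc⟩ := hU' u hu
    obtain ⟨g, hg⟩ := isConj_iff.1 huc
    obtain ⟨b, hbB, hble⟩ := exists_sub hM hmax huP
    have h1 : (conjPair g (toPair u b)).1 = Subgroup.zpowers x := by
      rw [conjPair_fst, toPair_fst, map_conj_zpowers, hg]
    obtain ⟨β, hβ⟩ := exists_toPair_eq x _ h1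
    have h2 : IsBrauerPairOf p M B (toPair u b).1 (toPair u b).2 :=
      (isBrauerPairOf_iff_of_reflTransGen hM hble B).2 hmax.1
    have h3 : IsBrauerPairOf p M B (conjPair g (toPair u b)).1 (conjPair g (toPair u b)).2 :=
      isBrauerPairOf_conj g h2
    rw [← hβ] at h3
    haveI : Fintype (Subgroup.centralizer ((toPair x β).1 : Set G)) := Fintype.ofFinite _
    exact ⟨β, (isInducedBlock_toPair x β B).1 (isInducedBlock_of_pair hM h3), g, hg, b, hble,
      hbB.1, hβ.symm⟩
  choose! β hβB g hg b hble hbblk hconj using key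
  have hinj : Set.InjOn β (U' : Set G) := by
    intro u hu u' hu' hββ
    have hu : u ∈ U' := hu
    have hu' : u' ∈ U' := hu'
    obtain ⟨huP, -⟩ := hU' u hu
    have hblk : IsPBlock M (toPair u (b u)).2 := (isPBlock_toPair u (b u)).2 (hbblk u hu)
    have hblk' : IsPBlock M (toPair u' (b u')).2 := (isPBlock_toPair u' (b u')).2 (hbblk u' hu')
    have h1 : conjPair (g u) (toPair u (b u)) = conjPair (g u') (toPair u' (b u')) := by
      rw [hconj u hu, hconj u' hu', hββ]
    have h2 : conjPair ((g u')⁻¹ * g u) (toPair u (b u)) = toPair u' (b u') := by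
      rw [← conjPair_mul (M := M) (g u')⁻¹ (g u) hblk, h1,
        conjPair_inv_conjPair (M := M) (g u') hblk']
    have h3 : (g u')⁻¹ * g u * u * ((g u')⁻¹ * g u)⁻¹ = u' := by
      have e1 := hg u hu
      have e2 := hg u' hu'
      calc (g u')⁻¹ * g u * u * ((g u')⁻¹ * g u)⁻¹
          = (g u')⁻¹ * (g u * u * (g u)⁻¹) * g u' := by group
        _ = (g u')⁻¹ * (g u' * u' * (g u')⁻¹) * g u' := by rw [e1, e2]
        _ = u' := by group
    obtain ⟨y, ⟨hyN, hyst⟩, hyu⟩ := fusion_elt hM hmax hab (hbblk u' hu') (hble u hu)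
      (hble u' hu') h2 h3
    have hyC := hT y hyN hyst
    have h4 := Subgroup.mem_centralizer_iff.1 hyC u huP
    rw [← hyu, ← h4]
    group
  unfold secCount
  have hSfin : ({b : Set (IrrCharacter (Subgroup.centralizer ({x} : Set G))) |
    IsInducedBlock M (Subgroup.centralizer ({x} : Set G)) b B}).Finite := Set.toFinite _
  rw [finsum_mem_eq_finite_toFinset_sum _ hSfin]
  calc U'.card = ∑ u ∈ U', 1 := by simp
    _ ≤ ∑ u ∈ U', blockRank p (β u) :=
        Finset.sum_le_sum fun u hu => blockRank_pos (hβB u hu).1 hp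
    _ = ∑ b ∈ U'.image β, blockRank p b := (Finset.sum_image hinj).symm
    _ ≤ ∑ b ∈ hSfin.toFinset, blockRank p b := by
        refine Finset.sum_le_sum_of_subset ?_
        intro b hb
        obtain ⟨u, hu, rfl⟩ := Finset.mem_image.1 hb
        exact (Set.Finite.mem_toFinset _).2 (hβB u hu)

open scoped Classical in
theorem secCount_eq_of_trans (hM : IsPModular p M) {B : Set (IrrCharacter G)} {P : Subgroup G}
    {e : Set (IrrCharacter (Subgroup.centralizer (P : Set G)))}
    (hmax : IsMaximalBrauerPair p M B P e)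
    (htrans : ∀ u ∈ P, u ≠ 1 → ∀ u' ∈ P, u' ≠ 1 → ∃ y : G,
      (y ∈ Subgroup.normalizer (P : Set G) ∧
        StabilizesBlock (Subgroup.centralizer (P : Set G)) e y) ∧ y * u * y⁻¹ = u')
    {u₁ : G} (hu₁ : u₁ ∈ P) (hu₁1 : u₁ ≠ 1)
    {b₁ : Set (IrrCharacter (Subgroup.centralizer ({u₁} : Set G)))}
    (hle₁ : Relation.ReflTransGen (NormalSubpairRel p M) (toPair u₁ b₁) ⟨P, e⟩)
    {x : G} (hx : IsPGroup p (Subgroup.zpowers x)) (hx1 : x ≠ 1) :
    secCount p M B x = if IsConj u₁ x then blockRank p b₁ else 0 := by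
  classical
  haveI hPr := isPrime_of_isPModular hM
  have key : ∀ b : Set (IrrCharacter (Subgroup.centralizer ({x} : Set G))),
      IsInducedBlock M (Subgroup.centralizer ({x} : Set G)) b B →
      ∃ g : G, g * x * g⁻¹ = u₁ ∧ conjPair g (toPair x b) = toPair u₁ b₁ := by
    intro b hb
    obtain ⟨g, hgP, hgle⟩ := exists_conj_sub hM hmax hx hb
    have hne : g * x * g⁻¹ ≠ 1 := by
      intro h
      apply hx1
      have e1 : x = g⁻¹ * (g * x * g⁻¹) * g := by group
      rw [e1, h]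
      group
    obtain ⟨y, ⟨hyN, hyst⟩, hyu⟩ := htrans _ hgP hne _ hu₁ hu₁1
    refine ⟨y * g, by rw [← hyu]; group, ?_⟩
    have hblk : IsPBlock M (toPair x b).2 := (isPBlock_toPair x b).2 hb.1
    rw [← conjPair_mul (M := M) y g hblk]
    have h1 := conj_le_of_stab hM hmax.1.1.2 hgle hyN hyst
    refine pair_eq_of_le hM h1 hle₁ ?_
    rw [conjPair_fst, conjPair_fst, toPair_fst, toPair_fst, map_conj_zpowers, map_conj_zpowers,
      hyu]
  by_cases hc : IsConj u₁ x
  · rw [if_pos hc]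
    obtain ⟨g₁, hg₁⟩ := isConj_iff.1 hc
    have h1 : (conjPair g₁ (toPair u₁ b₁)).1 = Subgroup.zpowers x := by
      rw [conjPair_fst, toPair_fst, map_conj_zpowers, hg₁]
    obtain ⟨β, hβ⟩ := exists_toPair_eq x _ h1
    have hβB : IsInducedBlock M (Subgroup.centralizer ({x} : Set G)) β B := by
      have h2 : IsBrauerPairOf p M B (toPair u₁ b₁).1 (toPair u₁ b₁).2 :=
        (isBrauerPairOf_iff_of_reflTransGen hM hle₁ B).2 hmax.1
      have h3 : IsBrauerPairOf p M B (conjPair g₁ (toPair u₁ b₁)).1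
          (conjPair g₁ (toPair u₁ b₁)).2 := isBrauerPairOf_conj g₁ h2
      rw [← hβ] at h3
      haveI : Fintype (Subgroup.centralizer ((toPair x β).1 : Set G)) := Fintype.ofFinite _
      exact (isInducedBlock_toPair x β B).1 (isInducedBlock_of_pair hM h3)
    have hset : {b : Set (IrrCharacter (Subgroup.centralizer ({x} : Set G))) |
        IsInducedBlock M (Subgroup.centralizer ({x} : Set G)) b B} = {β} := by
      ext b
      constructor
      · intro hb
        obtain ⟨g, hgx, hgc⟩ := key b hb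
        have hblk : IsPBlock M (toPair x b).2 := (isPBlock_toPair x b).2 hb.1
        have h2 : conjPair (g₁ * g) (toPair x b) = toPair x β := by
          rw [← conjPair_mul (M := M) g₁ g hblk, hgc, hβ]
        have h3 : g₁ * g ∈ Subgroup.centralizer ((toPair x b).1 : Set G) := by
          show g₁ * g ∈ Subgroup.centralizer ((Subgroup.zpowers x : Subgroup G) : Set G)
          rw [centralizer_zpowers', Subgroup.mem_centralizer_iff]
          intro h hh
          rw [Set.mem_singleton_iff.1 hh]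
          have e1 : g₁ * g * x * (g₁ * g)⁻¹ = x := by
            calc g₁ * g * x * (g₁ * g)⁻¹ = g₁ * (g * x * g⁻¹) * g₁⁻¹ := by group
              _ = x := by rw [hgx, hg₁]
          calc x * (g₁ * g) = (g₁ * g * x * (g₁ * g)⁻¹) * (g₁ * g) := by rw [e1]
            _ = g₁ * g * x := by group
        rw [conjPair_eq_self_of_mem_centralizer hblk h3] at h2
        exact toPair_injective x h2
      · intro hb
        rw [Set.mem_singleton_iff.1 hb]
        exact hβB
    unfold secCount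
    rw [hset, finsum_mem_singleton, ← blockRank_toPair p x β, hβ]
    show blockRank p (conjBlock _ g₁ (toPair u₁ b₁).2) = _
    rw [blockRank_conjBlock, blockRank_toPair]
  · rw [if_neg hc]
    unfold secCount
    apply finsum_mem_eq_zero_of_forall_eq_zero
    intro b hb
    exfalso
    apply hc
    obtain ⟨g, hgx, _⟩ := key b hb
    exact isConj_iff.2 ⟨g⁻¹, by rw [← hgx]; group⟩

section Reps

variable (X : Finset G) (hX : ∀ x ∈ X, ∃ k : ℕ, orderOf x = p ^ k)
  (hXrep : ∀ g : G, (∃ k : ℕ, orderOf g = p ^ k) → ∃! x, x ∈ X ∧ IsConj g x)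

include hXrep in
omit [Fintype G] in
theorem one_mem_reps : (1 : G) ∈ X := by
  obtain ⟨x, ⟨hxX, hxc⟩, _⟩ := hXrep 1 ⟨0, by simp⟩
  have : x = 1 := by
    obtain ⟨c, hc⟩ := isConj_iff.1 hxc
    rw [← hc]
    group
  rwa [this] at hxX

omit [Fintype G] in
theorem isPGroup_zpowers_of_orderOf {x : G} (hx : ∃ k : ℕ, orderOf x = p ^ k) :
    IsPGroup p (Subgroup.zpowers x) := by
  obtain ⟨k, hk⟩ := hx
  exact IsPGroup.of_card (n := k) (by rw [Nat.card_zpowers, hk])

include hXrep in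
open scoped Classical in
theorem card_le_sum_secCount (hM : IsPModular p M) {B : Set (IrrCharacter G)} {P : Subgroup G}
    {e : Set (IrrCharacter (Subgroup.centralizer (P : Set G)))}
    (hmax : IsMaximalBrauerPair p M B P e) (hab : ∀ x ∈ P, ∀ y ∈ P, x * y = y * x)
    (hT : ∀ y : G, y ∈ Subgroup.normalizer (P : Set G) →
      StabilizesBlock (Subgroup.centralizer (P : Set G)) e y →
      y ∈ Subgroup.centralizer (P : Set G))
    (U : Finset G) (hU : ∀ u ∈ U, u ∈ P ∧ u ≠ 1) :
    U.card ≤ ∑ x ∈ X.erase 1, secCount p M B x := by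
  classical
  haveI : Fact p.Prime := ⟨hM.1⟩
  have hP : IsPGroup p P := hmax.1.1.1
  have hr : ∀ u ∈ U, ∃ x, x ∈ X.erase 1 ∧ IsConj u x := by
    intro u hu
    obtain ⟨huP, hu1⟩ := hU u hu
    have hord : ∃ k : ℕ, orderOf u = p ^ k := by
      obtain ⟨k, hk⟩ := (IsPGroup.iff_orderOf.1 hP) ⟨u, huP⟩
      exact ⟨k, by rw [← hk, Subgroup.orderOf_mk]⟩
    obtain ⟨x, ⟨hxX, hxc⟩, _⟩ := hXrep u hord
    refine ⟨x, Finset.mem_erase.2 ⟨?_, hxX⟩, hxc⟩
    rintro rfl
    apply hu1
    obtain ⟨c, hc⟩ := isConj_iff.1 hxc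
    have e1 : u = c⁻¹ * (c * u * c⁻¹) * c := by group
    rw [e1, hc]
    group
  choose! r hr using hr
  rw [Finset.card_eq_sum_card_fiberwise (f := r) (s := U) (t := X.erase 1)
    (fun u hu => (hr u hu).1)]
  refine Finset.sum_le_sum fun x _ => ?_
  refine card_le_secCount hM hmax hab hT x _ fun u hu => ?_
  obtain ⟨huU, hux⟩ := Finset.mem_filter.1 hu
  exact ⟨(hU u huU).1, hux ▸ (hr u huU).2⟩

include hX hXrep in
open scoped Classical in
theorem sum_secCount_eq_of_trans (hM : IsPModular p M) {B : Set (IrrCharacter G)}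
    {P : Subgroup G}
    {e : Set (IrrCharacter (Subgroup.centralizer (P : Set G)))}
    (hmax : IsMaximalBrauerPair p M B P e)
    (htrans : ∀ u ∈ P, u ≠ 1 → ∀ u' ∈ P, u' ≠ 1 → ∃ y : G,
      (y ∈ Subgroup.normalizer (P : Set G) ∧
        StabilizesBlock (Subgroup.centralizer (P : Set G)) e y) ∧ y * u * y⁻¹ = u')
    {u₁ : G} (hu₁ : u₁ ∈ P) (hu₁1 : u₁ ≠ 1)
    {b₁ : Set (IrrCharacter (Subgroup.centralizer ({u₁} : Set G)))}
    (hle₁ : Relation.ReflTransGen (NormalSubpairRel p M) (toPair u₁ b₁) ⟨P, e⟩) :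
    ∑ x ∈ X.erase 1, secCount p M B x = blockRank p b₁ := by
  classical
  haveI : Fact p.Prime := ⟨hM.1⟩
  have hP : IsPGroup p P := hmax.1.1.1
  have hord : ∃ k : ℕ, orderOf u₁ = p ^ k := by
    obtain ⟨k, hk⟩ := (IsPGroup.iff_orderOf.1 hP) ⟨u₁, hu₁⟩
    exact ⟨k, by rw [← hk, Subgroup.orderOf_mk]⟩
  obtain ⟨x₀, ⟨hx₀X, hx₀c⟩, hx₀u⟩ := hXrep u₁ hord
  have hx₀1 : x₀ ≠ 1 := by
    rintro rfl
    apply hu₁1
    obtain ⟨c, hc⟩ := isConj_iff.1 hx₀c
    have e1 : u₁ = c⁻¹ * (c * u₁ * c⁻¹) * c := by group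
    rw [e1, hc]
    group
  have h1 : ∀ x ∈ X.erase 1, secCount p M B x = if IsConj u₁ x then blockRank p b₁ else 0 := by
    intro x hx
    obtain ⟨hx1, hxX⟩ := Finset.mem_erase.1 hx
    exact secCount_eq_of_trans hM hmax htrans hu₁ hu₁1 hle₁
      (isPGroup_zpowers_of_orderOf (hX x hxX)) hx1
  rw [Finset.sum_congr rfl h1, Finset.sum_eq_single x₀]
  · rw [if_pos hx₀c]
  · intro x hx hne
    rw [if_neg]
    intro hc
    exact hne (hx₀u x ⟨(Finset.mem_erase.1 hx).2, hc⟩)
  · intro h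
    exact absurd (Finset.mem_erase.2 ⟨hx₀1, hx₀X⟩) h

end Reps

end Cfsg.Agent.Lib.H22.Subsec
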