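import Mathlib
import Cfsg.Agent.Lib.H22.SubsecCount
import Cfsg.Agent.Lib.H22.KleinDefectCount
import Cfsg.Agent.S4511

/-!
# 2-blocks with a Klein four defect group: the number of Brauer characters (helper22)

`(P, e)` a maximal `B`-pair, `P` of order four and exponent two, `T = N_G(P, e)`.

* `blockRank_eq_one_of_klein`: if `T = C_G(P)` then `l(B) = 1`;
* `exists_descent`: the pair `(P, e)` seen inside `C_G(Q)`, `Q ≤ P`;
* `blockRank_eq_three_of_klein`: if `T` is transitive on `P ∖ 1` and acts freely, then `l(B) = 3`.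
-/

set_option autoImplicit false

namespace Cfsg.Agent.Lib.H22.Subsec

open Cfsg MonoidAlgebra Cfsg.Agent.Lib.H23 Cfsg.Agent.Lib.H24 Cfsg.Agent.Lib.L0
  Cfsg.Agent.Lib.L0.BrauerPairHom Cfsg.Agent.Lib.L0.BrauerLam
  Cfsg.Agent.Lib.L0.BrauerNormal Cfsg.Agent.Lib.L0.BrauerSubpair Cfsg.Agent.Lib.L0.BrauerConj
  Cfsg.Agent.Lib.L0.BrauerDefect Cfsg.Agent.Lib.L0.BrauerSylow Cfsg.Agent.Lib.L0.BrauerCentric
  Cfsg.Agent.Lib.L0.BlockOrbitCover Cfsg.Agent.Lib.L0.BrauerNormalizer
  Cfsg.Agent.Lib.L0.BrauerFully Cfsg.Agent.Lib.L0.BrauerRelative Cfsg.Agent.Lib.L0.BrauerStab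
  Cfsg.Agent.Lib.L0.BrauerAutomizer Cfsg.Agent.Lib.L0.BrauerAbelian
  Cfsg.Agent.Lib.L0.BrauerNilpotent Cfsg.Agent.Lib.L0.BlockRankTrace
  Cfsg.Agent.Lib.H22.KleinDefect
open scoped ComplexConjugate

section Reps

variable (G : Type*) [Group G] [Fintype G]

theorem exists_reps (p : ℕ) : ∃ X : Finset G, (∀ x ∈ X, ∃ k : ℕ, orderOf x = p ^ k) ∧
    ∀ g : G, (∃ k : ℕ, orderOf g = p ^ k) → ∃! x, x ∈ X ∧ IsConj g x := by
  classical
  refine ⟨Finset.univ.filter
    (fun g : G => (ConjClasses.mk g).out = g ∧ ∃ k : ℕ, orderOf g = p ^ k), ?_, ?_⟩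
  · intro x hx
    exact (Finset.mem_filter.1 hx).2.2
  · intro g hg
    have h1 : ConjClasses.mk (ConjClasses.mk g).out = ConjClasses.mk g :=
      Quotient.out_eq (ConjClasses.mk g)
    have hc : IsConj g (ConjClasses.mk g).out := ConjClasses.mk_eq_mk_iff_isConj.1 h1.symm
    refine ⟨(ConjClasses.mk g).out, ⟨Finset.mem_filter.2 ⟨Finset.mem_univ _, by rw [h1], ?_⟩, hc⟩,
      ?_⟩
    · obtain ⟨k, hk⟩ := hg
      obtain ⟨c, hcc⟩ := isConj_iff.1 hc
      refine ⟨k, ?_⟩
      rw [← hk, ← hcc]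
      exact MulEquiv.orderOf_eq (MulAut.conj c) g
    · rintro y ⟨hy, hyc⟩
      have h2 := (Finset.mem_filter.1 hy).2.1
      rw [← h2, ConjClasses.mk_eq_mk_iff_isConj.2 hyc.symm]

end Reps

variable {G : Type*} [Group G] [Fintype G] {M : Ideal AlgInt}

omit [Fintype G] in
theorem comm_of_sq {P : Subgroup G} (hexp : ∀ x ∈ P, x * x = 1) :
    ∀ x ∈ P, ∀ y ∈ P, x * y = y * x := by
  intro x hx y hy
  have hx' : x⁻¹ = x := inv_eq_of_mul_eq_one_left (hexp x hx)
  have hy' : y⁻¹ = y := inv_eq_of_mul_eq_one_left (hexp y hy)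
  have hxy : (x * y)⁻¹ = x * y := inv_eq_of_mul_eq_one_left (hexp (x * y) (P.mul_mem hx hy))
  calc x * y = (x * y)⁻¹ := hxy.symm
    _ = y⁻¹ * x⁻¹ := mul_inv_rev x y
    _ = y * x := by rw [hx', hy']

open scoped Classical in
theorem card_nonidentity {P : Subgroup G} (hcard : Nat.card P = 4) :
    (Finset.univ.filter (fun g : G => g ∈ P ∧ g ≠ 1)).card = 3 := by
  have h1 : (Finset.univ.filter (fun g : G => g ∈ P)).card = 4 := by
    rw [← hcard, Nat.card_eq_fintype_card, Fintype.card_subtype]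
  have h2 : Finset.univ.filter (fun g : G => g ∈ P ∧ g ≠ 1) =
      (Finset.univ.filter (fun g : G => g ∈ P)).erase 1 := by
    ext g
    simp only [Finset.mem_filter, Finset.mem_univ, true_and, Finset.mem_erase]
    tauto
  rw [h2, Finset.card_erase_of_mem (by simp [P.one_mem]), h1]

theorem defect_eq_two (hM : IsPModular 2 M) {B : Set (IrrCharacter G)} {P : Subgroup G}
    {e : Set (IrrCharacter (Subgroup.centralizer (P : Set G)))}
    (hmax : IsMaximalBrauerPair 2 M B P e) (hcard : Nat.card P = 4) : blockDefect 2 B = 2 := by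
  have hD := isDefectGroup_of_maximal hM hmax
  have h1 := card_of_isDefectGroup hM hmax.1.2.1 hD
  rw [hcard] at h1
  have h2 : (2 : ℕ) ^ 2 = 2 ^ blockDefect 2 B := by rw [← h1]; norm_num
  exact (Nat.pow_right_injective (le_refl 2) h2).symm

theorem natCard_eq_four (hM : IsPModular 2 M) {B : Set (IrrCharacter G)} {P : Subgroup G}
    {e : Set (IrrCharacter (Subgroup.centralizer (P : Set G)))}
    (hmax : IsMaximalBrauerPair 2 M B P e) (hcard : Nat.card P = 4) : Nat.card B = 4 := by
  have hd := defect_eq_two hM hmax hcard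
  obtain ⟨χ₁, rfl⟩ := hmax.1.2.1
  exact natCard_blockOf_eq_four hM χ₁ hd

open scoped Classical in
/-- Brauer's formula with the contribution of `1` split off. -/
theorem card_eq_rank_add_sum (hM : IsPModular 2 M) {B : Set (IrrCharacter G)}
    (hB : IsPBlock M B) (X : Finset G)
    (hX : ∀ x ∈ X, ∃ k : ℕ, orderOf x = 2 ^ k)
    (hXrep : ∀ g : G, (∃ k : ℕ, orderOf g = 2 ^ k) → ∃! x, x ∈ X ∧ IsConj g x) :
    Nat.card B = blockRank 2 B + ∑ x ∈ X.erase 1, secCount 2 M B x := by
  haveI hPr := isPrime_of_isPModular hM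
  have h := Cfsg.Agent.S4511.result 2 M hM B hB X hX hXrep
  have h' : Nat.card B = ∑ x ∈ X, secCount 2 M B x := h
  rw [h', ← Finset.add_sum_erase X _ (one_mem_reps X hXrep)]
  congr 1
  exact finsum_induced_one hB

/-- **`l(B) = 1`** when the inertial group of a Klein four maximal pair is `C_G(P)`. -/
theorem blockRank_eq_one_of_klein (hM : IsPModular 2 M) {B : Set (IrrCharacter G)}
    {P : Subgroup G} {e : Set (IrrCharacter (Subgroup.centralizer (P : Set G)))}
    (hmax : IsMaximalBrauerPair 2 M B P e) (hcard : Nat.card P = 4)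
    (hexp : ∀ x ∈ P, x * x = 1)
    (hT : ∀ y : G, y ∈ Subgroup.normalizer (P : Set G) →
      StabilizesBlock (Subgroup.centralizer (P : Set G)) e y →
      y ∈ Subgroup.centralizer (P : Set G)) : blockRank 2 B = 1 := by
  classical
  haveI hPr := isPrime_of_isPModular hM
  have hB : IsPBlock M B := hmax.1.2.1
  have hab := comm_of_sq hexp
  obtain ⟨X, hX, hXrep⟩ := exists_reps G 2
  have h1 := card_eq_rank_add_sum hM hB X hX hXrep
  rw [natCard_eq_four hM hmax hcard] at h1
  have h2 := card_le_sum_secCount X hXrep hM hmax hab hT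
    (Finset.univ.filter (fun g : G => g ∈ P ∧ g ≠ 1))
    (fun u hu => (Finset.mem_filter.1 hu).2)
  rw [card_nonidentity hcard] at h2
  have h3 := blockRank_pos hB Nat.prime_two
  omega

section Descent

variable {p : ℕ}

/-- The maximal pair `(P, c)` seen inside `C_G(Q)` for `Q ≤ P`, `P` abelian. -/
theorem exists_descent (hM : IsPModular p M) {B : Set (IrrCharacter G)} {P : Subgroup G}
    {c : Set (IrrCharacter (Subgroup.centralizer (P : Set G)))}
    (hmax : IsMaximalBrauerPair p M B P c) (hab : ∀ x ∈ P, ∀ y ∈ P, x * y = y * x)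
    {Q : Subgroup G} {f₁ : Set (IrrCharacter (Subgroup.centralizer (Q : Set G)))}
    (hf₁ : IsPBlock M f₁) (hle : SubpairLE p M Q f₁ P c)
    (hfree : ∀ g : G, g ∈ Subgroup.centralizer (Q : Set G) →
        g ∈ Subgroup.normalizer (P : Set G) →
        StabilizesBlock (Subgroup.centralizer (P : Set G)) c g →
        g ∈ Subgroup.centralizer (P : Set G)) :
    ∃ b' : BrauerPairIdx (Subgroup.centralizer (Q : Set G)),
      b'.1 = P.subgroupOf (Subgroup.centralizer (Q : Set G)) ∧
      IsMaximalBrauerPair p M f₁ b'.1 b'.2 ∧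
      ∀ x : Subgroup.centralizer (Q : Set G),
        x ∈ Subgroup.normalizer (b'.1 : Set (Subgroup.centralizer (Q : Set G))) →
        StabilizesBlock (Subgroup.centralizer (b'.1 : Set (Subgroup.centralizer (Q : Set G))))
          b'.2 x →
        x ∈ Subgroup.centralizer (b'.1 : Set (Subgroup.centralizer (Q : Set G))) := by
  classical
  haveI hPr := isPrime_of_isPModular hM
  have hPe : IsBrauerPair p M P c := hmax.1.1
  have hQP : Q ≤ P := fst_le_of_reflTransGen (a := ⟨Q, f₁⟩) (b := ⟨P, c⟩) hle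
  have hPK : P ≤ Subgroup.centralizer (Q : Set G) := le_centralizer_of_abelian hab hQP
  have hCK : Subgroup.centralizer (P : Set G) ≤ Subgroup.centralizer (Q : Set G) :=
    Subgroup.centralizer_le hQP
  have hCN := Subgroup.centralizer_le_normalizer ((Q : Subgroup G) : Set G)
  have hnorm : IsNormalSubpair p M Q f₁ P c :=
    normalSubpair_of_subpairLE hM (a := ⟨Q, f₁⟩) (c := ⟨P, c⟩) hle hPe (hPK.trans hCN)
  have hloc : LocalMax p M P Q f₁ (fun Q' => Subgroup.centralizer (Q' : Set G)) := by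
    refine localMax_of_fully hM hmax hle _ map_conj_centralizer_le fun y hy => ?_
    have hyP : Q.map (MulAut.conj y).toMonoidHom ≤ P :=
      fst_le_of_reflTransGen (a := ⟨_, conjBlock Q y f₁⟩) (b := ⟨P, c⟩) hy
    have h1 : P ⊓ Subgroup.centralizer
        ((Q.map (MulAut.conj y).toMonoidHom : Subgroup G) : Set G) = P :=
      inf_eq_left.2 (le_centralizer_of_abelian hab hyP)
    have h2 : P ⊓ Subgroup.centralizer (Q : Set G) = P := inf_eq_left.2 hPK
    show Nat.card ↥(P ⊓ Subgroup.centralizer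
      ((Q.map (MulAut.conj y).toMonoidHom : Subgroup G) : Set G)) ≤
      Nat.card ↥(P ⊓ Subgroup.centralizer (Q : Set G))
    rw [h1, h2]
  have hD := isDefectGroup_centralizer_of_localMax hM hPe hf₁ hle hloc
  rw [inf_eq_left.2 hPK] at hD
  obtain ⟨b', hb1, hb2, hb3⟩ := exists_up_eq (Subgroup.centralizer (Q : Set G)) hPK hCK hPe.2
  have hup : upSub (Subgroup.centralizer (Q : Set G)) b'.1 = P := by
    rw [hb1, upSub_subgroupOf _ hPK]
  have hCb : Subgroup.centralizer
      ((upSub (Subgroup.centralizer (Q : Set G)) b'.1 : Subgroup G) : Set G) ≤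
      Subgroup.centralizer (Q : Set G) := by
    rw [hup]; exact hCK
  have hb'p : IsBrauerPair p M b'.1 b'.2 := by
    refine ⟨?_, hb2⟩
    rw [hb1]
    exact hPe.1.comap_subtype
  have hfc : ∀ t : Subgroup.centralizer (Q : Set G), blockCoeff f₁ t =
      subgroupBlockCoeff (Subgroup.centralizer (Q : Set G)) f₁ (t : G) := by
    intro t
    unfold subgroupBlockCoeff
    rw [dif_pos t.2]
  have hb'F : IsBrauerPairOf p M f₁ b'.1 b'.2 := by
    refine isBrauerPairOf_of_up _ hf₁ hfc hb'p hCb ?_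
    rw [hb3]
    exact hnorm
  have hmax' : IsMaximalBrauerPair p M f₁ b'.1 b'.2 := by
    refine isMaximal_of_isDefectGroup hM hb'F ?_
    rw [hb1]
    exact hD
  refine ⟨b', hb1, hmax', ?_⟩
  intro x hxN hxst
  have hst1 := stabilizesBlock_up _ hCb hxst
  have hst2 := (Cfsg.Agent.Lib.L0.AbelianInertial.stabilizesBlock_congr hb3 (x : G)).1 hst1
  have hN : (x : G) ∈ Subgroup.normalizer (P : Set G) := by
    rw [hb1] at hxN
    rw [Subgroup.mem_normalizer_iff]
    intro g
    constructor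
    · intro hg
      have h5 := (Subgroup.mem_normalizer_iff.1 hxN ⟨g, hPK hg⟩).1
        (Subgroup.mem_subgroupOf.2 hg)
      exact Subgroup.mem_subgroupOf.1 h5
    · intro hg
      have hgK : g ∈ Subgroup.centralizer (Q : Set G) := by
        have h6 := hPK hg
        have h7 : g = (x : G)⁻¹ * ((x : G) * g * (x : G)⁻¹) * (x : G) := by group
        rw [h7]
        exact Subgroup.mul_mem _ (Subgroup.mul_mem _ (Subgroup.inv_mem _ x.2) h6) x.2
      have h5 := (Subgroup.mem_normalizer_iff.1 hxN ⟨g, hgK⟩).2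
        (Subgroup.mem_subgroupOf.2 hg)
      exact Subgroup.mem_subgroupOf.1 h5
  have h3 := hfree (x : G) x.2 hN hst2
  apply mem_centralizer_of_coe_mem _ b'.1
  rw [hup]
  exact h3

end Descent

/-- `l(b_u) = 1` for a subsection `(u, b_u)` below `(P, e)` on which the inertial group acts
freely. -/
theorem blockRank_sub_eq_one (hM : IsPModular 2 M) {B : Set (IrrCharacter G)}
    {P : Subgroup G} {e : Set (IrrCharacter (Subgroup.centralizer (P : Set G)))}
    (hmax : IsMaximalBrauerPair 2 M B P e) (hcard : Nat.card P = 4)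
    (hexp : ∀ x ∈ P, x * x = 1) {u : G}
    {b : Set (IrrCharacter (Subgroup.centralizer ({u} : Set G)))} (hb : IsPBlock M b)
    (hle : Relation.ReflTransGen (NormalSubpairRel 2 M) (toPair u b) ⟨P, e⟩)
    (hfree : ∀ y : G, y ∈ Subgroup.normalizer (P : Set G) →
      StabilizesBlock (Subgroup.centralizer (P : Set G)) e y → y * u * y⁻¹ = u →
      y ∈ Subgroup.centralizer (P : Set G)) :
    blockRank 2 b = 1 := by
  classical
  have hab := comm_of_sq hexp
  have hblk : IsPBlock M (toPair u b).2 := (isPBlock_toPair u b).2 hb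
  have hfree' : ∀ g : G, g ∈ Subgroup.centralizer (((toPair u b).1 : Subgroup G) : Set G) →
      g ∈ Subgroup.normalizer (P : Set G) →
      StabilizesBlock (Subgroup.centralizer (P : Set G)) e g →
      g ∈ Subgroup.centralizer (P : Set G) := by
    intro g hg hgN hgst
    refine hfree g hgN hgst ?_
    have h1 := Subgroup.mem_centralizer_iff.1 hg u (Subgroup.mem_zpowers u)
    rw [← h1]
    group
  obtain ⟨b', hb1, hmax', hT'⟩ := exists_descent hM hmax hab hblk hle hfree'
  haveI : Fintype (Subgroup.centralizer (((toPair u b).1 : Subgroup G) : Set G)) :=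
    Fintype.ofFinite _
  have hPK : P ≤ Subgroup.centralizer (((toPair u b).1 : Subgroup G) : Set G) :=
    le_centralizer_of_abelian hab
      (fst_le_of_reflTransGen (a := toPair u b) (b := ⟨P, e⟩) hle)
  have hcard' : Nat.card b'.1 = 4 := by
    rw [hb1, ← hcard]
    exact Nat.card_congr (Subgroup.subgroupOfEquivOfLe hPK).toEquiv
  have hexp' : ∀ x ∈ b'.1, x * x = 1 := by
    intro x hx
    rw [hb1] at hx
    apply Subtype.ext
    exact hexp (x : G) (Subgroup.mem_subgroupOf.1 hx)
  have h1 := blockRank_eq_one_of_klein hM hmax' hcard' hexp' hT'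
  rw [← blockRank_toPair 2 u b]
  exact h1

/-- **`l(B) = 3`** when the inertial group is transitive on `P ∖ 1` and acts freely. -/
theorem blockRank_eq_three_of_klein (hM : IsPModular 2 M) {B : Set (IrrCharacter G)}
    {P : Subgroup G} {e : Set (IrrCharacter (Subgroup.centralizer (P : Set G)))}
    (hmax : IsMaximalBrauerPair 2 M B P e) (hcard : Nat.card P = 4)
    (hexp : ∀ x ∈ P, x * x = 1)
    (htrans : ∀ u ∈ P, u ≠ 1 → ∀ u' ∈ P, u' ≠ 1 → ∃ y : G,
      (y ∈ Subgroup.normalizer (P : Set G) ∧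
        StabilizesBlock (Subgroup.centralizer (P : Set G)) e y) ∧ y * u * y⁻¹ = u')
    (hfree : ∀ y : G, y ∈ Subgroup.normalizer (P : Set G) →
      StabilizesBlock (Subgroup.centralizer (P : Set G)) e y → ∀ u ∈ P, u ≠ 1 →
      y * u * y⁻¹ = u → y ∈ Subgroup.centralizer (P : Set G)) : blockRank 2 B = 3 := by
  classical
  haveI hPr := isPrime_of_isPModular hM
  have hB : IsPBlock M B := hmax.1.2.1
  obtain ⟨X, hX, hXrep⟩ := exists_reps G 2
  have h1 := card_eq_rank_add_sum hM hB X hX hXrep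
  rw [natCard_eq_four hM hmax hcard] at h1
  -- a non-identity element of `P`
  have hne : (Finset.univ.filter (fun g : G => g ∈ P ∧ g ≠ 1)).Nonempty := by
    rw [← Finset.card_pos, card_nonidentity hcard]
    norm_num
  obtain ⟨u₁, hu⟩ := hne
  obtain ⟨hu₁, hu₁1⟩ := (Finset.mem_filter.1 hu).2
  obtain ⟨b₁, hb₁B, hle₁⟩ := exists_sub hM hmax hu₁
  have h2 := sum_secCount_eq_of_trans X hX hXrep hM hmax htrans hu₁ hu₁1 hle₁
  have h3 := blockRank_sub_eq_one hM hmax hcard hexp hb₁B.1 hle₁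
    (fun y hyN hyst hyu => hfree y hyN hyst u₁ hu₁ hu₁1 hyu)
  omega

end Cfsg.Agent.Lib.H22.Subsec
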