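import Mathlib
import Cfsg.Agent.Lib.H22.KleinE1

/-!
helper22 library (S4645, piece (E1)): a block `f` with maximal pair `(D, e)`, `D` abelian, trivial inertial quotient:
`l(f) + (|D| - 1) ≤ k(f)`.  Exact signature of `tools/blueprints/S4645_sigs.lean`.
-/

set_option autoImplicit false

namespace Cfsg.Agent.Lib.H22.CY

open Cfsg Cfsg.Agent.Lib.H23 Cfsg.Agent.Lib.H22.Subsec

variable {K : Type*} [Group K] [Fintype K] {p : ℕ} {M : Ideal Cfsg.AlgInt}

open scoped Classical in
/-- Brauer's formula with the contribution of `1` split off (general `p`). -/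
theorem card_eq_rank_add_sum_gen (hM : Cfsg.IsPModular p M) {B : Set (Cfsg.IrrCharacter K)}
    (hB : Cfsg.IsPBlock M B) (X : Finset K)
    (hX : ∀ x ∈ X, ∃ k : ℕ, orderOf x = p ^ k)
    (hXrep : ∀ g : K, (∃ k : ℕ, orderOf g = p ^ k) → ∃! x, x ∈ X ∧ IsConj g x) :
    Nat.card B = Cfsg.blockRank p B + ∑ x ∈ X.erase 1, secCount p M B x := by
  haveI hPr := isPrime_of_isPModular hM
  have h := Cfsg.Agent.S4511.result p M hM B hB X hX hXrep
  have h' : Nat.card B = ∑ x ∈ X, secCount p M B x := h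
  rw [h', ← Finset.add_sum_erase X _ (one_mem_reps X hXrep)]
  congr 1
  exact finsum_induced_one hB

open scoped Classical in
theorem card_nonidentity_gen (D : Subgroup K) :
    (Finset.univ.filter (fun g : K => g ∈ D ∧ g ≠ 1)).card = Nat.card D - 1 := by
  have h1 : (Finset.univ.filter (fun g : K => g ∈ D)).card = Nat.card D := by
    rw [Nat.card_eq_fintype_card, Fintype.card_subtype]
  have h2 : Finset.univ.filter (fun g : K => g ∈ D ∧ g ≠ 1) =
      (Finset.univ.filter (fun g : K => g ∈ D)).erase 1 := by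
    ext g
    simp only [Finset.mem_filter, Finset.mem_univ, true_and, Finset.mem_erase]
    tauto
  rw [h2, Finset.card_erase_of_mem (by simp [D.one_mem]), h1]

/-- (E1) LOWER BOUND `l(f) + (|D| - 1) ≤ k(f)`. -/
theorem rank_add_le_card (hM : Cfsg.IsPModular p M) {f : Set (Cfsg.IrrCharacter K)}
    {D : Subgroup K} {e : Set (Cfsg.IrrCharacter (Subgroup.centralizer (D : Set K)))}
    (hmax : Cfsg.IsMaximalBrauerPair p M f D e) (hab : ∀ x ∈ D, ∀ y ∈ D, x * y = y * x)
    (hT : ∀ y : K, y ∈ Subgroup.normalizer (D : Set K) →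
      Cfsg.StabilizesBlock (Subgroup.centralizer (D : Set K)) e y →
      y ∈ Subgroup.centralizer (D : Set K)) :
    Cfsg.blockRank p f + (Nat.card D - 1) ≤ Nat.card f := by
  classical
  have hB : Cfsg.IsPBlock M f := hmax.1.2.1
  obtain ⟨X, hX, hXrep⟩ := exists_reps K p
  have h1 := card_eq_rank_add_sum_gen hM hB X hX hXrep
  have h2 := card_le_sum_secCount X hXrep hM hmax hab hT
    (Finset.univ.filter (fun g : K => g ∈ D ∧ g ≠ 1))
    (fun u hu => (Finset.mem_filter.1 hu).2)
  rw [card_nonidentity_gen D] at h2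
  omega

end Cfsg.Agent.Lib.H22.CY
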