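import Mathlib
import Cfsg.Agent.Lib.H22.KleinE1
import Cfsg.Agent.Lib.H23.CYE23
import Cfsg.Agent.Lib.H23.MaxPairB

/-!
helper22 library (S4645, piece (E2)): a block `f` with a maximal pair `(D, e)`, `D` abelian, trivial inertial
quotient: all heights in `f` are zero.  Glue around helper23's `H23.CY.height_zero_of_inertial_one` (statement-level
S4715) with the covering block of `D C(D)` from `H23.MaxPair`.  Exact signature of `tools/blueprints/S4645_sigs.lean`.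
-/

set_option autoImplicit false

namespace Cfsg.Agent.Lib.H22.CY

open Cfsg Cfsg.Agent.Lib.H23 Cfsg.Agent.Lib.H23.MaxPair
  Cfsg.Agent.Lib.L0.BrauerDefect

variable {K : Type*} [Group K] [Fintype K] {p : ℕ} {M : Ideal Cfsg.AlgInt}

/-- (E2) ALL HEIGHTS ARE ZERO. -/
theorem heights_zero [Fact p.Prime] (hM : Cfsg.IsPModular p M) {f : Set (Cfsg.IrrCharacter K)}
    {D : Subgroup K} {e : Set (Cfsg.IrrCharacter (Subgroup.centralizer (D : Set K)))}
    (hmax : Cfsg.IsMaximalBrauerPair p M f D e) (hab : ∀ x ∈ D, ∀ y ∈ D, x * y = y * x)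
    (hT : ∀ y : K, y ∈ Subgroup.normalizer (D : Set K) →
      Cfsg.StabilizesBlock (Subgroup.centralizer (D : Set K)) e y →
      y ∈ Subgroup.centralizer (D : Set K)) :
    ∀ χ ∈ f, Cfsg.blockHeight p f (χ : K → ℂ) = 0 := by
  classical
  haveI hPr := isPrime_of_isPModular hM
  haveI : Fintype (CC D) := Fintype.ofFinite _
  have hf : Cfsg.IsPBlock M f := hmax.1.2.1
  have hPe : Cfsg.IsBrauerPair p M D e := hmax.1.1
  have hDp : IsPGroup p D := hPe.1
  have hfD : Cfsg.IsDefectGroup p M f D := isDefectGroup_of_maximal hM hmax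
  have hind : Cfsg.IsInducedBlock M (CC D) e f := isInducedBlock_of_pair hM hmax.1
  obtain ⟨θ, rfl⟩ := hPe.2
  obtain ⟨χ₀, hover⟩ := exists_over D θ
  have hhat := isInducedBlock_hat D hM hDp θ χ₀ hover f hind
  have hTmem : ∀ g : K, g ∈ stabT D (Cfsg.blockOf M (θ : CC D → ℂ)) ↔
      (g ∈ Subgroup.normalizer (D : Set K) ∧
        ∀ χ ∈ Cfsg.blockOf M (χ₀ : HH D → ℂ), ∀ χ' : Cfsg.IrrCharacter (HH D),
          (∀ h h' : HH D, (h' : K) = g * h * g⁻¹ → (χ' : HH D → ℂ) h' = (χ : HH D → ℂ) h) →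
            χ' ∈ Cfsg.blockOf M (χ₀ : HH D → ℂ)) := by
    intro g
    rw [mem_stabT (M := M) D ⟨θ, rfl⟩ g]
    constructor
    · rintro ⟨hg, hst⟩
      exact ⟨hg, (stab_iff D hM hDp θ χ₀ hover g hg).1 hst⟩
    · rintro ⟨hg, hst⟩
      exact ⟨hg, (stab_iff D hM hDp θ χ₀ hover g hg).2 hst⟩
  have he : (HH D).relIndex (stabT D (Cfsg.blockOf M (θ : CC D → ℂ))) = 1 := by
    rw [Subgroup.relIndex_eq_one]
    intro g hg
    obtain ⟨hgN, hgst⟩ := (mem_stabT (M := M) D ⟨θ, rfl⟩ g).1 hg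
    exact CC_le_HH D (hT g hgN hgst)
  exact Cfsg.Agent.Lib.H23.CY.height_zero_of_inertial_one p M hM f hf D hfD hab (HH D) rfl
    (Cfsg.blockOf M (χ₀ : HH D → ℂ)) hhat (stabT D (Cfsg.blockOf M (θ : CC D → ℂ))) hTmem he

end Cfsg.Agent.Lib.H22.CY
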