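import Mathlib
import Cfsg.Agent.Lib.H22.KleinE1
import Cfsg.Agent.Lib.H23.CYE23

/-!
helper22 library (S4645, piece (E3)): a block `f` all of whose characters have height zero, with a maximal pair
`(D, e)`, `D` cyclic: `k(f) ≤ |D|`.  Glue around helper23's `H23.CY.card_le_pow_of_major_central`.
Exact signature of `tools/blueprints/S4645_sigs.lean`.
-/

set_option autoImplicit false

namespace Cfsg.Agent.Lib.H22.CY

open Cfsg Cfsg.Agent.Lib.H23 Cfsg.Agent.Lib.H22.Subsec
  Cfsg.Agent.Lib.L0.BrauerDefect Cfsg.Agent.Lib.L0.BrauerFully Cfsg.Agent.Lib.L0.BrauerStab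
  Cfsg.Agent.Lib.L0.BrauerAutomizer Cfsg.Agent.Lib.L0.BrauerAbelian

variable {K : Type*} [Group K] [Fintype K] {p : ℕ} {M : Ideal Cfsg.AlgInt}

omit [Fintype K] in
/-- transport of defect data along an equality of subgroups. -/
theorem transport_castB {H H' : Subgroup K} (h : H = H') (b : Set (Cfsg.IrrCharacter H))
    (D' : Subgroup H) (hD : Cfsg.IsDefectGroup p M b D') (hZ : D' ≤ Subgroup.center H) :
    Cfsg.blockDefect p (castB h b) = Cfsg.blockDefect p b ∧
      ∃ D'' : Subgroup H', Cfsg.IsDefectGroup p M (castB h b) D'' ∧ D'' ≤ Subgroup.center H' := by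
  subst h
  exact ⟨rfl, D', hD, hZ⟩

/-- (E3) UPPER BOUND `k(f) ≤ |D|` for CYCLIC `D`. -/
theorem card_le_of_cyclic [Fact p.Prime] (hM : Cfsg.IsPModular p M) {f : Set (Cfsg.IrrCharacter K)}
    {D : Subgroup K} {e : Set (Cfsg.IrrCharacter (Subgroup.centralizer (D : Set K)))}
    (hmax : Cfsg.IsMaximalBrauerPair p M f D e) (hcyc : IsCyclic D)
    (hh : ∀ χ ∈ f, Cfsg.blockHeight p f (χ : K → ℂ) = 0) :
    Nat.card f ≤ Nat.card D := by
  classical
  haveI hPr := isPrime_of_isPModular hM
  haveI : Fintype (Subgroup.centralizer (D : Set K)) := Fintype.ofFinite _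
  have hf : Cfsg.IsPBlock M f := hmax.1.2.1
  have hPe : Cfsg.IsBrauerPair p M D e := hmax.1.1
  have hDp : IsPGroup p D := hPe.1
  have hfD : Cfsg.IsDefectGroup p M f D := isDefectGroup_of_maximal hM hmax
  have hcard : Nat.card D = p ^ Cfsg.blockDefect p f := card_of_isDefectGroup hM hf hfD
  -- a generator
  obtain ⟨g, hg⟩ := hcyc.exists_generator
  have hDy : D = Subgroup.zpowers (g : K) := by
    apply le_antisymm
    · intro x hx
      obtain ⟨n, hn⟩ := Subgroup.mem_zpowers_iff.1 (hg ⟨x, hx⟩)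
      refine Subgroup.mem_zpowers_iff.2 ⟨n, ?_⟩
      have := congrArg Subtype.val hn
      simpa using this
    · rw [Subgroup.zpowers_le]
      exact g.2
  have hy : ∃ k : ℕ, orderOf (g : K) = p ^ k := by
    obtain ⟨k, hk⟩ := (IsPGroup.iff_orderOf.1 hDp) g
    exact ⟨k, by rw [← hk, Subgroup.orderOf_coe]⟩
  have hab : ∀ x ∈ D, ∀ y ∈ D, x * y = y * x := by
    intro x hx y hy
    obtain ⟨m, hm⟩ := Subgroup.mem_zpowers_iff.1 (hg ⟨x, hx⟩)
    obtain ⟨n, hn⟩ := Subgroup.mem_zpowers_iff.1 (hg ⟨y, hy⟩)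
    have h1 : (⟨x, hx⟩ : D) * ⟨y, hy⟩ = ⟨y, hy⟩ * ⟨x, hx⟩ := by
      rw [← hm, ← hn]
      exact ((Commute.refl g).zpow_zpow m n).eq
    exact congrArg Subtype.val h1
  have heq : Subgroup.centralizer (D : Set K) = Subgroup.centralizer ({(g : K)} : Set K) := by
    rw [← centralizer_zpowers' (g : K), ← hDy]
  -- `e` has defect group `D` (as a subgroup of `C_K(D)`)
  have hDdef := (fong_of_localMax hM hPe hPe.2
    (Relation.ReflTransGen.refl : Cfsg.SubpairLE p M D e D e)
    (localMax_of_maximal hM hmax _) (stabSub D e) (mem_stabSub_iff D hPe.2)).1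
  have hDC : D ≤ Subgroup.centralizer (D : Set K) := by
    intro x hx
    rw [Subgroup.mem_centralizer_iff]
    intro d hd
    exact hab d hd x hx
  have hinf : D ⊓ Subgroup.centralizer (D : Set K) = D := inf_eq_left.2 hDC
  rw [hinf] at hDdef
  have hZ : D.subgroupOf (Subgroup.centralizer (D : Set K)) ≤
      Subgroup.center (Subgroup.centralizer (D : Set K)) := by
    intro x hx
    rw [Subgroup.mem_center_iff]
    intro z
    apply Subtype.ext
    have h1 := Subgroup.mem_centralizer_iff.1 z.2 (x : K) (Subgroup.mem_subgroupOf.1 hx)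
    simpa using h1.symm
  have hcard' : Nat.card (D.subgroupOf (Subgroup.centralizer (D : Set K))) = Nat.card D :=
    Nat.card_congr (Subgroup.subgroupOfEquivOfLe hDC).toEquiv
  have hed : Cfsg.blockDefect p e = Cfsg.blockDefect p f := by
    have h1 := card_of_isDefectGroup hM hPe.2 hDdef
    rw [hcard', hcard] at h1
    exact (Nat.pow_right_injective (Fact.out : p.Prime).two_le h1).symm
  obtain ⟨hbd, D'', hD'', hZ''⟩ := transport_castB heq e _ hDdef hZ
  have hind : Cfsg.IsInducedBlock M (Subgroup.centralizer ({(g : K)} : Set K)) (castB heq e) f :=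
    (isInducedBlock_castB heq e f).2 (isInducedBlock_of_pair hM hmax.1)
  have h := Cfsg.Agent.Lib.H23.CY.card_le_pow_of_major_central p M hM f hf
    (Cfsg.blockDefect p f) rfl hh (g : K) hy (castB heq e) hind (hbd.trans hed) D'' hD'' hZ''
  rw [hcard]
  exact h

end Cfsg.Agent.Lib.H22.CY
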