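import Mathlib
import Cfsg.Agent.Lib.H12.CYDefs
import Cfsg.Agent.Lib.H28.CYKER

/-!
# S1950, piece NCE (helper22): `|N_G(P) : C_G(P)| = |fusE p z|` for a cyclic Sylow `p`-subgroup `P` and `z ∈ P` of
order `p`.  Exact statement of `tools/blueprints/S1950_final_forms_h12.lean`.
-/

set_option autoImplicit false

namespace Cfsg.Agent.Lib.H22.CY

open Cfsg Cfsg.Agent.Lib.H12.CY

variable {G : Type*} [Group G] [Finite G] {p : ℕ} [Fact p.Prime]

/-- an element of `N_G(P)` conjugates `z` to a natural power of `z`. -/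
theorem exists_pow_of_mem_normalizer (P : Sylow p G) (hP : IsCyclic ↥(P : Subgroup G))
    {z : G} (hzP : z ∈ (P : Subgroup G)) (hz : orderOf z = p) {g : G}
    (hgN : g ∈ Subgroup.normalizer ((P : Subgroup G) : Set G)) : ∃ k : ℕ, g * z * g⁻¹ = z ^ k := by
  have hp : p.Prime := Fact.out
  have hconjP : g * z * g⁻¹ ∈ (P : Subgroup G) :=
    ((Subgroup.mem_normalizer_iff.1 hgN) z).1 hzP
  have hord : orderOf (g * z * g⁻¹) = p := by
    have : g * z * g⁻¹ = MulAut.conj g z := rfl
    rw [this, MulEquiv.orderOf_eq, hz]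
  have hmem : (⟨g * z * g⁻¹, hconjP⟩ : ↥(P : Subgroup G)) ∈
      Subgroup.zpowers (⟨z, hzP⟩ : ↥(P : Subgroup G)) := by
    apply Cfsg.Agent.Lib.H20.mem_zpowers_of_orderOf_dvd_of_isCyclic
    rw [Subgroup.orderOf_mk, Subgroup.orderOf_mk, hord, hz]
  obtain ⟨k, hk⟩ := Subgroup.mem_zpowers_iff.1 hmem
  have hk' : z ^ k = g * z * g⁻¹ := by
    have := congrArg Subtype.val hk
    simpa using this
  have hzpow : z ^ k = z ^ (k % (p : ℤ)).toNat := by
    have h1 : z ^ (k % (p : ℤ)) = z ^ k := by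
      rw [← hz]; exact zpow_mod_orderOf z k
    have h2 : 0 ≤ k % (p : ℤ) := Int.emod_nonneg _ (by exact_mod_cast hp.ne_zero)
    rw [← h1]
    conv_lhs => rw [← Int.toNat_of_nonneg h2]
    exact zpow_natCast z _
  exact ⟨(k % (p : ℤ)).toNat, by rw [← hzpow, hk']⟩

/-- NCE. -/
theorem relIndex_eq_card_fusE (P : Sylow p G) (hP : IsCyclic ↥(P : Subgroup G))
    {z : G} (hzP : z ∈ (P : Subgroup G)) (hz : orderOf z = p) :
    (Subgroup.centralizer ((P : Subgroup G) : Set G)).relIndex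
      (Subgroup.normalizer ((P : Subgroup G) : Set G)) = (fusE p z).card := by
  classical
  have hp : p.Prime := Fact.out
  have hz1 : z ≠ 1 := by
    intro h
    rw [h, orderOf_one] at hz
    exact hp.one_lt.ne hz
  set N : Subgroup G := Subgroup.normalizer ((P : Subgroup G) : Set G) with hN
  set C : Subgroup G := Subgroup.centralizer ((P : Subgroup G) : Set G) with hC
  have hex : ∀ n : N, ∃ k : ℕ, (n : G) * z * (n : G)⁻¹ = z ^ k :=
    fun n => exists_pow_of_mem_normalizer P hP hzP hz n.2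
  choose κ hκ using hex
  let τ : N → ZMod p := fun n => (κ n : ZMod p)
  have hτ : ∀ n : N, z ^ (τ n).val = (n : G) * z * (n : G)⁻¹ := by
    intro n
    have h1 : z ^ (κ n % p) = z ^ κ n := by
      have := pow_mod_orderOf z (κ n)
      rwa [hz] at this
    show z ^ ((κ n : ZMod p)).val = _
    rw [ZMod.val_natCast, h1, hκ]
  have hpowinj : ∀ a b : ZMod p, z ^ a.val = z ^ b.val → a = b := by
    intro a b h
    apply ZMod.val_injective
    have hinj := pow_injOn_Iio_orderOf (x := z)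
    rw [hz] at hinj
    exact hinj (ZMod.val_lt a) (ZMod.val_lt b) h
  have hτmem : ∀ n : N, τ n ∈ fusE p z := by
    intro n
    rw [mem_fusE]
    constructor
    · intro h0
      have h1 := hτ n
      rw [h0, ZMod.val_zero, pow_zero] at h1
      apply hz1
      have : z = (n : G)⁻¹ * ((n : G) * z * (n : G)⁻¹) * (n : G) := by group
      rw [this, ← h1]; group
    · rw [hτ n]
      exact isConj_iff.2 ⟨(n : G)⁻¹, by group⟩
  have hPcomm : IsMulCommutative ↥(P : Subgroup G) := IsCyclic.isMulCommutative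
  have hrel : ∀ n n' : N, τ n = τ n' ↔ n⁻¹ * n' ∈ C.subgroupOf N := by
    intro n n'
    rw [Subgroup.mem_subgroupOf]
    constructor
    · intro h
      have h1 : (n : G) * z * (n : G)⁻¹ = (n' : G) * z * (n' : G)⁻¹ := by
        rw [← hτ n, ← hτ n', h]
      have hcomm : ((n⁻¹ * n' : N) : G) * z = z * ((n⁻¹ * n' : N) : G) := by
        have : ((n⁻¹ * n' : N) : G) = (n : G)⁻¹ * (n' : G) := by simp
        rw [this]
        calc (n : G)⁻¹ * (n' : G) * z = (n : G)⁻¹ * ((n' : G) * z * (n' : G)⁻¹) * (n' : G) := by group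
          _ = (n : G)⁻¹ * ((n : G) * z * (n : G)⁻¹) * (n' : G) := by rw [h1]
          _ = z * ((n : G)⁻¹ * (n' : G)) := by group
      exact Cfsg.Agent.Lib.H28.CY.mem_centralizer_of_mem_normalizer_of_commute P hP z hzP hz1 _
        (n⁻¹ * n' : N).2 hcomm
    · intro h
      have hcz : ((n⁻¹ * n' : N) : G) * z = z * ((n⁻¹ * n' : N) : G) :=
        ((Subgroup.mem_centralizer_iff.1 h) z hzP).symm
      apply hpowinj
      rw [hτ n, hτ n']
      have h2 : ((n⁻¹ * n' : N) : G) = (n : G)⁻¹ * (n' : G) := by simp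
      rw [h2] at hcz
      have h3 : (n' : G) * z = (n : G) * z * (n : G)⁻¹ * (n' : G) := by
        calc (n' : G) * z = (n : G) * ((n : G)⁻¹ * (n' : G) * z) := by group
          _ = (n : G) * (z * ((n : G)⁻¹ * (n' : G))) := by rw [hcz]
          _ = (n : G) * z * (n : G)⁻¹ * (n' : G) := by group
      rw [h3]; group
  -- the induced map on the quotient
  let F : N ⧸ C.subgroupOf N → {t : ZMod p // t ∈ fusE p z} :=
    Quotient.lift (fun n : N => (⟨τ n, hτmem n⟩ : {t : ZMod p // t ∈ fusE p z}))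
      (by
        intro a b hab
        have : a⁻¹ * b ∈ C.subgroupOf N := QuotientGroup.leftRel_apply.1 hab
        exact Subtype.ext ((hrel a b).2 this))
  have hFinj : Function.Injective F := by
    intro a b
    refine Quotient.inductionOn₂ a b ?_
    intro n n' h
    have h1 : τ n = τ n' := congrArg Subtype.val h
    exact Quotient.sound (QuotientGroup.leftRel_apply.2 ((hrel n n').1 h1))
  have hFsurj : Function.Surjective F := by
    rintro ⟨t, ht⟩
    obtain ⟨-, hconj⟩ := mem_fusE.1 ht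
    obtain ⟨c, hc⟩ := isConj_iff.1 hconj
    have hzt : c⁻¹ * z * c = z ^ t.val := by
      calc c⁻¹ * z * c = c⁻¹ * (c * z ^ t.val * c⁻¹) * c := by rw [hc]
        _ = z ^ t.val := by group
    have hy : c⁻¹ * z * c ∈ (P : Subgroup G) := by
      rw [hzt]; exact Subgroup.pow_mem _ hzP _
    obtain ⟨n, hnN, hn⟩ := P.conj_eq_normalizer_conj_of_mem z c hzP hy
    have hninv : n⁻¹ ∈ N := N.inv_mem hnN
    refine ⟨((⟨n⁻¹, hninv⟩ : N) : N ⧸ C.subgroupOf N), ?_⟩
    apply Subtype.ext
    show τ ⟨n⁻¹, hninv⟩ = t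
    apply hpowinj
    rw [hτ ⟨n⁻¹, hninv⟩]
    show n⁻¹ * z * n⁻¹⁻¹ = z ^ t.val
    rw [inv_inv, ← hn, hzt]
  have hcard : Nat.card (N ⧸ C.subgroupOf N) = Nat.card {t : ZMod p // t ∈ fusE p z} :=
    Nat.card_congr (Equiv.ofBijective F ⟨hFinj, hFsurj⟩)
  rw [Subgroup.relIndex, Subgroup.index_eq_card, hcard, Nat.card_eq_fintype_card, Fintype.card_coe]

end Cfsg.Agent.Lib.H22.CY
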