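import Mathlib
import Cfsg.Agent.Lib.H22.A10Spec

/-!
# Element orders and cycle types in `S₈` and `A₈`
-/

set_option autoImplicit false

namespace Cfsg.Agent.Lib.H22.S8Spec

open Equiv Equiv.Perm Cfsg.Agent.Lib.H22.A10Spec

/-- The element orders of `S₈`. -/
def T8l : List ℕ := [1, 2, 3, 4, 5, 6, 7, 8, 10, 12, 15]
/-- The element orders of `A₈`. -/
def A8l : List ℕ := [1, 2, 3, 4, 5, 6, 7, 15]

set_option maxRecDepth 1000000 in
theorem key8 : ∀ l ∈ enum 8 8, l.foldr Nat.lcm 1 ∈ T8l := by
  decide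

set_option maxRecDepth 1000000 in
theorem keyA8 : ∀ l ∈ enum 8 8, (l.sum + l.length) % 2 = 0 → l.foldr Nat.lcm 1 ∈ A8l := by
  decide

set_option maxRecDepth 1000000 in
theorem key7 : ∀ l ∈ enum 8 8, l.foldr Nat.lcm 1 = 7 → l = [7] := by
  decide

set_option maxRecDepth 1000000 in
theorem key15 : ∀ l ∈ enum 8 8, l.foldr Nat.lcm 1 = 15 → l = [5, 3] ∨ l = [3, 5] := by
  decide

/-- The cycle type of a permutation of `Fin 8` as a list from the enumeration. -/
theorem exists_list (τ : Perm (Fin 8)) :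
    ∃ l ∈ enum 8 8, (l : Multiset ℕ) = τ.cycleType ∧ orderOf τ = l.foldr Nat.lcm 1 ∧
      (sign τ = 1 → (l.sum + l.length) % 2 = 0) := by
  obtain ⟨l, hl⟩ : ∃ l : List ℕ, (l : Multiset ℕ) = τ.cycleType :=
    ⟨τ.cycleType.toList, Multiset.coe_toList _⟩
  have h2 : ∀ x ∈ l, 2 ≤ x := fun x hx =>
    two_le_of_mem_cycleType (σ := τ) (by rw [← hl]; exact hx)
  have hsum : l.sum ≤ 8 := by
    have := sum_cycleType_le τ
    rw [← hl, Multiset.sum_coe] at this
    simpa using this
  refine ⟨l, mem_enum 8 8 l le_rfl h2 hsum, hl, ?_, ?_⟩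
  · rw [← lcm_cycleType, ← hl]
    unfold Multiset.lcm
    rw [Multiset.coe_fold_r]
    rfl
  · intro hsign
    have h := sign_of_cycleType τ
    rw [hsign, ← hl, Multiset.sum_coe, Multiset.coe_card] at h
    have hne : (-1 : ℤˣ) ≠ 1 := by decide
    have := (neg_one_pow_eq_one_iff_even hne).1 h.symm
    exact Nat.even_iff.1 this

theorem orderOf_mem_T8l (τ : Perm (Fin 8)) : orderOf τ ∈ T8l := by
  obtain ⟨l, hl, -, ho, -⟩ := exists_list τ
  rw [ho]
  exact key8 l hl

theorem orderOf_mem_A8l (τ : Perm (Fin 8)) (h : sign τ = 1) : orderOf τ ∈ A8l := by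
  obtain ⟨l, hl, -, ho, hs⟩ := exists_list τ
  rw [ho]
  exact keyA8 l hl (hs h)

theorem cycleType_of_orderOf_seven (τ : Perm (Fin 8)) (h : orderOf τ = 7) :
    τ.cycleType = {7} := by
  obtain ⟨l, hl, hc, ho, -⟩ := exists_list τ
  rw [ho] at h
  have := key7 l hl h
  subst this
  rw [← hc]
  rfl

theorem cycleType_of_orderOf_fifteen (τ : Perm (Fin 8)) (h : orderOf τ = 15) :
    τ.cycleType = {5, 3} := by
  obtain ⟨l, hl, hc, ho, -⟩ := exists_list τ
  rw [ho] at h
  rcases key15 l hl h with rfl | rfl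
  · rw [← hc]
    rfl
  · rw [← hc]
    show ((3 : ℕ) ::ₘ {5}) = (5 : ℕ) ::ₘ {3}
    rw [← Multiset.singleton_add, ← Multiset.singleton_add, add_comm]

/-- Witnesses. -/
def p4 : Perm (Fin 8) := List.formPerm [0, 1, 2, 3] * List.formPerm [4, 5]
def p5 : Perm (Fin 8) := List.formPerm [0, 1, 2, 3, 4]
def p6 : Perm (Fin 8) := List.formPerm [0, 1, 2] * List.formPerm [3, 4] * List.formPerm [5, 6]
def c7 : Perm (Fin 8) := List.formPerm [0, 1, 2, 3, 4, 5, 6]
def c15 : Perm (Fin 8) := List.formPerm [0, 1, 2, 3, 4] * List.formPerm [5, 6, 7]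
def p8 : Perm (Fin 8) := List.formPerm [0, 1, 2, 3, 4, 5, 6, 7]
def p10 : Perm (Fin 8) := List.formPerm [0, 1, 2, 3, 4] * List.formPerm [5, 6]
def p12 : Perm (Fin 8) := List.formPerm [0, 1, 2, 3] * List.formPerm [4, 5, 6]

set_option maxRecDepth 1000000 in
theorem p4_sign : sign p4 = 1 := by decide
set_option maxRecDepth 1000000 in
theorem p5_sign : sign p5 = 1 := by decide
set_option maxRecDepth 1000000 in
theorem p6_sign : sign p6 = 1 := by decide
set_option maxRecDepth 1000000 in
theorem c7_sign : sign c7 = 1 := by decide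
set_option maxRecDepth 1000000 in
theorem c15_sign : sign c15 = 1 := by decide

set_option maxRecDepth 1000000 in
theorem o4 : orderOf p4 = 4 := by
  have : orderOf p4 = 2 ^ (1 + 1) := orderOf_eq_prime_pow (by decide) (by decide)
  simpa using this

set_option maxRecDepth 1000000 in
theorem o5 : orderOf p5 = 5 := by
  haveI : Fact (Nat.Prime 5) := ⟨by norm_num⟩
  exact orderOf_eq_prime (by decide) (by decide)

set_option maxRecDepth 1000000 in
theorem o6 : orderOf p6 = 6 := by
  refine orderOf_eq_of_pow_and_pow_div_prime (by norm_num) (by decide) ?_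
  intro p hp hd
  have h6 : Nat.divisors 6 = {1, 2, 3, 6} := by decide
  have := Nat.mem_divisors.2 ⟨hd, by norm_num⟩
  rw [h6] at this
  simp only [Finset.mem_insert, Finset.mem_singleton] at this
  rcases this with h | h | h | h
  · rw [h] at hp; exact absurd hp (by decide)
  · subst h
    show ¬ p6 ^ 3 = 1
    decide
  · subst h
    show ¬ p6 ^ 2 = 1
    decide
  · rw [h] at hp; exact absurd hp (by decide)

set_option maxRecDepth 1000000 in
theorem o7 : orderOf c7 = 7 := by
  haveI : Fact (Nat.Prime 7) := ⟨by norm_num⟩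
  exact orderOf_eq_prime (by decide) (by decide)

set_option maxRecDepth 1000000 in
theorem o15 : orderOf c15 = 15 := by
  refine orderOf_eq_of_pow_and_pow_div_prime (by norm_num) (by decide) ?_
  intro p hp hd
  rcases three_five hp hd with rfl | rfl
  · show ¬ c15 ^ 5 = 1
    decide
  · show ¬ c15 ^ 3 = 1
    decide

set_option maxRecDepth 1000000 in
theorem o8 : orderOf p8 = 8 := by
  have : orderOf p8 = 2 ^ (2 + 1) := orderOf_eq_prime_pow (by decide) (by decide)
  simpa using this

set_option maxRecDepth 1000000 in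
theorem o10 : orderOf p10 = 10 := by
  refine orderOf_eq_of_pow_and_pow_div_prime (by norm_num) (by decide) ?_
  intro p hp hd
  rcases two_five hp hd with rfl | rfl
  · show ¬ p10 ^ 5 = 1
    decide
  · show ¬ p10 ^ 2 = 1
    decide

set_option maxRecDepth 1000000 in
theorem o12 : orderOf p12 = 12 := by
  refine orderOf_eq_of_pow_and_pow_div_prime (by norm_num) (by decide) ?_
  intro p hp hd
  rcases two_three hp hd with rfl | rfl
  · show ¬ p12 ^ 6 = 1
    decide
  · show ¬ p12 ^ 4 = 1
    decide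

/-- The spectrum of `S₈`. -/
theorem spectrumS8 :
    Set.range (orderOf : Perm (Fin 8) → ℕ) = {1, 2, 3, 4, 5, 6, 7, 8, 10, 12, 15} := by
  ext n
  constructor
  · rintro ⟨σ, rfl⟩
    have := orderOf_mem_T8l σ
    simpa [T8l] using this
  · intro hn
    simp only [Set.mem_insert_iff, Set.mem_singleton_iff] at hn
    rcases hn with rfl | rfl | rfl | rfl | rfl | rfl | rfl | rfl | rfl | rfl | rfl
    · exact exists_orderOf_of_dvd' o8 (by norm_num) (by norm_num)
    · exact exists_orderOf_of_dvd' o8 (by norm_num) (by norm_num)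
    · exact exists_orderOf_of_dvd' o12 (by norm_num) (by norm_num)
    · exact exists_orderOf_of_dvd' o8 (by norm_num) (by norm_num)
    · exact exists_orderOf_of_dvd' o10 (by norm_num) (by norm_num)
    · exact exists_orderOf_of_dvd' o12 (by norm_num) (by norm_num)
    · exact ⟨_, o7⟩
    · exact ⟨_, o8⟩
    · exact ⟨_, o10⟩
    · exact ⟨_, o12⟩
    · exact ⟨_, o15⟩

theorem c7_cycleType : c7.cycleType = {7} := cycleType_of_orderOf_seven c7 o7

theorem c15_cycleType : c15.cycleType = {5, 3} := cycleType_of_orderOf_fifteen c15 o15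

end Cfsg.Agent.Lib.H22.S8Spec
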