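import Mathlib
import Cfsg.Agent.Lib.H22.A10Sd
import Cfsg.Agent.Lib.H22.S8Spec

/-!
# The groups `2^{6k} : A₈`, isospectral to `S₈` (and to `J₂`)

`V` is the 6-dimensional heart of the permutation module of `S₈` over `𝔽₂`, realised as the
even weight vectors with last coordinate zero (the section `v ↦ v + v₇ • 1` of the quotient by the
all-ones vector).  Elements of order `7` and `15` of `S₈` act fixed point freely on `V`.
-/

set_option autoImplicit false

namespace Cfsg.Agent.Lib.H22.J2Fam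

open Equiv Equiv.Perm Cfsg.Agent.Lib.H22.S8Spec Cfsg.Agent.Lib.H22.A10Sd

/-- The twisted permutation action on functions. -/
def act (g : Perm (Fin 8)) (v : Fin 8 → ZMod 2) : Fin 8 → ZMod 2 :=
  fun i => v (g⁻¹ i) + v (g⁻¹ 7)

/-- The heart of the permutation module. -/
def V : AddSubgroup (Fin 8 → ZMod 2) where
  carrier := {v | v 7 = 0 ∧ ∑ i, v i = 0}
  zero_mem' := ⟨rfl, by simp⟩
  add_mem' := by
    rintro a b ⟨ha1, ha2⟩ ⟨hb1, hb2⟩
    refine ⟨by simp [ha1, hb1], ?_⟩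
    simp only [Pi.add_apply, Finset.sum_add_distrib, ha2, hb2, add_zero]
  neg_mem' := by
    rintro a ⟨ha1, ha2⟩
    refine ⟨by simp [ha1], ?_⟩
    simp only [Pi.neg_apply, Finset.sum_neg_distrib, ha2, neg_zero]

theorem mem_V {v : Fin 8 → ZMod 2} : v ∈ V ↔ v 7 = 0 ∧ ∑ i, v i = 0 := Iff.rfl

theorem add_self_zmod (x : ZMod 2) : x + x = 0 := CharTwo.add_self_eq_zero x

theorem act_mem (g : Perm (Fin 8)) {v : Fin 8 → ZMod 2} (hv : v ∈ V) : act g v ∈ V := by
  obtain ⟨_, h2⟩ := hv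
  refine ⟨?_, ?_⟩
  · show v (g⁻¹ 7) + v (g⁻¹ 7) = 0
    exact add_self_zmod _
  · show ∑ i, (v (g⁻¹ i) + v (g⁻¹ 7)) = 0
    rw [Finset.sum_add_distrib, Equiv.sum_comp g⁻¹ v, h2, Finset.sum_const, Finset.card_univ,
      Fintype.card_fin, zero_add, nsmul_eq_mul]
    have : ((8 : ℕ) : ZMod 2) = 0 := by decide
    rw [this, zero_mul]

theorem act_one {v : Fin 8 → ZMod 2} (hv : v ∈ V) : act 1 v = v := by
  funext i
  show v ((1 : Perm (Fin 8))⁻¹ i) + v ((1 : Perm (Fin 8))⁻¹ 7) = v i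
  simp [hv.1]

theorem act_mul (g h : Perm (Fin 8)) (v : Fin 8 → ZMod 2) :
    act (g * h) v = act g (act h v) := by
  funext i
  simp only [act, mul_inv_rev, Perm.mul_apply]
  have := add_self_zmod (v (h⁻¹ 7))
  linear_combination (-1 : ZMod 2) * this

theorem act_add (g : Perm (Fin 8)) (v w : Fin 8 → ZMod 2) :
    act g (v + w) = act g v + act g w := by
  funext i
  simp only [act, Pi.add_apply]
  ring

theorem act_zero (g : Perm (Fin 8)) : act g 0 = 0 := by
  funext i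
  simp [act]

instance instDMA : DistribMulAction (Perm (Fin 8)) V where
  smul g v := ⟨act g v.1, act_mem g v.2⟩
  one_smul v := Subtype.ext (act_one v.2)
  mul_smul g h v := Subtype.ext (act_mul g h v.1)
  smul_zero g := Subtype.ext (act_zero g)
  smul_add g v w := Subtype.ext (act_add g v.1 w.1)

theorem coe_smul (g : Perm (Fin 8)) (v : V) : ((g • v : V) : Fin 8 → ZMod 2) = act g v.1 := rfl

theorem vec_eq (v : Fin 8 → ZMod 2) : v = ![v 0, v 1, v 2, v 3, v 4, v 5, v 6, v 7] := by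
  funext i
  fin_cases i <;> rfl

set_option maxRecDepth 1000000 in
theorem fpf7_aux : ∀ a0 a1 a2 a3 a4 a5 a6 a7 : ZMod 2,
    (![a0, a1, a2, a3, a4, a5, a6, a7] : Fin 8 → ZMod 2) 7 = 0 →
    ∑ i, (![a0, a1, a2, a3, a4, a5, a6, a7] : Fin 8 → ZMod 2) i = 0 →
    act c7 ![a0, a1, a2, a3, a4, a5, a6, a7] = ![a0, a1, a2, a3, a4, a5, a6, a7] →
    (![a0, a1, a2, a3, a4, a5, a6, a7] : Fin 8 → ZMod 2) = 0 := by
  decide +kernel

set_option maxRecDepth 1000000 in
theorem fpf15_aux : ∀ a0 a1 a2 a3 a4 a5 a6 a7 : ZMod 2,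
    (![a0, a1, a2, a3, a4, a5, a6, a7] : Fin 8 → ZMod 2) 7 = 0 →
    ∑ i, (![a0, a1, a2, a3, a4, a5, a6, a7] : Fin 8 → ZMod 2) i = 0 →
    act c15 ![a0, a1, a2, a3, a4, a5, a6, a7] = ![a0, a1, a2, a3, a4, a5, a6, a7] →
    (![a0, a1, a2, a3, a4, a5, a6, a7] : Fin 8 → ZMod 2) = 0 := by
  decide +kernel

theorem fpf_c7 (v : V) (h : c7 • v = v) : v = 0 := by
  have h' : act c7 v.1 = v.1 := congrArg Subtype.val h
  obtain ⟨h1, h2⟩ := v.2
  apply Subtype.ext
  show v.1 = 0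
  obtain ⟨a0, a1, a2, a3, a4, a5, a6, a7, hw⟩ :
      ∃ a0 a1 a2 a3 a4 a5 a6 a7 : ZMod 2, v.1 = ![a0, a1, a2, a3, a4, a5, a6, a7] :=
    ⟨_, _, _, _, _, _, _, _, vec_eq v.1⟩
  rw [hw] at h' h1 h2 ⊢
  exact fpf7_aux _ _ _ _ _ _ _ _ h1 h2 h'

theorem fpf_c15 (v : V) (h : c15 • v = v) : v = 0 := by
  have h' : act c15 v.1 = v.1 := congrArg Subtype.val h
  obtain ⟨h1, h2⟩ := v.2
  apply Subtype.ext
  show v.1 = 0
  obtain ⟨a0, a1, a2, a3, a4, a5, a6, a7, hw⟩ :
      ∃ a0 a1 a2 a3 a4 a5 a6 a7 : ZMod 2, v.1 = ![a0, a1, a2, a3, a4, a5, a6, a7] :=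
    ⟨_, _, _, _, _, _, _, _, vec_eq v.1⟩
  rw [hw] at h' h1 h2 ⊢
  exact fpf15_aux _ _ _ _ _ _ _ _ h1 h2 h'

theorem fpf_of_isConj {c g : Perm (Fin 8)} (hc : ∀ v : V, c • v = v → v = 0) (hcg : IsConj c g)
    (v : V) (h : g • v = v) : v = 0 := by
  obtain ⟨σ, rfl⟩ := isConj_iff.1 hcg
  have h1 : c • (σ⁻¹ • v) = σ⁻¹ • v := by
    have := congrArg (fun w => σ⁻¹ • w) h
    simp only [mul_smul, inv_smul_smul] at this
    exact this
  have h2 := hc _ h1
  have := congrArg (fun w => σ • w) h2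
  simpa using this

theorem fpf_of_orderOf (g : Perm (Fin 8)) (hg : orderOf g = 7 ∨ orderOf g = 15) (v : V)
    (h : g • v = v) : v = 0 := by
  rcases hg with hg | hg
  · refine fpf_of_isConj fpf_c7 ?_ v h
    rw [isConj_iff_cycleType_eq, c7_cycleType, cycleType_of_orderOf_seven g hg]
  · refine fpf_of_isConj fpf_c15 ?_ v h
    rw [isConj_iff_cycleType_eq, c15_cycleType, cycleType_of_orderOf_fifteen g hg]

/-! ### Orders in a semidirect product with a module of exponent 2 -/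

section generic

variable {K N : Type*} [Group K] [AddCommGroup N] [DistribMulAction K N]

theorem pow_orderOf_mk (n : N) (g : K) :
    (mk n g) ^ orderOf g = mk (∑ i ∈ Finset.range (orderOf g), g ^ i • n) 1 := by
  rw [mk_pow, pow_orderOf_eq_one]

theorem mk_one_sq (h2 : ∀ n : N, n + n = 0) (s : N) : (mk s (1 : K)) ^ 2 = 1 := by
  rw [mk_pow, mk_eq_one_iff]
  refine ⟨?_, one_pow _⟩
  simp only [one_pow, one_smul, Finset.sum_const, Finset.card_range]
  rw [two_nsmul]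
  exact h2 s

theorem orderOf_mk_cases (h2 : ∀ n : N, n + n = 0) (n : N) (g : K) (hg : 0 < orderOf g) :
    orderOf (mk n g) = orderOf g ∨ orderOf (mk n g) = 2 * orderOf g := by
  have h1 : (mk n g) ^ (orderOf g * 2) = 1 := by
    rw [pow_mul, pow_orderOf_mk, mk_one_sq h2]
  have hd := orderOf_dvd_of_pow_eq_one h1
  obtain ⟨e, he⟩ := orderOf_right_dvd n g
  rw [he] at hd
  have he2 : e ∣ 2 := Nat.dvd_of_mul_dvd_mul_left hg hd
  rcases (Nat.dvd_prime Nat.prime_two).1 he2 with rfl | rfl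
  · left; rw [he, mul_one]
  · right; rw [he, mul_comm]

theorem orderOf_mk_of_fpf (n : N) (g : K) (hf : ∀ n : N, g • n = n → n = 0) :
    orderOf (mk n g) = orderOf g := by
  have hs : ∑ i ∈ Finset.range (orderOf g), g ^ i • n = 0 :=
    hf _ (smul_sum_pow g n _ (pow_orderOf_eq_one g))
  have h1 : (mk n g) ^ orderOf g = 1 := by
    rw [pow_orderOf_mk, hs, mk_eq_one_iff]
    exact ⟨rfl, rfl⟩
  exact Nat.dvd_antisymm (orderOf_dvd_of_pow_eq_one h1) (orderOf_right_dvd _ _)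

theorem orderOf_mk_of_sum_ne (h2 : ∀ n : N, n + n = 0) (n : N) (g : K) {m : ℕ} (hm : 0 < m)
    (hg : orderOf g = m) (hs : ∑ i ∈ Finset.range m, g ^ i • n ≠ 0) :
    orderOf (mk n g) = 2 * m := by
  subst hg
  rcases orderOf_mk_cases h2 n g hm with h | h
  · exfalso
    apply hs
    have h1 := pow_orderOf_eq_one (mk n g)
    rw [h, pow_orderOf_mk, mk_eq_one_iff] at h1
    exact h1.1
  · exact h

/-- The spectrum of `S₈` (and of `J₂`). -/
def T : Set ℕ := {1, 2, 3, 4, 5, 6, 7, 8, 10, 12, 15}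

theorem orderOf_mem_T (h2 : ∀ n : N, n + n = 0) (ho : ∀ g : K, orderOf g ∈ A8l)
    (hf : ∀ g : K, orderOf g = 7 ∨ orderOf g = 15 → ∀ n : N, g • n = n → n = 0)
    (h : SD K N) : orderOf h ∈ T := by
  obtain ⟨n, g, rfl⟩ := mk_surj h
  have hg := ho g
  simp only [A8l, List.mem_cons, List.not_mem_nil, or_false] at hg
  have hpos : 0 < orderOf g := by
    rcases hg with h | h | h | h | h | h | h | h <;> rw [h] <;> norm_num
  by_cases h715 : orderOf g = 7 ∨ orderOf g = 15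
  · rw [orderOf_mk_of_fpf n g (hf g h715)]
    rcases h715 with h | h <;> rw [h] <;> simp [T]
  · rcases orderOf_mk_cases h2 n g hpos with h | h <;> rw [h] <;>
      rcases hg with h' | h' | h' | h' | h' | h' | h' | h' <;>
      first
        | (exfalso; exact h715 (Or.inl h'))
        | (exfalso; exact h715 (Or.inr h'))
        | (rw [h']; simp [T])

theorem exists_orderOf_of_mem_T (h2 : ∀ n : N, n + n = 0)
    (g4 g5 g6 g7 g15 : K) (hg4 : orderOf g4 = 4) (hg5 : orderOf g5 = 5) (hg6 : orderOf g6 = 6)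
    (hg7 : orderOf g7 = 7) (hg15 : orderOf g15 = 15)
    (n4 n5 n6 : N) (hn4 : ∑ i ∈ Finset.range 4, g4 ^ i • n4 ≠ 0)
    (hn5 : ∑ i ∈ Finset.range 5, g5 ^ i • n5 ≠ 0)
    (hn6 : ∑ i ∈ Finset.range 6, g6 ^ i • n6 ≠ 0)
    {n : ℕ} (hn : n ∈ T) : ∃ h : SD K N, orderOf h = n := by
  have e8 : orderOf (mk n4 g4) = 8 := orderOf_mk_of_sum_ne h2 n4 g4 (by norm_num) hg4 hn4
  have e10 : orderOf (mk n5 g5) = 10 := orderOf_mk_of_sum_ne h2 n5 g5 (by norm_num) hg5 hn5
  have e12 : orderOf (mk n6 g6) = 12 := orderOf_mk_of_sum_ne h2 n6 g6 (by norm_num) hg6 hn6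
  have e7 : orderOf (mk (0 : N) g7) = 7 := by rw [orderOf_mk_zero, hg7]
  have e15 : orderOf (mk (0 : N) g15) = 15 := by rw [orderOf_mk_zero, hg15]
  simp only [T, Set.mem_insert_iff, Set.mem_singleton_iff] at hn
  rcases hn with rfl | rfl | rfl | rfl | rfl | rfl | rfl | rfl | rfl | rfl | rfl
  · exact exists_orderOf_of_dvd e8 (by norm_num) (by norm_num)
  · exact exists_orderOf_of_dvd e8 (by norm_num) (by norm_num)
  · exact exists_orderOf_of_dvd e12 (by norm_num) (by norm_num)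
  · exact exists_orderOf_of_dvd e8 (by norm_num) (by norm_num)
  · exact exists_orderOf_of_dvd e10 (by norm_num) (by norm_num)
  · exact exists_orderOf_of_dvd e12 (by norm_num) (by norm_num)
  · exact ⟨_, e7⟩
  · exact ⟨_, e8⟩
  · exact ⟨_, e10⟩
  · exact ⟨_, e12⟩
  · exact ⟨_, e15⟩

end generic

/-! ### The concrete family -/

/-- `A₈`. -/
abbrev A8 : Type := alternatingGroup (Fin 8)

theorem A8_smul_def (g : A8) (v : V) : g • v = (g : Perm (Fin 8)) • v := rfl

/-- The groups `2^{6k} : A₈`. -/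
abbrev Hk (k : ℕ) : Type := SD A8 (Fin k → V)

instance : Finite V := Subtype.finite

instance (k : ℕ) : Finite (Hk k) := inferInstance

def g4 : A8 := ⟨p4, mem_alternatingGroup.2 p4_sign⟩
def g5 : A8 := ⟨p5, mem_alternatingGroup.2 p5_sign⟩
def g6 : A8 := ⟨p6, mem_alternatingGroup.2 p6_sign⟩
def g7 : A8 := ⟨c7, mem_alternatingGroup.2 c7_sign⟩
def g15 : A8 := ⟨c15, mem_alternatingGroup.2 c15_sign⟩

theorem og4 : orderOf g4 = 4 := by rw [← Subgroup.orderOf_coe]; exact o4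
theorem og5 : orderOf g5 = 5 := by rw [← Subgroup.orderOf_coe]; exact o5
theorem og6 : orderOf g6 = 6 := by rw [← Subgroup.orderOf_coe]; exact o6
theorem og7 : orderOf g7 = 7 := by rw [← Subgroup.orderOf_coe]; exact o7
theorem og15 : orderOf g15 = 15 := by rw [← Subgroup.orderOf_coe]; exact o15

def w4 : Fin 8 → ZMod 2 := ![1, 0, 0, 0, 1, 0, 0, 0]
def w5 : Fin 8 → ZMod 2 := ![0, 0, 0, 0, 0, 1, 1, 0]
def w6 : Fin 8 → ZMod 2 := ![0, 0, 0, 1, 0, 1, 0, 0]

theorem w4_mem : w4 ∈ V := by rw [mem_V]; decide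
theorem w5_mem : w5 ∈ V := by rw [mem_V]; decide
theorem w6_mem : w6 ∈ V := by rw [mem_V]; decide

def v4 : V := ⟨w4, w4_mem⟩
def v5 : V := ⟨w5, w5_mem⟩
def v6 : V := ⟨w6, w6_mem⟩

set_option maxRecDepth 1000000 in
theorem sum4 : (∑ i ∈ Finset.range 4, act (p4 ^ i) w4) 0 ≠ 0 := by
  simp only [Finset.sum_range_succ, Finset.sum_range_zero, zero_add, Pi.add_apply]
  decide +kernel

set_option maxRecDepth 1000000 in
theorem sum5 : (∑ i ∈ Finset.range 5, act (p5 ^ i) w5) 5 ≠ 0 := by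
  simp only [Finset.sum_range_succ, Finset.sum_range_zero, zero_add, Pi.add_apply]
  decide +kernel

set_option maxRecDepth 1000000 in
theorem sum6 : (∑ i ∈ Finset.range 6, act (p6 ^ i) w6) 3 ≠ 0 := by
  simp only [Finset.sum_range_succ, Finset.sum_range_zero, zero_add, Pi.add_apply]
  decide +kernel

theorem coe_sum_smul (g : A8) (v : V) (m : ℕ) :
    ((∑ i ∈ Finset.range m, g ^ i • v : V) : Fin 8 → ZMod 2) =
      ∑ i ∈ Finset.range m, act ((g : Perm (Fin 8)) ^ i) v.1 := by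
  rw [AddSubgroup.val_finsetSum]
  rfl

theorem sum_const_ne (k : ℕ) (g : A8) (v : V) (m : ℕ) (j : Fin 8)
    (h : (∑ i ∈ Finset.range m, act ((g : Perm (Fin 8)) ^ i) v.1) j ≠ 0) :
    ∑ i ∈ Finset.range m, g ^ i • (fun _ : Fin (k + 1) => v) ≠ 0 := by
  intro h0
  apply h
  have h1 := congrFun h0 0
  rw [Finset.sum_apply] at h1
  simp only [Pi.smul_apply, Pi.zero_apply] at h1
  have h2 : ((∑ i ∈ Finset.range m, g ^ i • v : V) : Fin 8 → ZMod 2) j =
      ((0 : V) : Fin 8 → ZMod 2) j := by rw [h1]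
  rw [coe_sum_smul] at h2
  exact h2

theorem range_Hk (k : ℕ) : Set.range (orderOf : Hk (k + 1) → ℕ) = T := by
  have h2 : ∀ n : Fin (k + 1) → V, n + n = 0 := by
    intro n
    funext i
    apply Subtype.ext
    funext j
    exact add_self_zmod _
  have ho : ∀ g : A8, orderOf g ∈ A8l := by
    intro g
    rw [← Subgroup.orderOf_coe]
    exact orderOf_mem_A8l _ (mem_alternatingGroup.1 g.2)
  have hf : ∀ g : A8, orderOf g = 7 ∨ orderOf g = 15 →
      ∀ n : Fin (k + 1) → V, g • n = n → n = 0 := by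
    intro g hg n hn
    funext i
    have := congrFun hn i
    rw [Pi.smul_apply, A8_smul_def] at this
    rw [← Subgroup.orderOf_coe] at hg
    exact fpf_of_orderOf _ hg _ this
  ext n
  constructor
  · rintro ⟨h, rfl⟩
    exact orderOf_mem_T h2 ho hf h
  · intro hn
    exact exists_orderOf_of_mem_T h2 g4 g5 g6 g7 g15 og4 og5 og6 og7 og15
      (fun _ => v4) (fun _ => v5) (fun _ => v6)
      (sum_const_ne k g4 v4 4 0 sum4) (sum_const_ne k g5 v5 5 5 sum5)
      (sum_const_ne k g6 v6 6 3 sum6) hn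

theorem v4_ne : v4 ≠ 0 := by
  intro h
  have := congrArg (fun w : V => (w : Fin 8 → ZMod 2) 0) h
  revert this
  show ¬ (w4 0 = 0)
  decide

theorem card_Hk (k : ℕ) : k < Nat.card (Hk (k + 1)) := by
  have hinj : Function.Injective
      (fun i : Fin (k + 1) => (mk (Pi.single i v4 : Fin (k + 1) → V) (1 : A8) : Hk (k + 1))) := by
    intro i j hij
    have h1 := congrArg SemidirectProduct.left hij
    simp only [mk_left] at h1
    have h2 := Multiplicative.ofAdd.injective h1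
    have h4 := congrFun h2 i
    rw [Pi.single_eq_same] at h4
    by_contra hne
    rw [Pi.single_eq_of_ne hne] at h4
    exact v4_ne h4
  have := Nat.card_le_card_of_injective _ hinj
  rw [Nat.card_eq_fintype_card, Fintype.card_fin] at this
  exact this

/-- Unboundedly many finite groups with the same spectrum as `S₈`. -/
theorem family (N : ℕ) : ∃ (H : Type) (_ : Group H) (_ : Fintype H), N < Fintype.card H ∧
    Set.range (orderOf : H → ℕ) = Set.range (orderOf : Equiv.Perm (Fin 8) → ℕ) := by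
  classical
  let inst : Fintype (Hk (N + 1)) := Fintype.ofFinite _
  refine ⟨Hk (N + 1), inferInstance, inst, ?_, ?_⟩
  · have := card_Hk N
    rwa [Nat.card_eq_fintype_card] at this
  · rw [range_Hk, spectrumS8]
    rfl

end Cfsg.Agent.Lib.H22.J2Fam
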