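import Mathlib
import Cfsg.Agent.Lib.H22.A10Sd
import Cfsg.Agent.Lib.H22.J2Fam

/-!
# Minimal Frobenius groups `P^k : Q` ("blocks")

For distinct primes `P`, `Q` we construct a finite group `F` with a normal subgroup `V` such that
the nonidentity elements of `V` have order `P`, the elements outside `V` have order `Q`, every
nontrivial normal subgroup contains `V`, and every subgroup containing elements of orders `P` and
`Q` is the whole group.
-/

set_option autoImplicit false

namespace Cfsg.Agent.Lib.H22.Crit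

open Cfsg.Agent.Lib.H22.A10Sd Cfsg.Agent.Lib.H22.J2Fam

/-- The block property. -/
structure IsBlock (P Q : ℕ) (F : Type*) [Group F] (V : Subgroup F) : Prop where
  normal : V.Normal
  ne_bot : V ≠ ⊥
  order_V : ∀ x ∈ V, x ≠ 1 → orderOf x = P
  order_notV : ∀ x, x ∉ V → orderOf x = Q
  exists_Q : ∃ x : F, orderOf x = Q
  min : ∀ N : Subgroup F, N.Normal → N ≠ ⊥ → V ≤ N
  gen : ∀ H : Subgroup F, (∃ x ∈ H, orderOf x = Q) → (∃ y ∈ H, orderOf y = P) → H = ⊤

section generic

variable {K N : Type*} [Group K] [AddCommGroup N] [DistribMulAction K N]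

/-- An invariant additive subgroup. -/
structure InvSub (K N : Type*) [Group K] [AddCommGroup N] [DistribMulAction K N] where
  W : AddSubgroup N
  inv : ∀ (g : K) (n : N), n ∈ W → g • n ∈ W

instance InvSub.dma (I : InvSub K N) : DistribMulAction K ↥I.W where
  smul g w := ⟨g • w.1, I.inv g w.1 w.2⟩
  one_smul w := Subtype.ext (one_smul K w.1)
  mul_smul g h w := Subtype.ext (mul_smul g h w.1)
  smul_zero g := Subtype.ext (smul_zero g)
  smul_add g w w' := Subtype.ext (smul_add g w.1 w'.1)

theorem InvSub.coe_smul (I : InvSub K N) (g : K) (w : I.W) : ((g • w : I.W) : N) = g • (w : N) :=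
  rfl

/-- The block group. -/
abbrev Blk (I : InvSub K N) : Type _ := SD K ↥I.W

/-- The kernel. -/
def VV (I : InvSub K N) : Subgroup (Blk I) :=
  (SemidirectProduct.rightHom : Blk I →* K).ker

theorem mk_mem_VV (I : InvSub K N) (w : I.W) (g : K) : mk w g ∈ VV I ↔ g = 1 := by
  unfold VV
  rw [MonoidHom.mem_ker]
  rfl

instance (I : InvSub K N) : (VV I).Normal := by
  unfold VV
  infer_instance

theorem mk_one_mul (I : InvSub K N) (w w' : I.W) :
    (mk w (1 : K) : Blk I) * mk w' 1 = mk (w + w') 1 := by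
  rw [mk_mul, one_smul, one_mul]

theorem mk_one_inv (I : InvSub K N) (w : I.W) : (mk w (1 : K) : Blk I)⁻¹ = mk (-w) 1 := by
  symm
  apply eq_inv_of_mul_eq_one_left
  rw [mk_one_mul, neg_add_cancel]
  rfl

/-- The slice of a subgroup along the kernel. -/
def slice (I : InvSub K N) (H : Subgroup (Blk I)) : AddSubgroup ↥I.W where
  carrier := {w | (mk w (1 : K) : Blk I) ∈ H}
  zero_mem' := H.one_mem
  add_mem' := by
    intro a b ha hb
    show (mk (a + b) (1 : K) : Blk I) ∈ H
    rw [← mk_one_mul]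
    exact H.mul_mem ha hb
  neg_mem' := by
    intro a ha
    show (mk (-a) (1 : K) : Blk I) ∈ H
    rw [← mk_one_inv]
    exact H.inv_mem ha

theorem mem_slice (I : InvSub K N) (H : Subgroup (Blk I)) (w : I.W) :
    w ∈ slice I H ↔ (mk w (1 : K) : Blk I) ∈ H := Iff.rfl

/-- conjugation formula -/
theorem conj_mk (I : InvSub K N) (n w : I.W) (g : K) :
    (mk n g : Blk I) * mk w 1 * (mk n g)⁻¹ = mk (g • w) 1 := by
  rw [mul_inv_eq_iff_eq_mul, mk_mul, mk_mul, mul_one, one_mul, one_smul, add_comm]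

variable {P Q : ℕ} (hP : P.Prime) (hQ : Q.Prime) (hPQ : P ≠ Q)
  (hK : Nat.card K = Q)
  (hexp : ∀ n : N, P • n = 0)
  (I : InvSub K N)
  (hfpf : ∀ g : K, g ≠ 1 → ∀ n ∈ I.W, g • n = n → n = 0)
  (hI0 : I.W ≠ ⊥)
  (hmin : ∀ I' : InvSub K N, I'.W ≤ I.W → I'.W ≠ ⊥ → I'.W = I.W)

include hQ hK in
theorem finite_K : Finite K := by
  apply Nat.finite_of_card_ne_zero
  rw [hK]
  exact hQ.pos.ne'

include hQ hK in
theorem orderOf_K {g : K} (hg : g ≠ 1) : orderOf g = Q := by
  haveI := finite_K hQ hK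
  have h := orderOf_dvd_natCard g
  rw [hK] at h
  rcases (Nat.dvd_prime hQ).1 h with h1 | h1
  · exact absurd (orderOf_eq_one_iff.1 h1) hg
  · exact h1

include hfpf in
theorem fpf' {g : K} (hg : g ≠ 1) (w : I.W) (h : g • w = w) : w = 0 := by
  apply Subtype.ext
  exact hfpf g hg w.1 w.2 (congrArg Subtype.val h)

include hQ hK hfpf in
theorem orderOf_mk_ne (w : I.W) {g : K} (hg : g ≠ 1) : orderOf (mk w g : Blk I) = Q := by
  rw [orderOf_mk_of_fpf w g (fun n hn => fpf' I hfpf hg n hn), orderOf_K hQ hK hg]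

include hP hexp in
theorem orderOf_mk_one {w : I.W} (hw : w ≠ 0) : orderOf (mk w (1 : K) : Blk I) = P := by
  have h1 : (mk w (1 : K) : Blk I) ^ P = 1 := by
    rw [mk_pow, mk_eq_one_iff]
    refine ⟨?_, one_pow _⟩
    simp only [one_pow, one_smul, Finset.sum_const, Finset.card_range]
    apply Subtype.ext
    rw [AddSubgroup.coe_nsmul]
    exact hexp _
  have h2 := orderOf_dvd_of_pow_eq_one h1
  rcases (Nat.dvd_prime hP).1 h2 with h3 | h3
  · exfalso
    have := orderOf_eq_one_iff.1 h3
    rw [mk_eq_one_iff] at this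
    exact hw this.1
  · exact h3

include hmin in
theorem hmin' (T : AddSubgroup ↥I.W) (hT : ∀ (g : K) (w : I.W), w ∈ T → g • w ∈ T)
    (hT0 : T ≠ ⊥) : T = ⊤ := by
  let I' : InvSub K N :=
    { W := T.map I.W.subtype
      inv := by
        rintro g n ⟨w, hw, rfl⟩
        exact ⟨g • w, hT g w hw, rfl⟩ }
  have h1 : I'.W ≤ I.W := by
    rintro n ⟨w, _, rfl⟩
    exact w.2
  have h2 : I'.W ≠ ⊥ := by
    intro h
    apply hT0
    rw [eq_bot_iff]
    intro w hw
    have : (w : N) ∈ I'.W := ⟨w, hw, rfl⟩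
    rw [h] at this
    rw [AddSubgroup.mem_bot] at this ⊢
    exact Subtype.ext this
  have h3 := hmin I' h1 h2
  rw [eq_top_iff]
  intro w _
  have : (w : N) ∈ I'.W := by rw [h3]; exact w.2
  obtain ⟨w', hw', hww⟩ := this
  have : w' = w := Subtype.ext hww
  rw [← this]
  exact hw'

include hI0 in
theorem exists_ne_zero : ∃ w : I.W, w ≠ 0 := by
  by_contra h
  push Not at h
  apply hI0
  rw [eq_bot_iff]
  intro n hn
  have := h ⟨n, hn⟩
  rw [AddSubgroup.mem_bot]
  exact congrArg Subtype.val this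

include hP hQ hPQ hK hexp hfpf hI0 hmin in
theorem isBlock : IsBlock P Q (Blk I) (VV I) := by
  haveI := finite_K hQ hK
  haveI : Fact Q.Prime := ⟨hQ⟩
  have hKnt : ∃ g : K, g ≠ 1 := by
    by_contra h
    push Not at h
    have : Nat.card K = 1 := by
      rw [Nat.card_eq_one_iff_unique]
      exact ⟨⟨fun a b => by rw [h a, h b]⟩, ⟨1⟩⟩
    rw [hK] at this
    exact hQ.one_lt.ne' this
  refine ⟨inferInstance, ?_, ?_, ?_, ?_, ?_, ?_⟩
  · -- ne_bot
    obtain ⟨w, hw⟩ := exists_ne_zero I hI0
    intro h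
    have h1 : (mk w (1 : K) : Blk I) ∈ VV I := (mk_mem_VV I w 1).2 rfl
    rw [h, Subgroup.mem_bot, mk_eq_one_iff] at h1
    exact hw h1.1
  · -- order_V
    intro x hx hx1
    obtain ⟨w, g, rfl⟩ := mk_surj x
    have hg := (mk_mem_VV I w g).1 hx
    subst hg
    apply orderOf_mk_one hP hexp I
    intro hw
    apply hx1
    rw [hw]
    rfl
  · -- order_notV
    intro x hx
    obtain ⟨w, g, rfl⟩ := mk_surj x
    have hg : g ≠ 1 := fun h => hx ((mk_mem_VV I w g).2 h)
    exact orderOf_mk_ne hQ hK I hfpf w hg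
  · -- exists_Q
    obtain ⟨g, hg⟩ := hKnt
    exact ⟨mk 0 g, orderOf_mk_ne hQ hK I hfpf 0 hg⟩
  · -- min
    intro 𝒩 h𝒩 h𝒩0
    have hinv : ∀ (g : K) (w : I.W), w ∈ slice I 𝒩 → g • w ∈ slice I 𝒩 := by
      intro g w hw
      rw [mem_slice] at hw ⊢
      rw [← conj_mk I 0 w g]
      exact h𝒩.conj_mem _ hw _
    by_cases hT : slice I 𝒩 = ⊥
    · exfalso
      obtain ⟨⟨x, hx⟩, hx1'⟩ := (Subgroup.ne_bot_iff_exists_ne_one).1 h𝒩0
      have hx1 : x ≠ 1 := fun h => hx1' (Subtype.ext h)
      obtain ⟨n, g, rfl⟩ := mk_surj x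
      have hg : g ≠ 1 := by
        rintro rfl
        have : n ∈ slice I 𝒩 := hx
        rw [hT, AddSubgroup.mem_bot] at this
        apply hx1
        rw [this]
        rfl
      -- all of W is fixed by g
      apply hI0
      rw [eq_bot_iff]
      intro m hm
      have key : (mk (⟨m, hm⟩ - g • (⟨m, hm⟩ : I.W)) (1 : K) : Blk I) ∈ 𝒩 := by
        have e : (mk (⟨m, hm⟩ - g • (⟨m, hm⟩ : I.W)) (1 : K) : Blk I) =
            (mk ⟨m, hm⟩ 1 * mk n g * (mk ⟨m, hm⟩ 1)⁻¹) * (mk n g)⁻¹ := by
          rw [eq_mul_inv_iff_mul_eq, eq_mul_inv_iff_mul_eq, mk_mul, mk_mul, mk_mul, one_smul,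
            one_mul, mul_one]
          congr 1
          abel
        rw [e]
        exact 𝒩.mul_mem (h𝒩.conj_mem _ hx _) (𝒩.inv_mem hx)
      have : (⟨m, hm⟩ - g • (⟨m, hm⟩ : I.W)) ∈ slice I 𝒩 := key
      rw [hT, AddSubgroup.mem_bot, sub_eq_zero] at this
      have := fpf' I hfpf hg ⟨m, hm⟩ this.symm
      rw [AddSubgroup.mem_bot]
      exact congrArg Subtype.val this
    · have htop := hmin' I hmin (slice I 𝒩) hinv hT
      intro x hx
      obtain ⟨w, g, rfl⟩ := mk_surj x
      have hg := (mk_mem_VV I w g).1 hx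
      subst hg
      have : w ∈ slice I 𝒩 := by rw [htop]; trivial
      exact this
  · -- gen
    rintro H ⟨x, hxH, hxQ⟩ ⟨y, hyH, hyP⟩
    obtain ⟨n', g', rfl⟩ := mk_surj x
    obtain ⟨n, g, rfl⟩ := mk_surj y
    have hg : g = 1 := by
      by_contra hg
      rw [orderOf_mk_ne hQ hK I hfpf n hg] at hyP
      exact hPQ hyP.symm
    subst hg
    have hn : n ≠ 0 := by
      rintro rfl
      have : (mk (0 : I.W) (1 : K) : Blk I) = 1 := rfl
      rw [this, orderOf_one] at hyP
      exact hP.one_lt.ne hyP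
    have hg' : g' ≠ 1 := by
      rintro rfl
      by_cases hn' : n' = 0
      · subst hn'
        have : (mk (0 : I.W) (1 : K) : Blk I) = 1 := rfl
        rw [this, orderOf_one] at hxQ
        exact hQ.one_lt.ne hxQ
      · rw [orderOf_mk_one hP hexp I hn'] at hxQ
        exact hPQ hxQ
    have hinv1 : ∀ (w : I.W), w ∈ slice I H → g' • w ∈ slice I H := by
      intro w hw
      rw [mem_slice] at hw ⊢
      rw [← conj_mk I n' w g']
      exact H.mul_mem (H.mul_mem hxH hw) (H.inv_mem hxH)
    have hinvk : ∀ (k : ℕ) (w : I.W), w ∈ slice I H → g' ^ k • w ∈ slice I H := by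
      intro k
      induction k with
      | zero => intro w hw; simpa using hw
      | succ k ih =>
        intro w hw
        rw [pow_succ', mul_smul]
        exact hinv1 _ (ih w hw)
    have hpow : ∀ g : K, ∃ k : ℕ, g' ^ k = g := by
      intro g
      have h1 : g ∈ Subgroup.zpowers g' := by
        rw [zpowers_eq_top_of_prime_card hK hg']
        trivial
      rw [← mem_powers_iff_mem_zpowers] at h1
      exact h1
    have hinv : ∀ (g : K) (w : I.W), w ∈ slice I H → g • w ∈ slice I H := by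
      intro g w hw
      obtain ⟨k, rfl⟩ := hpow g
      exact hinvk k w hw
    have hT : slice I H ≠ ⊥ := by
      intro h
      have : n ∈ slice I H := hyH
      rw [h, AddSubgroup.mem_bot] at this
      exact hn this
    have htop := hmin' I hmin (slice I H) hinv hT
    rw [eq_top_iff]
    intro z _
    obtain ⟨w, g, rfl⟩ := mk_surj z
    obtain ⟨k, rfl⟩ := hpow g
    have h1 : (mk n' g' : Blk I) ^ k ∈ H := H.pow_mem hxH k
    rw [mk_pow] at h1
    have h2 : (w - ∑ i ∈ Finset.range k, g' ^ i • n') ∈ slice I H := by rw [htop]; trivial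
    rw [mem_slice] at h2
    have h3 := H.mul_mem h2 h1
    rw [mk_mul, one_smul, one_mul, sub_add_cancel] at h3
    exact h3

end generic

/-! ### The concrete module: functions `ZMod Q → ZMod P` with the shift action -/

section concrete

variable (P Q : ℕ)

/-- The module of functions. -/
abbrev Fn : Type := ZMod Q → ZMod P

instance : DistribMulAction (Multiplicative (ZMod Q)) (Fn P Q) where
  smul g f := fun x => f (x - Multiplicative.toAdd g)
  one_smul f := by
    funext x
    show f (x - 0) = f x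
    rw [sub_zero]
  mul_smul g h f := by
    funext x
    show f (x - (Multiplicative.toAdd g + Multiplicative.toAdd h)) =
      f (x - Multiplicative.toAdd g - Multiplicative.toAdd h)
    rw [sub_sub]
  smul_zero g := rfl
  smul_add g f f' := rfl

theorem smul_apply (g : Multiplicative (ZMod Q)) (f : Fn P Q) (x : ZMod Q) :
    (g • f) x = f (x - Multiplicative.toAdd g) := rfl

/-- The sum zero submodule. -/
def M1 [NeZero Q] : InvSub (Multiplicative (ZMod Q)) (Fn P Q) where
  W :=
    { carrier := {f | ∑ x, f x = 0}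
      zero_mem' := by
        show ∑ x : ZMod Q, (0 : ZMod P) = 0
        simp
      add_mem' := by
        intro a b ha hb
        show ∑ x : ZMod Q, (a x + b x) = 0
        rw [Finset.sum_add_distrib]
        rw [show ∑ x, a x = 0 from ha, show ∑ x, b x = 0 from hb, add_zero]
      neg_mem' := by
        intro a ha
        show ∑ x : ZMod Q, (-a x) = 0
        rw [Finset.sum_neg_distrib, show ∑ x, a x = 0 from ha, neg_zero] }
  inv := by
    intro g f hf
    show ∑ x : ZMod Q, f (x - Multiplicative.toAdd g) = 0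
    exact (Equiv.sum_comp (Equiv.subRight (Multiplicative.toAdd g)) f).trans hf

theorem mem_M1 [NeZero Q] (f : Fn P Q) : f ∈ (M1 P Q).W ↔ ∑ x, f x = 0 := Iff.rfl

end concrete

theorem exists_block (P Q : ℕ) (hP : P.Prime) (hQ : Q.Prime) (hPQ : P ≠ Q) :
    ∃ (F : Type) (_ : Group F) (_ : Finite F) (V : Subgroup F), IsBlock P Q F V := by
  haveI : Fact P.Prime := ⟨hP⟩
  haveI : Fact Q.Prime := ⟨hQ⟩
  haveI : NeZero P := ⟨hP.pos.ne'⟩
  haveI : NeZero Q := ⟨hQ.pos.ne'⟩
  -- the family of nonzero invariant subgroups of `M1`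
  let 𝒲 : Set (AddSubgroup (Fn P Q)) :=
    {W | W ≠ ⊥ ∧ W ≤ (M1 P Q).W ∧ ∀ (g : Multiplicative (ZMod Q)) (n : Fn P Q), n ∈ W → g • n ∈ W}
  have hne : 𝒲.Nonempty := by
    refine ⟨(M1 P Q).W, ?_, le_rfl, (M1 P Q).inv⟩
    intro h
    have h01 : (0 : ZMod Q) ≠ 1 := zero_ne_one
    let f : Fn P Q := fun x => if x = 0 then 1 else if x = 1 then -1 else 0
    have hf : f ∈ (M1 P Q).W := by
      rw [mem_M1]
      have : ∀ x : ZMod Q, f x = (if x = 0 then (1 : ZMod P) else 0) + (if x = 1 then -1 else 0) := by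
        intro x
        by_cases h0 : x = 0
        · subst h0
          simp [f, h01]
        · by_cases h1 : x = 1
          · subst h1
            simp [f, h0]
          · simp [f, h0, h1]
      simp_rw [this]
      rw [Finset.sum_add_distrib, Finset.sum_ite_eq', Finset.sum_ite_eq']
      simp
    rw [h, AddSubgroup.mem_bot] at hf
    have := congrFun hf 0
    simp only [f, if_true] at this
    exact one_ne_zero this
  -- a minimal element (by cardinality)
  obtain ⟨W0, hW0, hW0min⟩ :=
    WellFounded.has_min (measure (fun W : AddSubgroup (Fn P Q) => Nat.card W)).wf 𝒲 hne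
  obtain ⟨hW0ne, hW0le, hW0inv⟩ := hW0
  let I : InvSub (Multiplicative (ZMod Q)) (Fn P Q) := ⟨W0, hW0inv⟩
  have hK : Nat.card (Multiplicative (ZMod Q)) = Q := by
    rw [Nat.card_eq_fintype_card, Fintype.card_multiplicative, ZMod.card]
  have hexp : ∀ n : Fn P Q, P • n = 0 := by
    intro n
    funext x
    show P • n x = 0
    rw [nsmul_eq_mul, ZMod.natCast_self, zero_mul]
  have hfpf : ∀ g : Multiplicative (ZMod Q), g ≠ 1 → ∀ n ∈ I.W, g • n = n → n = 0 := by
    intro g hg n hn hfix
    have hsum : ∑ x, n x = 0 := hW0le hn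
    have ha : Multiplicative.toAdd g ≠ 0 := by
      intro h
      apply hg
      exact Multiplicative.toAdd.injective h
    -- n is constant
    have hshift : ∀ (k : ℕ) (x : ZMod Q), n (x - k • Multiplicative.toAdd g) = n x := by
      intro k
      induction k with
      | zero => intro x; simp
      | succ k ih =>
        intro x
        have := congrFun hfix (x - k • Multiplicative.toAdd g)
        rw [smul_apply] at this
        rw [succ_nsmul, ← sub_sub, this, ih]
    have hconst : ∀ y : ZMod Q, n y = n 0 := by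
      intro y
      have := hshift (-((Multiplicative.toAdd g)⁻¹ * y)).val 0
      rw [nsmul_eq_mul, ZMod.natCast_zmod_val, neg_mul] at this
      have e : (0 : ZMod Q) - -((Multiplicative.toAdd g)⁻¹ * y * Multiplicative.toAdd g) = y := by
        rw [zero_sub, neg_neg, mul_comm, ← mul_assoc, mul_inv_cancel₀ ha, one_mul]
      rw [e] at this
      exact this
    have hc : (Q : ZMod P) * n 0 = 0 := by
      have : ∑ x : ZMod Q, n x = ∑ _x : ZMod Q, n 0 := Finset.sum_congr rfl fun x _ => hconst x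
      rw [this, Finset.sum_const, Finset.card_univ, ZMod.card, nsmul_eq_mul] at hsum
      exact hsum
    have hQP : (Q : ZMod P) ≠ 0 := by
      intro h
      rw [ZMod.natCast_eq_zero_iff] at h
      exact hPQ ((Nat.prime_dvd_prime_iff_eq hP hQ).1 h)
    have h0 : n 0 = 0 := (mul_eq_zero.1 hc).resolve_left hQP
    funext y
    rw [hconst y, h0]
    rfl
  have hmin : ∀ I' : InvSub (Multiplicative (ZMod Q)) (Fn P Q), I'.W ≤ I.W → I'.W ≠ ⊥ →
      I'.W = I.W := by
    intro I' hle hne'
    have hmem : I'.W ∈ 𝒲 := ⟨hne', hle.trans hW0le, I'.inv⟩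
    have hnlt := hW0min I'.W hmem
    by_contra hne2
    apply hnlt
    show Nat.card I'.W < Nat.card W0
    have hlt : I'.W < W0 := lt_of_le_of_ne hle hne2
    exact Set.ncard_lt_ncard (s := (I'.W : Set (Fn P Q))) (t := (W0 : Set (Fn P Q)))
      hlt (Set.toFinite _)
  refine ⟨Blk I, inferInstance, ?_, VV I, isBlock hP hQ hPQ hK hexp I hfpf hW0ne hmin⟩
  haveI : Finite ↥I.W := Subtype.finite
  infer_instance

end Cfsg.Agent.Lib.H22.Crit
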