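import Mathlib
import Cfsg.Agent.Lib.H22.CritA

/-!
# Direct products of blocks: spectrum, criticality, non-isomorphism
-/

set_option autoImplicit false

namespace Cfsg.Agent.Lib.H22.Crit

theorem prod_dvd_of_pairwise_coprime {ι : Type*} [DecidableEq ι] (t : Finset ι) (f : ι → ℕ) (n : ℕ)
    (hc : ∀ i ∈ t, ∀ j ∈ t, i ≠ j → Nat.Coprime (f i) (f j)) (hd : ∀ i ∈ t, f i ∣ n) :
    ∏ i ∈ t, f i ∣ n := by
  induction t using Finset.induction_on with
  | empty => simp
  | insert a t ha ih =>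
    rw [Finset.prod_insert ha]
    apply Nat.Coprime.mul_dvd_of_dvd_of_dvd
    · apply Nat.Coprime.prod_right
      intro i hi
      apply hc a (Finset.mem_insert_self _ _) i (Finset.mem_insert_of_mem hi)
      rintro rfl
      exact ha hi
    · exact hd a (Finset.mem_insert_self _ _)
    · apply ih
      · intro i hi j hj hij
        exact hc i (Finset.mem_insert_of_mem hi) j (Finset.mem_insert_of_mem hj) hij
      · intro i hi
        exact hd i (Finset.mem_insert_of_mem hi)

/-- The spectrum set. -/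
def Om {s : ℕ} (P Q : Fin s → ℕ) : Set ℕ :=
  {m | ∃ c : Fin s → ℕ, (∀ j, c j = 1 ∨ c j = P j ∨ c j = Q j) ∧ m = ∏ j, c j}

section pi

variable {s : ℕ} {F : Fin s → Type} [∀ j, Group (F j)]
  {V : ∀ j, Subgroup (F j)} {P Q : Fin s → ℕ}
  (hP : ∀ j, (P j).Prime) (hQ : ∀ j, (Q j).Prime)
  (hPQ : ∀ j, P j ≠ Q j)
  (hd : ∀ j j', j ≠ j' → P j ≠ P j' ∧ P j ≠ Q j' ∧ Q j ≠ P j' ∧ Q j ≠ Q j')
  (hB : ∀ j, IsBlock (P j) (Q j) (F j) (V j))

include hB in
theorem order_cases (j : Fin s) (x : F j) :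
    orderOf x = 1 ∨ orderOf x = P j ∨ orderOf x = Q j := by
  by_cases hx : x ∈ V j
  · by_cases hx1 : x = 1
    · left; rw [hx1, orderOf_one]
    · right; left; exact (hB j).order_V x hx hx1
  · right; right; exact (hB j).order_notV x hx

include hP hQ hB in
theorem orderOf_pos' (j : Fin s) (x : F j) : 0 < orderOf x := by
  rcases order_cases hB j x with h | h | h <;> rw [h]
  · norm_num
  · exact (hP j).pos
  · exact (hQ j).pos

include hP hQ hd hB in
theorem coprime_orders (x : ∀ j, F j) (i j : Fin s) (hij : i ≠ j) :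
    Nat.Coprime (orderOf (x i)) (orderOf (x j)) := by
  have h := hd i j hij
  rcases order_cases hB i (x i) with h1 | h1 | h1 <;>
    rcases order_cases hB j (x j) with h2 | h2 | h2 <;> rw [h1, h2]
  · exact Nat.coprime_one_left _
  · exact Nat.coprime_one_left _
  · exact Nat.coprime_one_left _
  · exact Nat.coprime_one_right _
  · exact (Nat.coprime_primes (hP i) (hP j)).2 h.1
  · exact (Nat.coprime_primes (hP i) (hQ j)).2 h.2.1
  · exact Nat.coprime_one_right _
  · exact (Nat.coprime_primes (hQ i) (hP j)).2 h.2.2.1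
  · exact (Nat.coprime_primes (hQ i) (hQ j)).2 h.2.2.2

include hP hQ hd hB in
theorem orderOf_pi (x : ∀ j, F j) : orderOf x = ∏ j, orderOf (x j) := by
  apply Nat.dvd_antisymm
  · apply orderOf_dvd_of_pow_eq_one
    funext j
    rw [Pi.pow_apply, Pi.one_apply]
    apply orderOf_dvd_iff_pow_eq_one.1
    exact Finset.dvd_prod_of_mem _ (Finset.mem_univ j)
  · apply prod_dvd_of_pairwise_coprime
    · intro i _ j _ hij
      exact coprime_orders hP hQ hd hB x i j hij
    · intro i _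
      exact orderOf_apply_dvd_orderOf i

include hP hQ hd hB in
theorem range_orderOf : Set.range (orderOf : (∀ j, F j) → ℕ) = Om P Q := by
  ext m
  constructor
  · rintro ⟨x, rfl⟩
    exact ⟨fun j => orderOf (x j), fun j => order_cases hB j (x j), orderOf_pi hP hQ hd hB x⟩
  · rintro ⟨c, hc, rfl⟩
    have : ∀ j, ∃ y : F j, orderOf y = c j := by
      intro j
      rcases hc j with h | h | h
      · exact ⟨1, by rw [orderOf_one, h]⟩
      · obtain ⟨⟨v, hv⟩, hv1⟩ := (Subgroup.ne_bot_iff_exists_ne_one).1 (hB j).ne_bot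
        have hv1' : v ≠ 1 := fun h' => hv1 (Subtype.ext h')
        exact ⟨v, by rw [(hB j).order_V v hv hv1', h]⟩
      · obtain ⟨y, hy⟩ := (hB j).exists_Q
        exact ⟨y, by rw [hy, h]⟩
    choose x hx using this
    refine ⟨x, ?_⟩
    rw [orderOf_pi hP hQ hd hB x]
    exact Finset.prod_congr rfl fun j _ => hx j

theorem P_mem_Om (j : Fin s) : P j ∈ Om P Q := by
  classical
  refine ⟨fun i => if i = j then P j else 1, ?_, ?_⟩
  · intro i
    by_cases h : i = j
    · subst h; right; left; simp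
    · left; simp [h]
  · rw [Finset.prod_ite_eq' Finset.univ j (fun _ => P j)]
    simp

theorem Q_mem_Om (j : Fin s) : Q j ∈ Om P Q := by
  classical
  refine ⟨fun i => if i = j then Q j else 1, ?_, ?_⟩
  · intro i
    by_cases h : i = j
    · subst h; right; right; simp
    · left; simp [h]
  · rw [Finset.prod_ite_eq' Finset.univ j (fun _ => Q j)]
    simp

include hP hQ hd hB in
/-- An element whose order is one of the two primes of the block `j` lives in the factor `j`. -/
theorem apply_eq_one_of_orderOf (x : ∀ j, F j) (j : Fin s)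
    (hx : orderOf x = P j ∨ orderOf x = Q j) (i : Fin s) (hij : i ≠ j) : x i = 1 := by
  have h1 : orderOf (x i) ∣ orderOf x := orderOf_apply_dvd_orderOf i
  have h := hd i j hij
  rw [← orderOf_eq_one_iff]
  rcases order_cases hB i (x i) with h2 | h2 | h2
  · exact h2
  · exfalso
    rw [h2] at h1
    rcases hx with hx | hx <;> rw [hx] at h1
    · exact h.1 ((Nat.prime_dvd_prime_iff_eq (hP i) (hP j)).1 h1)
    · exact h.2.1 ((Nat.prime_dvd_prime_iff_eq (hP i) (hQ j)).1 h1)
  · exfalso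
    rw [h2] at h1
    rcases hx with hx | hx <;> rw [hx] at h1
    · exact h.2.2.1 ((Nat.prime_dvd_prime_iff_eq (hQ i) (hP j)).1 h1)
    · exact h.2.2.2 ((Nat.prime_dvd_prime_iff_eq (hQ i) (hQ j)).1 h1)

theorem eq_mulSingle (x : ∀ j, F j) (j : Fin s) (h : ∀ i, i ≠ j → x i = 1) :
    x = Pi.mulSingle j (x j) := by
  funext i
  by_cases hij : i = j
  · subst hij
    rw [Pi.mulSingle_eq_same]
  · rw [Pi.mulSingle_eq_of_ne hij, h i hij]

theorem orderOf_mulSingle (j : Fin s) (y : F j) :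
    orderOf (Pi.mulSingle j y : ∀ j, F j) = orderOf y :=
  orderOf_injective (MonoidHom.mulSingle F j) (Pi.mulSingle_injective j) y

/-- the exponent of the other factors -/
def eOther (P Q : Fin s → ℕ) (j : Fin s) : ℕ := ∏ i ∈ Finset.univ.erase j, (P i * Q i)

include hB in
theorem pow_eOther (x : ∀ j, F j) (j i : Fin s) (hij : i ≠ j) : (x i) ^ eOther P Q j = 1 := by
  apply orderOf_dvd_iff_pow_eq_one.1
  have h1 : orderOf (x i) ∣ P i * Q i := by
    rcases order_cases hB i (x i) with h | h | h <;> rw [h]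
    · exact one_dvd _
    · exact Dvd.intro _ rfl
    · exact Dvd.intro_left _ rfl
  exact h1.trans (Finset.dvd_prod_of_mem (fun i => P i * Q i)
    (Finset.mem_erase.2 ⟨hij, Finset.mem_univ i⟩))

include hP hQ hd in
theorem not_dvd_eOther (j : Fin s) {r : ℕ} (hr : r = P j ∨ r = Q j) : ¬ r ∣ eOther P Q j := by
  intro h
  have hrp : r.Prime := by rcases hr with rfl | rfl; exact hP j; exact hQ j
  unfold eOther at h
  rw [Prime.dvd_finsetProd_iff hrp.prime] at h
  obtain ⟨i, hi, hdiv⟩ := h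
  have hij : i ≠ j := (Finset.mem_erase.1 hi).1
  have hh := hd i j hij
  rcases (Nat.Prime.dvd_mul hrp).1 hdiv with h1 | h1
  · have := (Nat.prime_dvd_prime_iff_eq hrp (hP i)).1 h1
    rcases hr with rfl | rfl
    · exact hh.1 this.symm
    · exact hh.2.1 this.symm
  · have := (Nat.prime_dvd_prime_iff_eq hrp (hQ i)).1 h1
    rcases hr with rfl | rfl
    · exact hh.2.2.1 this.symm
    · exact hh.2.2.2 this.symm

theorem pow_eq_mulSingle (x : ∀ j, F j) (j : Fin s) (e : ℕ) (h : ∀ i, i ≠ j → (x i) ^ e = 1) :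
    x ^ e = Pi.mulSingle j ((x j) ^ e) := by
  funext i
  by_cases hij : i = j
  · subst hij
    rw [Pi.mulSingle_eq_same, Pi.pow_apply]
  · rw [Pi.mulSingle_eq_of_ne hij, Pi.pow_apply, h i hij]

/-- lifting an element of prime order from a quotient of a subgroup -/
theorem exists_orderOf_of_quotient {G : Type*} [Group G] (H : Subgroup G) (N : Subgroup H)
    [N.Normal] (hfin : ∀ g : G, 0 < orderOf g) (r : ℕ)
    (q : H ⧸ N) (hq : orderOf q = r) (hr : 0 < r) : ∃ h ∈ H, orderOf h = r := by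
  obtain ⟨h, rfl⟩ := QuotientGroup.mk_surjective q
  have h1 : r ∣ orderOf h := by
    rw [← hq]
    apply orderOf_dvd_of_pow_eq_one
    rw [← QuotientGroup.mk_pow, pow_orderOf_eq_one]
    rfl
  have h0 : 0 < orderOf h := by
    rw [← Subgroup.orderOf_coe]
    exact hfin _
  obtain ⟨k, hk⟩ := h1
  have hk0 : k ≠ 0 := by
    rintro rfl
    rw [mul_zero] at hk
    omega
  refine ⟨((h ^ k : H) : G), (h ^ k).2, ?_⟩
  rw [Subgroup.orderOf_coe, orderOf_pow_of_dvd hk0 (by rw [hk]; exact Dvd.intro_left r rfl), hk]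
  exact Nat.mul_div_cancel _ (Nat.pos_of_ne_zero hk0)

include hP hQ hPQ hd hB in
theorem eq_top_of_range (H : Subgroup (∀ j, F j)) (N : Subgroup H) [N.Normal]
    (hsp : Set.range (orderOf : H ⧸ N → ℕ) = Om P Q) : H = ⊤ := by
  classical
  have hfin : ∀ g : (∀ j, F j), 0 < orderOf g := by
    intro g
    rw [orderOf_pi hP hQ hd hB g]
    exact Finset.prod_pos fun j _ => orderOf_pos' hP hQ hB j (g j)
  have hcomap : ∀ j, H.comap (MonoidHom.mulSingle F j) = ⊤ := by
    intro j
    apply (hB j).gen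
    · have : Q j ∈ Set.range (orderOf : H ⧸ N → ℕ) := by rw [hsp]; exact Q_mem_Om j
      obtain ⟨q, hq⟩ := this
      obtain ⟨h, hhH, hho⟩ := exists_orderOf_of_quotient H N hfin (Q j) q hq (hQ j).pos
      have h1 := apply_eq_one_of_orderOf hP hQ hd hB h j (Or.inr hho)
      have h2 := eq_mulSingle h j h1
      refine ⟨h j, ?_, ?_⟩
      · show Pi.mulSingle j (h j) ∈ H
        rw [← h2]; exact hhH
      · rw [← orderOf_mulSingle j (h j), ← h2, hho]
    · have : P j ∈ Set.range (orderOf : H ⧸ N → ℕ) := by rw [hsp]; exact P_mem_Om j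
      obtain ⟨q, hq⟩ := this
      obtain ⟨h, hhH, hho⟩ := exists_orderOf_of_quotient H N hfin (P j) q hq (hP j).pos
      have h1 := apply_eq_one_of_orderOf hP hQ hd hB h j (Or.inl hho)
      have h2 := eq_mulSingle h j h1
      refine ⟨h j, ?_, ?_⟩
      · show Pi.mulSingle j (h j) ∈ H
        rw [← h2]; exact hhH
      · rw [← orderOf_mulSingle j (h j), ← h2, hho]
  rw [eq_top_iff]
  intro x _
  apply Subgroup.pi_mem_of_mulSingle_mem
  intro j
  have : x j ∈ H.comap (MonoidHom.mulSingle F j) := by rw [hcomap j]; trivial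
  exact this

include hP hQ hPQ hd hB in
theorem eq_bot_of_range (N : Subgroup (⊤ : Subgroup (∀ j, F j))) [N.Normal]
    (hsp : Set.range (orderOf : (⊤ : Subgroup (∀ j, F j)) ⧸ N → ℕ) = Om P Q) : N = ⊥ := by
  classical
  by_contra hN
  let T : Subgroup (∀ j, F j) := ⊤
  let N' : Subgroup (∀ j, F j) := N.map T.subtype
  have hN'normal : N'.Normal := by
    apply Subgroup.Normal.map inferInstance
    intro g
    exact ⟨⟨g, trivial⟩, rfl⟩
  have hN'ne : N' ≠ ⊥ := by
    intro h
    apply hN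
    exact (Subgroup.map_eq_bot_iff_of_injective N T.subtype_injective).1 h
  obtain ⟨⟨n, hn⟩, hn1'⟩ := (Subgroup.ne_bot_iff_exists_ne_one).1 hN'ne
  have hn1 : n ≠ 1 := fun h => hn1' (Subtype.ext h)
  obtain ⟨j, hj⟩ : ∃ j, n j ≠ 1 := by
    by_contra h
    push Not at h
    exact hn1 (funext h)
  -- the power n^e lies in the j-th factor and is nontrivial
  have hpow := pow_eq_mulSingle n j (eOther P Q j) (fun i hij => pow_eOther hB n j i hij)
  have hne : (n j) ^ eOther P Q j ≠ 1 := by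
    intro h
    have h1 := orderOf_dvd_of_pow_eq_one h
    have h2 : orderOf (n j) = P j ∨ orderOf (n j) = Q j := by
      rcases order_cases hB j (n j) with h | h | h
      · exact absurd (orderOf_eq_one_iff.1 h) hj
      · exact Or.inl h
      · exact Or.inr h
    exact not_dvd_eOther hP hQ hd j h2 h1
  have hVle : V j ≤ N'.comap (MonoidHom.mulSingle F j) := by
    apply (hB j).min
    · exact hN'normal.comap _
    · intro h
      have : (n j) ^ eOther P Q j ∈ N'.comap (MonoidHom.mulSingle F j) := by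
        show Pi.mulSingle j ((n j) ^ eOther P Q j) ∈ N'
        rw [← hpow]
        exact N'.pow_mem hn _
      rw [h, Subgroup.mem_bot] at this
      exact hne this
  -- now `P j` is not the order of any element of the quotient
  have : P j ∈ Set.range (orderOf : (⊤ : Subgroup (∀ j, F j)) ⧸ N → ℕ) := by
    rw [hsp]; exact P_mem_Om j
  obtain ⟨q, hq⟩ := this
  obtain ⟨h, rfl⟩ := QuotientGroup.mk_surjective q
  -- h ^ (e * Q j) ∈ N
  have hmem : h ^ (eOther P Q j * Q j) ∈ N := by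
    have h1 : ((h : ∀ j, F j)) ^ (eOther P Q j * Q j) =
        Pi.mulSingle j (((h : ∀ j, F j) j) ^ (eOther P Q j * Q j)) := by
      apply pow_eq_mulSingle
      intro i hij
      rw [pow_mul, pow_eOther hB (h : ∀ j, F j) j i hij, one_pow]
    have h2 : ((h : ∀ j, F j) j) ^ (eOther P Q j * Q j) ∈ V j := by
      by_cases hv : (h : ∀ j, F j) j ∈ V j
      · exact (V j).pow_mem hv _
      · have := (hB j).order_notV _ hv
        rw [mul_comm, pow_mul, ← this, pow_orderOf_eq_one, one_pow]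
        exact (V j).one_mem
    have h3 : ((h : ∀ j, F j)) ^ (eOther P Q j * Q j) ∈ N' := by
      rw [h1]
      exact hVle h2
    obtain ⟨m, hm, hmeq⟩ := h3
    have : m = h ^ (eOther P Q j * Q j) := Subtype.ext hmeq
    rw [← this]
    exact hm
  have hq1 : ((h : (⊤ : Subgroup (∀ j, F j)) ⧸ N)) ^ (eOther P Q j * Q j) = 1 := by
    rw [← QuotientGroup.mk_pow]
    exact (QuotientGroup.eq_one_iff _).2 hmem
  have hdvd := orderOf_dvd_of_pow_eq_one hq1
  rw [hq] at hdvd
  rcases (Nat.Prime.dvd_mul (hP j)).1 hdvd with h1 | h1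
  · exact not_dvd_eOther hP hQ hd j (Or.inl rfl) h1
  · exact hPQ j ((Nat.prime_dvd_prime_iff_eq (hP j) (hQ j)).1 h1)

include hP hQ hPQ hd hB in
/-- Criticality. -/
theorem critical (H : Subgroup (∀ j, F j)) (N : Subgroup H) [N.Normal]
    (hHN : H ≠ ⊤ ∨ N ≠ ⊥) : Set.range (orderOf : H ⧸ N → ℕ) ≠ Om P Q := by
  intro hsp
  have hH := eq_top_of_range hP hQ hPQ hd hB H N hsp
  subst hH
  have hN := eq_bot_of_range hP hQ hPQ hd hB N hsp
  rcases hHN with h | h
  · exact h rfl
  · exact h hN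

end pi

section noniso

variable {s : ℕ} {F F' : Fin s → Type} [∀ j, Group (F j)] [∀ j, Group (F' j)]
  {V : ∀ j, Subgroup (F j)} {V' : ∀ j, Subgroup (F' j)} {P Q P' Q' : Fin s → ℕ}
  (hP' : ∀ j, (P' j).Prime) (hQ' : ∀ j, (Q' j).Prime)
  (hPQ' : ∀ j, P' j ≠ Q' j)
  (hd' : ∀ j j', j ≠ j' → P' j ≠ P' j' ∧ P' j ≠ Q' j' ∧ Q' j ≠ P' j' ∧ Q' j ≠ Q' j')
  (hB : ∀ j, IsBlock (P j) (Q j) (F j) (V j))
  (hB' : ∀ j, IsBlock (P' j) (Q' j) (F' j) (V' j))

include hP' hQ' hPQ' hd' hB hB' in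
theorem not_iso (j0 : Fin s) (hj0 : P j0 = Q' j0) :
    ¬ Nonempty ((∀ j, F j) ≃* (∀ j, F' j)) := by
  classical
  rintro ⟨e⟩
  -- the normal subgroup of G
  let 𝒱 : Subgroup (∀ j, F j) :=
    { carrier := {x | x j0 ∈ V j0 ∧ ∀ i, i ≠ j0 → x i = 1}
      one_mem' := ⟨(V j0).one_mem, fun _ _ => rfl⟩
      mul_mem' := by
        rintro a b ⟨ha, ha'⟩ ⟨hb, hb'⟩
        refine ⟨(V j0).mul_mem ha hb, fun i hi => ?_⟩
        rw [Pi.mul_apply, ha' i hi, hb' i hi, one_mul]
      inv_mem' := by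
        rintro a ⟨ha, ha'⟩
        refine ⟨(V j0).inv_mem ha, fun i hi => ?_⟩
        rw [Pi.inv_apply, ha' i hi, inv_one] }
  have h𝒱normal : 𝒱.Normal := by
    constructor
    rintro n ⟨hn, hn'⟩ g
    refine ⟨?_, fun i hi => ?_⟩
    · exact (hB j0).normal.conj_mem _ hn _
    · show g i * n i * (g i)⁻¹ = 1
      rw [hn' i hi, mul_one, mul_inv_cancel]
  let 𝒩 : Subgroup (∀ j, F' j) := 𝒱.map e.toMonoidHom
  have h𝒩normal : 𝒩.Normal := Subgroup.Normal.map h𝒱normal _ e.surjective
  -- orders in 𝒩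
  have hord : ∀ n ∈ 𝒩, n ≠ 1 → orderOf n = P j0 := by
    rintro n ⟨x, ⟨hx, hx'⟩, rfl⟩ hn1
    have h1 : x = Pi.mulSingle j0 (x j0) := eq_mulSingle x j0 hx'
    have hxj : x j0 ≠ 1 := by
      intro h
      apply hn1
      rw [h1, h, Pi.mulSingle_one]
      exact map_one _
    show orderOf (e x) = P j0
    rw [MulEquiv.orderOf_eq, h1, orderOf_mulSingle]
    exact (hB j0).order_V _ hx hxj
  -- 𝒩 is nontrivial
  obtain ⟨⟨v, hv⟩, hv1'⟩ := (Subgroup.ne_bot_iff_exists_ne_one).1 (hB j0).ne_bot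
  have hv1 : v ≠ 1 := fun h => hv1' (Subtype.ext h)
  have hmem : e (Pi.mulSingle j0 v) ∈ 𝒩 := by
    refine ⟨Pi.mulSingle j0 v, ⟨?_, fun i hi => ?_⟩, rfl⟩
    · rw [Pi.mulSingle_eq_same]; exact hv
    · rw [Pi.mulSingle_eq_of_ne hi]
  have hne1 : e (Pi.mulSingle j0 v) ≠ 1 := by
    intro h
    have := e.injective (h.trans (map_one e).symm)
    apply hv1
    have h2 := congrFun this j0
    rwa [Pi.mulSingle_eq_same] at h2
  -- the element n := e (mulSingle v) has order Q' j0, so lives in the factor j0 of G'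
  have ho := hord _ hmem hne1
  rw [hj0] at ho
  have h1 := apply_eq_one_of_orderOf hP' hQ' hd' hB' _ j0 (Or.inr ho)
  have h2 := eq_mulSingle _ j0 h1
  have hyne : (e (Pi.mulSingle j0 v)) j0 ≠ 1 := by
    intro h
    apply hne1
    rw [h2, h, Pi.mulSingle_one]
  have hVle : V' j0 ≤ 𝒩.comap (MonoidHom.mulSingle F' j0) := by
    apply (hB' j0).min
    · exact h𝒩normal.comap _
    · intro h
      have : (e (Pi.mulSingle j0 v)) j0 ∈ 𝒩.comap (MonoidHom.mulSingle F' j0) := by
        show Pi.mulSingle j0 ((e (Pi.mulSingle j0 v)) j0) ∈ 𝒩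
        rw [← h2]
        exact hmem
      rw [h, Subgroup.mem_bot] at this
      exact hyne this
  obtain ⟨⟨v', hv'⟩, hv1''⟩ := (Subgroup.ne_bot_iff_exists_ne_one).1 (hB' j0).ne_bot
  have hv'1 : v' ≠ 1 := fun h => hv1'' (Subtype.ext h)
  have h3 : Pi.mulSingle j0 v' ∈ 𝒩 := hVle hv'
  have h4 : (Pi.mulSingle j0 v' : ∀ j, F' j) ≠ 1 := by
    intro h
    apply hv'1
    have h5 := congrFun h j0
    rwa [Pi.mulSingle_eq_same] at h5
  have h5 := hord _ h3 h4
  rw [orderOf_mulSingle, (hB' j0).order_V v' hv' hv'1, hj0] at h5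
  exact hPQ' j0 h5

end noniso

end Cfsg.Agent.Lib.H22.Crit
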