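import Mathlib
import Cfsg.Agent.Lib.H23.ItoMichlerPSolv
import Cfsg.Agent.Lib.L0.RealPDegD
import Cfsg.Agent.Lib.L0.PrincipalQuot
import Cfsg.Agent.Lib.H1.PSolvDual
import Cfsg.Agent.Lib.H7.Kazarin2
import Cfsg.Agent.Lib.H9.PPrimeCore
import Cfsg.Agent.S4601
import Cfsg.Prelude.Def_CaseTheorems

/-!
# Derived length of a Sylow `p`-subgroup and characters of degree divisible by `p` (helper22)

Tools for S4768: for a finite `p`-solvable group `G` with Sylow `p`-subgroup `P`, if `n` is the number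
of irreducible characters of degree divisible by `p`, then `P^{(n+1)} = 1`.

This file: derived-length bookkeeping, the count `nSing`, the Sylow quotient map `sylMap`, and the
key character-theoretic lemmas `key_nonabelian` and `exists_sing_nontrivial`.
-/

set_option autoImplicit false

namespace Cfsg.Agent.Lib.H22.DLSing

open Cfsg Cfsg.Agent.Lib.H23 Cfsg.Agent.Lib.H24 Cfsg.Agent.Lib.L0
open scoped ComplexConjugate

universe u

section DL

variable {H H' : Type*} [Group H] [Group H']

theorem dl_mono {k k' : ℕ} (h : derivedSeries H k = ⊥) (hk : k ≤ k') :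
    derivedSeries H k' = ⊥ :=
  le_bot_iff.1 ((derivedSeries_antitone H hk).trans h.le)

theorem dl_of_injective (f : H →* H') (hf : Function.Injective f) {k : ℕ}
    (h : derivedSeries H' k = ⊥) : derivedSeries H k = ⊥ := by
  have h1 := map_derivedSeries_le_derivedSeries f k
  rw [h, le_bot_iff] at h1
  exact (Subgroup.map_eq_bot_iff_of_injective _ hf).1 h1

theorem dl_succ_of_ker_comm (f : H →* H')
    (hker : ∀ a ∈ f.ker, ∀ b ∈ f.ker, a * b = b * a) {k : ℕ}
    (h : derivedSeries H' k = ⊥) : derivedSeries H (k + 1) = ⊥ := by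
  have h1 := map_derivedSeries_le_derivedSeries f k
  rw [h, le_bot_iff] at h1
  have h2 : derivedSeries H k ≤ f.ker := by
    intro x hx
    rw [MonoidHom.mem_ker]
    have h3 : f x ∈ (derivedSeries H k).map f := Subgroup.mem_map_of_mem f hx
    rw [h1] at h3
    exact Subgroup.mem_bot.1 h3
  rw [derivedSeries_succ, eq_bot_iff, Subgroup.commutator_le]
  intro a ha b hb
  rw [Subgroup.mem_bot, commutatorElement_def]
  have h4 := hker a (h2 ha) b (h2 hb)
  rw [h4]
  group

end DL

section Count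

variable {G : Type*} [Group G] [Fintype G] (p : ℕ)

/-- The number of irreducible characters of degree divisible by `p`. -/
noncomputable def nSing (p : ℕ) (G : Type*) [Group G] : ℕ :=
  Nat.card {χ : IrrCharacter G // p ∣ charDegree (χ : G → ℂ)}

/-- Inflation on characters of degree divisible by `p`. -/
noncomputable def inflSing (K : Subgroup G) [K.Normal] :
    {ψ : IrrCharacter (G ⧸ K) // p ∣ charDegree (ψ : G ⧸ K → ℂ)} →
      {χ : IrrCharacter G // p ∣ charDegree (χ : G → ℂ)} :=
  fun ψ => ⟨inflIrr K ψ.1, by rw [charDegree_inflIrr]; exact ψ.2⟩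

theorem inflSing_injective (K : Subgroup G) [K.Normal] : Function.Injective (inflSing p K) := by
  intro a b h
  apply Subtype.ext
  apply Cfsg.Agent.Lib.L0.PrincipalQuot.inflIrr_injective K
  exact congrArg Subtype.val h

theorem nSing_quot_le (K : Subgroup G) [K.Normal] : nSing p (G ⧸ K) ≤ nSing p G := by
  haveI := finite_irr (G := G)
  exact Nat.card_le_card_of_injective _ (inflSing_injective p K)

theorem nSing_quot_lt (K : Subgroup G) [K.Normal] (χ : IrrCharacter G)
    (hp : p ∣ charDegree (χ : G → ℂ))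
    (hk : ∃ k ∈ K, (χ : G → ℂ) k ≠ (χ : G → ℂ) 1) : nSing p (G ⧸ K) < nSing p G := by
  classical
  haveI := finite_irr (G := G)
  haveI : Fintype (G ⧸ K) := Fintype.ofFinite _
  haveI := finite_irr (G := G ⧸ K)
  haveI := Fintype.ofFinite {χ : IrrCharacter G // p ∣ charDegree (χ : G → ℂ)}
  haveI := Fintype.ofFinite {ψ : IrrCharacter (G ⧸ K) // p ∣ charDegree (ψ : G ⧸ K → ℂ)}
  unfold nSing
  rw [Nat.card_eq_fintype_card, Nat.card_eq_fintype_card]
  apply Fintype.card_lt_of_injective_of_notMem (inflSing p K) (inflSing_injective p K)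
    (b := ⟨χ, hp⟩)
  rintro ⟨ψ, hψ⟩
  obtain ⟨k, hkK, hne⟩ := hk
  apply hne
  have h1 : (inflIrr K ψ.1 : G → ℂ) = (χ : G → ℂ) := by
    have h2 := congrArg (fun x : {χ : IrrCharacter G // p ∣ charDegree (χ : G → ℂ)} =>
      ((x.1 : IrrCharacter G) : G → ℂ)) hψ
    exact h2
  rw [← h1, inflIrr_apply, inflIrr_apply, (QuotientGroup.eq_one_iff k).2 hkK, QuotientGroup.mk_one]

theorem trivial_of_nSing_quot_eq (K : Subgroup G) [K.Normal] (h : nSing p (G ⧸ K) = nSing p G)
    (χ : IrrCharacter G) (hp : p ∣ charDegree (χ : G → ℂ)) :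
    ∀ k ∈ K, (χ : G → ℂ) k = (χ : G → ℂ) 1 := by
  by_contra hcon
  push Not at hcon
  have := nSing_quot_lt p K χ hp hcon
  omega

/-- Irreducible characters separate non-identity elements from the identity. -/
theorem exists_irr_ne_one {x : G} (hx : x ≠ 1) :
    ∃ χ : IrrCharacter G, (χ : G → ℂ) x ≠ (χ : G → ℂ) 1 := by
  classical
  by_contra hcon
  push Not at hcon
  haveI := finite_irr (G := G)
  haveI := Fintype.ofFinite (IrrCharacter G)
  have h1 := second_orthogonality (G := G) x 1
  have hnc : ¬ IsConj x 1 := fun h => hx (isConj_one_left.1 h)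
  rw [if_neg hnc] at h1
  have h2 := sum_irr_one_sq (G := G)
  have h3 : ∑ χ : IrrCharacter G, (χ : G → ℂ) x * conj ((χ : G → ℂ) 1) =
      ∑ χ : IrrCharacter G, (χ : G → ℂ) 1 ^ 2 := by
    refine Finset.sum_congr rfl (fun χ _ => ?_)
    rw [hcon χ]
    obtain ⟨n, _, hn⟩ := irr_one_eq χ
    rw [hn, Complex.conj_natCast, sq]
  rw [h3, h2] at h1
  have h4 : (Nat.card G : ℂ) ≠ 0 := by exact_mod_cast (Nat.card_pos (α := G)).ne'
  exact h4 h1

/-- If `1 ≠ N ⊴ G` lies in the derived subgroup of a Sylow `p`-subgroup, then some irreducible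
character of degree divisible by `p` is nontrivial on `N`. -/
theorem key_nonabelian [Fact p.Prime] (P : Sylow p G) (N : Subgroup G) [N.Normal] (hN1 : N ≠ ⊥)
    (hNP : N ≤ ⁅(P : Subgroup G), (P : Subgroup G)⁆) : nSing p (G ⧸ N) < nSing p G := by
  by_contra hcon
  have heq : nSing p (G ⧸ N) = nSing p G := le_antisymm (nSing_quot_le p N) (not_lt.1 hcon)
  obtain ⟨⟨x, hxN⟩, hx1⟩ := (Subgroup.ne_bot_iff_exists_ne_one).1 hN1
  have hx1' : x ≠ 1 := fun h => hx1 (Subtype.ext h)
  obtain ⟨χ, hχ⟩ := exists_irr_ne_one (x := x) hx1'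
  by_cases hp : p ∣ charDegree (χ : G → ℂ)
  · exact hχ (trivial_of_nSing_quot_eq p N heq χ hp x hxN)
  · exact hχ (Cfsg.Agent.Lib.L0.RealPDeg.trivial_on_derived_sylow p P N hNP χ hp x hxN)

end Count

section SylowMap

variable {G : Type*} [Group G] [Finite G] (p : ℕ) [Fact p.Prime] (P : Sylow p G)
  (K : Subgroup G) [K.Normal]

/-- The map from a Sylow subgroup to its image in a quotient. -/
noncomputable def sylMap : ↥(P : Subgroup G) →*
    ↥((P.mapSurjective (QuotientGroup.mk'_surjective K) : Sylow p (G ⧸ K)) : Subgroup (G ⧸ K)) :=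
  ((QuotientGroup.mk' K).comp (P : Subgroup G).subtype).codRestrict _ (fun x => by
    rw [Sylow.coe_mapSurjective]
    exact Subgroup.mem_map_of_mem _ x.2)

theorem mem_ker_sylMap (x : ↥(P : Subgroup G)) : x ∈ (sylMap p P K).ker ↔ (x : G) ∈ K := by
  rw [MonoidHom.mem_ker]
  constructor
  · intro h
    have h1 := congrArg Subtype.val h
    have h2 : ((x : G) : G ⧸ K) = 1 := h1
    exact (QuotientGroup.eq_one_iff _).1 h2
  · intro h
    apply Subtype.ext
    show ((x : G) : G ⧸ K) = 1
    exact (QuotientGroup.eq_one_iff _).2 h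

theorem sylMap_injective_of_coprime (hK : (Nat.card K).Coprime p) :
    Function.Injective (sylMap p P K) := by
  rw [injective_iff_map_eq_one]
  intro x hx
  have hxK : (x : G) ∈ K := (mem_ker_sylMap p P K x).1 (MonoidHom.mem_ker.2 hx)
  obtain ⟨j, hj⟩ := P.2 x
  have h1 : orderOf (x : G) ∣ p ^ j := by
    apply orderOf_dvd_of_pow_eq_one
    have h := congrArg Subtype.val hj
    simpa using h
  have h2 : orderOf (x : G) ∣ Nat.card K := by
    have h := orderOf_dvd_natCard (⟨(x : G), hxK⟩ : K)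
    rwa [Subgroup.orderOf_mk] at h
  have hc : Nat.Coprime (p ^ j) (Nat.card K) := Nat.Coprime.pow_left j hK.symm
  have h3 : orderOf (x : G) = 1 := (Nat.Coprime.coprime_dvd_left h1 hc).eq_one_of_dvd h2
  apply Subtype.ext
  exact orderOf_eq_one_iff.1 h3

theorem sylMap_ker_comm_of_comm (hK : ∀ a ∈ K, ∀ b ∈ K, a * b = b * a) :
    ∀ a ∈ (sylMap p P K).ker, ∀ b ∈ (sylMap p P K).ker, a * b = b * a := by
  intro a ha b hb
  apply Subtype.ext
  exact hK a ((mem_ker_sylMap p P K a).1 ha) b ((mem_ker_sylMap p P K b).1 hb)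

end SylowMap

end Cfsg.Agent.Lib.H22.DLSing
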