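import Mathlib
import Cfsg.Agent.Lib.H22.DLSingA

/-!
# Derived length of a Sylow `p`-subgroup and characters of degree divisible by `p`, II (helper22)

* `exists_sing_nontrivial`: `G` `p`-solvable, `O_p(G) = 1`, `p ∣ |G|`: some irreducible character of
  degree divisible by `p` is nontrivial on `O_{p'}(G)`.
* `main`: `P^{(n+1)} = 1` where `n` is the number of irreducible characters of degree divisible by
  `p` (and `P^{(n)} = 1` if `O_p(G) = 1`).
-/

set_option autoImplicit false

namespace Cfsg.Agent.Lib.H22.DLSing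

open Cfsg Cfsg.Agent.Lib.H23 Cfsg.Agent.Lib.H24 Cfsg.Agent.Lib.L0
open scoped ComplexConjugate

universe u

section BStep

variable {G : Type u} [Group G] [Fintype G] (p : ℕ) [Fact p.Prime]

/-- A subgroup `I ≥ K` of index prime to `p` contains the preimage of `O_p(G/K)`. -/
theorem comap_pCore_le_of_not_dvd_index (K : Subgroup G) [K.Normal] (I : Subgroup G) (hKI : K ≤ I)
    (hI : ¬ p ∣ I.index) : (pCore p (G ⧸ K)).comap (QuotientGroup.mk' K) ≤ I := by
  have hidx : (I.map (QuotientGroup.mk' K)).index = I.index :=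
    Subgroup.index_map_eq I (QuotientGroup.mk'_surjective K) (by rw [QuotientGroup.ker_mk']; exact hKI)
  obtain ⟨Q, hQ⟩ := Cfsg.Agent.S4601.exists_sylow_le_of_not_dvd_index p
    (I.map (QuotientGroup.mk' K)) (by rw [hidx]; exact hI)
  have hO : pCore p (G ⧸ K) ≤ Q := Cfsg.Agent.Lib.H1.pCore_le_sylow Q
  intro y hy
  rw [Subgroup.mem_comap] at hy
  obtain ⟨i, hi, hiy⟩ := hQ (hO hy)
  have h1 : i⁻¹ * y ∈ K := QuotientGroup.eq.1 hiy
  have h2 := I.mul_mem hi (hKI h1)
  simpa using h2

theorem exists_sing_nontrivial (hG : IsPSolvable p G) (hO : pCore p G = ⊥)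
    (hdiv : p ∣ Nat.card G) :
    ∃ χ : IrrCharacter G, p ∣ charDegree (χ : G → ℂ) ∧
      ∃ k ∈ pPrimeCore p G, (χ : G → ℂ) k ≠ (χ : G → ℂ) 1 := by
  classical
  have hp : p.Prime := Fact.out
  have hKc : (Nat.card (pPrimeCore p G)).Coprime p := Cfsg.Agent.Lib.H22.card_pPrimeCore_coprime p
  haveI : Fintype (pPrimeCore p G) := Fintype.ofFinite _
  haveI : Fintype (G ⧸ pPrimeCore p G) := Fintype.ofFinite _
  -- Step 1: `O_p(G/K) ≠ 1`
  have hqdiv : p ∣ Nat.card (G ⧸ pPrimeCore p G) := by
    have h1 := Subgroup.card_eq_card_quotient_mul_card_subgroup (pPrimeCore p G)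
    rw [h1] at hdiv
    rcases (Nat.Prime.dvd_mul hp).1 hdiv with h | h
    · exact h
    · exfalso
      have := Nat.Coprime.eq_one_of_dvd hKc.symm h
      exact hp.one_lt.ne' this
  haveI : Nontrivial (G ⧸ pPrimeCore p G) := by
    rw [← Finite.one_lt_card_iff_nontrivial]
    have hpos : 0 < Nat.card (G ⧸ pPrimeCore p G) := Nat.card_pos
    have := Nat.le_of_dvd hpos hqdiv
    exact lt_of_lt_of_le hp.one_lt this
  have hsolvq := Cfsg.Agent.Lib.H10.isPSolvable_quotient hG (pPrimeCore p G)
  have hO1 : pCore p (G ⧸ pPrimeCore p G) ≠ ⊥ := by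
    obtain ⟨M, hMn, hM1, hMcase⟩ := Cfsg.Agent.Lib.H10.exists_normal_of_isPSolvable hsolvq
    rcases hMcase with hMp | hMc
    · intro h
      have := Cfsg.Agent.Lib.H1.le_pCore hMn hMp
      rw [h, le_bot_iff] at this
      exact hM1 this
    · exfalso
      have := Cfsg.Agent.Lib.H22.le_pPrimeCore p M hMn hMc
      rw [Cfsg.Agent.Lib.H9.pPrimeCore_quotient_eq_bot p, le_bot_iff] at this
      exact hM1 this
  -- Step 2: an element of order `p` in `L`
  have hOp : IsPGroup p (pCore p (G ⧸ pPrimeCore p G)) := Cfsg.Agent.Lib.H1.pCore_isPGroup p _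
  have hLdiv : p ∣ Nat.card ((pCore p (G ⧸ pPrimeCore p G)).comap
      (QuotientGroup.mk' (pPrimeCore p G))) := by
    have hOdiv : p ∣ Nat.card (pCore p (G ⧸ pPrimeCore p G)) := by
      obtain ⟨a, ha⟩ := IsPGroup.iff_card.1 hOp
      rw [ha]
      have ha0 : a ≠ 0 := by
        intro h0
        rw [h0, pow_zero] at ha
        exact hO1 ((Subgroup.card_eq_one).1 ha)
      exact dvd_pow_self p ha0
    have h1 : Nat.card (pCore p (G ⧸ pPrimeCore p G)) ∣
        Nat.card ((pCore p (G ⧸ pPrimeCore p G)).comap (QuotientGroup.mk' (pPrimeCore p G))) := by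
      have hsurj : Function.Surjective (((QuotientGroup.mk' (pPrimeCore p G))).subgroupComap
          (pCore p (G ⧸ pPrimeCore p G))) :=
        MonoidHom.subgroupComap_surjective_of_surjective _ _
          (QuotientGroup.mk'_surjective (pPrimeCore p G))
      exact Subgroup.card_dvd_of_surjective _ hsurj
    exact hOdiv.trans h1
  obtain ⟨⟨x, hxL⟩, hxo⟩ := exists_prime_orderOf_dvd_card' p hLdiv
  have hxo' : orderOf x = p := by
    rw [← hxo, Subgroup.orderOf_mk]
  -- Step 3: some `θ` has inertia index divisible by `p`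
  have hex : ∃ θ : IrrCharacter (pPrimeCore p G),
      p ∣ (Cfsg.Agent.Lib.H23.inertia (pPrimeCore p G) (θ : pPrimeCore p G → ℂ)).index := by
    by_contra hcon
    push Not at hcon
    have hL : ∀ θ : IrrCharacter (pPrimeCore p G),
        (pCore p (G ⧸ pPrimeCore p G)).comap (QuotientGroup.mk' (pPrimeCore p G)) ≤
          Cfsg.Agent.Lib.H23.inertia (pPrimeCore p G) (θ : pPrimeCore p G → ℂ) := fun θ =>
      comap_pCore_le_of_not_dvd_index p (pPrimeCore p G) _
        (le_inertia (pPrimeCore p G) (isClassFunction_of_isCharacter (isCharacter_of_irr θ.2)))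
        (hcon θ)
    have hQp : IsPGroup p (Subgroup.zpowers x) := by
      apply IsPGroup.of_card (n := 1)
      rw [Nat.card_zpowers, hxo', pow_one]
    have hQL : Subgroup.zpowers x ≤ (pCore p (G ⧸ pPrimeCore p G)).comap
        (QuotientGroup.mk' (pPrimeCore p G)) := by
      rw [Subgroup.zpowers_le]
      exact hxL
    have hcen : pPrimeCore p G ≤ Subgroup.centralizer ((Subgroup.zpowers x : Subgroup G) : Set G) := by
      apply CoprimeFix.le_centralizer_of_fixes_classes (Subgroup.zpowers x) (pPrimeCore p G) hQp hKc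
      · intro y _
        exact Subgroup.mem_normalizer_iff.2 (fun n =>
          ⟨fun hn => (inferInstance : (pPrimeCore p G).Normal).conj_mem n hn y, fun hn => by
            have := (inferInstance : (pPrimeCore p G).Normal).conj_mem _ hn y⁻¹
            simpa [mul_assoc] using this⟩)
      · intro y hy k' hk'
        exact Cfsg.Agent.Lib.H23.ItoMichler.exists_conj_of_invariant (pPrimeCore p G) y
          (fun θ n => (hL θ (hQL hy)) n) k' hk'
    have hxc : x ∈ Subgroup.centralizer ((pPrimeCore p G : Subgroup G) : Set G) := by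
      rw [Subgroup.mem_centralizer_iff]
      intro k hk
      have := Subgroup.mem_centralizer_iff.1 (hcen hk) x (Subgroup.mem_zpowers x)
      exact this.symm
    have hxK : x ∈ pPrimeCore p G :=
      Cfsg.Agent.Lib.H1.PSolvDual.centralizer_pPrimeCore_le_of_isPSolvable p hG hO hxc
    have h2 : orderOf x ∣ Nat.card (pPrimeCore p G) := by
      have h := orderOf_dvd_natCard (⟨x, hxK⟩ : pPrimeCore p G)
      rwa [Subgroup.orderOf_mk] at h
    rw [hxo'] at h2
    have := Nat.Coprime.eq_one_of_dvd hKc.symm h2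
    exact hp.one_lt.ne' this
  obtain ⟨θ, hθ⟩ := hex
  obtain ⟨χ, hχ⟩ := exists_irr_over_restrict (pPrimeCore p G) θ
  refine ⟨χ, hθ.trans (inertia_index_dvd_charDegree (pPrimeCore p G) χ.2 θ.2 hχ), ?_⟩
  by_contra hcon
  push Not at hcon
  -- `χ` trivial on `K` forces `θ` trivial, hence invariant
  have hres : (fun n : pPrimeCore p G => (χ : G → ℂ) n) =
      ((χ : G → ℂ) 1) • (fun _ : pPrimeCore p G => (1 : ℂ)) := by
    funext n
    simp only [Pi.smul_apply, smul_eq_mul, mul_one]
    exact hcon n n.2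
  rw [hres, classInner_smul_left] at hχ
  have h1 : classInner (fun _ : pPrimeCore p G => (1 : ℂ)) (θ : pPrimeCore p G → ℂ) ≠ 0 :=
    fun h => hχ (by rw [h, mul_zero])
  have h2 := irr_orthonormal (⟨fun _ => (1 : ℂ), Cfsg.Agent.Lib.H24.isIrrCharacter_one⟩ : IrrCharacter (pPrimeCore p G)) θ
  have h3 : (⟨fun _ => (1 : ℂ), Cfsg.Agent.Lib.H24.isIrrCharacter_one⟩ : IrrCharacter (pPrimeCore p G)) = θ := by
    by_contra hne
    rw [if_neg hne] at h2
    exact h1 h2
  have h4 : Cfsg.Agent.Lib.H23.inertia (pPrimeCore p G) (θ : pPrimeCore p G → ℂ) = ⊤ := by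
    rw [eq_top_iff]
    intro g _
    rw [Cfsg.Agent.Lib.H23.mem_inertia]
    intro n
    rw [← h3]
  rw [h4, Subgroup.index_top] at hθ
  exact hp.one_lt.ne' (Nat.dvd_one.1 hθ)

end BStep

section Main

variable (p : ℕ) [Fact p.Prime]

theorem main_aux : ∀ (n : ℕ) (G : Type u) [Group G] [Finite G], Nat.card G = n →
    IsPSolvable p G → ∀ P : Sylow p G,
      derivedSeries ↥(P : Subgroup G) (nSing p G + 1) = ⊥ ∧
      (pCore p G = ⊥ → derivedSeries ↥(P : Subgroup G) (nSing p G) = ⊥) := by
  intro n
  induction n using Nat.strong_induction_on with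
  | _ n ih =>
    intro G _ _ hn hsolv P
    classical
    have hp : p.Prime := Fact.out
    haveI := Fintype.ofFinite G
    have hcardlt : ∀ (N : Subgroup G) [N.Normal], N ≠ ⊥ → Nat.card (G ⧸ N) < n := by
      intro N _ hN1
      rw [← hn, ← Subgroup.index_eq_card, ← Subgroup.index_mul_card N]
      have h1 : 1 < Nat.card N := (Subgroup.one_lt_card_iff_ne_bot N).2 hN1
      have h2 : 0 < N.index := Nat.pos_of_ne_zero Subgroup.index_ne_zero_of_finite
      nlinarith
    -- (B)
    have hB : pCore p G = ⊥ → derivedSeries ↥(P : Subgroup G) (nSing p G) = ⊥ := by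
      intro hO
      by_cases hdiv : p ∣ Nat.card G
      · have hKc : (Nat.card (pPrimeCore p G)).Coprime p :=
          Cfsg.Agent.Lib.H22.card_pPrimeCore_coprime p
        obtain ⟨χ, hχp, hχk⟩ := exists_sing_nontrivial p hsolv hO hdiv
        have hlt := nSing_quot_lt p (pPrimeCore p G) χ hχp hχk
        have hK1 : pPrimeCore p G ≠ ⊥ := by
          intro h
          obtain ⟨k, hk, hne⟩ := hχk
          rw [h, Subgroup.mem_bot] at hk
          exact hne (by rw [hk])
        have hsolvq := Cfsg.Agent.Lib.H10.isPSolvable_quotient hsolv (pPrimeCore p G)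
        have hA := (ih _ (hcardlt (pPrimeCore p G) hK1) (G ⧸ pPrimeCore p G) rfl hsolvq
          (P.mapSurjective (QuotientGroup.mk'_surjective (pPrimeCore p G)))).1
        have hA' := dl_mono hA (show nSing p (G ⧸ pPrimeCore p G) + 1 ≤ nSing p G by omega)
        exact dl_of_injective (sylMap p P (pPrimeCore p G))
          (sylMap_injective_of_coprime p P (pPrimeCore p G) hKc) hA'
      · have hcard : Nat.card ↥(P : Subgroup G) = 1 := by
          rw [Sylow.card_eq_multiplicity]
          rw [Nat.factorization_eq_zero_of_not_dvd hdiv, pow_zero]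
        haveI : Subsingleton ↥(P : Subgroup G) := (Nat.card_eq_one_iff_unique.1 hcard).1
        exact Subsingleton.elim _ _
    refine ⟨?_, hB⟩
    -- (A)
    by_cases hO : pCore p G = ⊥
    · exact dl_mono (hB hO) (Nat.le_succ _)
    · have hVp : IsPGroup p (pCore p G) := Cfsg.Agent.Lib.H1.pCore_isPGroup p G
      have hVP : pCore p G ≤ P := Cfsg.Agent.Lib.H1.pCore_le_sylow P
      by_cases hVab : ∀ a ∈ pCore p G, ∀ b ∈ pCore p G, a * b = b * a
      · have hq := Cfsg.Agent.Lib.H7.Kaz.pCore_quotient_pCore_eq_bot (G := G) p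
        have hIH := (ih _ (hcardlt (pCore p G) hO) (G ⧸ pCore p G) rfl
          (Cfsg.Agent.Lib.H10.isPSolvable_quotient hsolv (pCore p G))
          (P.mapSurjective (QuotientGroup.mk'_surjective (pCore p G)))).2 hq
        have h1 := dl_mono hIH (nSing_quot_le p (pCore p G))
        exact dl_succ_of_ker_comm (sylMap p P (pCore p G))
          (sylMap_ker_comm_of_comm p P (pCore p G) hVab) h1
      · push Not at hVab
        obtain ⟨a, ha, b, hb, hab⟩ := hVab
        have hDle : ⁅pCore p G, pCore p G⁆ ≤ pCore p G := Subgroup.commutator_le_left _ _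
        have hDp : IsPGroup p ↥(⁅pCore p G, pCore p G⁆ : Subgroup G) := hVp.to_le hDle
        haveI : Nontrivial ↥(⁅pCore p G, pCore p G⁆ : Subgroup G) := by
          have hmem : a * b * a⁻¹ * b⁻¹ ∈ (⁅pCore p G, pCore p G⁆ : Subgroup G) := by
            have := Subgroup.commutator_mem_commutator ha hb
            rwa [commutatorElement_def] at this
          refine ⟨⟨⟨a * b * a⁻¹ * b⁻¹, hmem⟩, 1, ?_⟩⟩
          intro h
          have h1 : a * b * a⁻¹ * b⁻¹ = 1 := congrArg Subtype.val h
          apply hab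
          have h2 : a * b = (a * b * a⁻¹ * b⁻¹) * (b * a) := by group
          rw [h2, h1, one_mul]
        haveI := hDp.center_nontrivial
        obtain ⟨⟨z, hz⟩, hz1⟩ := exists_ne (1 : Subgroup.center ↥(⁅pCore p G, pCore p G⁆ : Subgroup G))
        have hz1' : (z : G) ≠ 1 := by
          intro h
          apply hz1
          apply Subtype.ext
          apply Subtype.ext
          exact h
        have hzN : (z : G) ∈ ⁅pCore p G, pCore p G⁆ ⊓
            Subgroup.centralizer ((⁅pCore p G, pCore p G⁆ : Subgroup G) : Set G) := by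
          refine Subgroup.mem_inf.2 ⟨z.2, Subgroup.mem_centralizer_iff.2 (fun h hh => ?_)⟩
          have := Subgroup.mem_center_iff.1 hz ⟨h, hh⟩
          exact congrArg Subtype.val this
        have hN1 : ⁅pCore p G, pCore p G⁆ ⊓
            Subgroup.centralizer ((⁅pCore p G, pCore p G⁆ : Subgroup G) : Set G) ≠ ⊥ := by
          intro h
          rw [h, Subgroup.mem_bot] at hzN
          exact hz1' hzN
        have hNab : ∀ a ∈ ⁅pCore p G, pCore p G⁆ ⊓
            Subgroup.centralizer ((⁅pCore p G, pCore p G⁆ : Subgroup G) : Set G),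
            ∀ b ∈ ⁅pCore p G, pCore p G⁆ ⊓
            Subgroup.centralizer ((⁅pCore p G, pCore p G⁆ : Subgroup G) : Set G), a * b = b * a := by
          intro a ha b hb
          exact (Subgroup.mem_centralizer_iff.1 ha.2 b hb.1).symm
        have hNP : ⁅pCore p G, pCore p G⁆ ⊓
            Subgroup.centralizer ((⁅pCore p G, pCore p G⁆ : Subgroup G) : Set G) ≤
              ⁅(P : Subgroup G), (P : Subgroup G)⁆ :=
          inf_le_left.trans (Subgroup.commutator_mono hVP hVP)
        have hlt := key_nonabelian p P _ hN1 hNP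
        have hIH := (ih _ (hcardlt _ hN1) _ rfl
          (Cfsg.Agent.Lib.H10.isPSolvable_quotient hsolv (⁅pCore p G, pCore p G⁆ ⊓
            Subgroup.centralizer ((⁅pCore p G, pCore p G⁆ : Subgroup G) : Set G)))
          (P.mapSurjective (QuotientGroup.mk'_surjective (⁅pCore p G, pCore p G⁆ ⊓
            Subgroup.centralizer ((⁅pCore p G, pCore p G⁆ : Subgroup G) : Set G))))).1
        have h1 := dl_mono hIH (show nSing p (G ⧸ (⁅pCore p G, pCore p G⁆ ⊓
            Subgroup.centralizer ((⁅pCore p G, pCore p G⁆ : Subgroup G) : Set G))) + 1 ≤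
              nSing p G by omega)
        exact dl_succ_of_ker_comm (sylMap p P _) (sylMap_ker_comm_of_comm p P _ hNab) h1

/-- **Main theorem**: in a finite `p`-solvable group with `n` irreducible characters of degree
divisible by `p`, the `(n+1)`-st derived subgroup of a Sylow `p`-subgroup is trivial. -/
theorem main {G : Type u} [Group G] [Finite G] (hG : IsPSolvable p G) (P : Sylow p G) :
    derivedSeries ↥(P : Subgroup G) (nSing p G + 1) = ⊥ :=
  (main_aux p _ G rfl hG P).1

end Main

end Cfsg.Agent.Lib.H22.DLSing
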