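import Mathlib
import Cfsg.Agent.Lib.H15.DXDefs

/-!
# S4467 piece CENT, core argument (helper22)

`sylow_le_centralizer_core`: the group theory of CENT, with the outputs of F4A / XARG as
hypotheses.
-/

set_option autoImplicit false

namespace Cfsg.Agent.Lib.H22.DX

open Cfsg.Agent.Lib.H15.DX
open scoped commutatorElement

section comm

variable {G : Type*} [Group G]

theorem comm_mul_left_of_central (a b y : G) (hb : ⁅b, y⁆ ∈ Subgroup.center G) :
    ⁅a * b, y⁆ = ⁅a, y⁆ * ⁅b, y⁆ := by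
  have hc := Subgroup.mem_center_iff.mp hb
  have h1 : ⁅a * b, y⁆ = a * ⁅b, y⁆ * y * a⁻¹ * y⁻¹ := by
    simp only [commutatorElement_def]; group
  calc ⁅a * b, y⁆ = a * ⁅b, y⁆ * y * a⁻¹ * y⁻¹ := h1
    _ = ⁅b, y⁆ * a * y * a⁻¹ * y⁻¹ := by rw [hc a]
    _ = ⁅b, y⁆ * ⁅a, y⁆ := by simp only [commutatorElement_def]; group
    _ = ⁅a, y⁆ * ⁅b, y⁆ := (hc _).symm

theorem comm_mul_right_of_central (a u v : G) (hv : ⁅a, v⁆ ∈ Subgroup.center G) :
    ⁅a, u * v⁆ = ⁅a, u⁆ * ⁅a, v⁆ := by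
  have hc := Subgroup.mem_center_iff.mp hv
  have h1 : ⁅a, u * v⁆ = a * u * a⁻¹ * (⁅a, v⁆ * u⁻¹) := by
    simp only [commutatorElement_def]; group
  rw [h1, ← hc u⁻¹]
  simp only [commutatorElement_def]; group

theorem comm_pow_left_of_central (a y : G) (h : ⁅a, y⁆ ∈ Subgroup.center G) (k : ℕ) :
    ⁅a ^ k, y⁆ = ⁅a, y⁆ ^ k := by
  induction k with
  | zero => simp
  | succ k ih => rw [pow_succ, comm_mul_left_of_central _ _ _ h, ih, pow_succ]

theorem comm_pow_right_of_central (a y : G) (h : ⁅a, y⁆ ∈ Subgroup.center G) (k : ℕ) :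
    ⁅a, y ^ k⁆ = ⁅a, y⁆ ^ k := by
  induction k with
  | zero => simp
  | succ k ih => rw [pow_succ, comm_mul_right_of_central _ _ _ h, ih, pow_succ]

theorem comm_eq_one_of_mem_center (a y : G) (ha : a ∈ Subgroup.center G) : ⁅a, y⁆ = 1 := by
  have := Subgroup.mem_center_iff.mp ha y
  rw [commutatorElement_def, ← this]; group

end comm

variable {G : Type*} [Group G] [Finite G]

/-- the group theory of CENT. -/
theorem sylow_le_centralizer_core (p n : ℕ) [Fact p.Prime] (hbad : ¬ Good p n)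
    (A : Subgroup G) [A.Normal] (P : Sylow p G)
    (r m : ℕ) (hr : r.Prime) (hrp : r ≠ p) (hdvd : r ^ m ∣ n)
    (hidx : (Subgroup.center G).relIndex A = r ^ (2 * m))
    (hx : ∀ x : G, (∀ a ∈ A, ⁅a, x ^ p⁆ ∈ Subgroup.center G) → ∀ a₀ ∈ A,
      ⁅a₀, x⁆ ∉ Subgroup.center G → ∃ j, 1 ≤ j ∧ j ≤ m ∧ (p ∣ r ^ j - 1 ∨ p ∣ r ^ j + 1)) :
    (P : Subgroup G) ≤ Subgroup.centralizer (A : Set G) := by
  have hp : p.Prime := Fact.out
  -- Step 1: `[A, P] ≤ Z`
  have step1 : ∀ N : ℕ, ∀ y ∈ (P : Subgroup G), orderOf y = N → ∀ a ∈ A,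
      ⁅a, y⁆ ∈ Subgroup.center G := by
    intro N
    induction N using Nat.strong_induction_on with
    | _ N ih =>
      intro y hy hN a ha
      by_cases hy1 : y = 1
      · subst hy1; simp
      by_contra hne
      -- order of `y` is a positive power of `p`
      obtain ⟨k, hk⟩ := P.2 ⟨y, hy⟩
      have hk' : y ^ p ^ k = 1 := by
        have := congrArg Subtype.val hk
        simpa using this
      obtain ⟨j, _, hj⟩ := (Nat.dvd_prime_pow hp).mp (orderOf_dvd_of_pow_eq_one hk')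
      have hj0 : j ≠ 0 := by
        rintro rfl
        rw [pow_zero, orderOf_eq_one_iff] at hj
        exact hy1 hj
      have hpd : p ∣ orderOf y := by rw [hj]; exact dvd_pow_self p hj0
      have hlt : orderOf (y ^ p) < N := by
        rw [orderOf_pow_of_dvd hp.ne_zero hpd, ← hN]
        exact Nat.div_lt_self (orderOf_pos y) hp.one_lt
      have hyp : ∀ a ∈ A, ⁅a, y ^ p⁆ ∈ Subgroup.center G :=
        fun a' ha' => ih _ hlt (y ^ p) (Subgroup.pow_mem _ hy p) rfl a' ha'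
      obtain ⟨j', hj'1, hj'm, hj'⟩ := hx y hyp a ha hne
      exact hbad (good_of_pow hr hj'1 ((pow_dvd_pow r hj'm).trans hdvd) hj')
  -- Step 2
  intro y hy
  rw [Subgroup.mem_centralizer_iff]
  intro a ha
  have hz : ⁅a, y⁆ ∈ Subgroup.center G := step1 _ y hy rfl a ha
  -- `z ^ (r ^ (2m)) = 1`
  have h1 : ⁅a, y⁆ ^ (r ^ (2 * m)) = 1 := by
    rw [← comm_pow_left_of_central a y hz]
    apply comm_eq_one_of_mem_center
    have hnorm : ((Subgroup.center G).subgroupOf A).Normal := Subgroup.normal_subgroupOf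
    have := Subgroup.pow_index_mem ((Subgroup.center G).subgroupOf A) (⟨a, ha⟩ : A)
    rw [Subgroup.mem_subgroupOf] at this
    rw [Subgroup.relIndex] at hidx
    rw [hidx] at this
    simpa using this
  -- `z ^ (orderOf y) = 1`
  have h2 : ⁅a, y⁆ ^ orderOf y = 1 := by
    rw [← comm_pow_right_of_central a y hz, pow_orderOf_eq_one]
    simp
  obtain ⟨k, hk⟩ := P.2 ⟨y, hy⟩
  have hk' : y ^ p ^ k = 1 := by
    have := congrArg Subtype.val hk
    simpa using this
  have hd1 : orderOf ⁅a, y⁆ ∣ r ^ (2 * m) := orderOf_dvd_of_pow_eq_one h1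
  have hd2 : orderOf ⁅a, y⁆ ∣ p ^ k :=
    (orderOf_dvd_of_pow_eq_one h2).trans (orderOf_dvd_of_pow_eq_one hk')
  have hcop : Nat.Coprime (r ^ (2 * m)) (p ^ k) :=
    Nat.Coprime.pow _ _ ((Nat.coprime_primes hr hp).mpr hrp)
  have hone : orderOf ⁅a, y⁆ = 1 := Nat.eq_one_of_dvd_coprimes hcop hd1 hd2
  rw [orderOf_eq_one_iff, commutatorElement_def] at hone
  calc a * y = (a * y * a⁻¹ * y⁻¹) * (y * a) := by group
    _ = y * a := by rw [hone, one_mul]

end Cfsg.Agent.Lib.H22.DX
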