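import Mathlib
import Cfsg.Prelude.Def_Characters
import Cfsg.Agent.Lib.H15.DXDefs
import Cfsg.Agent.Lib.H22.DXCENT0
import Cfsg.Agent.Lib.H1.DXF4A
import Cfsg.Agent.Lib.H14.DXXARG
import Cfsg.Agent.Lib.H24.DXCYCZ

/-!
# S4467 piece CENT (helper22): exact signature, from F4A (helper1), XARG (helper14),
CYCZ (helper24) and the core argument `sylow_le_centralizer_core` of `DXCENT0`.
-/

set_option autoImplicit false

namespace Cfsg.Agent.Lib.H22.DX

open Cfsg Cfsg.Agent.Lib.H15.DX
open scoped ComplexConjugate commutatorElement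

universe u

variable {p : ℕ} [Fact p.Prime] {G : Type u} [Group G] [Finite G] {χ : G → ℂ} {n : ℕ}

/-- CENT -/
theorem sylow_le_centralizer (c : Ctx p G χ n) (A : Subgroup G) [A.Normal]
    (hZA : Subgroup.center G < A)
    (hmin : ∀ B : Subgroup G, B.Normal → Subgroup.center G ≤ B → B ≤ A →
      B = Subgroup.center G ∨ B = A) (P : Sylow p G) :
    (P : Subgroup G) ≤ Subgroup.centralizer (A : Set G) := by
  obtain ⟨r, m, hr, _, hrp, hdvd, hidx, hcl, hZ⟩ :=
    Cfsg.Agent.Lib.H1.DX.chief_structure c A hZA hmin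
  have hcyc : IsCyclic (Subgroup.center G) :=
    Cfsg.Agent.Lib.H24.DX.isCyclic_center_of_faithful_irr χ c.irr c.faith
  exact sylow_le_centralizer_core p n c.bad A P r m hr hrp hdvd hidx
    (fun x hxp a₀ ha₀ hne =>
      Cfsg.Agent.Lib.H14.DX.exists_pow_of_nontrivial_action p r m hr hrp hcyc A hZA.le hcl hZ
        hidx x hxp a₀ ha₀ hne)

end Cfsg.Agent.Lib.H22.DX
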