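import Mathlib
import Cfsg.Agent.Lib.H5.TorusPartId
import Cfsg.Agent.Lib.H23.CenterIndex
import Cfsg.Agent.Lib.H23.BurnsidePQ
import Cfsg.Agent.Lib.L0.FiniteOrderEnd
import Cfsg.Agent.Lib.L0.CharInd
import Cfsg.Agent.Lib.L0.CharBasic

/-!
# Finite groups with a faithful irreducible representation of degree 2 (helper22)

For a faithful irreducible `ρ : G → GL₂(ℂ)`: the centre is the set of scalars, the centralizer of a
non-central element is diagonal in an eigenbasis, an element normalizing such a centralizer but not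
in it is anti-diagonal.  Hence `G ⧸ Z(G)` carries a `TorusPartition` (helper5), so that it is
cyclic, dihedral, `A₄`, `S₄` or `A₅`; in the dihedral case the character is induced from an abelian
subgroup of index 2.
-/

set_option autoImplicit false

namespace Cfsg.Agent.Lib.H22.Deg2Prim

open Subgroup

abbrev M2 := Matrix (Fin 2) (Fin 2) ℂ

theorem mul_entry (A B : M2) (i j : Fin 2) :
    (A * B) i j = A i 0 * B 0 j + A i 1 * B 1 j := by
  rw [Matrix.mul_apply, Fin.sum_univ_two]

theorem ext2 {A B : M2} (h00 : A 0 0 = B 0 0) (h01 : A 0 1 = B 0 1) (h10 : A 1 0 = B 1 0)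
    (h11 : A 1 1 = B 1 1) : A = B := by
  ext i j
  fin_cases i <;> fin_cases j
  · exact h00
  · exact h01
  · exact h10
  · exact h11

def IsDiag (N : M2) : Prop := N 0 1 = 0 ∧ N 1 0 = 0
def IsAnti (N : M2) : Prop := N 0 0 = 0 ∧ N 1 1 = 0
def IsScal (N : M2) : Prop := N 0 1 = 0 ∧ N 1 0 = 0 ∧ N 0 0 = N 1 1
def IsRegDiag (N : M2) : Prop := N 0 1 = 0 ∧ N 1 0 = 0 ∧ N 0 0 ≠ N 1 1

theorem IsRegDiag.isDiag {N : M2} (h : IsRegDiag N) : IsDiag N := ⟨h.1, h.2.1⟩
theorem IsScal.isDiag {N : M2} (h : IsScal N) : IsDiag N := ⟨h.1, h.2.1⟩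

theorem isScal_smul_one (c : ℂ) : IsScal (c • (1 : M2)) := by
  refine ⟨?_, ?_, ?_⟩ <;> simp [Matrix.smul_apply]

theorem IsScal.eq_smul {N : M2} (h : IsScal N) : N = (N 0 0) • (1 : M2) := by
  apply ext2 <;> simp [Matrix.smul_apply, h.1, h.2.1, h.2.2]

theorem IsScal.comm {N : M2} (h : IsScal N) (A : M2) : N * A = A * N := by
  rw [h.eq_smul, smul_mul_assoc, one_mul, mul_smul_comm, mul_one]

theorem isDiag_of_comm {D N : M2} (hD : IsRegDiag D) (h : N * D = D * N) : IsDiag N := by
  obtain ⟨d01, d10, hne⟩ := hD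
  have h01 := congrFun (congrFun h 0) 1
  have h10 := congrFun (congrFun h 1) 0
  simp only [mul_entry, d01, d10, mul_zero, zero_mul, add_zero, zero_add] at h01 h10
  have hsub : D 0 0 - D 1 1 ≠ 0 := sub_ne_zero.mpr hne
  constructor
  · have : N 0 1 * (D 0 0 - D 1 1) = 0 := by linear_combination -h01
    exact (mul_eq_zero.mp this).resolve_right hsub
  · have : N 1 0 * (D 0 0 - D 1 1) = 0 := by linear_combination h10
    exact (mul_eq_zero.mp this).resolve_right hsub

theorem comm_of_isDiag {N N' : M2} (h : IsDiag N) (h' : IsDiag N') : N * N' = N' * N := by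
  apply ext2 <;>
    simp only [mul_entry, h.1, h.2, h'.1, h'.2, mul_zero, zero_mul, add_zero, zero_add] <;> ring

theorem isDiag_mul {N N' : M2} (h : IsDiag N) (h' : IsDiag N') : IsDiag (N * N') := by
  constructor <;> simp only [mul_entry, h.1, h.2, h'.1, h'.2, mul_zero, zero_mul, add_zero]

theorem det_ne_zero_of_mul_eq_one {N N' : M2} (h : N * N' = 1) :
    N 0 0 * N 1 1 - N 0 1 * N 1 0 ≠ 0 := by
  have := congrArg Matrix.det h
  rw [Matrix.det_mul, Matrix.det_one, Matrix.det_fin_two N] at this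
  intro h0
  rw [h0, zero_mul] at this
  exact zero_ne_one this

theorem isAnti_of_normalizes {D N N' : M2} (hD : IsRegDiag D) (h1 : N * N' = 1)
    (h2 : N' * N = 1) (hW : IsDiag (N * D * N')) (hN : ¬ IsDiag N) : IsAnti N := by
  obtain ⟨d01, d10, hne⟩ := hD
  have hdet := det_ne_zero_of_mul_eq_one h1
  obtain ⟨W, hWdef⟩ : ∃ W : M2, W = N * D * N' := ⟨_, rfl⟩
  rw [← hWdef] at hW
  have hWN : W * N = N * D := by
    rw [hWdef, Matrix.mul_assoc, h2, Matrix.mul_one]
  have e00 := congrFun (congrFun hWN 0) 0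
  have e01 := congrFun (congrFun hWN 0) 1
  have e10 := congrFun (congrFun hWN 1) 0
  have e11 := congrFun (congrFun hWN 1) 1
  simp only [mul_entry, d01, d10, hW.1, hW.2, mul_zero, zero_mul, add_zero, zero_add]
    at e00 e01 e10 e11
  have hsub : D 0 0 - D 1 1 ≠ 0 := sub_ne_zero.mpr hne
  by_cases h01 : N 0 1 = 0
  · have h10 : N 1 0 ≠ 0 := fun h => hN ⟨h01, h⟩
    have ht : W 1 1 = D 0 0 := by
      have : (W 1 1 - D 0 0) * N 1 0 = 0 := by linear_combination e10
      exact sub_eq_zero.mp ((mul_eq_zero.mp this).resolve_right h10)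
    have h11 : N 1 1 = 0 := by
      have : N 1 1 * (D 0 0 - D 1 1) = 0 := by rw [ht] at e11; linear_combination e11
      exact (mul_eq_zero.mp this).resolve_right hsub
    exfalso; apply hdet; rw [h01, h11]; ring
  · have hs : W 0 0 = D 1 1 := by
      have : (W 0 0 - D 1 1) * N 0 1 = 0 := by linear_combination e01
      exact sub_eq_zero.mp ((mul_eq_zero.mp this).resolve_right h01)
    have h00 : N 0 0 = 0 := by
      have : N 0 0 * (D 0 0 - D 1 1) = 0 := by rw [hs] at e00; linear_combination -e00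
      exact (mul_eq_zero.mp this).resolve_right hsub
    have h10 : N 1 0 ≠ 0 := by
      intro h; apply hdet; rw [h00, h]; ring
    have ht : W 1 1 = D 0 0 := by
      have : (W 1 1 - D 0 0) * N 1 0 = 0 := by linear_combination e10
      exact sub_eq_zero.mp ((mul_eq_zero.mp this).resolve_right h10)
    have h11 : N 1 1 = 0 := by
      have : N 1 1 * (D 0 0 - D 1 1) = 0 := by rw [ht] at e11; linear_combination e11
      exact (mul_eq_zero.mp this).resolve_right hsub
    exact ⟨h00, h11⟩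

theorem isScal_sq_of_isAnti {N : M2} (h : IsAnti N) : IsScal (N * N) := by
  refine ⟨?_, ?_, ?_⟩ <;>
    simp only [mul_entry, h.1, h.2, mul_zero, zero_mul, add_zero, zero_add]
  ring

theorem isDiag_mul_of_isAnti {N N' : M2} (h : IsAnti N) (h' : IsAnti N') : IsDiag (N * N') := by
  constructor <;> simp only [mul_entry, h.1, h.2, h'.1, h'.2, mul_zero, zero_mul, add_zero]

theorem ne_zero_of_isAnti {N N' : M2} (h : IsAnti N) (h1 : N * N' = 1) :
    N 0 1 ≠ 0 ∧ N 1 0 ≠ 0 := by
  have hdet := det_ne_zero_of_mul_eq_one h1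
  rw [h.1, h.2] at hdet
  constructor
  · intro h0; apply hdet; rw [h0]; ring
  · intro h0; apply hdet; rw [h0]; ring

theorem swap_left {N W Y : M2} (hN : IsAnti N) (h01 : N 0 1 ≠ 0) (h10 : N 1 0 ≠ 0)
    (hY : IsDiag Y) (h : N * W = Y * N) :
    W 0 1 = 0 ∧ W 1 0 = 0 ∧ W 0 0 = Y 1 1 ∧ W 1 1 = Y 0 0 := by
  have e00 := congrFun (congrFun h 0) 0
  have e01 := congrFun (congrFun h 0) 1
  have e10 := congrFun (congrFun h 1) 0
  have e11 := congrFun (congrFun h 1) 1
  simp only [mul_entry, hN.1, hN.2, hY.1, hY.2, mul_zero, zero_mul, add_zero, zero_add]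
    at e00 e01 e10 e11
  refine ⟨?_, ?_, ?_, ?_⟩
  · exact (mul_eq_zero.mp e11).resolve_left h10
  · exact (mul_eq_zero.mp e00).resolve_left h01
  · have : N 1 0 * (W 0 0 - Y 1 1) = 0 := by linear_combination e10
    exact sub_eq_zero.mp ((mul_eq_zero.mp this).resolve_left h10)
  · have : N 0 1 * (W 1 1 - Y 0 0) = 0 := by linear_combination e01
    exact sub_eq_zero.mp ((mul_eq_zero.mp this).resolve_left h01)

theorem swap_right {N W Y : M2} (hN : IsAnti N) (h01 : N 0 1 ≠ 0) (h10 : N 1 0 ≠ 0)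
    (hY : IsDiag Y) (h : W * N = N * Y) :
    W 0 1 = 0 ∧ W 1 0 = 0 ∧ W 0 0 = Y 1 1 ∧ W 1 1 = Y 0 0 := by
  have e00 := congrFun (congrFun h 0) 0
  have e01 := congrFun (congrFun h 0) 1
  have e10 := congrFun (congrFun h 1) 0
  have e11 := congrFun (congrFun h 1) 1
  simp only [mul_entry, hN.1, hN.2, hY.1, hY.2, mul_zero, zero_mul, add_zero, zero_add]
    at e00 e01 e10 e11
  refine ⟨?_, ?_, ?_, ?_⟩
  · exact (mul_eq_zero.mp e00).resolve_right h10
  · exact (mul_eq_zero.mp e11).resolve_right h01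
  · have : (W 0 0 - Y 1 1) * N 0 1 = 0 := by linear_combination e01
    exact sub_eq_zero.mp ((mul_eq_zero.mp this).resolve_right h01)
  · have : (W 1 1 - Y 0 0) * N 1 0 = 0 := by linear_combination e10
    exact sub_eq_zero.mp ((mul_eq_zero.mp this).resolve_right h10)

/-! ### Group level -/

section Grp

variable {G : Type*} [Group G] (M : G →* M2)

theorem M_mul_inv (g : G) : M g * M g⁻¹ = 1 := by rw [← map_mul, mul_inv_cancel, map_one]

theorem M_inv_mul (g : G) : M g⁻¹ * M g = 1 := by rw [← map_mul, inv_mul_cancel, map_one]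

theorem mem_centralizer_iff_isDiag (hinj : Function.Injective M) {x : G}
    (hx : IsRegDiag (M x)) (g : G) : g ∈ centralizer ({x} : Set G) ↔ IsDiag (M g) := by
  rw [mem_centralizer_singleton_iff]
  constructor
  · intro h
    apply isDiag_of_comm hx
    rw [← map_mul, ← map_mul, h]
  · intro h
    apply hinj
    rw [map_mul, map_mul]
    exact comm_of_isDiag h hx.isDiag

theorem isRegDiag_of_mem (hinj : Function.Injective M)
    (hZ : ∀ g, g ∈ center G ↔ IsScal (M g)) {x y : G} (hx : IsRegDiag (M x))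
    (hy : y ∈ centralizer ({x} : Set G)) (hyZ : y ∉ center G) : IsRegDiag (M y) := by
  have hd := (mem_centralizer_iff_isDiag M hinj hx y).mp hy
  exact ⟨hd.1, hd.2, fun h => hyZ ((hZ y).mpr ⟨hd.1, hd.2, h⟩)⟩

theorem centralizer_eq (hinj : Function.Injective M)
    (hZ : ∀ g, g ∈ center G ↔ IsScal (M g)) {x y : G} (hx : IsRegDiag (M x))
    (hy : y ∈ centralizer ({x} : Set G)) (hyZ : y ∉ center G) :
    centralizer ({y} : Set G) = centralizer {x} := by
  have hy' := isRegDiag_of_mem M hinj hZ hx hy hyZ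
  ext g
  rw [mem_centralizer_iff_isDiag M hinj hx, mem_centralizer_iff_isDiag M hinj hy']

theorem isAnti_of_norm (hinj : Function.Injective M) {x g : G} (hx : IsRegDiag (M x))
    (hg : g * x * g⁻¹ ∈ centralizer ({x} : Set G)) (hg' : g ∉ centralizer ({x} : Set G)) :
    IsAnti (M g) := by
  have h1 := (mem_centralizer_iff_isDiag M hinj hx _).mp hg
  rw [map_mul, map_mul] at h1
  exact isAnti_of_normalizes hx (M_mul_inv M g) (M_inv_mul M g) h1
    (fun h => hg' ((mem_centralizer_iff_isDiag M hinj hx g).mpr h))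

theorem sq_mem_center (hZ : ∀ g, g ∈ center G ↔ IsScal (M g)) {g : G} (hg : IsAnti (M g)) :
    g * g ∈ center G := by
  rw [hZ, map_mul]; exact isScal_sq_of_isAnti hg

theorem conj_mul_mem_center (hZ : ∀ g, g ∈ center G ↔ IsScal (M g)) {g y : G}
    (hg : IsAnti (M g)) (hy : IsDiag (M y)) : g * y * g⁻¹ * y ∈ center G := by
  obtain ⟨n01, n10⟩ := ne_zero_of_isAnti hg (M_mul_inv M g)
  have hW : M (g * y * g⁻¹) * M g = M g * M y := by
    rw [← map_mul, ← map_mul]; congr 1; group
  obtain ⟨w01, w10, w00, w11⟩ := swap_right hg n01 n10 hy hW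
  rw [hZ, map_mul]
  refine ⟨?_, ?_, ?_⟩ <;>
    simp only [mul_entry, w01, w10, w00, w11, hy.1, hy.2, mul_zero, zero_mul, add_zero, zero_add]
  ring

theorem mul_mem_centralizer (hinj : Function.Injective M) {x g g' : G} (hx : IsRegDiag (M x))
    (hg : IsAnti (M g)) (hg' : IsAnti (M g')) : g * g' ∈ centralizer ({x} : Set G) := by
  rw [mem_centralizer_iff_isDiag M hinj hx, map_mul]
  exact isDiag_mul_of_isAnti hg hg'

theorem exists_gen [Finite G] (hinj : Function.Injective M)
    (hZ : ∀ g, g ∈ center G ↔ IsScal (M g)) {x : G} (hx : IsRegDiag (M x)) :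
    ∃ c ∈ centralizer ({x} : Set G), ∀ y ∈ centralizer ({x} : Set G),
      ∃ k : ℤ, y * (c ^ k)⁻¹ ∈ center G := by
  classical
  have hdiag : ∀ y : centralizer ({x} : Set G), IsDiag (M (y : G)) := fun y =>
    (mem_centralizer_iff_isDiag M hinj hx _).mp y.2
  let φ : centralizer ({x} : Set G) →* ℂ :=
    { toFun := fun y => M (y : G) 0 0 * (M (y : G) 1 1)⁻¹
      map_one' := by simp
      map_mul' := fun y y' => by
        have h := hdiag y
        have h' := hdiag y'
        simp only [Subgroup.coe_mul, map_mul, mul_entry, h.1, h.2, h'.1, h'.2, mul_zero,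
          add_zero, zero_add]
        rw [mul_inv]; ring }
  have hφ : ∀ y, φ y = M (y : G) 0 0 * (M (y : G) 1 1)⁻¹ := fun y => rfl
  let ψ : centralizer ({x} : Set G) →* ℂˣ := φ.toHomUnits
  have hψ : ∀ y, ((ψ y : ℂˣ) : ℂ) = φ y := fun y => rfl
  haveI : Finite ψ.range := Finite.of_surjective ψ.rangeRestrict ψ.rangeRestrict_surjective
  obtain ⟨⟨u, hu⟩, hgen⟩ := IsCyclic.exists_generator (α := ψ.range)
  obtain ⟨c, rfl⟩ := MonoidHom.mem_range.mp hu
  refine ⟨c, c.2, fun y hy => ?_⟩
  obtain ⟨k, hk⟩ := Subgroup.mem_zpowers_iff.mp (hgen ⟨ψ ⟨y, hy⟩, ⟨_, rfl⟩⟩)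
  have hk' : ψ c ^ k = ψ ⟨y, hy⟩ := by
    have := congrArg Subtype.val hk
    simpa using this
  refine ⟨k, ?_⟩
  obtain ⟨w, hw⟩ : ∃ w : centralizer ({x} : Set G), w = ⟨y, hy⟩ * (c ^ k)⁻¹ := ⟨_, rfl⟩
  have hψw : ψ w = 1 := by
    rw [hw, map_mul, map_inv, map_zpow, hk', mul_inv_cancel]
  have hφw : φ w = 1 := by
    rw [← hψ, hψw]; rfl
  have hwd := hdiag w
  have heq : M (w : G) 0 0 = M (w : G) 1 1 := by
    have h1 : M (w : G) 0 0 * (M (w : G) 1 1)⁻¹ = 1 := by rw [← hφ]; exact hφw
    by_cases hb : M (w : G) 1 1 = 0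
    · rw [hb, inv_zero, mul_zero] at h1; exact absurd h1 zero_ne_one
    · field_simp at h1; exact h1
  have hcen : (w : G) ∈ center G := (hZ _).mpr ⟨hwd.1, hwd.2, heq⟩
  rw [hw] at hcen
  simpa using hcen

end Grp

/-! ### The torus partition of `G ⧸ Z(G)` -/

section TPbuild

variable {G : Type*} [Group G]

theorem centralizer_le_mul_central (x : G) {z : G} (hz : z ∈ center G) :
    centralizer ({x} : Set G) ≤ centralizer {x * z} := by
  intro g hg
  rw [mem_centralizer_singleton_iff] at hg ⊢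
  have hzg : g * z = z * g := Subgroup.mem_center_iff.mp hz g
  calc g * (x * z) = (g * x) * z := by rw [mul_assoc]
    _ = (x * g) * z := by rw [hg]
    _ = x * (g * z) := by rw [mul_assoc]
    _ = x * (z * g) := by rw [hzg]
    _ = x * z * g := by rw [mul_assoc]

theorem centralizer_eq_of_mk_eq {x y : G}
    (h : (x : G ⧸ center G) = (y : G ⧸ center G)) :
    centralizer ({x} : Set G) = centralizer {y} := by
  have hz : x⁻¹ * y ∈ center G := QuotientGroup.eq.mp h
  have hy : x * (x⁻¹ * y) = y := by group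
  rw [← hy]
  apply le_antisymm
  · exact centralizer_le_mul_central x hz
  · have := centralizer_le_mul_central (x * (x⁻¹ * y)) (inv_mem hz)
    rwa [mul_inv_cancel_right] at this

/-- the torus of a coset. -/
noncomputable def Tq (q : G ⧸ center G) : Subgroup (G ⧸ center G) :=
  (centralizer ({Quotient.out q} : Set G)).map (QuotientGroup.mk' (center G))

theorem Tq_mk (x : G) : Tq (x : G ⧸ center G) =
    (centralizer ({x} : Set G)).map (QuotientGroup.mk' (center G)) := by
  unfold Tq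
  rw [centralizer_eq_of_mk_eq (QuotientGroup.out_eq' (x : G ⧸ center G))]

theorem mk_mem_Tq_iff {x g : G} :
    (g : G ⧸ center G) ∈ Tq (x : G ⧸ center G) ↔ g ∈ centralizer ({x} : Set G) := by
  rw [Tq_mk, Subgroup.mem_map]
  constructor
  · rintro ⟨y, hy, hyg⟩
    have hyg' : (y : G ⧸ center G) = (g : G ⧸ center G) := hyg
    have hz : y⁻¹ * g ∈ center G := QuotientGroup.eq.mp hyg'
    have : y * (y⁻¹ * g) = g := by group
    rw [← this]
    exact mul_mem hy (Subgroup.center_le_centralizer _ hz)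
  · intro hg; exact ⟨g, hg, rfl⟩

theorem mk_ne_one_iff {x : G} : (x : G ⧸ center G) ≠ 1 ↔ x ∉ center G :=
  (QuotientGroup.eq_one_iff x).not

theorem self_mem_centralizer (x : G) : x ∈ centralizer ({x} : Set G) :=
  mem_centralizer_singleton_iff.mpr rfl

theorem conj_mem_of_mem_normalizer {x g : G}
    (h : (g : G ⧸ center G) ∈ normalizer (Tq (x : G ⧸ center G) : Set (G ⧸ center G))) :
    g * x * g⁻¹ ∈ centralizer ({x} : Set G) := by
  have h1 := (Subgroup.mem_normalizer_iff.mp h (x : G ⧸ center G)).mp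
    (mk_mem_Tq_iff.mpr (self_mem_centralizer x))
  have h2 : ((g * x * g⁻¹ : G) : G ⧸ center G) ∈ Tq (x : G ⧸ center G) := h1
  exact mk_mem_Tq_iff.mp h2

/-- The torus partition of the central quotient, from the four group-theoretic properties. -/
noncomputable def tpOfCenter
    (h1 : ∀ x : G, x ∉ center G → ∀ y ∈ centralizer ({x} : Set G), y ∉ center G →
      centralizer ({y} : Set G) = centralizer {x})
    (h2 : ∀ x : G, x ∉ center G → ∃ c ∈ centralizer ({x} : Set G),
      ∀ y ∈ centralizer ({x} : Set G), ∃ k : ℤ, y * (c ^ k)⁻¹ ∈ center G)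
    (h3 : ∀ x : G, x ∉ center G → ∀ g : G, g * x * g⁻¹ ∈ centralizer ({x} : Set G) →
      g ∉ centralizer ({x} : Set G) →
      g * g ∈ center G ∧ ∀ y ∈ centralizer ({x} : Set G), g * y * g⁻¹ * y ∈ center G)
    (h4 : ∀ x : G, x ∉ center G → ∀ g g' : G, g * x * g⁻¹ ∈ centralizer ({x} : Set G) →
      g ∉ centralizer ({x} : Set G) → g' * x * g'⁻¹ ∈ centralizer ({x} : Set G) →
      g' ∉ centralizer ({x} : Set G) → g * g' ∈ centralizer ({x} : Set G)) :
    Cfsg.Agent.Lib.H5.TP.TorusPartition (G ⧸ center G) where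
  T := Tq
  mem := by
    intro q _
    obtain ⟨x, rfl⟩ := QuotientGroup.mk_surjective q
    exact mk_mem_Tq_iff.mpr (self_mem_centralizer x)
  eq_of_mem := by
    intro q r hq hr hrq
    obtain ⟨x, rfl⟩ := QuotientGroup.mk_surjective q
    obtain ⟨y, rfl⟩ := QuotientGroup.mk_surjective r
    rw [Tq_mk, Tq_mk, h1 x (mk_ne_one_iff.mp hq) y (mk_mem_Tq_iff.mp hrq) (mk_ne_one_iff.mp hr)]
  conj := by
    intro q g hq
    obtain ⟨x, rfl⟩ := QuotientGroup.mk_surjective q
    obtain ⟨g, rfl⟩ := QuotientGroup.mk_surjective g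
    ext r
    obtain ⟨w, rfl⟩ := QuotientGroup.mk_surjective r
    rw [Cfsg.Agent.Lib.H5.mem_map_conj_iff]
    have e1 : (g : G ⧸ center G) * (x : G ⧸ center G) * (g : G ⧸ center G)⁻¹ =
        ((g * x * g⁻¹ : G) : G ⧸ center G) := rfl
    have e2 : (g : G ⧸ center G)⁻¹ * (w : G ⧸ center G) * (g : G ⧸ center G) =
        ((g⁻¹ * w * g : G) : G ⧸ center G) := rfl
    rw [e1, e2, mk_mem_Tq_iff, mk_mem_Tq_iff, mem_centralizer_singleton_iff,
      mem_centralizer_singleton_iff]
    constructor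
    · intro h
      have : g⁻¹ * w * g * x = g⁻¹ * (w * (g * x * g⁻¹)) * g := by group
      rw [this, h]; group
    · intro h
      have : w * (g * x * g⁻¹) = g * (g⁻¹ * w * g * x) * g⁻¹ := by group
      rw [this, h]; group
  cyclic := by
    intro q hq
    obtain ⟨x, rfl⟩ := QuotientGroup.mk_surjective q
    obtain ⟨c, hc, hgen⟩ := h2 x (mk_ne_one_iff.mp hq)
    have : Tq (x : G ⧸ center G) = zpowers (c : G ⧸ center G) := by
      apply le_antisymm
      · intro r hr
        obtain ⟨w, rfl⟩ := QuotientGroup.mk_surjective r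
        obtain ⟨k, hk⟩ := hgen w (mk_mem_Tq_iff.mp hr)
        rw [Subgroup.mem_zpowers_iff]
        refine ⟨k, ?_⟩
        have h := (QuotientGroup.eq_one_iff _).mpr hk
        rw [QuotientGroup.mk_mul, QuotientGroup.mk_inv, QuotientGroup.mk_zpow] at h
        exact (mul_inv_eq_one.mp h).symm
      · rw [Subgroup.zpowers_le]
        exact mk_mem_Tq_iff.mpr hc
    rw [this]
    infer_instance
  inv := by
    intro q r hq hr hr'
    obtain ⟨x, rfl⟩ := QuotientGroup.mk_surjective q
    obtain ⟨g, rfl⟩ := QuotientGroup.mk_surjective r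
    have hx := mk_ne_one_iff.mp hq
    have hgx := conj_mem_of_mem_normalizer hr
    have hg : g ∉ centralizer ({x} : Set G) := fun h => hr' (mk_mem_Tq_iff.mpr h)
    obtain ⟨hsq, hinv⟩ := h3 x hx g hgx hg
    constructor
    · exact (QuotientGroup.eq_one_iff (g * g)).mpr hsq
    · intro r hr
      obtain ⟨y, rfl⟩ := QuotientGroup.mk_surjective r
      have h5 := (QuotientGroup.eq_one_iff _).mpr (hinv y (mk_mem_Tq_iff.mp hr))
      have h6 : (g : G ⧸ center G) * (y : G ⧸ center G) * (g : G ⧸ center G)⁻¹ *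
          (y : G ⧸ center G) = 1 := h5
      exact eq_inv_of_mul_eq_one_left h6
  idx := by
    intro q r r' hq hr hr' hs hs'
    obtain ⟨x, rfl⟩ := QuotientGroup.mk_surjective q
    obtain ⟨g, rfl⟩ := QuotientGroup.mk_surjective r
    obtain ⟨g', rfl⟩ := QuotientGroup.mk_surjective r'
    have hx := mk_ne_one_iff.mp hq
    have h7 : ((g * g' : G) : G ⧸ center G) ∈ Tq (x : G ⧸ center G) :=
      mk_mem_Tq_iff.mpr (h4 x hx g g' (conj_mem_of_mem_normalizer hr)
        (fun h => hr' (mk_mem_Tq_iff.mpr h)) (conj_mem_of_mem_normalizer hs)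
        (fun h => hs' (mk_mem_Tq_iff.mpr h)))
    exact h7

end TPbuild

/-! ### Induction from an abelian subgroup of index 2 -/

section Ind

open Cfsg.Agent.Lib.L0

theorem eq_indFun_of_index_two {G : Type*} [Group G] [Fintype G] (M : G →* M2)
    (hinj : Function.Injective M) (A : Subgroup G) (hA : ∀ g, g ∈ A ↔ IsDiag (M g))
    (hanti : ∀ g, g ∉ A → IsAnti (M g)) (hidx : A.index = 2) :
    ∃ θ : A → ℂ, Cfsg.IsCharacter A θ ∧ (fun g => M g 0 0 + M g 1 1) = Cfsg.indFun A θ := by
  classical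
  have hdiag : ∀ y : A, IsDiag (M (y : G)) := fun y => (hA _).mp y.2
  let φ : A →* ℂ :=
    { toFun := fun y => M (y : G) 0 0
      map_one' := by simp
      map_mul' := fun y y' => by
        simp only [Subgroup.coe_mul, map_mul, mul_entry, (hdiag y).1, zero_mul, add_zero] }
  let f : A →* ℂˣ := φ.toHomUnits
  have hf : ∀ y : A, ((f y : ℂˣ) : ℂ) = M (y : G) 0 0 := fun y => rfl
  refine ⟨fun y => ((f y : ℂˣ) : ℂ), isCharacter_of_irr (isIrrCharacter_of_hom f), ?_⟩
  haveI hnorm : A.Normal := Subgroup.normal_of_index_eq_two hidx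
  funext g
  show M g 0 0 + M g 1 1 =
    (Nat.card A : ℂ)⁻¹ * ∑ t : G, Cfsg.extendByZero A (fun y => ((f y : ℂˣ) : ℂ)) (t⁻¹ * g * t)
  by_cases hg : g ∈ A
  · have hterm : ∀ t : G, Cfsg.extendByZero A (fun y => ((f y : ℂˣ) : ℂ)) (t⁻¹ * g * t) =
        if t ∈ A then M g 0 0 else M g 1 1 := by
      intro t
      by_cases ht : t ∈ A
      · rw [if_pos ht]
        have hc : M t * M g = M g * M t := comm_of_isDiag ((hA t).mp ht) ((hA g).mp hg)
        have htg : t * g = g * t := hinj (by rw [map_mul, map_mul, hc])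
        have : t⁻¹ * g * t = g := by rw [mul_assoc, ← htg, inv_mul_cancel_left]
        rw [this, extendByZero_apply_of_mem A _ hg]
        exact hf ⟨g, hg⟩
      · rw [if_neg ht]
        have hat := hanti t ht
        obtain ⟨n01, n10⟩ := ne_zero_of_isAnti hat (M_mul_inv M t)
        have hW : M t * M (t⁻¹ * g * t) = M g * M t := by
          rw [← map_mul, ← map_mul]; congr 1; group
        obtain ⟨w01, w10, w00, w11⟩ := swap_left hat n01 n10 ((hA g).mp hg) hW
        have hmem : t⁻¹ * g * t ∈ A := (hA _).mpr ⟨w01, w10⟩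
        rw [extendByZero_apply_of_mem A _ hmem]
        exact (hf ⟨_, hmem⟩).trans w00
    simp_rw [hterm]
    rw [Finset.sum_ite, Finset.sum_const, Finset.sum_const, nsmul_eq_mul, nsmul_eq_mul]
    have hc1 : (Finset.univ.filter (fun t : G => t ∈ A)).card = Nat.card A := by
      rw [Nat.card_eq_fintype_card, Fintype.card_subtype]
    have hc2 : (Finset.univ.filter (fun t : G => ¬ t ∈ A)).card = Nat.card A := by
      have h := Finset.card_filter_add_card_filter_not (s := (Finset.univ : Finset G))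
        (fun t : G => t ∈ A)
      rw [hc1, Finset.card_univ, ← Nat.card_eq_fintype_card, ← A.card_mul_index, hidx] at h
      omega
    rw [hc1, hc2]
    have hpos : (Nat.card A : ℂ) ≠ 0 := Nat.cast_ne_zero.mpr Nat.card_pos.ne'
    rw [← mul_add, inv_mul_cancel_left₀ hpos]
  · have hat := hanti g hg
    have hterm : ∀ t : G, Cfsg.extendByZero A (fun y => ((f y : ℂˣ) : ℂ)) (t⁻¹ * g * t) = 0 := by
      intro t
      apply extendByZero_apply_not_mem
      intro h
      apply hg
      have h8 := hnorm.conj_mem _ h t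
      have e : t * (t⁻¹ * g * t) * t⁻¹ = g := by group
      rw [e] at h8
      exact h8
    simp_rw [hterm]
    rw [Finset.sum_const_zero, mul_zero, hat.1, hat.2, add_zero]

end Ind

/-! ### From the representation to matrices -/

section Rep

open Cfsg.Agent.Lib.L0 Cfsg.Agent.Lib.H23

variable {G : Type*} [Group G] [Finite G]

theorem exists_matHom (ρ : Representation ℂ G (Fin 2 → ℂ)) [ρ.IsIrreducible]
    (hfaith : Function.Injective ρ) {x : G} (hx : x ∉ center G) :
    ∃ M : G →* M2, Function.Injective M ∧ (∀ g, g ∈ center G ↔ IsScal (M g)) ∧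
      IsRegDiag (M x) ∧ ∀ g, ρ.character g = M g 0 0 + M g 1 1 := by
  classical
  obtain ⟨f, hf⟩ : ∃ f : Module.End ℂ (Fin 2 → ℂ), f = ρ x := ⟨_, rfl⟩
  have hm : 0 < orderOf x := orderOf_pos x
  have hpow : f ^ orderOf x = 1 := by rw [hf, ← map_pow, pow_orderOf_eq_one, map_one]
  have hss := isSemisimple_of_pow_eq_one hm hpow
  have hcent : ∀ g : G, (∃ c : ℂ, ρ g = c • 1) → g ∈ center G := by
    rintro g ⟨c, hc⟩
    rw [Subgroup.mem_center_iff]
    intro h
    apply hfaith
    rw [map_mul, map_mul, hc, mul_smul_comm, mul_one, smul_mul_assoc, one_mul]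
  obtain ⟨μ₁, hμ₁⟩ := Module.End.exists_eigenvalue f
  have hex : ∃ μ₂ : f.Eigenvalues, (μ₂ : ℂ) ≠ μ₁ := by
    by_contra hall
    push Not at hall
    exact hx (hcent x ⟨μ₁, hf ▸ eq_smul_one_of_eigenvalues hss μ₁ hall⟩)
  obtain ⟨⟨μ₂, hμ₂⟩, hne⟩ := hex
  have hne' : μ₂ ≠ μ₁ := hne
  obtain ⟨v₁, hv₁⟩ := hμ₁.exists_hasEigenvector
  have hμ₂' : f.HasEigenvalue μ₂ := hμ₂
  obtain ⟨v₂, hv₂⟩ := hμ₂'.exists_hasEigenvector
  have e₁ : f v₁ = μ₁ • v₁ := hv₁.apply_eq_smul
  have e₂ : f v₂ = μ₂ • v₂ := hv₂.apply_eq_smul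
  have hli : LinearIndependent ℂ ![v₁, v₂] := by
    rw [LinearIndependent.pair_iff]
    intro s t hst
    have h2 : s • μ₁ • v₁ + t • μ₂ • v₂ = 0 := by
      have := congrArg f hst
      rw [map_add, map_smul, map_smul, e₁, e₂, map_zero] at this
      exact this
    have h3 : (s * (μ₁ - μ₂)) • v₁ = 0 := by
      have : (s * (μ₁ - μ₂)) • v₁ =
          (s • μ₁ • v₁ + t • μ₂ • v₂) - μ₂ • (s • v₁ + t • v₂) := by module
      rw [this, h2, hst, smul_zero, sub_zero]
    have hs : s = 0 := by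
      rcases smul_eq_zero.mp h3 with h | h
      · rcases mul_eq_zero.mp h with h | h
        · exact h
        · exact absurd (sub_eq_zero.mp h).symm hne'
      · exact absurd h hv₁.2
    refine ⟨hs, ?_⟩
    rw [hs, zero_smul, zero_add] at hst
    rcases smul_eq_zero.mp hst with h | h
    · exact h
    · exact absurd h hv₂.2
  let B := basisOfLinearIndependentOfCardEqFinrank hli (by simp)
  have hB : ⇑B = ![v₁, v₂] := coe_basisOfLinearIndependentOfCardEqFinrank hli _
  have hB0 : B 0 = v₁ := by rw [hB]; rfl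
  have hB1 : B 1 = v₂ := by rw [hB]; rfl
  let M : G →* M2 :=
    { toFun := fun g => LinearMap.toMatrix B B (ρ g)
      map_one' := by rw [map_one]; exact LinearMap.toMatrix_one B
      map_mul' := fun g h => by rw [map_mul]; exact LinearMap.toMatrix_mul B (ρ g) (ρ h) }
  have hM : ∀ g, M g = LinearMap.toMatrix B B (ρ g) := fun g => rfl
  have hMinj : Function.Injective M := by
    intro g h hgh
    apply hfaith
    exact (LinearMap.toMatrix B B).injective hgh
  refine ⟨M, hMinj, ?_, ?_, ?_⟩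
  · intro g
    constructor
    · intro hg
      obtain ⟨c, hc⟩ := exists_smul_of_mem_center ρ hg
      rw [hM, hc, map_smul, LinearMap.toMatrix_one]
      exact isScal_smul_one c
    · intro hg
      rw [Subgroup.mem_center_iff]
      intro h
      apply hMinj
      rw [map_mul, map_mul]
      exact (hg.comm (M h)).symm
  · have hfB0 : f (B 0) = μ₁ • B 0 := by rw [hB0]; exact e₁
    have hfB1 : f (B 1) = μ₂ • B 1 := by rw [hB1]; exact e₂
    have ent : ∀ i j, M x i j = B.repr (f (B j)) i := fun i j => by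
      rw [hM, ← hf]; exact LinearMap.toMatrix_apply B B f i j
    have c01 : M x 0 1 = 0 := by
      rw [ent, hfB1, map_smul, Module.Basis.repr_self]; simp
    have c10 : M x 1 0 = 0 := by
      rw [ent, hfB0, map_smul, Module.Basis.repr_self]; simp
    have c00 : M x 0 0 = μ₁ := by
      rw [ent, hfB0, map_smul, Module.Basis.repr_self]; simp
    have c11 : M x 1 1 = μ₂ := by
      rw [ent, hfB1, map_smul, Module.Basis.repr_self]; simp
    exact ⟨c01, c10, by rw [c00, c11]; exact hne'.symm⟩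
  · intro g
    show LinearMap.trace ℂ _ (ρ g) = _
    rw [LinearMap.trace_eq_matrix_trace ℂ B, Matrix.trace_fin_two]
    rfl

end Rep

end Cfsg.Agent.Lib.H22.Deg2Prim
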