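import Cfsg.Agent.Lib.H23.KleinBlockA
import Cfsg.Agent.Lib.H23.BlockSection
import Cfsg.Agent.Lib.H23.BlockNormalComplement
import Cfsg.Agent.Lib.H23.BlockTraceGroup
import Cfsg.Agent.Lib.H23.BlockVanish
import Cfsg.Agent.Lib.L0.CharOps
import Mathlib.NumberTheory.LegendreSymbol.AddCharacter

/-!
# Block-theoretic interface for the principal 2-block with dihedral Sylow 2-subgroups (helper22)
-/

set_option autoImplicit false

namespace Cfsg.Agent.Lib.H22.DihBlock

open Cfsg Cfsg.Agent.Lib.H23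
open scoped ComplexConjugate

variable {G : Type*} [Group G] [Fintype G] {M : Ideal AlgInt}

/-- Characters of the principal block are constant on the `2'`-part of a `2`-section, when the
centralizer of the `2`-element has a normal `2`-complement. -/
theorem section_const (hM : IsPModular 2 M) (z : G) (hz : ∃ k : ℕ, orderOf z = 2 ^ k)
    (N : Subgroup (Subgroup.centralizer ({z} : Set G))) [N.Normal] (hN : ¬ 2 ∣ Nat.card N)
    {k : ℕ} (hidx : N.index = 2 ^ k) (χ : IrrCharacter G) (hχ : χ ∈ principalBlock M G)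
    (y : G) (hy : y ∈ Subgroup.centralizer ({z} : Set G)) (hyodd : ¬ 2 ∣ orderOf y) :
    (χ : G → ℂ) (z * y) = (χ : G → ℂ) z := by
  classical
  haveI : Fintype (Subgroup.centralizer ({z} : Set G)) := Fintype.ofFinite _
  have hp := prime_of_isPModular hM
  have hyN : (⟨y, hy⟩ : Subgroup.centralizer ({z} : Set G)) ∈ N := by
    apply mem_of_pRegular_of_index_pow hp N hidx
    rwa [Subgroup.orderOf_mk]
  exact KleinBlock.principal_const hM z hz _ rfl N hN hidx χ hχ ⟨y, hy⟩ hyN

/-- The norm sum of the principal block at a `2`-element whose centralizer has a normal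
`2`-complement. -/
theorem norm_sum [Fintype (IrrCharacter G)] (hM : IsPModular 2 M) (z : G)
    (hz : ∃ k : ℕ, orderOf z = 2 ^ k)
    (N : Subgroup (Subgroup.centralizer ({z} : Set G))) [N.Normal] (hN : ¬ 2 ∣ Nat.card N)
    {k : ℕ} (hidx : N.index = 2 ^ k) [DecidablePred (· ∈ principalBlock M G)] :
    ∑ χ ∈ Finset.univ.filter (· ∈ principalBlock M G),
      (χ : G → ℂ) z * conj ((χ : G → ℂ) z) = ((2 ^ k : ℕ) : ℂ) := by
  classical
  haveI : Fintype (Subgroup.centralizer ({z} : Set G)) := Fintype.ofFinite _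
  haveI : Fintype (IrrCharacter (Subgroup.centralizer ({z} : Set G))) := Fintype.ofFinite _
  have h1 := section_sum_principal hM z hz (Subgroup.centralizer ({z} : Set G)) rfl
    (1 : Subgroup.centralizer ({z} : Set G)) (by rw [orderOf_one]; norm_num)
  have h2 := sum_principal_sq hM N hN hidx (y := (1 : Subgroup.centralizer ({z} : Set G)))
    (by rw [orderOf_one]; norm_num)
  rw [Finset.sum_filter]
  rw [h2] at h1
  rw [← h1]
  refine Finset.sum_congr rfl (fun χ _ => ?_)
  simp

/-- Block orthogonality for two `2`-elements that are not conjugate. -/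
theorem orth_two_elements [Fintype (IrrCharacter G)] (hM : IsPModular 2 M)
    [DecidablePred (· ∈ principalBlock M G)] (g h : G) (c : ℕ)
    (hg : g ^ 2 ^ c = 1) (hh : h ^ 2 ^ c = 1) (hnc : ¬ IsConj g h) :
    ∑ χ ∈ Finset.univ.filter (· ∈ principalBlock M G),
      (χ : G → ℂ) g * (χ : G → ℂ) h⁻¹ = 0 := by
  classical
  have h1 := block_orthogonality_aux hM (Cfsg.Agent.Lib.H24.trivialIrr G) g h 1 c
    (by rw [one_mul]; exact hg) (by rw [one_mul]; exact hh) (by rw [pow_one, pow_one]; exact hnc)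
  rw [Finset.sum_filter]
  refine Eq.trans (Finset.sum_congr rfl (fun χ _ => ?_)) h1
  by_cases hχ : χ ∈ principalBlock M G
  · rw [if_pos hχ, if_pos (show χ ∈ blockOf M ((Cfsg.Agent.Lib.H24.trivialIrr G : IrrCharacter G) :
      G → ℂ) from hχ)]
  · rw [if_neg hχ, if_neg (show χ ∉ blockOf M ((Cfsg.Agent.Lib.H24.trivialIrr G : IrrCharacter G) :
      G → ℂ) from hχ)]

/-- Weak block orthogonality. -/
theorem orth_reg_sing [Fintype (IrrCharacter G)] (hM : IsPModular 2 M)
    [DecidablePred (· ∈ principalBlock M G)] (x y : G) (hx : ¬ 2 ∣ orderOf x)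
    (hy : 2 ∣ orderOf y) :
    ∑ χ ∈ Finset.univ.filter (· ∈ principalBlock M G),
      (χ : G → ℂ) x * conj ((χ : G → ℂ) y) = 0 := by
  classical
  have h1 := weak_block_orthogonality hM (Cfsg.Agent.Lib.H24.trivialIrr G) x y hx hy
  rw [Finset.sum_filter]
  refine Eq.trans (Finset.sum_congr rfl (fun χ _ => ?_)) h1
  by_cases hχ : χ ∈ principalBlock M G
  · rw [if_pos hχ, if_pos (show χ ∈ blockOf M ((Cfsg.Agent.Lib.H24.trivialIrr G : IrrCharacter G) :
      G → ℂ) from hχ)]
  · rw [if_neg hχ, if_neg (show χ ∉ blockOf M ((Cfsg.Agent.Lib.H24.trivialIrr G : IrrCharacter G) :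
      G → ℂ) from hχ)]

/-- Fourier coefficients of an irreducible character on a cyclic subgroup are natural numbers. -/
theorem coef_nat (χ : IrrCharacter G) (g : G) (m : ℕ) [NeZero m] (hg : orderOf g = m)
    (e : AddChar (ZMod m) ℂ) (i : ZMod m) :
    ∃ n : ℕ, ∑ l : ZMod m, (χ : G → ℂ) (g ^ l.val) * e (-(i * l)) = (m : ℂ) * n := by
  classical
  set C := Subgroup.zpowers g with hC
  haveI : Fintype C := Fintype.ofFinite _
  have hgC : g ∈ C := Subgroup.mem_zpowers g
  set g' : C := ⟨g, hgC⟩ with hg'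
  have hgen : ∀ x : C, x ∈ Subgroup.zpowers g' := by
    intro x
    obtain ⟨k, hk⟩ := Subgroup.mem_zpowers_iff.mp x.2
    rw [Subgroup.mem_zpowers_iff]
    refine ⟨k, ?_⟩
    apply Subtype.ext
    rw [← hk]
    simp [hg']
  have hord' : orderOf g' = m := by rw [hg', Subgroup.orderOf_mk, hg]
  -- the unit e(i)
  have hei : e i * e (-i) = 1 := by
    rw [← AddChar.map_add_eq_mul, add_neg_cancel, AddChar.map_zero_eq_one]
  set u : ℂˣ := ⟨e i, e (-i), hei, by rw [mul_comm]; exact hei⟩ with hu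
  have hupow : u ^ m = 1 := by
    apply Units.ext
    rw [Units.val_pow_eq_pow_val, Units.val_one]
    show (e i) ^ m = 1
    rw [← AddChar.map_nsmul_eq_pow, nsmul_eq_mul, ZMod.natCast_self, zero_mul,
      AddChar.map_zero_eq_one]
  have hdvd : orderOf u ∣ orderOf g' := by
    rw [hord']
    exact orderOf_dvd_of_pow_eq_one hupow
  set ψ : C →* ℂˣ := monoidHomOfForallMemZpowers hgen hdvd with hψ
  have hψg : ψ g' = u := monoidHomOfForallMemZpowers_apply_gen hgen hdvd
  have hirr : IsIrrCharacter C (fun c => ((ψ c : ℂˣ) : ℂ)) :=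
    Cfsg.Agent.Lib.L0.isIrrCharacter_of_hom ψ
  have hres : IsCharacter C (fun c : C => (χ : G → ℂ) c) :=
    Cfsg.Agent.Lib.L0.isCharacter_restrict C (Cfsg.Agent.Lib.L0.isCharacter_of_irr χ.2)
  obtain ⟨n, hn⟩ := Cfsg.Agent.Lib.L0.classInner_char_irr_nat hres hirr
  refine ⟨n, ?_⟩
  have hcardC : Nat.card C = m := by rw [hC, Nat.card_zpowers, hg]
  rw [classInner, hcardC] at hn
  have hm0 : (m : ℂ) ≠ 0 := Nat.cast_ne_zero.mpr (NeZero.ne m)
  have hsum : ∑ c : C, (χ : G → ℂ) c * conj ((ψ c : ℂˣ) : ℂ) = (m : ℂ) * n := by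
    rw [← hn, ← mul_assoc, mul_inv_cancel₀ hm0, one_mul]
  rw [← hsum]
  -- the bijection ZMod m ≃ C
  have hinj : Function.Injective (fun l : ZMod m => (g' ^ l.val : C)) := by
    intro a b hab
    have h1 : g' ^ a.val = g' ^ b.val := hab
    have h2 := pow_injOn_Iio_orderOf (x := g')
      (show a.val ∈ Set.Iio (orderOf g') by rw [hord']; exact ZMod.val_lt a)
      (show b.val ∈ Set.Iio (orderOf g') by rw [hord']; exact ZMod.val_lt b) h1
    exact ZMod.val_injective m h2
  have hbij : Function.Bijective (fun l : ZMod m => (g' ^ l.val : C)) := by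
    rw [Fintype.bijective_iff_injective_and_card]
    refine ⟨hinj, ?_⟩
    rw [ZMod.card, ← Nat.card_eq_fintype_card, hcardC]
  apply Fintype.sum_bijective _ hbij
  intro l
  have h1 : ((g' ^ l.val : C) : G) = g ^ l.val := by simp [hg']
  rw [h1]
  congr 1
  rw [map_pow, hψg, Units.val_pow_eq_pow_val]
  symm
  show conj ((e i) ^ l.val) = e (-(i * l))
  have hnorm : ‖e i‖ = 1 := by
    apply Complex.norm_eq_one_of_pow_eq_one (n := m)
    · have := congrArg Units.val hupow
      simpa [hu] using this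
    · exact NeZero.ne m
  rw [map_pow, ← Complex.inv_eq_conj hnorm]
  have h2 : (e i)⁻¹ = e (-i) := by
    rw [inv_eq_of_mul_eq_one_right hei]
  rw [h2, ← AddChar.map_nsmul_eq_pow, nsmul_eq_mul, ZMod.natCast_zmod_val]
  congr 1
  ring

end Cfsg.Agent.Lib.H22.DihBlock
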