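import Mathlib.NumberTheory.LegendreSymbol.AddCharacter
import Mathlib.Tactic

/-!
# Finite Fourier analysis for the principal 2-block with dihedral defect group (helper22)

`v : ι → ZMod m → ℂ` is a family of even functions on `ZMod m` (the values of the characters of
a block on a cyclic subgroup) satisfying block orthogonality relations.  We compute the Gram
matrix of the Fourier coefficients.
-/

set_option autoImplicit false

namespace Cfsg.Agent.Lib.H22.DihFourier

variable {ι : Type*} {m : ℕ} [NeZero m]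

theorem sum_e_mul (e : AddChar (ZMod m) ℂ) (he : e.IsPrimitive) (c : ZMod m) :
    ∑ l : ZMod m, e (c * l) = if c = 0 then (m : ℂ) else 0 := by
  have h := AddChar.sum_mulShift c he
  rw [ZMod.card] at h
  have h' : ∑ l : ZMod m, e (c * l) = ∑ x : ZMod m, e (x * c) :=
    Finset.sum_congr rfl (fun l _ => by rw [mul_comm])
  rw [h', h]
  split_ifs <;> simp

/-- Fourier coefficients. -/
noncomputable def coef (e : AddChar (ZMod m) ℂ) (v : ι → ZMod m → ℂ) (χ : ι) (i : ZMod m) : ℂ :=
  (m : ℂ)⁻¹ * ∑ l : ZMod m, v χ l * e (-(i * l))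

theorem coef_neg (e : AddChar (ZMod m) ℂ) (v : ι → ZMod m → ℂ)
    (hsym : ∀ χ l, v χ (-l) = v χ l) (χ : ι) (i : ZMod m) :
    coef e v χ (-i) = coef e v χ i := by
  unfold coef
  congr 1
  apply Fintype.sum_equiv (Equiv.neg (ZMod m))
  intro l
  simp only [Equiv.neg_apply]
  rw [hsym]
  congr 2
  ring

theorem m_ne_zero : (m : ℂ) ≠ 0 := Nat.cast_ne_zero.mpr (NeZero.ne m)

/-- Fourier inversion. -/
theorem inversion (e : AddChar (ZMod m) ℂ) (he : e.IsPrimitive) (v : ι → ZMod m → ℂ) (χ : ι)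
    (l : ZMod m) : ∑ i : ZMod m, coef e v χ i * e (i * l) = v χ l := by
  classical
  have hm0 : (m : ℂ) ≠ 0 := m_ne_zero
  calc ∑ i : ZMod m, coef e v χ i * e (i * l)
      = ∑ i : ZMod m, (m : ℂ)⁻¹ * ∑ l' : ZMod m, v χ l' * e ((l - l') * i) := by
        refine Finset.sum_congr rfl (fun i _ => ?_)
        rw [coef, mul_assoc, Finset.sum_mul]
        congr 1
        refine Finset.sum_congr rfl (fun l' _ => ?_)
        rw [mul_assoc, ← AddChar.map_add_eq_mul]
        congr 2
        ring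
    _ = (m : ℂ)⁻¹ * ∑ l' : ZMod m, v χ l' * ∑ i : ZMod m, e ((l - l') * i) := by
        rw [← Finset.mul_sum, Finset.sum_comm]
        congr 1
        refine Finset.sum_congr rfl (fun l' _ => ?_)
        rw [Finset.mul_sum]
    _ = (m : ℂ)⁻¹ * ∑ l' : ZMod m, v χ l' * (if l - l' = 0 then (m : ℂ) else 0) := by
        congr 1
        refine Finset.sum_congr rfl (fun l' _ => ?_)
        rw [sum_e_mul e he]
    _ = v χ l := by
        rw [Finset.sum_eq_single l]
        · rw [sub_self, if_pos rfl]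
          field_simp
        · intro l' _ hl'
          rw [if_neg (fun h => hl' (sub_eq_zero.mp h).symm), mul_zero]
        · intro h
          exact absurd (Finset.mem_univ l) h

section Gram

variable (e : AddChar (ZMod m) ℂ) (he : e.IsPrimitive) (B : Finset ι) (v : ι → ZMod m → ℂ)
  (hf : ZMod m) (hhf : hf + hf = 0) (hhf0 : hf ≠ 0)
  (hneg : ∀ l : ZMod m, l = -l → l = 0 ∨ l = hf)
  (hsym : ∀ χ l, v χ (-l) = v χ l)
  (horth : ∀ l l' : ZMod m, l' ≠ l → l' ≠ -l → ∑ χ ∈ B, v χ l * v χ l' = 0)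
  (hnorm : ∀ l : ZMod m, l ≠ 0 → l ≠ hf → ∑ χ ∈ B, v χ l * v χ l = m)
  (hnormh : ∑ χ ∈ B, v χ hf * v χ hf = 2 * m)

include he hhf hhf0 hneg hsym horth hnorm hnormh in
/-- The Gram matrix of the Fourier coefficients. -/
theorem gram (i j : ZMod m) :
    ∑ χ ∈ B, coef e v χ i * coef e v χ j =
      ((∑ χ ∈ B, v χ 0 * v χ 0) - 2 * m) / (m : ℂ) ^ 2 + (if i = j then 1 else 0) +
        (if i = -j then 1 else 0) := by
  classical
  have hm0 : (m : ℂ) ≠ 0 := m_ne_zero
  set D : ℂ := ∑ χ ∈ B, v χ 0 * v χ 0 with hD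
  set S : ZMod m → ZMod m → ℂ := fun l l' => ∑ χ ∈ B, v χ l * v χ l' with hS
  have h1 : ∑ χ ∈ B, coef e v χ i * coef e v χ j =
      ((m : ℂ)⁻¹) ^ 2 * ∑ l : ZMod m, ∑ l' : ZMod m, e (-(i * l)) * e (-(j * l')) * S l l' := by
    simp only [coef, hS]
    calc ∑ χ ∈ B, ((m : ℂ)⁻¹ * ∑ l : ZMod m, v χ l * e (-(i * l))) *
          ((m : ℂ)⁻¹ * ∑ l' : ZMod m, v χ l' * e (-(j * l')))
        = ∑ χ ∈ B, ((m : ℂ)⁻¹) ^ 2 * ∑ l : ZMod m, ∑ l' : ZMod m,
            e (-(i * l)) * e (-(j * l')) * (v χ l * v χ l') := by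
          refine Finset.sum_congr rfl (fun χ _ => ?_)
          rw [mul_mul_mul_comm, ← pow_two, Finset.sum_mul_sum]
          congr 1
          exact Finset.sum_congr rfl (fun l _ => Finset.sum_congr rfl (fun l' _ => by ring))
      _ = ((m : ℂ)⁻¹) ^ 2 * ∑ l : ZMod m, ∑ l' : ZMod m,
            e (-(i * l)) * e (-(j * l')) * ∑ χ ∈ B, v χ l * v χ l' := by
          rw [← Finset.mul_sum]
          congr 1
          rw [Finset.sum_comm]
          refine Finset.sum_congr rfl (fun l _ => ?_)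
          rw [Finset.sum_comm]
          refine Finset.sum_congr rfl (fun l' _ => ?_)
          rw [Finset.mul_sum]
  have hneghf : -hf = hf := neg_eq_of_add_eq_zero_left hhf
  have h2 : ∀ l : ZMod m, ∑ l' : ZMod m, e (-(i * l)) * e (-(j * l')) * S l l' =
      m * (e (-(i + j) * l) + e ((j - i) * l)) + (if l = 0 then D - 2 * m else 0) := by
    intro l
    by_cases hl0 : l = 0
    · rw [hl0, Fintype.sum_eq_single (0 : ZMod m)]
      · rw [if_pos rfl]
        simp only [mul_zero, neg_zero, AddChar.map_zero_eq_one, one_mul]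
        rw [hS, hD]
        ring
      · intro l' hl'
        have : S 0 l' = 0 := horth 0 l' hl' (by rw [neg_zero]; exact hl')
        rw [this, mul_zero]
    · by_cases hlh : l = hf
      · rw [hlh, Fintype.sum_eq_single hf]
        · have hSh : S hf hf = 2 * m := hnormh
          rw [hSh, if_neg hhf0]
          have e1 : e (-(i * hf)) * e (-(j * hf)) = e (-(i + j) * hf) := by
            rw [← AddChar.map_add_eq_mul]; congr 1; ring
          have e2 : (j - i) * hf = -(i + j) * hf := by linear_combination j * hhf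
          rw [e2, e1]
          ring
        · intro l' hl'
          have : S hf l' = 0 := horth hf l' hl' (by rw [hneghf]; exact hl')
          rw [this, mul_zero]
      · have hlneg : l ≠ -l := by
          intro h
          rcases hneg l h with h' | h'
          · exact hl0 h'
          · exact hlh h'
        rw [Fintype.sum_eq_add l (-l) hlneg]
        · have hS1 : S l l = m := hnorm l hl0 hlh
          have hS2 : S l (-l) = m := by
            rw [← hS1]
            simp only [hS]
            exact Finset.sum_congr rfl (fun χ _ => by rw [hsym])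
          rw [hS1, hS2, if_neg hl0]
          have e1 : e (-(i * l)) * e (-(j * l)) = e (-(i + j) * l) := by
            rw [← AddChar.map_add_eq_mul]; congr 1; ring
          have e2 : e (-(i * l)) * e (-(j * (-l))) = e ((j - i) * l) := by
            rw [← AddChar.map_add_eq_mul]; congr 1; ring
          rw [← e1, ← e2]
          ring
        · intro l' hl'
          have : S l l' = 0 := horth l l' hl'.1 hl'.2
          rw [this, mul_zero]
  rw [h1]
  simp_rw [h2]
  rw [Finset.sum_add_distrib, ← Finset.mul_sum, Finset.sum_add_distrib, sum_e_mul e he,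
    sum_e_mul e he, Finset.sum_ite_eq' Finset.univ (0 : ZMod m) (fun _ => D - 2 * (m : ℂ)),
    if_pos (Finset.mem_univ _)]
  have c1 : (-(i + j) = 0) ↔ i = -j := by
    rw [neg_eq_zero, add_eq_zero_iff_eq_neg]
  have c2 : (j - i = 0) ↔ i = j := by
    rw [sub_eq_zero, eq_comm]
  by_cases hij : i = j <;> by_cases hij' : i = -j
  · rw [if_pos (c1.mpr hij'), if_pos (c2.mpr hij), if_pos hij, if_pos hij']
    field_simp
    ring
  · rw [if_neg (fun h => hij' (c1.mp h)), if_pos (c2.mpr hij), if_pos hij, if_neg hij']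
    field_simp
    ring
  · rw [if_pos (c1.mpr hij'), if_neg (fun h => hij (c2.mp h)), if_neg hij, if_pos hij']
    field_simp
    ring
  · rw [if_neg (fun h => hij' (c1.mp h)), if_neg (fun h => hij (c2.mp h)), if_neg hij,
      if_neg hij']
    field_simp
    ring

/-- A vector orthogonal to all columns `l ≠ 0` has constant inner products with the Fourier
coefficient vectors. -/
theorem sum_coef_mul (r : ι → ℂ) (hr : ∀ l : ZMod m, l ≠ 0 → ∑ χ ∈ B, v χ l * r χ = 0)
    (i : ZMod m) :
    ∑ χ ∈ B, coef e v χ i * r χ = (m : ℂ)⁻¹ * ∑ χ ∈ B, v χ 0 * r χ := by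
  classical
  calc ∑ χ ∈ B, coef e v χ i * r χ
      = (m : ℂ)⁻¹ * ∑ l : ZMod m, e (-(i * l)) * ∑ χ ∈ B, v χ l * r χ := by
        simp only [coef]
        rw [Finset.mul_sum]
        have : ∀ χ ∈ B, (m : ℂ)⁻¹ * (∑ l : ZMod m, v χ l * e (-(i * l))) * r χ =
            (m : ℂ)⁻¹ * ∑ l : ZMod m, e (-(i * l)) * (v χ l * r χ) := by
          intro χ _
          rw [mul_assoc, Finset.sum_mul]
          congr 1
          exact Finset.sum_congr rfl (fun l _ => by ring)
        rw [Finset.sum_congr rfl this, ← Finset.mul_sum, ← Finset.mul_sum, Finset.sum_comm]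
        congr 1
        exact Finset.sum_congr rfl (fun l _ => by rw [Finset.mul_sum])
    _ = (m : ℂ)⁻¹ * ∑ χ ∈ B, v χ 0 * r χ := by
        congr 1
        rw [Fintype.sum_eq_single (0 : ZMod m)]
        · rw [mul_zero, neg_zero, AddChar.map_zero_eq_one, one_mul]
        · intro l hl
          rw [hr l hl, mul_zero]

end Gram

/-- The difference vectors. -/
noncomputable def wc (e : AddChar (ZMod m) ℂ) (v : ι → ZMod m → ℂ) (χ : ι) (i : ZMod m) : ℂ :=
  coef e v χ i - coef e v χ 1

theorem wc_neg (e : AddChar (ZMod m) ℂ) (v : ι → ZMod m → ℂ)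
    (hsym : ∀ χ l, v χ (-l) = v χ l) (χ : ι) (i : ZMod m) :
    wc e v χ (-i) = wc e v χ i := by
  unfold wc
  rw [coef_neg e v hsym]

theorem wc_one (e : AddChar (ZMod m) ℂ) (v : ι → ZMod m → ℂ) (χ : ι) : wc e v χ 1 = 0 := by
  unfold wc
  rw [sub_self]

/-- Inversion for the difference vectors. -/
theorem inversion_wc (e : AddChar (ZMod m) ℂ) (he : e.IsPrimitive) (v : ι → ZMod m → ℂ) (χ : ι)
    (l : ZMod m) (hl : l ≠ 0) : ∑ i : ZMod m, wc e v χ i * e (i * l) = v χ l := by
  classical
  simp only [wc, sub_mul]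
  rw [Finset.sum_sub_distrib, inversion e he, ← Finset.mul_sum]
  have : ∑ i : ZMod m, e (i * l) = 0 := by
    have h := sum_e_mul e he l
    rw [if_neg hl] at h
    rw [← h]
    exact Finset.sum_congr rfl (fun i _ => by rw [mul_comm])
  rw [this, mul_zero, sub_zero]

/-- The generic Gram entry. -/
noncomputable def gg (i j : ZMod m) : ℂ := by
  classical exact (if i = j then 1 else 0) + (if i = -j then 1 else 0)

theorem gram_wc (e : AddChar (ZMod m) ℂ) (he : e.IsPrimitive) (B : Finset ι)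
    (v : ι → ZMod m → ℂ) (hf : ZMod m) (hhf : hf + hf = 0) (hhf0 : hf ≠ 0)
    (hneg : ∀ l : ZMod m, l = -l → l = 0 ∨ l = hf)
    (hsym : ∀ χ l, v χ (-l) = v χ l)
    (horth : ∀ l l' : ZMod m, l' ≠ l → l' ≠ -l → ∑ χ ∈ B, v χ l * v χ l' = 0)
    (hnorm : ∀ l : ZMod m, l ≠ 0 → l ≠ hf → ∑ χ ∈ B, v χ l * v χ l = m)
    (hnormh : ∑ χ ∈ B, v χ hf * v χ hf = 2 * m) (i j : ZMod m) :
    ∑ χ ∈ B, wc e v χ i * wc e v χ j = gg i j - gg i 1 - gg 1 j + gg (1 : ZMod m) 1 := by
  classical
  have hG := gram e he B v hf hhf hhf0 hneg hsym horth hnorm hnormh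
  have hexp : ∀ χ ∈ B, wc e v χ i * wc e v χ j =
      coef e v χ i * coef e v χ j - coef e v χ i * coef e v χ 1 - coef e v χ 1 * coef e v χ j +
        coef e v χ 1 * coef e v χ 1 := by
    intro χ _
    unfold wc
    ring
  rw [Finset.sum_congr rfl hexp, Finset.sum_add_distrib, Finset.sum_sub_distrib,
    Finset.sum_sub_distrib, hG, hG, hG, hG]
  unfold gg
  ring

theorem sum_wc_mul (e : AddChar (ZMod m) ℂ) (B : Finset ι) (v : ι → ZMod m → ℂ)
    (r : ι → ℂ) (hr : ∀ l : ZMod m, l ≠ 0 → ∑ χ ∈ B, v χ l * r χ = 0) (i : ZMod m) :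
    ∑ χ ∈ B, wc e v χ i * r χ = 0 := by
  simp only [wc, sub_mul]
  rw [Finset.sum_sub_distrib, sum_coef_mul e B v r hr, sum_coef_mul e B v r hr, sub_self]

end Cfsg.Agent.Lib.H22.DihFourier
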