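import Mathlib.Tactic
import Mathlib.Algebra.BigOperators.Ring.Finset
import Mathlib.Algebra.Order.BigOperators.Group.Finset
import Mathlib.Data.Finset.Card

/-!
# A lattice lemma for the principal 2-block with dihedral defect group (helper22)

Integer vectors `U, V` of norm 3 and `W j` of norm 2 indexed by a finset `B`, with all mutual
inner products 1, all orthogonal to a positive vector `x`, with `U one = 1`, `V one = 0`,
`W j one = 0`, `x one = 1`.  Then they have a very rigid shape (`lattice_main`).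
-/

set_option autoImplicit false

namespace Cfsg.Agent.Lib.H22.DihLattice

variable {ι : Type*} [DecidableEq ι]

/-- Indicator of a point. -/
def ind (p : ι) (χ : ι) : ℤ := if χ = p then 1 else 0

theorem ind_self (p : ι) : ind p p = 1 := if_pos rfl

theorem ind_ne {p χ : ι} (h : χ ≠ p) : ind p χ = 0 := if_neg h

theorem ind_nonneg (p χ : ι) : 0 ≤ ind p χ := by
  unfold ind; split_ifs <;> norm_num

theorem ind_le_one (p χ : ι) : ind p χ ≤ 1 := by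
  unfold ind; split_ifs <;> norm_num

theorem sum_ind_mul (B : Finset ι) {p : ι} (hp : p ∈ B) (g : ι → ℤ) :
    ∑ χ ∈ B, ind p χ * g χ = g p := by
  simp only [ind, ite_mul, one_mul, zero_mul]
  rw [Finset.sum_ite_eq' B p g, if_pos hp]

omit [DecidableEq ι] in
theorem entry_cases (B : Finset ι) (f : ι → ℤ) (n : ℤ) (hn : n ≤ 3)
    (h : ∑ χ ∈ B, f χ * f χ = n) {χ : ι} (hχ : χ ∈ B) : f χ = 0 ∨ f χ = 1 ∨ f χ = -1 := by
  have h1 : f χ * f χ ≤ ∑ χ ∈ B, f χ * f χ :=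
    Finset.single_le_sum (f := fun χ => f χ * f χ) (fun i _ => mul_self_nonneg _) hχ
  rw [h] at h1
  have h2 : f χ ≤ 1 := by nlinarith
  have h3 : -1 ≤ f χ := by nlinarith
  omega

/-- A vector of norm 2 is supported on two points with values `±1`. -/
theorem exists_pair (B : Finset ι) (f : ι → ℤ) (h : ∑ χ ∈ B, f χ * f χ = 2) :
    ∃ β γ : ι, β ∈ B ∧ γ ∈ B ∧ β ≠ γ ∧ (f β = 1 ∨ f β = -1) ∧ (f γ = 1 ∨ f γ = -1) ∧
      ∀ χ ∈ B, f χ = f β * ind β χ + f γ * ind γ χ := by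
  have hent : ∀ χ ∈ B, f χ = 0 ∨ f χ = 1 ∨ f χ = -1 :=
    fun χ hχ => entry_cases B f 2 (by norm_num) h hχ
  set T := B.filter (fun χ => f χ ≠ 0) with hT
  have h1 : ∑ χ ∈ B, f χ * f χ = ∑ χ ∈ T, f χ * f χ := by
    rw [hT, Finset.sum_filter]
    refine Finset.sum_congr rfl (fun χ _ => ?_)
    by_cases h0 : f χ = 0
    · simp [h0]
    · simp [h0]
  have h2 : ∑ χ ∈ T, f χ * f χ = ∑ χ ∈ T, (1 : ℤ) := by
    refine Finset.sum_congr rfl (fun χ hχ => ?_)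
    rw [hT, Finset.mem_filter] at hχ
    rcases hent χ hχ.1 with h0 | h0 | h0
    · exact absurd h0 hχ.2
    · rw [h0]; norm_num
    · rw [h0]; norm_num
  have hcard : T.card = 2 := by
    rw [h1, h2, Finset.sum_const, nsmul_eq_mul, mul_one] at h
    exact_mod_cast h
  obtain ⟨β, γ, hβγ, hTeq⟩ := Finset.card_eq_two.mp hcard
  have hβT : β ∈ T := by rw [hTeq]; simp
  have hγT : γ ∈ T := by rw [hTeq]; simp
  rw [hT, Finset.mem_filter] at hβT hγT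
  refine ⟨β, γ, hβT.1, hγT.1, hβγ, ?_, ?_, ?_⟩
  · rcases hent β hβT.1 with h0 | h0 | h0
    · exact absurd h0 hβT.2
    · left; exact h0
    · right; exact h0
  · rcases hent γ hγT.1 with h0 | h0 | h0
    · exact absurd h0 hγT.2
    · left; exact h0
    · right; exact h0
  · intro χ hχ
    by_cases hχβ : χ = β
    · rw [hχβ, ind_self, ind_ne hβγ, mul_one, mul_zero, add_zero]
    · by_cases hχγ : χ = γ
      · rw [hχγ, ind_ne hβγ.symm, ind_self, mul_zero, mul_one, zero_add]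
      · rw [ind_ne hχβ, ind_ne hχγ, mul_zero, mul_zero, add_zero]
        by_contra h0
        have hmem : χ ∈ T := by rw [hT, Finset.mem_filter]; exact ⟨hχ, h0⟩
        rw [hTeq, Finset.mem_insert, Finset.mem_singleton] at hmem
        rcases hmem with h' | h'
        · exact hχβ h'
        · exact hχγ h'

theorem sum_mul_of_rep2 (B : Finset ι) (f g : ι → ℤ) {β γ : ι} (hβ : β ∈ B) (hγ : γ ∈ B)
    (a b : ℤ) (hrep : ∀ χ ∈ B, f χ = a * ind β χ + b * ind γ χ) :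
    ∑ χ ∈ B, f χ * g χ = a * g β + b * g γ := by
  calc ∑ χ ∈ B, f χ * g χ = ∑ χ ∈ B, (a * (ind β χ * g χ) + b * (ind γ χ * g χ)) :=
        Finset.sum_congr rfl (fun χ hχ => by rw [hrep χ hχ]; ring)
    _ = a * g β + b * g γ := by
        rw [Finset.sum_add_distrib, ← Finset.mul_sum, ← Finset.mul_sum, sum_ind_mul B hβ,
          sum_ind_mul B hγ]

theorem sum_mul_of_rep3 (B : Finset ι) (f g : ι → ℤ) {α β γ : ι} (hα : α ∈ B) (hβ : β ∈ B)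
    (hγ : γ ∈ B) (a b c : ℤ)
    (hrep : ∀ χ ∈ B, f χ = a * ind α χ + b * ind β χ + c * ind γ χ) :
    ∑ χ ∈ B, f χ * g χ = a * g α + b * g β + c * g γ := by
  calc ∑ χ ∈ B, f χ * g χ
      = ∑ χ ∈ B, (a * (ind α χ * g χ) + b * (ind β χ * g χ) + c * (ind γ χ * g χ)) :=
        Finset.sum_congr rfl (fun χ hχ => by rw [hrep χ hχ]; ring)
    _ = a * g α + b * g β + c * g γ := by
        rw [Finset.sum_add_distrib, Finset.sum_add_distrib, ← Finset.mul_sum, ← Finset.mul_sum,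
          ← Finset.mul_sum, sum_ind_mul B hα, sum_ind_mul B hβ, sum_ind_mul B hγ]

/-- A norm 2 vector orthogonal to a positive vector is a difference of two indicators, written
with an arbitrary sign `s`. -/
theorem exists_diff (B : Finset ι) (x : ι → ℤ) (f : ι → ℤ) (hxpos : ∀ χ ∈ B, 0 < x χ)
    (h : ∑ χ ∈ B, f χ * f χ = 2) (hx : ∑ χ ∈ B, f χ * x χ = 0) (s : ℤ) (hs : s = 1 ∨ s = -1) :
    ∃ a b : ι, a ∈ B ∧ b ∈ B ∧ a ≠ b ∧ ∀ χ ∈ B, f χ = s * ind a χ - s * ind b χ := by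
  obtain ⟨β, γ, hβ, hγ, hβγ, hfβ, hfγ, hrep⟩ := exists_pair B f h
  have h1 := sum_mul_of_rep2 B f x hβ hγ _ _ hrep
  rw [hx] at h1
  have hxβ := hxpos β hβ
  have hxγ := hxpos γ hγ
  rcases hfβ with h2 | h2 <;> rcases hfγ with h3 | h3
  · rw [h2, h3] at h1; omega
  · rcases hs with rfl | rfl
    · refine ⟨β, γ, hβ, hγ, hβγ, fun χ hχ => ?_⟩
      rw [hrep χ hχ, h2, h3]; ring
    · refine ⟨γ, β, hγ, hβ, hβγ.symm, fun χ hχ => ?_⟩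
      rw [hrep χ hχ, h2, h3]; ring
  · rcases hs with rfl | rfl
    · refine ⟨γ, β, hγ, hβ, hβγ.symm, fun χ hχ => ?_⟩
      rw [hrep χ hχ, h2, h3]; ring
    · refine ⟨β, γ, hβ, hγ, hβγ, fun χ hχ => ?_⟩
      rw [hrep χ hχ, h2, h3]; ring
  · rw [h2, h3] at h1; omega

/-- Peeling a known point off a vector of norm 3. -/
theorem exists_rep3_of_apply (B : Finset ι) (f : ι → ℤ) (h : ∑ χ ∈ B, f χ * f χ = 3) {ψ : ι}
    (hψ : ψ ∈ B) (t : ℤ) (ht : t = 1 ∨ t = -1) (hfψ : f ψ = t) :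
    ∃ β γ : ι, ∃ y₂ y₃ : ℤ, β ∈ B ∧ γ ∈ B ∧ β ≠ γ ∧ β ≠ ψ ∧ γ ≠ ψ ∧ (y₂ = 1 ∨ y₂ = -1) ∧
      (y₃ = 1 ∨ y₃ = -1) ∧ ∀ χ ∈ B, f χ = t * ind ψ χ + y₂ * ind β χ + y₃ * ind γ χ := by
  have h1 : ∑ χ ∈ B.erase ψ, f χ * f χ = 2 := by
    have h2 := Finset.add_sum_erase B (fun χ => f χ * f χ) hψ
    rw [h, hfψ] at h2
    rcases ht with rfl | rfl <;> linarith
  obtain ⟨β, γ, hβ, hγ, hβγ, hfβ, hfγ, hrep⟩ := exists_pair (B.erase ψ) f h1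
  rw [Finset.mem_erase] at hβ hγ
  refine ⟨β, γ, f β, f γ, hβ.2, hγ.2, hβγ, hβ.1, hγ.1, hfβ, hfγ, ?_⟩
  intro χ hχ
  by_cases hχψ : χ = ψ
  · rw [hχψ, ind_self, ind_ne hβ.1.symm, ind_ne hγ.1.symm, hfψ]; ring
  · rw [ind_ne hχψ, hrep χ (Finset.mem_erase.mpr ⟨hχψ, hχ⟩)]; ring

/-- The shape of `U`. -/
theorem exists_U (B : Finset ι) (x : ι → ℤ) (one : ι) (U : ι → ℤ) (hone : one ∈ B)
    (hx1 : x one = 1) (hxpos : ∀ χ ∈ B, 0 < x χ) (hU1 : U one = 1)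
    (hUU : ∑ χ ∈ B, U χ * U χ = 3) (hUx : ∑ χ ∈ B, U χ * x χ = 0) :
    ∃ P Q : ι, P ∈ B ∧ Q ∈ B ∧ P ≠ Q ∧ P ≠ one ∧ Q ≠ one ∧
      ∀ χ ∈ B, U χ = 1 * ind one χ + 1 * ind P χ + (-1) * ind Q χ := by
  obtain ⟨β, γ, y₂, y₃, hβ, hγ, hβγ, hβ1, hγ1, hy₂, hy₃, hrep⟩ :=
    exists_rep3_of_apply B U hUU hone 1 (Or.inl rfl) hU1
  have h1 := sum_mul_of_rep3 B U x hone hβ hγ _ _ _ hrep
  rw [hUx, hx1] at h1
  have hxβ := hxpos β hβ
  have hxγ := hxpos γ hγ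
  rcases hy₂ with rfl | rfl <;> rcases hy₃ with rfl | rfl
  · omega
  · exact ⟨β, γ, hβ, hγ, hβγ, hβ1, hγ1, hrep⟩
  · refine ⟨γ, β, hγ, hβ, hβγ.symm, hγ1, hβ1, fun χ hχ => ?_⟩
    rw [hrep χ hχ]; ring
  · omega

/-- Three distinct points where a norm 3 vector takes the same value `t = ±1`: then it is not
orthogonal to a positive vector. -/
theorem sum_ne_zero_of_three (B : Finset ι) (x : ι → ℤ) (f : ι → ℤ) (hxpos : ∀ χ ∈ B, 0 < x χ)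
    (h : ∑ χ ∈ B, f χ * f χ = 3) {a b c : ι} (ha : a ∈ B) (hb : b ∈ B) (hc : c ∈ B)
    (hab : a ≠ b) (hac : a ≠ c) (hbc : b ≠ c) (t : ℤ) (ht : t = 1 ∨ t = -1) (hfa : f a = t)
    (hfb : f b = t) (hfc : f c = t) : ∑ χ ∈ B, f χ * x χ ≠ 0 := by
  obtain ⟨β, γ, y₂, y₃, hβ, hγ, hβγ, hβ1, hγ1, hy₂, hy₃, hrep⟩ :=
    exists_rep3_of_apply B f h ha t ht hfa
  -- b and c are β, γ in some order
  have hb' := hrep b hb
  have hc' := hrep c hc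
  rw [ind_ne hab.symm, hfb] at hb'
  rw [ind_ne hac.symm, hfc] at hc'
  have hbβγ : b = β ∨ b = γ := by
    by_contra hcon
    rw [not_or] at hcon
    rw [ind_ne hcon.1, ind_ne hcon.2] at hb'
    rcases ht with rfl | rfl <;> omega
  have hcβγ : c = β ∨ c = γ := by
    by_contra hcon
    rw [not_or] at hcon
    rw [ind_ne hcon.1, ind_ne hcon.2] at hc'
    rcases ht with rfl | rfl <;> omega
  have h1 := sum_mul_of_rep3 B f x ha hβ hγ _ _ _ hrep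
  rw [h1]
  have hxa := hxpos a ha
  have hxβ := hxpos β hβ
  have hxγ := hxpos γ hγ
  have hfβ : f β = t := by
    rcases hbβγ with h2 | h2
    · rw [← h2]; exact hfb
    · rcases hcβγ with h3 | h3
      · rw [← h3]; exact hfc
      · exact absurd (h2.trans h3.symm) hbc
  have hfγ : f γ = t := by
    rcases hbβγ with h2 | h2
    · rcases hcβγ with h3 | h3
      · exact absurd (h2.trans h3.symm) hbc
      · rw [← h3]; exact hfc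
    · rw [← h2]; exact hfb
  have hy₂t : y₂ = t := by
    have := hrep β hβ
    rw [ind_ne hβ1, ind_self, ind_ne hβγ, hfβ] at this
    linarith
  have hy₃t : y₃ = t := by
    have := hrep γ hγ
    rw [ind_ne hγ1, ind_ne hβγ.symm, ind_self, hfγ] at this
    linarith
  rw [hy₂t, hy₃t]
  rcases ht with rfl | rfl
  · intro h0; linarith
  · intro h0; linarith


/-- Core of the lattice lemma, once the shape of `U` (with sign `s`) and the values of `V` at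
`ψ₁`, `χ₁` are known. -/
theorem lattice_core {J : Type*} (B : Finset ι) (x : ι → ℤ) (one : ι) (U V : ι → ℤ)
    (W : J → ι → ℤ) (same : J → J → Prop)
    (hone : one ∈ B) (hxpos : ∀ χ ∈ B, 0 < x χ)
    (hVV : ∑ χ ∈ B, V χ * V χ = 3)
    (hJJ : ∀ j, ∑ χ ∈ B, W j χ * W j χ = 2)
    (hUJ : ∀ j, ∑ χ ∈ B, U χ * W j χ = 1) (hVJ : ∀ j, ∑ χ ∈ B, V χ * W j χ = 1)
    (hJK : ∀ j k, ¬ same j k → ∑ χ ∈ B, W j χ * W k χ = 1)
    (hmid2 : ∀ j, ∃ k, ¬ same j k)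
    (hV1 : V one = 0) (hJ1 : ∀ j, W j one = 0)
    (hVx : ∑ χ ∈ B, V χ * x χ = 0) (hJx : ∀ j, ∑ χ ∈ B, W j χ * x χ = 0)
    (s : ℤ) (hs : s = 1 ∨ s = -1) (χ₁ ψ₁ : ι) (hχ₁ : χ₁ ∈ B) (hψ₁ : ψ₁ ∈ B)
    (hUrep : ∀ χ ∈ B, U χ = 1 * ind one χ + s * ind χ₁ χ + (-s) * ind ψ₁ χ)
    (hVψ : V ψ₁ = -s) (hVχ : V χ₁ = 0) :
    ∃ (y₂ y₃ : ℤ) (β γ : ι) (Ψ : J → ι),
      (y₂ = 1 ∨ y₂ = -1) ∧ (y₃ = 1 ∨ y₃ = -1) ∧ β ∈ B ∧ γ ∈ B ∧ (∀ j, Ψ j ∈ B) ∧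
      β ≠ γ ∧ β ≠ one ∧ γ ≠ one ∧ β ≠ χ₁ ∧ γ ≠ χ₁ ∧ β ≠ ψ₁ ∧ γ ≠ ψ₁ ∧
      (∀ j, Ψ j ≠ one ∧ Ψ j ≠ χ₁ ∧ Ψ j ≠ ψ₁ ∧ Ψ j ≠ β ∧ Ψ j ≠ γ) ∧
      (∀ j k, ¬ same j k → Ψ j ≠ Ψ k) ∧
      (∀ χ ∈ B, V χ = (-s) * ind ψ₁ χ + y₂ * ind β χ + y₃ * ind γ χ) ∧
      (∀ j, ∀ χ ∈ B, W j χ = s * ind (Ψ j) χ - s * ind ψ₁ χ) := by
  have hs0 : s ≠ 0 := by rcases hs with rfl | rfl <;> norm_num
  obtain ⟨β, γ, y₂, y₃, hβ, hγ, hβγ, hβψ, hγψ, hy₂, hy₃, hVrep⟩ :=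
    exists_rep3_of_apply B V hVV hψ₁ (-s) (by rcases hs with rfl | rfl <;> simp) hVψ
  have hVβ : V β = y₂ := by rw [hVrep β hβ, ind_ne hβψ, ind_self, ind_ne hβγ]; ring
  have hVγ : V γ = y₃ := by rw [hVrep γ hγ, ind_ne hγψ, ind_ne hβγ.symm, ind_self]; ring
  have hy₂0 : y₂ ≠ 0 := by rcases hy₂ with rfl | rfl <;> norm_num
  have hy₃0 : y₃ ≠ 0 := by rcases hy₃ with rfl | rfl <;> norm_num
  have hβ1 : β ≠ one := by intro h; rw [h, hV1] at hVβ; exact hy₂0 hVβ.symm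
  have hγ1 : γ ≠ one := by intro h; rw [h, hV1] at hVγ; exact hy₃0 hVγ.symm
  have hβχ : β ≠ χ₁ := by intro h; rw [h, hVχ] at hVβ; exact hy₂0 hVβ.symm
  have hγχ : γ ≠ χ₁ := by intro h; rw [h, hVχ] at hVγ; exact hy₃0 hVγ.symm
  have hWex : ∀ j, ∃ a b : ι, a ∈ B ∧ b ∈ B ∧ a ≠ b ∧
      ∀ χ ∈ B, W j χ = s * ind a χ - s * ind b χ :=
    fun j => exists_diff B x (W j) hxpos (hJJ j) (hJx j) s hs
  choose a b haB hbB hab hWrep using hWex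
  have hWa : ∀ j, W j (a j) = s := by
    intro j; rw [hWrep j _ (haB j), ind_self, ind_ne (hab j)]; ring
  have hWb : ∀ j, W j (b j) = -s := by
    intro j; rw [hWrep j _ (hbB j), ind_ne (hab j).symm, ind_self]; ring
  have hW_eq_a : ∀ j χ, χ ∈ B → W j χ = s → χ = a j := by
    intro j χ hχ h
    by_contra hne
    rw [hWrep j χ hχ, ind_ne hne] at h
    have h1 := ind_nonneg (b j) χ
    have h2 := ind_le_one (b j) χ
    rcases hs with rfl | rfl <;> omega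
  have hW_eq_b : ∀ j χ, χ ∈ B → W j χ = -s → χ = b j := by
    intro j χ hχ h
    by_contra hne
    rw [hWrep j χ hχ, ind_ne hne] at h
    have h1 := ind_nonneg (a j) χ
    have h2 := ind_le_one (a j) χ
    rcases hs with rfl | rfl <;> omega
  have hWinner : ∀ j (g : ι → ℤ), ∑ χ ∈ B, W j χ * g χ = s * g (a j) + (-s) * g (b j) :=
    fun j g => sum_mul_of_rep2 B (W j) g (haB j) (hbB j) s (-s)
      (fun χ hχ => by rw [hWrep j χ hχ]; ring)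
  have hWent : ∀ j χ, χ ∈ B → W j χ = 0 ∨ W j χ = 1 ∨ W j χ = -1 :=
    fun j χ hχ => entry_cases B (W j) 2 (by norm_num) (hJJ j) hχ
  have hUinner : ∀ g : ι → ℤ, ∑ χ ∈ B, U χ * g χ = 1 * g one + s * g χ₁ + (-s) * g ψ₁ :=
    fun g => sum_mul_of_rep3 B U g hone hχ₁ hψ₁ _ _ _ hUrep
  have hrel : ∀ j, s * W j χ₁ - s * W j ψ₁ = 1 := by
    intro j
    have := hUinner (W j)
    rw [hUJ j, hJ1 j] at this
    linarith
  have htype : ∀ j, (W j ψ₁ = -s ∧ W j χ₁ = 0) ∨ (W j χ₁ = s ∧ W j ψ₁ = 0) := by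
    intro j
    have h1 := hrel j
    have h2 := hWent j χ₁ hχ₁
    have h3 := hWent j ψ₁ hψ₁
    rcases hs with rfl | rfl <;> omega
  have hVWinner : ∀ j, s * V (a j) + (-s) * V (b j) = 1 := by
    intro j
    have h1 := hWinner j V
    have h2 : ∑ χ ∈ B, W j χ * V χ = 1 := by
      rw [← hVJ j]; exact Finset.sum_congr rfl (fun χ _ => mul_comm _ _)
    rw [h2] at h1
    exact h1.symm
  have hVbad : ∀ j, W j χ₁ = s → V (b j) = -s := by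
    intro j hbad1
    have haj : χ₁ = a j := hW_eq_a j χ₁ hχ₁ hbad1
    have h1 := hVWinner j
    rw [← haj, hVχ] at h1
    rcases hs with rfl | rfl <;> omega
  have hgood : ∀ j, W j ψ₁ = -s ∧ W j χ₁ = 0 := by
    intro j
    rcases htype j with h | ⟨hbad1, hbad2⟩
    · exact h
    · exfalso
      have haj : χ₁ = a j := hW_eq_a j χ₁ hχ₁ hbad1
      have hbj : b j ≠ ψ₁ := by
        intro h
        rw [← h, hWb j] at hbad2
        rcases hs with rfl | rfl <;> omega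
      have hVbj := hVbad j hbad1
      obtain ⟨k, hk⟩ := hmid2 j
      have hjk := hJK j k hk
      rw [hWinner j (W k), ← haj] at hjk
      rcases htype k with ⟨hk1, hk2⟩ | ⟨hk1, hk2⟩
      · rw [hk2] at hjk
        have h3 : W k (b j) = -s := by rcases hs with rfl | rfl <;> omega
        have h4 : b j = b k := hW_eq_b k (b j) (hbB j) h3
        have h5 : ψ₁ = b k := hW_eq_b k ψ₁ hψ₁ hk1
        exact hbj (h4.trans h5.symm)
      · rw [hk1] at hjk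
        have h3 : W k (b j) = 0 := by rcases hs with rfl | rfl <;> omega
        have hbjk : b j ≠ b k := by
          intro h
          rw [h, hWb k] at h3
          rcases hs with rfl | rfl <;> omega
        have hbk : b k ≠ ψ₁ := by
          intro h
          rw [← h, hWb k] at hk2
          rcases hs with rfl | rfl <;> omega
        have hVbk := hVbad k hk1
        exact sum_ne_zero_of_three B x V hxpos hVV hψ₁ (hbB j) (hbB k) hbj.symm hbk.symm hbjk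
          (-s) (by rcases hs with rfl | rfl <;> simp) hVψ hVbj hVbk hVx
  have hbψ : ∀ j, b j = ψ₁ := fun j => (hW_eq_b j ψ₁ hψ₁ (hgood j).1).symm
  have hVa : ∀ j, V (a j) = 0 := by
    intro j
    have h1 := hVWinner j
    rw [hbψ j, hVψ] at h1
    rcases hs with rfl | rfl <;> omega
  refine ⟨y₂, y₃, β, γ, a, hy₂, hy₃, hβ, hγ, haB, hβγ, hβ1, hγ1, hβχ, hγχ, hβψ, hγψ, ?_, ?_,
    hVrep, ?_⟩
  · intro j
    refine ⟨?_, ?_, ?_, ?_, ?_⟩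
    · intro h
      have := hWa j
      rw [h, hJ1 j] at this
      exact hs0 this.symm
    · intro h
      have := hWa j
      rw [h, (hgood j).2] at this
      exact hs0 this.symm
    · intro h
      exact hab j (h.trans (hbψ j).symm)
    · intro h
      have := hVa j
      rw [h, hVβ] at this
      exact hy₂0 this
    · intro h
      have := hVa j
      rw [h, hVγ] at this
      exact hy₃0 this
  · intro j k hjk h
    have h1 := hJK j k hjk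
    rw [hWinner j (W k), h, hWa k, hbψ j, (hgood k).1] at h1
    rcases hs with rfl | rfl <;> omega
  · intro j χ hχ
    rw [hWrep j χ hχ, hbψ j]

/-- **The lattice lemma.** -/
theorem lattice_main {J : Type*} (B : Finset ι) (x : ι → ℤ) (one : ι) (U V : ι → ℤ)
    (W : J → ι → ℤ) (same : J → J → Prop)
    (hone : one ∈ B) (hx1 : x one = 1) (hxpos : ∀ χ ∈ B, 0 < x χ)
    (hUU : ∑ χ ∈ B, U χ * U χ = 3) (hVV : ∑ χ ∈ B, V χ * V χ = 3)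
    (hUV : ∑ χ ∈ B, U χ * V χ = 1)
    (hJJ : ∀ j, ∑ χ ∈ B, W j χ * W j χ = 2)
    (hUJ : ∀ j, ∑ χ ∈ B, U χ * W j χ = 1) (hVJ : ∀ j, ∑ χ ∈ B, V χ * W j χ = 1)
    (hJK : ∀ j k, ¬ same j k → ∑ χ ∈ B, W j χ * W k χ = 1)
    (hmid2 : ∀ j, ∃ k, ¬ same j k)
    (hU1 : U one = 1) (hV1 : V one = 0) (hJ1 : ∀ j, W j one = 0)
    (hUx : ∑ χ ∈ B, U χ * x χ = 0) (hVx : ∑ χ ∈ B, V χ * x χ = 0)
    (hJx : ∀ j, ∑ χ ∈ B, W j χ * x χ = 0) :
    ∃ (s y₂ y₃ : ℤ) (χ₁ ψ₁ β γ : ι) (Ψ : J → ι),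
      (s = 1 ∨ s = -1) ∧ (y₂ = 1 ∨ y₂ = -1) ∧ (y₃ = 1 ∨ y₃ = -1) ∧
      χ₁ ∈ B ∧ ψ₁ ∈ B ∧ β ∈ B ∧ γ ∈ B ∧ (∀ j, Ψ j ∈ B) ∧
      χ₁ ≠ one ∧ ψ₁ ≠ one ∧ χ₁ ≠ ψ₁ ∧
      β ≠ γ ∧ β ≠ one ∧ γ ≠ one ∧ β ≠ χ₁ ∧ γ ≠ χ₁ ∧ β ≠ ψ₁ ∧ γ ≠ ψ₁ ∧
      (∀ j, Ψ j ≠ one ∧ Ψ j ≠ χ₁ ∧ Ψ j ≠ ψ₁ ∧ Ψ j ≠ β ∧ Ψ j ≠ γ) ∧
      (∀ j k, ¬ same j k → Ψ j ≠ Ψ k) ∧
      (∀ χ ∈ B, U χ = 1 * ind one χ + s * ind χ₁ χ + (-s) * ind ψ₁ χ) ∧
      (∀ χ ∈ B, V χ = (-s) * ind ψ₁ χ + y₂ * ind β χ + y₃ * ind γ χ) ∧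
      (∀ j, ∀ χ ∈ B, W j χ = s * ind (Ψ j) χ - s * ind ψ₁ χ) := by
  obtain ⟨P, Q, hPB, hQB, hPQ, hP1, hQ1, hUrep⟩ :=
    exists_U B x one U hone hx1 hxpos hU1 hUU hUx
  have hUinner : ∀ g : ι → ℤ, ∑ χ ∈ B, U χ * g χ = 1 * g one + 1 * g P + (-1) * g Q :=
    fun g => sum_mul_of_rep3 B U g hone hPB hQB _ _ _ hUrep
  have hVPQ : V P - V Q = 1 := by
    have := hUinner V
    rw [hUV, hV1] at this
    linarith
  have hVP := entry_cases B V 3 (le_refl _) hVV hPB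
  have hVQ := entry_cases B V 3 (le_refl _) hVV hQB
  have hcases : (V P = 1 ∧ V Q = 0) ∨ (V P = 0 ∧ V Q = -1) := by omega
  rcases hcases with ⟨h1, h2⟩ | ⟨h1, h2⟩
  · -- s = -1, χ₁ = Q, ψ₁ = P
    obtain ⟨y₂, y₃, β, γ, Ψ, hy₂, hy₃, hβ, hγ, hΨ, hβγ, hβ1, hγ1, hβχ, hγχ, hβψ, hγψ, hΨne,
      hΨinj, hVrep, hWrep⟩ :=
      lattice_core B x one U V W same hone hxpos hVV hJJ hUJ hVJ hJK hmid2 hV1 hJ1 hVx hJx
        (-1) (Or.inr rfl) Q P hQB hPB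
        (fun χ hχ => by rw [hUrep χ hχ]; ring) (by rw [h1]; norm_num) h2
    exact ⟨-1, y₂, y₃, Q, P, β, γ, Ψ, Or.inr rfl, hy₂, hy₃, hQB, hPB, hβ, hγ, hΨ, hQ1, hP1,
      hPQ.symm, hβγ, hβ1, hγ1, hβχ, hγχ, hβψ, hγψ, hΨne, hΨinj,
      (fun χ hχ => by rw [hUrep χ hχ]; ring), hVrep, hWrep⟩
  · -- s = 1, χ₁ = P, ψ₁ = Q
    obtain ⟨y₂, y₃, β, γ, Ψ, hy₂, hy₃, hβ, hγ, hΨ, hβγ, hβ1, hγ1, hβχ, hγχ, hβψ, hγψ, hΨne,
      hΨinj, hVrep, hWrep⟩ :=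
      lattice_core B x one U V W same hone hxpos hVV hJJ hUJ hVJ hJK hmid2 hV1 hJ1 hVx hJx
        1 (Or.inl rfl) P Q hPB hQB
        (fun χ hχ => by rw [hUrep χ hχ]) (by rw [h2]) h1
    exact ⟨1, y₂, y₃, P, Q, β, γ, Ψ, Or.inl rfl, hy₂, hy₃, hPB, hQB, hβ, hγ, hΨ, hP1, hQ1,
      hPQ, hβγ, hβ1, hγ1, hβχ, hγχ, hβψ, hγψ, hΨne, hΨinj,
      (fun χ hχ => by rw [hUrep χ hχ]), hVrep, hWrep⟩

end Cfsg.Agent.Lib.H22.DihLattice
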