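import Mathlib.Data.ZMod.Basic
import Mathlib.GroupTheory.OrderOfElement
import Mathlib.Tactic

/-!
# Elementary facts on `ZMod m` (`m` even) and powers of an element of order `m` (helper22)
-/

set_option autoImplicit false

namespace Cfsg.Agent.Lib.H22.DihZMod

variable {m : ℕ} [NeZero m]

theorem natCast_ne {a b : ℕ} (ha : a < m) (hb : b < m) (hab : a ≠ b) :
    (a : ZMod m) ≠ (b : ZMod m) := by
  intro h
  rw [ZMod.natCast_eq_natCast_iff'] at h
  rw [Nat.mod_eq_of_lt ha, Nat.mod_eq_of_lt hb] at h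
  exact hab h

theorem natCast_ne_zero {a : ℕ} (ha : a < m) (ha0 : 0 < a) : (a : ZMod m) ≠ 0 := by
  intro h
  rw [ZMod.natCast_eq_zero_iff] at h
  exact absurd (Nat.le_of_dvd ha0 h) (by omega)

theorem neg_natCast {a : ℕ} (ha : a ≤ m) : -(a : ZMod m) = ((m - a : ℕ) : ZMod m) := by
  rw [neg_eq_iff_add_eq_zero, ← Nat.cast_add]
  have : a + (m - a) = m := by omega
  rw [this, ZMod.natCast_self]

/-- The half element. -/
def half (m : ℕ) : ZMod m := ((m / 2 : ℕ) : ZMod m)

theorem half_add_half (hm : Even m) : half m + half m = 0 := by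
  obtain ⟨c, hc⟩ := hm
  unfold half
  rw [← Nat.cast_add]
  have : m / 2 + m / 2 = m := by omega
  rw [this, ZMod.natCast_self]

theorem half_ne_zero (hm : Even m) : half m ≠ 0 := by
  have hpos : 0 < m := Nat.pos_of_ne_zero (NeZero.ne m)
  obtain ⟨c, hc⟩ := hm
  exact natCast_ne_zero (by omega) (by omega)

theorem eq_neg_cases (hm : Even m) (l : ZMod m) (h : l = -l) : l = 0 ∨ l = half m := by
  have hpos : 0 < m := Nat.pos_of_ne_zero (NeZero.ne m)
  have h1 : l + l = 0 := by
    nth_rewrite 2 [h]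
    exact add_neg_cancel l
  have h2 : ((l.val + l.val : ℕ) : ZMod m) = 0 := by
    rw [Nat.cast_add, ZMod.natCast_zmod_val, h1]
  rw [ZMod.natCast_eq_zero_iff] at h2
  obtain ⟨c, hc⟩ := h2
  have hlt := ZMod.val_lt l
  obtain ⟨d, hd⟩ := hm
  have hc2 : c = 0 ∨ c = 1 := by
    have : m * c < m * 2 := by omega
    have := Nat.lt_of_mul_lt_mul_left this
    omega
  rcases hc2 with rfl | rfl
  · left
    have : l.val = 0 := by omega
    exact (ZMod.val_eq_zero l).mp this
  · right
    have : l.val = m / 2 := by omega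
    unfold half
    rw [← this, ZMod.natCast_zmod_val]

theorem neg_one_eq (hm : 1 ≤ m) : (-1 : ZMod m) = ((m - 1 : ℕ) : ZMod m) := by
  have := neg_natCast (m := m) (a := 1) hm
  rw [Nat.cast_one] at this
  exact this

theorem zmod_zero_ne_one (hm : 2 ≤ m) : (0 : ZMod m) ≠ 1 := by
  have := natCast_ne (m := m) (a := 0) (b := 1) (by omega) (by omega) (by omega)
  simpa using this

theorem one_ne_neg_one (hm : 3 ≤ m) : (1 : ZMod m) ≠ -1 := by
  rw [neg_one_eq (by omega)]
  have := natCast_ne (m := m) (a := 1) (b := m - 1) (by omega) (by omega) (by omega)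
  simpa using this

theorem zero_ne_neg_one (hm : 2 ≤ m) : (0 : ZMod m) ≠ -1 := by
  rw [neg_one_eq (by omega)]
  have := natCast_ne (m := m) (a := 0) (b := m - 1) (by omega) (by omega) (by omega)
  simpa using this

theorem half_ne_one (hm : Even m) (hm4 : 4 ≤ m) : half m ≠ 1 := by
  obtain ⟨c, hc⟩ := hm
  have := natCast_ne (m := m) (a := m / 2) (b := 1) (by omega) (by omega) (by omega)
  simpa [half] using this

theorem half_ne_neg_one (hm : Even m) (hm4 : 4 ≤ m) : half m ≠ -1 := by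
  obtain ⟨c, hc⟩ := hm
  rw [neg_one_eq (by omega)]
  exact natCast_ne (m := m) (a := m / 2) (b := m - 1) (by omega) (by omega) (by omega)

theorem neg_half (hm : Even m) : -half m = half m :=
  neg_eq_of_add_eq_zero_left (half_add_half hm)

section Pow

variable {G : Type*} [Group G] (σ : G)

/-- Powers of `σ` indexed by `ZMod m`. -/
def pw (σ : G) (a : ZMod m) : G := σ ^ a.val

theorem pw_natCast (hσ : orderOf σ = m) (k : ℕ) : pw σ (k : ZMod m) = σ ^ k := by
  unfold pw
  rw [ZMod.val_natCast]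
  have h := pow_mod_orderOf σ k
  rw [hσ] at h
  exact h

theorem pw_zero : pw σ (0 : ZMod m) = 1 := by
  unfold pw
  rw [ZMod.val_zero, pow_zero]

theorem pw_add (hσ : orderOf σ = m) (a b : ZMod m) : pw σ (a + b) = pw σ a * pw σ b := by
  unfold pw
  rw [ZMod.val_add, ← pow_add]
  have h := pow_mod_orderOf σ (a.val + b.val)
  rw [hσ] at h
  exact h

theorem pw_neg (hσ : orderOf σ = m) (a : ZMod m) : pw σ (-a) = (pw σ a)⁻¹ := by
  apply eq_inv_of_mul_eq_one_left
  rw [← pw_add σ hσ, neg_add_cancel, pw_zero]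

theorem pw_injective (hσ : orderOf σ = m) : Function.Injective (pw σ : ZMod m → G) := by
  intro a b hab
  unfold pw at hab
  have h2 := pow_injOn_Iio_orderOf (x := σ)
    (show a.val ∈ Set.Iio (orderOf σ) by rw [hσ]; exact ZMod.val_lt a)
    (show b.val ∈ Set.Iio (orderOf σ) by rw [hσ]; exact ZMod.val_lt b) hab
  exact ZMod.val_injective m h2

theorem pw_mem_zpowers (a : ZMod m) : pw σ a ∈ Subgroup.zpowers σ :=
  Subgroup.pow_mem _ (Subgroup.mem_zpowers σ) _

theorem pw_ne_one (hσ : orderOf σ = m) {a : ZMod m} (ha : a ≠ 0) : pw σ a ≠ 1 := by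
  intro h
  rw [← pw_zero (m := m) σ] at h
  exact ha (pw_injective σ hσ h)

theorem pw_half (hσ : orderOf σ = m) : pw σ (half m) = σ ^ (m / 2) := by
  unfold half
  rw [pw_natCast σ hσ]

theorem pw_pow_eq_one (hσ : orderOf σ = m) (a : ZMod m) : pw σ a ^ m = 1 := by
  unfold pw
  have h : σ ^ m = 1 := by rw [← hσ]; exact pow_orderOf_eq_one σ
  rw [← pow_mul, mul_comm, pow_mul, h, one_pow]

/-- Every element of `⟨σ⟩` is some `pw σ a`. -/
theorem exists_pw_eq [Finite G] (hσ : orderOf σ = m) {w : G} (hw : w ∈ Subgroup.zpowers σ) :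
    ∃ a : ZMod m, w = pw σ a := by
  obtain ⟨k, hk⟩ := (Submonoid.mem_powers_iff _ _).mp (mem_powers_iff_mem_zpowers.mpr hw)
  exact ⟨(k : ZMod m), by rw [pw_natCast σ hσ, hk]⟩

end Pow

end Cfsg.Agent.Lib.H22.DihZMod
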