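import Cfsg.Agent.Lib.H22.DihGroupD
import Cfsg.Agent.Lib.H22.DihBlockA
import Cfsg.Agent.Lib.H22.DihFourier
import Cfsg.Agent.Lib.H22.DihLattice
import Cfsg.Agent.Lib.H22.DihZMod

/-!
# The principal 2-block for dihedral Sylow 2-subgroups: analytic input (helper22)
-/

set_option autoImplicit false

namespace Cfsg.Agent.Lib.H22.DihMain

open Cfsg Cfsg.Agent.Lib.H23 Cfsg.Agent.Lib.H22.Dih Cfsg.Agent.Lib.H22.DihZMod
  Cfsg.Agent.Lib.H22.DihFourier Cfsg.Agent.Lib.H22.DihBlock
open scoped ComplexConjugate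

variable {G : Type*} [Group G] [Fintype G] {M : Ideal AlgInt}

/-- The standing hypotheses. -/
structure Setup (M : Ideal AlgInt) (n m : ℕ) (P : Sylow 2 G) (σ : G) : Prop where
  hM : IsPModular 2 M
  hn : 3 ≤ n
  hm : m = 2 ^ (n - 1)
  eP : Nonempty ((P : Subgroup G) ≃* DihedralGroup m)
  hσ : σ ∈ (P : Subgroup G)
  hσo : orderOf σ = m

/-- Values of a character on `⟨σ⟩`. -/
noncomputable def val {m : ℕ} (σ : G) (χ : IrrCharacter G) (l : ZMod m) : ℂ :=
  (χ : G → ℂ) (pw σ l)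

namespace Setup

variable {n m : ℕ} [NeZero m] {P : Sylow 2 G} {σ : G}

theorem four_le (h : Setup M n m P σ) : 4 ≤ m := by
  have hn := h.hn
  rw [h.hm]
  calc 4 = 2 ^ 2 := by norm_num
    _ ≤ 2 ^ (n - 1) := Nat.pow_le_pow_right (by norm_num) (by omega)

theorem even (h : Setup M n m P σ) : Even m := by
  have hn := h.hn
  rw [h.hm]
  refine ⟨2 ^ (n - 2), ?_⟩
  have : n - 1 = (n - 2) + 1 := by omega
  rw [this, pow_succ]
  ring

theorem half_eq (h : Setup M n m P σ) : m / 2 = 2 ^ (n - 2) := by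
  have hn := h.hn
  rw [h.hm]
  have : n - 1 = (n - 2) + 1 := by omega
  rw [this, pow_succ]
  omega

theorem dih (h : Setup M n m P σ) : DihData (P : Subgroup G) σ m := by
  obtain ⟨e⟩ := h.eP
  exact DihData.of_equiv _ m (by have := h.four_le; omega) e σ h.hσ h.hσo

theorem pw_mem (h : Setup M n m P σ) (l : ZMod m) : pw σ l ∈ (P : Subgroup G) :=
  h.dih.zpowers_le (pw_mem_zpowers σ l)

theorem exists_orderOf (h : Setup M n m P σ) {z : G} (hz : z ∈ (P : Subgroup G)) :
    ∃ k : ℕ, orderOf z = 2 ^ k := by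
  obtain ⟨k, hk⟩ := IsPGroup.iff_orderOf.mp P.2 ⟨z, hz⟩
  exact ⟨k, by rw [← hk, Subgroup.orderOf_mk]⟩

theorem isPGroup_zpowers {z : G} (hz : ∃ k : ℕ, orderOf z = 2 ^ k) :
    IsPGroup 2 (Subgroup.zpowers z) := by
  obtain ⟨k, hk⟩ := hz
  apply IsPGroup.of_card (n := k)
  rw [Nat.card_zpowers, hk]

/-- Normal complement data for the centralizer of a nontrivial `2`-element. -/
theorem exists_npc (h : Setup M n m P σ) {z : G} (hz1 : z ≠ 1)
    (hz : ∃ k : ℕ, orderOf z = 2 ^ k) :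
    ∃ N : Subgroup (Subgroup.centralizer ({z} : Set G)), N.Normal ∧ ¬ 2 ∣ Nat.card N ∧
      N.index = 2 ^ (Nat.card (Subgroup.centralizer ({z} : Set G))).factorization 2 := by
  obtain ⟨e⟩ := h.eP
  exact exists_normal_complement_centralizer P m e z hz1 (isPGroup_zpowers hz)

theorem val_neg (h : Setup M n m P σ) (χ : IrrCharacter G) (l : ZMod m) :
    val σ χ (-l) = val σ χ l := by
  unfold val
  have hm0 : 0 < m := by have := h.four_le; omega
  obtain ⟨τ, hτP, hτσ⟩ := h.dih.exists_not_mem hm0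
  rw [pw_neg σ h.hσo]
  have h1 := h.dih.conj_pow hτP hτσ l.val
  have h2 : (pw σ l)⁻¹ = τ * pw σ l * τ⁻¹ := by
    unfold pw
    exact h1.symm
  rw [h2, Cfsg.Agent.Lib.H24.irr_conj]

theorem val_conj (h : Setup M n m P σ) (χ : IrrCharacter G) (l : ZMod m) :
    conj (val σ χ l) = val σ χ l := by
  have h1 := h.val_neg χ l
  unfold val at h1 ⊢
  rw [pw_neg σ h.hσo, Cfsg.Agent.Lib.H24.irr_inv] at h1
  exact h1

theorem val_zero_eq (χ : IrrCharacter G) : val σ χ (0 : ZMod m) = (χ : G → ℂ) 1 := by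
  unfold val
  rw [pw_zero]

variable [Fintype (IrrCharacter G)] [DecidablePred (· ∈ principalBlock M G)]

/-- Block orthogonality on `⟨σ⟩`. -/
theorem orth (h : Setup M n m P σ) (l l' : ZMod m) (h1 : l' ≠ l) (h2 : l' ≠ -l) :
    ∑ χ ∈ Finset.univ.filter (· ∈ principalBlock M G), val σ χ l * val σ χ l' = 0 := by
  have hnc : ¬ IsConj (pw σ l) (pw σ (-l')) := by
    intro hc
    obtain ⟨c, hc⟩ := isConj_iff.mp hc
    rcases conj_zpowers_eq P h.dih (pw_mem_zpowers σ l) (pw_mem_zpowers σ (-l')) hc with h3 | h3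
    · have := pw_injective σ h.hσo h3
      apply h2
      rw [← this, neg_neg]
    · rw [← pw_neg σ h.hσo] at h3
      have := pw_injective σ h.hσo h3
      apply h1
      exact neg_injective this
  have h3 := orth_two_elements h.hM (pw σ l) (pw σ (-l')) (n - 1)
    (by rw [← h.hm]; exact pw_pow_eq_one σ h.hσo l)
    (by rw [← h.hm]; exact pw_pow_eq_one σ h.hσo (-l')) hnc
  rw [← h3]
  refine Finset.sum_congr rfl (fun χ _ => ?_)
  unfold val
  rw [pw_neg σ h.hσo, inv_inv]

theorem norm_sum_of_npc (h : Setup M n m P σ) {z : G} (hz1 : z ≠ 1)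
    (hz : ∃ k : ℕ, orderOf z = 2 ^ k) :
    ∑ χ ∈ Finset.univ.filter (· ∈ principalBlock M G), (χ : G → ℂ) z * conj ((χ : G → ℂ) z) =
      ((2 ^ (Nat.card (Subgroup.centralizer ({z} : Set G))).factorization 2 : ℕ) : ℂ) := by
  obtain ⟨N, hNn, hNodd, hidx⟩ := h.exists_npc hz1 hz
  haveI := hNn
  exact norm_sum h.hM z hz N hNodd hidx

theorem norm (h : Setup M n m P σ) (l : ZMod m) (hl0 : l ≠ 0) (hlh : l ≠ half m) :
    ∑ χ ∈ Finset.univ.filter (· ∈ principalBlock M G), val σ χ l * val σ χ l = m := by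
  have hz1 : pw σ l ≠ 1 := pw_ne_one σ h.hσo hl0
  have hz2 : pw σ l * pw σ l ≠ 1 := by
    rw [← pw_add σ h.hσo]
    apply pw_ne_one σ h.hσo
    intro h0
    rcases eq_neg_cases h.even l (eq_neg_of_add_eq_zero_left h0) with h' | h'
    · exact hl0 h'
    · exact hlh h'
  have hz := h.exists_orderOf (h.pw_mem l)
  have h1 := h.norm_sum_of_npc hz1 hz
  rw [factorization_centralizer_of_sq_ne P h.hm h.dih (pw_mem_zpowers σ l) hz2, ← h.hm] at h1
  rw [← h1]
  refine Finset.sum_congr rfl (fun χ _ => ?_)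
  have := h.val_conj χ l
  unfold val at this ⊢
  rw [this]

theorem card_sylow (h : Setup M n m P σ) : (Nat.card G).factorization 2 = n := by
  haveI : Fact (Nat.Prime 2) := ⟨Nat.prime_two⟩
  have h1 := P.card_eq_multiplicity
  rw [h.dih.card, h.hm] at h1
  have hn := h.hn
  have h2 : 2 * 2 ^ (n - 1) = 2 ^ n := by
    have : n = (n - 1) + 1 := by omega
    conv_rhs => rw [this, pow_succ]
    ring
  rw [h2] at h1
  exact (Nat.pow_right_injective (le_refl 2) h1).symm

theorem normh (h : Setup M n m P σ) :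
    ∑ χ ∈ Finset.univ.filter (· ∈ principalBlock M G),
      val σ χ (half m) * val σ χ (half m) = 2 * m := by
  have hz1 : pw σ (half m) ≠ 1 := pw_ne_one σ h.hσo (half_ne_zero h.even)
  have hz := h.exists_orderOf (h.pw_mem (half m))
  have h1 := h.norm_sum_of_npc hz1 hz
  have hle : (P : Subgroup G) ≤ Subgroup.centralizer ({pw σ (half m)} : Set G) := by
    rw [pw_half σ h.hσo]
    exact h.dih.le_centralizer_half h.even
  rw [factorization_centralizer_of_le P hle, h.card_sylow] at h1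
  have hn := h.hn
  have h2 : ((2 ^ n : ℕ) : ℂ) = 2 * m := by
    rw [h.hm]
    have : n = (n - 1) + 1 := by omega
    conv_lhs => rw [this, pow_succ]
    push_cast
    ring
  rw [h2] at h1
  rw [← h1]
  refine Finset.sum_congr rfl (fun χ _ => ?_)
  have := h.val_conj χ (half m)
  unfold val at this ⊢
  rw [this]

end Setup

end Cfsg.Agent.Lib.H22.DihMain
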