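import Cfsg.Agent.Lib.H22.DihBlockB

/-!
# The principal 2-block for dihedral Sylow 2-subgroups: the structure theorem (helper22)
-/

set_option autoImplicit false

namespace Cfsg.Agent.Lib.H22.DihMain

open Cfsg Cfsg.Agent.Lib.H23 Cfsg.Agent.Lib.H22.Dih Cfsg.Agent.Lib.H22.DihZMod
  Cfsg.Agent.Lib.H22.DihFourier Cfsg.Agent.Lib.H22.DihBlock Cfsg.Agent.Lib.H22.DihLattice
open scoped ComplexConjugate

/-- The "middle" indices. -/
def IsMid {m : ℕ} (j : ZMod m) : Prop := j ≠ 0 ∧ j ≠ half m ∧ j ≠ 1 ∧ j ≠ -1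

/-- The type of middle indices. -/
abbrev Mid (m : ℕ) : Type := {j : ZMod m // IsMid j}

theorem gg_eq {m : ℕ} [NeZero m] [DecidableEq (ZMod m)] (i j : ZMod m) :
    gg i j = (if i = j then 1 else 0) + (if i = -j then 1 else 0) := by
  unfold gg
  congr 1 <;> congr

variable {G : Type*} [Group G] [Fintype G] {M : Ideal AlgInt}
variable {n m : ℕ} [NeZero m] {P : Sylow 2 G} {σ : G}

theorem gg_mid {i j : ZMod m} (hm : 3 ≤ m) (hi1 : i ≠ 1) (hi2 : i ≠ -1) (hj1 : j ≠ 1)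
    (hj2 : j ≠ -1) : gg i j - gg i 1 - gg 1 j + gg (1 : ZMod m) 1 = gg i j + 1 := by
  classical
  have h1 : gg i 1 = 0 := by
    rw [gg_eq, if_neg hi1, if_neg hi2, add_zero]
  have h2 : gg 1 j = 0 := by
    rw [gg_eq, if_neg (fun h => hj1 h.symm), if_neg (fun h => hj2 (by rw [h, neg_neg])), add_zero]
  have h3 : gg (1 : ZMod m) 1 = 1 := by
    rw [gg_eq, if_pos rfl, if_neg (one_ne_neg_one hm), add_zero]
  rw [h1, h2, h3]
  ring

/-- The existence of a second middle class, when `m ≥ 8` is a power of two. -/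
theorem exists_other_mid (hm8 : 8 ≤ m) (hm : Even m) (hm4 : 4 ∣ m) (j : ZMod m) :
    ∃ k : ZMod m, IsMid k ∧ ¬ (k = j ∨ k = -j) := by
  obtain ⟨c, hc⟩ := hm
  obtain ⟨c4, hc4⟩ := hm4
  have h2 : (2 : ZMod m) = ((2 : ℕ) : ZMod m) := by norm_num
  have h3 : (3 : ZMod m) = ((3 : ℕ) : ZMod m) := by norm_num
  have h1 : (1 : ZMod m) = ((1 : ℕ) : ZMod m) := by norm_num
  have hmid2 : IsMid (2 : ZMod m) := by
    refine ⟨?_, ?_, ?_, ?_⟩
    · rw [h2]; exact natCast_ne_zero (by omega) (by omega)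
    · rw [h2]; exact natCast_ne (by omega) (by omega) (by omega)
    · rw [h2, h1]; exact natCast_ne (by omega) (by omega) (by omega)
    · rw [h2, neg_one_eq (by omega)]; exact natCast_ne (by omega) (by omega) (by omega)
  have hmid3 : IsMid (3 : ZMod m) := by
    refine ⟨?_, ?_, ?_, ?_⟩
    · rw [h3]; exact natCast_ne_zero (by omega) (by omega)
    · rw [h3]; exact natCast_ne (by omega) (by omega) (by omega)
    · rw [h3, h1]; exact natCast_ne (by omega) (by omega) (by omega)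
    · rw [h3, neg_one_eq (by omega)]; exact natCast_ne (by omega) (by omega) (by omega)
  have h23 : (3 : ZMod m) ≠ 2 := by
    rw [h2, h3]; exact natCast_ne (by omega) (by omega) (by omega)
  have h23' : (3 : ZMod m) ≠ -2 := by
    rw [h2, h3, neg_natCast (by omega)]; exact natCast_ne (by omega) (by omega) (by omega)
  by_cases hj : (2 : ZMod m) = j ∨ (2 : ZMod m) = -j
  · refine ⟨3, hmid3, ?_⟩
    rintro (h | h)
    · rcases hj with hj | hj
      · exact h23 (h.trans hj.symm)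
      · apply h23'
        rw [h, hj, neg_neg]
    · rcases hj with hj | hj
      · apply h23'
        rw [h, hj]
      · apply h23
        rw [h, hj]
  · exact ⟨2, hmid2, hj⟩

/-- If there is a middle index then `m ≥ 8` (for `m` a power of `2`, `m ≥ 4`). -/
theorem eight_le_of_mid (hm4 : 4 ≤ m) (hpow : ∃ k, m = 2 ^ k) (j : ZMod m) (hj : IsMid j) :
    8 ≤ m := by
  by_contra hlt
  obtain ⟨k, hk⟩ := hpow
  have hk2 : k = 2 := by
    have h1 : 2 ^ k < 2 ^ 3 := by rw [← hk]; omega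
    have h2 : 2 ^ 2 ≤ 2 ^ k := by rw [← hk]; omega
    have h3 := (Nat.pow_lt_pow_iff_right (by norm_num : 1 < 2)).mp h1
    have h4 := (Nat.pow_le_pow_iff_right (by norm_num : 1 < 2)).mp h2
    omega
  have hm : m = 4 := by rw [hk, hk2]; norm_num
  subst hm
  obtain ⟨h0, hh, h1, hn1⟩ := hj
  have hhalf : half 4 = (2 : ZMod 4) := by unfold half; rfl
  rw [hhalf] at hh
  revert h0 hh h1 hn1
  revert j
  decide


theorem coef_one_fun (e : AddChar (ZMod m) ℂ) (he : e.IsPrimitive) {ι : Type*}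
    (v : ι → ZMod m → ℂ) (one : ι) (hv1 : ∀ l, v one l = 1) (i : ZMod m)
    [DecidableEq (ZMod m)] :
    coef e v one i = if i = 0 then 1 else 0 := by
  unfold coef
  have h1 : ∑ l : ZMod m, v one l * e (-(i * l)) = ∑ l : ZMod m, e ((-i) * l) :=
    Finset.sum_congr rfl (fun l _ => by rw [hv1, one_mul, neg_mul])
  rw [h1, sum_e_mul e he]
  have hm0 : (m : ℂ) ≠ 0 := m_ne_zero
  by_cases hi : i = 0
  · rw [if_pos (by rw [hi, neg_zero]), if_pos hi, inv_mul_cancel₀ hm0]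
  · rw [if_neg (fun h => hi (neg_eq_zero.mp h)), if_neg hi, mul_zero]

variable [Fintype (IrrCharacter G)] [DecidablePred (· ∈ principalBlock M G)]
  [DecidableEq (IrrCharacter G)]

/-- **The structure theorem**: the difference vectors of the Fourier coefficients of the
characters of the principal block have a rigid shape. -/
theorem structure_thm (h : Setup M n m P σ) (e : AddChar (ZMod m) ℂ) (he : e.IsPrimitive) :
    ∃ (Wz : IrrCharacter G → ZMod m → ℤ) (s y₂ y₃ : ℤ) (χ₁ ψ₁ β γ : IrrCharacter G)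
      (Ψ : Mid m → IrrCharacter G),
      (∀ χ i, (Wz χ i : ℂ) = wc e (val σ) χ i) ∧
      (s = 1 ∨ s = -1) ∧ (y₂ = 1 ∨ y₂ = -1) ∧ (y₃ = 1 ∨ y₃ = -1) ∧
      χ₁ ∈ principalBlock M G ∧ ψ₁ ∈ principalBlock M G ∧ β ∈ principalBlock M G ∧
      γ ∈ principalBlock M G ∧ (∀ j, Ψ j ∈ principalBlock M G) ∧
      χ₁ ≠ Cfsg.Agent.Lib.H24.trivialIrr G ∧ ψ₁ ≠ Cfsg.Agent.Lib.H24.trivialIrr G ∧ χ₁ ≠ ψ₁ ∧
      β ≠ γ ∧ β ≠ Cfsg.Agent.Lib.H24.trivialIrr G ∧ γ ≠ Cfsg.Agent.Lib.H24.trivialIrr G ∧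
      β ≠ χ₁ ∧ γ ≠ χ₁ ∧ β ≠ ψ₁ ∧ γ ≠ ψ₁ ∧
      (∀ j, Ψ j ≠ Cfsg.Agent.Lib.H24.trivialIrr G ∧ Ψ j ≠ χ₁ ∧ Ψ j ≠ ψ₁ ∧ Ψ j ≠ β ∧ Ψ j ≠ γ) ∧
      (∀ j k : Mid m, ¬ (k.1 = j.1 ∨ k.1 = -j.1) → Ψ j ≠ Ψ k) ∧
      (∀ χ ∈ principalBlock M G, Wz χ 0 =
        1 * ind (Cfsg.Agent.Lib.H24.trivialIrr G) χ + s * ind χ₁ χ + (-s) * ind ψ₁ χ) ∧
      (∀ χ ∈ principalBlock M G, Wz χ (half m) =
        (-s) * ind ψ₁ χ + y₂ * ind β χ + y₃ * ind γ χ) ∧
      (∀ j : Mid m, ∀ χ ∈ principalBlock M G, Wz χ j.1 = s * ind (Ψ j) χ - s * ind ψ₁ χ) := by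
  classical
  haveI hPr := isPrime_of_isPModular h.hM
  set S : Finset (IrrCharacter G) := Finset.univ.filter (· ∈ principalBlock M G) with hS
  have hmemS : ∀ χ, χ ∈ S ↔ χ ∈ principalBlock M G := by
    intro χ
    rw [hS, Finset.mem_filter]
    simp
  have hev := h.even
  have hm4 := h.four_le
  have hhf := half_add_half hev
  have hhf0 := half_ne_zero hev
  have hnegc := eq_neg_cases hev
  have hsym : ∀ χ l, val σ χ (-l) = val σ χ l := fun χ l => h.val_neg χ l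
  have horth : ∀ l l' : ZMod m, l' ≠ l → l' ≠ -l → ∑ χ ∈ S, val σ χ l * val σ χ l' = 0 :=
    fun l l' h1 h2 => h.orth l l' h1 h2
  have hnorm : ∀ l : ZMod m, l ≠ 0 → l ≠ half m → ∑ χ ∈ S, val σ χ l * val σ χ l = m :=
    fun l h1 h2 => h.norm l h1 h2
  have hnormh : ∑ χ ∈ S, val σ χ (half m) * val σ χ (half m) = 2 * m := h.normh
  -- integrality
  have hint : ∀ χ : IrrCharacter G, ∀ i : ZMod m, ∃ a : ℤ, coef e (val σ) χ i = a := by
    intro χ i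
    obtain ⟨k, hk⟩ := coef_nat χ σ m h.hσo e i
    refine ⟨k, ?_⟩
    have hm0 : (m : ℂ) ≠ 0 := m_ne_zero
    have : coef e (val σ) χ i = (m : ℂ)⁻¹ * ((m : ℂ) * k) := by
      rw [← hk]
      rfl
    rw [this, ← mul_assoc, inv_mul_cancel₀ hm0, one_mul]
    simp
  choose A hA using hint
  set Wz : IrrCharacter G → ZMod m → ℤ := fun χ i => A χ i - A χ 1 with hWzdef
  have hWz : ∀ χ i, (Wz χ i : ℂ) = wc e (val σ) χ i := by
    intro χ i
    simp only [hWzdef, wc]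
    push_cast
    rw [hA, hA]
  -- degrees
  choose d hdpos hd using (Cfsg.Agent.Lib.H24.irr_one_eq : ∀ χ : IrrCharacter G, _)
  set x : IrrCharacter G → ℤ := fun χ => (d χ : ℤ) with hxdef
  set one := Cfsg.Agent.Lib.H24.trivialIrr G with hone
  have honeB : one ∈ principalBlock M G := trivialIrr_mem_principalBlock
  have honeS : one ∈ S := (hmemS one).2 honeB
  have hx1 : x one = 1 := by
    have h1 := hd one
    have h2 : (one : G → ℂ) 1 = 1 := rfl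
    rw [h2] at h1
    have : (d one : ℂ) = ((1 : ℕ) : ℂ) := by rw [← h1]; simp
    have h3 : d one = 1 := by exact_mod_cast this
    simp only [hxdef, h3]
    rfl
  have hxpos : ∀ χ ∈ S, 0 < x χ := by
    intro χ _
    simp only [hxdef]
    exact_mod_cast hdpos χ
  have hxval : ∀ χ, ((x χ : ℤ) : ℂ) = val σ χ (0 : ZMod m) := by
    intro χ
    rw [Setup.val_zero_eq, hd χ]
    simp [hxdef]
  -- Gram
  have hgram : ∀ i j : ZMod m, ((∑ χ ∈ S, Wz χ i * Wz χ j : ℤ) : ℂ) =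
      gg i j - gg i 1 - gg 1 j + gg (1 : ZMod m) 1 := by
    intro i j
    push_cast
    simp_rw [hWz]
    exact gram_wc e he S (val σ) (half m) hhf hhf0 hnegc hsym horth hnorm hnormh i j
  have hgram' : ∀ i j : ZMod m, i ≠ 1 → i ≠ -1 → j ≠ 1 → j ≠ -1 → ∀ t : ℤ,
      gg i j = ((t - 1 : ℤ) : ℂ) → ∑ χ ∈ S, Wz χ i * Wz χ j = t := by
    intro i j hi1 hi2 hj1 hj2 t ht
    have h1 := hgram i j
    rw [gg_mid (by omega) hi1 hi2 hj1 hj2, ht] at h1
    have : ((∑ χ ∈ S, Wz χ i * Wz χ j : ℤ) : ℂ) = ((t : ℤ) : ℂ) := by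
      rw [h1]; push_cast; ring
    exact_mod_cast this
  have h01 : (0 : ZMod m) ≠ 1 := zmod_zero_ne_one (by omega)
  have h0n1 : (0 : ZMod m) ≠ -1 := zero_ne_neg_one (by omega)
  have hh1 : half m ≠ 1 := half_ne_one hev hm4
  have hhn1 : half m ≠ -1 := half_ne_neg_one hev hm4
  have hnh : -half m = half m := neg_half hev
  have hUU : ∑ χ ∈ S, Wz χ 0 * Wz χ 0 = 3 := by
    apply hgram' 0 0 h01 h0n1 h01 h0n1
    rw [gg_eq, if_pos rfl, if_pos (by rw [neg_zero])]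
    push_cast; ring
  have hVV : ∑ χ ∈ S, Wz χ (half m) * Wz χ (half m) = 3 := by
    apply hgram' _ _ hh1 hhn1 hh1 hhn1
    rw [gg_eq, if_pos rfl, if_pos hnh.symm]
    push_cast; ring
  have hUV : ∑ χ ∈ S, Wz χ 0 * Wz χ (half m) = 1 := by
    apply hgram' _ _ h01 h0n1 hh1 hhn1
    rw [gg_eq, if_neg hhf0.symm, if_neg (by rw [hnh]; exact hhf0.symm)]
    push_cast; ring
  have hJJ : ∀ j : Mid m, ∑ χ ∈ S, Wz χ j.1 * Wz χ j.1 = 2 := by
    intro j
    obtain ⟨j0, jh, j1, jn1⟩ := j.2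
    apply hgram' _ _ j1 jn1 j1 jn1
    have hjneg : j.1 ≠ -j.1 := by
      intro hc
      rcases hnegc j.1 hc with h' | h'
      · exact j0 h'
      · exact jh h'
    rw [gg_eq, if_pos rfl, if_neg hjneg]
    push_cast; ring
  have hUJ : ∀ j : Mid m, ∑ χ ∈ S, Wz χ 0 * Wz χ j.1 = 1 := by
    intro j
    obtain ⟨j0, jh, j1, jn1⟩ := j.2
    apply hgram' _ _ h01 h0n1 j1 jn1
    rw [gg_eq, if_neg j0.symm, if_neg (fun hc => j0 (by rw [← neg_eq_zero]; exact hc.symm))]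
    push_cast; ring
  have hVJ : ∀ j : Mid m, ∑ χ ∈ S, Wz χ (half m) * Wz χ j.1 = 1 := by
    intro j
    obtain ⟨j0, jh, j1, jn1⟩ := j.2
    apply hgram' _ _ hh1 hhn1 j1 jn1
    rw [gg_eq, if_neg jh.symm, if_neg (fun hc => jh (by rw [← neg_inj, ← hc, hnh]))]
    push_cast; ring
  have hJK : ∀ j k : Mid m, ¬ (k.1 = j.1 ∨ k.1 = -j.1) →
      ∑ χ ∈ S, Wz χ j.1 * Wz χ k.1 = 1 := by
    intro j k hjk
    obtain ⟨j0, jh, j1, jn1⟩ := j.2
    obtain ⟨k0, kh, k1, kn1⟩ := k.2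
    apply hgram' _ _ j1 jn1 k1 kn1
    rw [gg_eq, if_neg (fun hc => hjk (Or.inl hc.symm)),
      if_neg (fun hc => hjk (Or.inr (by rw [hc, neg_neg])))]
    push_cast; ring
  have hmid2 : ∀ j : Mid m, ∃ k : Mid m, ¬ (k.1 = j.1 ∨ k.1 = -j.1) := by
    intro j
    have hm8 : 8 ≤ m := eight_le_of_mid hm4 ⟨n - 1, h.hm⟩ j.1 j.2
    have h4dvd : 4 ∣ m := by
      rw [h.hm]
      have hn := h.hn
      have : n - 1 = 2 + (n - 3) := by omega
      rw [this, pow_add]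
      exact Dvd.intro _ rfl
    obtain ⟨k, hk, hk'⟩ := exists_other_mid hm8 hev h4dvd j.1
    exact ⟨⟨k, hk⟩, hk'⟩
  -- values at the trivial character
  have hv1 : ∀ l : ZMod m, val σ one l = 1 := fun l => rfl
  have hWone : ∀ i : ZMod m, Wz one i = if i = 0 then 1 else 0 := by
    intro i
    have h1 := hWz one i
    unfold wc at h1
    rw [coef_one_fun e he (val σ) one hv1, coef_one_fun e he (val σ) one hv1,
      if_neg h01.symm, sub_zero] at h1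
    by_cases hi : i = 0
    · rw [if_pos hi] at h1 ⊢
      exact_mod_cast h1
    · rw [if_neg hi] at h1 ⊢
      exact_mod_cast h1
  have hU1 : Wz one 0 = 1 := by rw [hWone, if_pos rfl]
  have hV1 : Wz one (half m) = 0 := by rw [hWone, if_neg hhf0]
  have hJ1 : ∀ j : Mid m, Wz one j.1 = 0 := fun j => by rw [hWone, if_neg j.2.1]
  -- orthogonality to the degree vector
  have hWx : ∀ i : ZMod m, ∑ χ ∈ S, Wz χ i * x χ = 0 := by
    intro i
    have h1 := sum_wc_mul e S (val σ) (fun χ => val σ χ 0)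
      (fun l hl => horth l 0 hl.symm (fun hc => hl (by rw [← neg_eq_zero]; exact hc.symm))) i
    have h2 : ((∑ χ ∈ S, Wz χ i * x χ : ℤ) : ℂ) = 0 := by
      push_cast
      rw [← h1]
      exact Finset.sum_congr rfl (fun χ _ => by rw [hWz, hxval])
    exact_mod_cast h2
  obtain ⟨s, y₂, y₃, χ₁, ψ₁, β, γ, Ψ, hs, hy₂, hy₃, hχ₁, hψ₁, hβ, hγ, hΨ, hχ1, hψ1, hχψ, hβγ,
    hβ1, hγ1, hβχ, hγχ, hβψ, hγψ, hΨne, hΨinj, hUrep, hVrep, hWrep⟩ :=
    lattice_main S x one (fun χ => Wz χ 0) (fun χ => Wz χ (half m))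
      (fun (j : Mid m) χ => Wz χ j.1) (fun j k : Mid m => k.1 = j.1 ∨ k.1 = -j.1)
      honeS hx1 hxpos hUU hVV hUV hJJ hUJ hVJ hJK hmid2 hU1 hV1 hJ1 (hWx 0) (hWx (half m))
      (fun j => hWx j.1)
  exact ⟨Wz, s, y₂, y₃, χ₁, ψ₁, β, γ, Ψ, hWz, hs, hy₂, hy₃, (hmemS _).1 hχ₁, (hmemS _).1 hψ₁,
    (hmemS _).1 hβ, (hmemS _).1 hγ, fun j => (hmemS _).1 (hΨ j), hχ1, hψ1, hχψ, hβγ, hβ1, hγ1,
    hβχ, hγχ, hβψ, hγψ, hΨne, hΨinj, fun χ hχ => hUrep χ ((hmemS χ).2 hχ),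
    fun χ hχ => hVrep χ ((hmemS χ).2 hχ), fun j χ hχ => hWrep j χ ((hmemS χ).2 hχ)⟩

end Cfsg.Agent.Lib.H22.DihMain
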