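import Cfsg.Agent.Lib.H22.DihBlockC

/-!
# The principal 2-block for dihedral Sylow 2-subgroups: rows and character values (helper22)
-/

set_option autoImplicit false

namespace Cfsg.Agent.Lib.H22.DihMain

open Cfsg Cfsg.Agent.Lib.H23 Cfsg.Agent.Lib.H22.Dih Cfsg.Agent.Lib.H22.DihZMod
  Cfsg.Agent.Lib.H22.DihFourier Cfsg.Agent.Lib.H22.DihBlock Cfsg.Agent.Lib.H22.DihLattice
open scoped ComplexConjugate

variable {G : Type*} [Group G] [Fintype G]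

/-- The output of the structure theorem, bundled. -/
structure Shape (M : Ideal AlgInt) (σ : G) (m : ℕ) [NeZero m] (e : AddChar (ZMod m) ℂ)
    [DecidableEq (IrrCharacter G)] where
  Wz : IrrCharacter G → ZMod m → ℤ
  s : ℤ
  y₂ : ℤ
  y₃ : ℤ
  χ₁ : IrrCharacter G
  ψ₁ : IrrCharacter G
  β : IrrCharacter G
  γ : IrrCharacter G
  Ψ : Mid m → IrrCharacter G
  hWz : ∀ χ i, (Wz χ i : ℂ) = wc e (val σ) χ i
  hs : s = 1 ∨ s = -1
  hy₂ : y₂ = 1 ∨ y₂ = -1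
  hy₃ : y₃ = 1 ∨ y₃ = -1
  hχ₁ : χ₁ ∈ principalBlock M G
  hψ₁ : ψ₁ ∈ principalBlock M G
  hβ : β ∈ principalBlock M G
  hγ : γ ∈ principalBlock M G
  hΨ : ∀ j, Ψ j ∈ principalBlock M G
  hχ1 : χ₁ ≠ Cfsg.Agent.Lib.H24.trivialIrr G
  hψ1 : ψ₁ ≠ Cfsg.Agent.Lib.H24.trivialIrr G
  hχψ : χ₁ ≠ ψ₁
  hβγ : β ≠ γ
  hβ1 : β ≠ Cfsg.Agent.Lib.H24.trivialIrr G
  hγ1 : γ ≠ Cfsg.Agent.Lib.H24.trivialIrr G
  hβχ : β ≠ χ₁
  hγχ : γ ≠ χ₁
  hβψ : β ≠ ψ₁
  hγψ : γ ≠ ψ₁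
  hΨne : ∀ j, Ψ j ≠ Cfsg.Agent.Lib.H24.trivialIrr G ∧ Ψ j ≠ χ₁ ∧ Ψ j ≠ ψ₁ ∧ Ψ j ≠ β ∧ Ψ j ≠ γ
  hΨinj : ∀ j k : Mid m, ¬ (k.1 = j.1 ∨ k.1 = -j.1) → Ψ j ≠ Ψ k
  hUrep : ∀ χ ∈ principalBlock M G, Wz χ 0 =
    1 * ind (Cfsg.Agent.Lib.H24.trivialIrr G) χ + s * ind χ₁ χ + (-s) * ind ψ₁ χ
  hVrep : ∀ χ ∈ principalBlock M G, Wz χ (half m) =
    (-s) * ind ψ₁ χ + y₂ * ind β χ + y₃ * ind γ χ
  hWrep : ∀ j : Mid m, ∀ χ ∈ principalBlock M G, Wz χ j.1 = s * ind (Ψ j) χ - s * ind ψ₁ χ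

variable {M : Ideal AlgInt} {n m : ℕ} [NeZero m] {P : Sylow 2 G} {σ : G}
variable [Fintype (IrrCharacter G)] [DecidablePred (· ∈ principalBlock M G)]
  [DecidableEq (IrrCharacter G)]

theorem Setup.exists_shape (h : Setup M n m P σ) (e : AddChar (ZMod m) ℂ) (he : e.IsPrimitive) :
    Nonempty (Shape M σ m e) := by
  obtain ⟨Wz, s, y₂, y₃, χ₁, ψ₁, β, γ, Ψ, hWz, hs, hy₂, hy₃, hχ₁, hψ₁, hβ, hγ, hΨ, hχ1, hψ1, hχψ,
    hβγ, hβ1, hγ1, hβχ, hγχ, hβψ, hγψ, hΨne, hΨinj, hUrep, hVrep, hWrep⟩ := structure_thm h e he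
  exact ⟨⟨Wz, s, y₂, y₃, χ₁, ψ₁, β, γ, Ψ, hWz, hs, hy₂, hy₃, hχ₁, hψ₁, hβ, hγ, hΨ, hχ1, hψ1, hχψ,
    hβγ, hβ1, hγ1, hβχ, hγχ, hβψ, hγψ, hΨne, hΨinj, hUrep, hVrep, hWrep⟩⟩

namespace Shape

variable {e : AddChar (ZMod m) ℂ} (T : Shape M σ m e)

omit [Fintype (IrrCharacter G)] [DecidablePred (· ∈ principalBlock M G)] in
theorem s_ne_zero : T.s ≠ 0 := by
  rcases T.hs with h | h <;> rw [h] <;> norm_num

omit [Fintype (IrrCharacter G)] [DecidablePred (· ∈ principalBlock M G)] in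
theorem Wz_one (χ : IrrCharacter G) : T.Wz χ 1 = 0 := by
  have := T.hWz χ 1
  rw [wc_one] at this
  exact_mod_cast this

omit [Fintype (IrrCharacter G)] [DecidablePred (· ∈ principalBlock M G)] in
theorem Wz_neg (h : Setup M n m P σ) (χ : IrrCharacter G) (i : ZMod m) :
    T.Wz χ (-i) = T.Wz χ i := by
  have h1 := T.hWz χ (-i)
  rw [wc_neg e (val σ) (fun χ l => h.val_neg χ l), ← T.hWz χ i] at h1
  exact_mod_cast h1

omit [Fintype (IrrCharacter G)] [DecidablePred (· ∈ principalBlock M G)] in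
/-- Case analysis on an index. -/
theorem index_cases (i : ZMod m) : i = 0 ∨ i = half m ∨ i = 1 ∨ i = -1 ∨ IsMid i := by
  by_cases h0 : i = 0
  · exact Or.inl h0
  by_cases hh : i = half m
  · exact Or.inr (Or.inl hh)
  by_cases h1 : i = 1
  · exact Or.inr (Or.inr (Or.inl h1))
  by_cases hn1 : i = -1
  · exact Or.inr (Or.inr (Or.inr (Or.inl hn1)))
  exact Or.inr (Or.inr (Or.inr (Or.inr ⟨h0, hh, h1, hn1⟩)))

omit [Fintype (IrrCharacter G)] [DecidablePred (· ∈ principalBlock M G)] in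
/-- Rows of characters different from `ψ₁` and the `Ψ j`. -/
theorem row_special (h : Setup M n m P σ) {χ : IrrCharacter G} (hχ : χ ∈ principalBlock M G)
    (hχψ : χ ≠ T.ψ₁) (hχΨ : ∀ j, χ ≠ T.Ψ j) (i : ZMod m) :
    T.Wz χ i = (if i = 0 then T.Wz χ 0 else 0) + (if i = half m then T.Wz χ (half m) else 0) := by
  have hev := h.even
  have hm4 := h.four_le
  have hhf0 : half m ≠ 0 := half_ne_zero hev
  rcases index_cases i with h0 | hh | h1 | hn1 | hmid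
  · rw [h0, if_pos rfl, if_neg hhf0.symm, add_zero]
  · rw [hh, if_neg hhf0, if_pos rfl, zero_add]
  · rw [h1, T.Wz_one, if_neg (zmod_zero_ne_one (by omega)).symm, if_neg (half_ne_one hev hm4).symm,
      add_zero]
  · rw [hn1, T.Wz_neg h, T.Wz_one, if_neg (zero_ne_neg_one (by omega)).symm,
      if_neg (half_ne_neg_one hev hm4).symm, add_zero]
  · rw [if_neg hmid.1, if_neg hmid.2.1, add_zero]
    have := T.hWrep ⟨i, hmid⟩ χ hχ
    rw [ind_ne (hχΨ ⟨i, hmid⟩), ind_ne hχψ] at this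
    simpa using this

omit [Fintype (IrrCharacter G)] [DecidablePred (· ∈ principalBlock M G)] in
/-- `Ψ` is even. -/
theorem Ψ_neg (h : Setup M n m P σ) (j : Mid m) (hj' : IsMid (-j.1)) :
    T.Ψ ⟨-j.1, hj'⟩ = T.Ψ j := by
  have h1 := T.hWrep j (T.Ψ j) (T.hΨ j)
  have h2 := T.hWrep ⟨-j.1, hj'⟩ (T.Ψ j) (T.hΨ j)
  simp only at h2
  rw [T.Wz_neg h, h1, ind_self, ind_ne (T.hΨne j).2.2.1] at h2
  by_contra hne
  rw [ind_ne (fun hc => hne hc.symm)] at h2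
  have := T.s_ne_zero
  rcases T.hs with h' | h' <;> rw [h'] at h2 <;> omega

omit [Fintype (IrrCharacter G)] [DecidablePred (· ∈ principalBlock M G)] in
theorem isMid_neg (h : Setup M n m P σ) {j : ZMod m} (hj : IsMid j) : IsMid (-j) := by
  obtain ⟨h0, hh, h1, hn1⟩ := hj
  refine ⟨?_, ?_, ?_, ?_⟩
  · exact fun hc => h0 (neg_eq_zero.mp hc)
  · intro hc
    apply hh
    rw [← neg_neg j, hc, neg_half h.even]
  · intro hc
    apply hn1
    rw [← hc, neg_neg]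
  · intro hc
    exact h1 (neg_injective hc)

omit [Fintype (IrrCharacter G)] [DecidablePred (· ∈ principalBlock M G)] in
/-- Row of `ψ₁`. -/
theorem row_ψ₁ (h : Setup M n m P σ) (i : ZMod m) :
    T.Wz T.ψ₁ i = -T.s + (if i = 1 then T.s else 0) + (if i = -1 then T.s else 0) := by
  have hev := h.even
  have hm4 := h.four_le
  have h1n1 : (1 : ZMod m) ≠ -1 := one_ne_neg_one (by omega)
  rcases index_cases i with h0 | hh | h1 | hn1 | hmid
  · rw [h0, if_neg (zmod_zero_ne_one (by omega)), if_neg (zero_ne_neg_one (by omega)),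
      T.hUrep _ T.hψ₁, ind_ne T.hψ1, ind_ne T.hχψ.symm, ind_self]
    ring
  · rw [hh, if_neg (half_ne_one hev hm4), if_neg (half_ne_neg_one hev hm4), T.hVrep _ T.hψ₁,
      ind_self, ind_ne T.hβψ.symm, ind_ne T.hγψ.symm]
    ring
  · rw [h1, T.Wz_one, if_pos rfl, if_neg h1n1]
    ring
  · rw [hn1, T.Wz_neg h, T.Wz_one, if_neg h1n1.symm, if_pos rfl]
    ring
  · rw [if_neg hmid.2.2.1, if_neg hmid.2.2.2]
    have := T.hWrep ⟨i, hmid⟩ T.ψ₁ T.hψ₁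
    rw [ind_ne (T.hΨne ⟨i, hmid⟩).2.2.1.symm, ind_self] at this
    simp only at this
    rw [this]
    ring

omit [Fintype (IrrCharacter G)] [DecidablePred (· ∈ principalBlock M G)] in
/-- Row of `Ψ j`. -/
theorem row_Ψ (h : Setup M n m P σ) (j : Mid m) (i : ZMod m) :
    T.Wz (T.Ψ j) i = (if i = j.1 then T.s else 0) + (if i = -j.1 then T.s else 0) := by
  have hev := h.even
  have hm4 := h.four_le
  obtain ⟨j0, jh, j1, jn1⟩ := j.2
  obtain ⟨hΨ1, hΨχ, hΨψ, hΨβ, hΨγ⟩ := T.hΨne j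
  rcases index_cases i with h0 | hh | h1 | hn1 | hmid
  · rw [h0, if_neg j0.symm, if_neg (fun hc => j0 (by rw [← neg_eq_zero]; exact hc.symm)),
      T.hUrep _ (T.hΨ j), ind_ne hΨ1, ind_ne hΨχ, ind_ne hΨψ]
    ring
  · rw [hh, if_neg jh.symm, if_neg (fun hc => jh (by rw [← neg_inj, ← hc, neg_half hev])),
      T.hVrep _ (T.hΨ j), ind_ne hΨψ, ind_ne hΨβ, ind_ne hΨγ]
    ring
  · rw [h1, T.Wz_one, if_neg j1.symm, if_neg (fun hc => jn1 (by rw [hc, neg_neg]))]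
    ring
  · rw [hn1, T.Wz_neg h, T.Wz_one, if_neg jn1.symm, if_neg (fun hc => j1 (neg_injective hc.symm))]
    ring
  · have h3 := T.hWrep ⟨i, hmid⟩ (T.Ψ j) (T.hΨ j)
    simp only at h3
    rw [ind_ne hΨψ, mul_zero, sub_zero] at h3
    rw [h3]
    have hjneg : j.1 ≠ -j.1 := by
      intro hc
      rcases eq_neg_cases hev j.1 hc with h' | h'
      · exact j0 h'
      · exact jh h'
    by_cases hij : i = j.1
    · have : (⟨i, hmid⟩ : Mid m) = j := Subtype.ext hij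
      rw [this, ind_self, if_pos hij, if_neg (fun hc => hjneg (hij.symm.trans hc))]
      ring
    · by_cases hij' : i = -j.1
      · have h4 : T.Ψ ⟨i, hmid⟩ = T.Ψ j := by
          have h5 := T.Ψ_neg h j (isMid_neg h j.2)
          rw [← h5]
          congr 1
          exact Subtype.ext hij'
        rw [h4, ind_self, if_neg hij, if_pos hij']
        ring
      · rw [if_neg hij, if_neg hij', ind_ne]
        · ring
        · exact T.hΨinj j ⟨i, hmid⟩ (fun hc => hc.elim hij hij')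

end Shape

end Cfsg.Agent.Lib.H22.DihMain
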