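import Cfsg.Agent.Lib.H22.DihBlockD
import Cfsg.Agent.Lib.H23.PPart

/-!
# The principal 2-block for dihedral Sylow 2-subgroups: values, parity, completeness (helper22)
-/

set_option autoImplicit false

namespace Cfsg.Agent.Lib.H22.DihMain

open Cfsg Cfsg.Agent.Lib.H23 Cfsg.Agent.Lib.H22.Dih Cfsg.Agent.Lib.H22.DihZMod
  Cfsg.Agent.Lib.H22.DihFourier Cfsg.Agent.Lib.H22.DihBlock Cfsg.Agent.Lib.H22.DihLattice
open scoped ComplexConjugate

variable {G : Type*} [Group G] [Fintype G]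

/-- The value of an irreducible character at an involution is an integer of the same parity as
the degree. -/
theorem involution_value (χ : IrrCharacter G) (u : G) (hu : orderOf u = 2) :
    ∃ k t : ℤ, (χ : G → ℂ) u = k ∧ (χ : G → ℂ) 1 = k + 2 * t := by
  have hpow : ((-1 : ℂ)) ^ 2 = 1 := by norm_num
  obtain ⟨nn, hn⟩ := coef_nat χ u 2 hu (AddChar.zmodChar 2 hpow) 1
  obtain ⟨d, _, hd⟩ := Cfsg.Agent.Lib.H24.irr_one_eq χ
  have hsum : ∑ l : ZMod 2, (χ : G → ℂ) (u ^ l.val) * (AddChar.zmodChar 2 hpow) (-(1 * l)) =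
      (χ : G → ℂ) 1 - (χ : G → ℂ) u := by
    have h2 : ∑ l : ZMod 2, (χ : G → ℂ) (u ^ l.val) * (AddChar.zmodChar 2 hpow) (-(1 * l)) =
        (χ : G → ℂ) (u ^ (0 : ZMod 2).val) * (AddChar.zmodChar 2 hpow) (-(1 * (0 : ZMod 2))) +
        (χ : G → ℂ) (u ^ (1 : ZMod 2).val) * (AddChar.zmodChar 2 hpow) (-(1 * (1 : ZMod 2))) :=
      Fin.sum_univ_two _
    rw [h2]
    have e0 : (0 : ZMod 2).val = 0 := rfl
    have e1 : (1 : ZMod 2).val = 1 := rfl
    have e2 : (-(1 * (0 : ZMod 2))) = 0 := by decide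
    have e3 : (-(1 * (1 : ZMod 2))) = 1 := by decide
    rw [e0, e1, e2, e3, AddChar.map_zero_eq_one, AddChar.zmodChar_apply, e1, pow_zero, pow_one,
      pow_one]
    ring
  rw [hsum] at hn
  refine ⟨(d : ℤ) - 2 * (nn : ℤ), (nn : ℤ), ?_, ?_⟩
  · have : (χ : G → ℂ) u = (χ : G → ℂ) 1 - 2 * nn := by
      have hn' := hn
      push_cast at hn'
      linear_combination -hn'
    rw [this, hd]
    push_cast
    ring
  · rw [hd]
    push_cast
    ring

variable {M : Ideal AlgInt} {n m : ℕ} [NeZero m] {P : Sylow 2 G} {σ : G}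
variable [Fintype (IrrCharacter G)] [DecidablePred (· ∈ principalBlock M G)]
  [DecidableEq (IrrCharacter G)]

namespace Shape

variable {e : AddChar (ZMod m) ℂ} (T : Shape M σ m e)

omit [Fintype (IrrCharacter G)] [DecidablePred (· ∈ principalBlock M G)] in
theorem val_eq_sum (he : e.IsPrimitive) (χ : IrrCharacter G) (l : ZMod m) (hl : l ≠ 0) :
    val σ χ l = ∑ i : ZMod m, (T.Wz χ i : ℂ) * e (i * l) := by
  rw [← inversion_wc e he (val σ) χ l hl]
  exact Finset.sum_congr rfl (fun i _ => by rw [T.hWz])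

omit [Fintype (IrrCharacter G)] [DecidablePred (· ∈ principalBlock M G)] in
/-- Values of the special characters. -/
theorem val_special (h : Setup M n m P σ) (he : e.IsPrimitive) {χ : IrrCharacter G}
    (hχ : χ ∈ principalBlock M G) (hχψ : χ ≠ T.ψ₁) (hχΨ : ∀ j, χ ≠ T.Ψ j) (l : ZMod m)
    (hl : l ≠ 0) :
    val σ χ l = (T.Wz χ 0 : ℂ) + (T.Wz χ (half m) : ℂ) * e (half m * l) := by
  classical
  rw [T.val_eq_sum he χ l hl]
  have h1 : ∀ i : ZMod m, (T.Wz χ i : ℂ) * e (i * l) =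
      (if i = 0 then (T.Wz χ 0 : ℂ) * e (i * l) else 0) +
        (if i = half m then (T.Wz χ (half m) : ℂ) * e (i * l) else 0) := by
    intro i
    rw [T.row_special h hχ hχψ hχΨ i]
    push_cast
    rw [add_mul, ite_mul, ite_mul, zero_mul]
  rw [Finset.sum_congr rfl (fun i _ => h1 i), Finset.sum_add_distrib, Finset.sum_ite_eq',
    Finset.sum_ite_eq', if_pos (Finset.mem_univ _), if_pos (Finset.mem_univ _), zero_mul,
    AddChar.map_zero_eq_one, mul_one]

omit [Fintype (IrrCharacter G)] [DecidablePred (· ∈ principalBlock M G)] in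
/-- Values of `ψ₁`. -/
theorem val_ψ₁ (h : Setup M n m P σ) (he : e.IsPrimitive) (l : ZMod m) (hl : l ≠ 0) :
    val σ T.ψ₁ l = (T.s : ℂ) * (e l + e (-l)) := by
  classical
  rw [T.val_eq_sum he T.ψ₁ l hl]
  have h1 : ∀ i : ZMod m, (T.Wz T.ψ₁ i : ℂ) * e (i * l) =
      -(T.s : ℂ) * e (l * i) + (if i = 1 then (T.s : ℂ) * e (i * l) else 0) +
        (if i = -1 then (T.s : ℂ) * e (i * l) else 0) := by
    intro i
    rw [T.row_ψ₁ h i]
    push_cast
    rw [add_mul, add_mul, ite_mul, ite_mul, zero_mul, mul_comm l i]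
  rw [Finset.sum_congr rfl (fun i _ => h1 i), Finset.sum_add_distrib, Finset.sum_add_distrib,
    Finset.sum_ite_eq', Finset.sum_ite_eq', if_pos (Finset.mem_univ _),
    if_pos (Finset.mem_univ _), ← Finset.mul_sum, sum_e_mul e he, if_neg hl, one_mul, neg_one_mul]
  ring

omit [Fintype (IrrCharacter G)] [DecidablePred (· ∈ principalBlock M G)] in
/-- Values of `Ψ j`. -/
theorem val_Ψ (h : Setup M n m P σ) (he : e.IsPrimitive) (j : Mid m) (l : ZMod m) (hl : l ≠ 0) :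
    val σ (T.Ψ j) l = (T.s : ℂ) * (e (j.1 * l) + e (-(j.1 * l))) := by
  classical
  rw [T.val_eq_sum he (T.Ψ j) l hl]
  have h1 : ∀ i : ZMod m, (T.Wz (T.Ψ j) i : ℂ) * e (i * l) =
      (if i = j.1 then (T.s : ℂ) * e (i * l) else 0) +
        (if i = -j.1 then (T.s : ℂ) * e (i * l) else 0) := by
    intro i
    rw [T.row_Ψ h j i]
    push_cast
    rw [add_mul, ite_mul, ite_mul, zero_mul]
  rw [Finset.sum_congr rfl (fun i _ => h1 i), Finset.sum_add_distrib, Finset.sum_ite_eq',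
    Finset.sum_ite_eq', if_pos (Finset.mem_univ _), if_pos (Finset.mem_univ _), neg_mul]
  ring

omit [Fintype (IrrCharacter G)] [DecidablePred (· ∈ principalBlock M G)] in
/-- The degree of a special character modulo `m`. -/
theorem degree_special (h : Setup M n m P σ) (he : e.IsPrimitive) {χ : IrrCharacter G}
    (hχ : χ ∈ principalBlock M G) (hχψ : χ ≠ T.ψ₁) (hχΨ : ∀ j, χ ≠ T.Ψ j) :
    ∃ a : ℤ, (χ : G → ℂ) 1 = (T.Wz χ 0 : ℂ) + (T.Wz χ (half m) : ℂ) + (m : ℂ) * a := by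
  classical
  obtain ⟨k, hk⟩ := coef_nat χ σ m h.hσo e 1
  have hm0 : (m : ℂ) ≠ 0 := m_ne_zero
  have hc1 : coef e (val σ) χ 1 = (k : ℂ) := by
    have : coef e (val σ) χ 1 = (m : ℂ)⁻¹ * ((m : ℂ) * k) := by
      rw [← hk]; rfl
    rw [this, ← mul_assoc, inv_mul_cancel₀ hm0, one_mul]
  refine ⟨(k : ℤ), ?_⟩
  have h1 := inversion e he (val σ) χ 0
  rw [Setup.val_zero_eq] at h1
  rw [← h1]
  have h2 : ∀ i : ZMod m, coef e (val σ) χ i * e (i * 0) =
      (if i = 0 then (T.Wz χ 0 : ℂ) else 0) + (if i = half m then (T.Wz χ (half m) : ℂ) else 0) +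
        (k : ℂ) := by
    intro i
    rw [mul_zero, AddChar.map_zero_eq_one, mul_one]
    have h3 := T.hWz χ i
    unfold wc at h3
    rw [hc1] at h3
    have h4 : coef e (val σ) χ i = (T.Wz χ i : ℂ) + k := by rw [h3]; ring
    rw [h4, T.row_special h hχ hχψ hχΨ i]
    push_cast
    rfl
  rw [Finset.sum_congr rfl (fun i _ => h2 i), Finset.sum_add_distrib, Finset.sum_add_distrib,
    Finset.sum_ite_eq', Finset.sum_ite_eq', if_pos (Finset.mem_univ _),
    if_pos (Finset.mem_univ _), Finset.sum_const, Finset.card_univ, ZMod.card, nsmul_eq_mul]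
  push_cast
  ring

omit [Fintype (IrrCharacter G)] [DecidablePred (· ∈ principalBlock M G)] in
/-- A special character with `Wz χ 0 + Wz χ (half m)` odd does not vanish at involutions. -/
theorem one_le_normSq (h : Setup M n m P σ) (he : e.IsPrimitive) {χ : IrrCharacter G}
    (hχ : χ ∈ principalBlock M G) (hχψ : χ ≠ T.ψ₁) (hχΨ : ∀ j, χ ≠ T.Ψ j)
    (hodd : Odd (T.Wz χ 0 + T.Wz χ (half m))) (u : G) (hu : orderOf u = 2) :
    1 ≤ Complex.normSq ((χ : G → ℂ) u) := by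
  obtain ⟨a, ha⟩ := T.degree_special h he hχ hχψ hχΨ
  obtain ⟨k, t, hk, hkt⟩ := involution_value χ u hu
  rw [hkt] at ha
  have h1 : k + 2 * t = T.Wz χ 0 + T.Wz χ (half m) + (m : ℤ) * a := by exact_mod_cast ha
  obtain ⟨c, hc⟩ := h.even
  obtain ⟨b, hb⟩ := hodd
  obtain ⟨w, hw⟩ : ∃ w : ℤ, (m : ℤ) * a = 2 * w := ⟨c * a, by rw [hc]; push_cast; ring⟩
  have hk0 : k ≠ 0 := by
    intro h0
    rw [h0, hb, hw] at h1
    omega
  rw [hk]
  have : Complex.normSq ((k : ℤ) : ℂ) = ((k * k : ℤ) : ℝ) := by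
    rw [show ((k : ℤ) : ℂ) = ((k : ℝ) : ℂ) by push_cast; rfl, Complex.normSq_ofReal]
    push_cast
    ring
  rw [this]
  have h2 : 1 ≤ k * k := by
    rcases lt_or_gt_of_ne hk0 with h3 | h3
    · nlinarith
    · nlinarith
  exact_mod_cast h2

end Shape

end Cfsg.Agent.Lib.H22.DihMain
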