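import Cfsg.Agent.Lib.H22.DihBlockE

/-!
# The principal 2-block for dihedral Sylow 2-subgroups: completeness and relations on
odd-order elements (helper22)
-/

set_option autoImplicit false

namespace Cfsg.Agent.Lib.H22.DihMain

open Cfsg Cfsg.Agent.Lib.H23 Cfsg.Agent.Lib.H22.Dih Cfsg.Agent.Lib.H22.DihZMod
  Cfsg.Agent.Lib.H22.DihFourier Cfsg.Agent.Lib.H22.DihBlock Cfsg.Agent.Lib.H22.DihLattice
open scoped ComplexConjugate

variable {G : Type*} [Group G] [Fintype G]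
variable {M : Ideal AlgInt} {n m : ℕ} [NeZero m] {P : Sylow 2 G} {σ : G}
variable [Fintype (IrrCharacter G)] [DecidablePred (· ∈ principalBlock M G)]
  [DecidableEq (IrrCharacter G)]

namespace Shape

variable {e : AddChar (ZMod m) ℂ} (T : Shape M σ m e)

/-- The four odd-degree characters do not vanish at involutions; the norm sum forces the other
characters to vanish at non-central involutions. -/
theorem vanish_involution (h : Setup M n m P σ) (he : e.IsPrimitive) {χ : IrrCharacter G}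
    (hχ : χ ∈ principalBlock M G) (hc1 : χ ≠ Cfsg.Agent.Lib.H24.trivialIrr G) (hcχ : χ ≠ T.χ₁)
    (hcβ : χ ≠ T.β) (hcγ : χ ≠ T.γ) (u : G) (hu2 : u * u = 1) (hu1 : u ≠ 1)
    (hnc : ∀ g : G, g * u * g⁻¹ ∉ Subgroup.zpowers σ) : (χ : G → ℂ) u = 0 := by
  classical
  haveI hPr := isPrime_of_isPModular h.hM
  have hm4 := h.four_le
  have huord : orderOf u = 2 := orderOf_eq_prime (by rw [pow_two]; exact hu2) hu1
  set S : Finset (IrrCharacter G) := Finset.univ.filter (· ∈ principalBlock M G) with hS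
  have hmemS : ∀ χ, χ ∈ S ↔ χ ∈ principalBlock M G := by
    intro χ
    rw [hS, Finset.mem_filter]
    simp
  have hsum := h.norm_sum_of_npc hu1 ⟨1, by rw [huord, pow_one]⟩
  have hν := factorization_centralizer_le_two P h.dih (by omega) h.even hu2 hu1 hnc
  set one := Cfsg.Agent.Lib.H24.trivialIrr G with hone
  have honeB : one ∈ principalBlock M G := trivialIrr_mem_principalBlock
  set f : IrrCharacter G → ℝ := fun χ' => Complex.normSq ((χ' : G → ℂ) u) with hf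
  have hsumR : ∑ χ' ∈ S, f χ' ≤ 4 := by
    have h1 : ((∑ χ' ∈ S, f χ' : ℝ) : ℂ) =
        ((2 ^ (Nat.card (Subgroup.centralizer ({u} : Set G))).factorization 2 : ℕ) : ℂ) := by
      rw [← hsum]
      push_cast
      exact Finset.sum_congr rfl (fun χ' _ => by rw [hf, Complex.mul_conj])
    have h2 : (∑ χ' ∈ S, f χ' : ℝ) =
        ((2 ^ (Nat.card (Subgroup.centralizer ({u} : Set G))).factorization 2 : ℕ) : ℝ) := by
      exact_mod_cast h1
    rw [h2]
    have h3 : 2 ^ (Nat.card (Subgroup.centralizer ({u} : Set G))).factorization 2 ≤ 2 ^ 2 :=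
      Nat.pow_le_pow_right (by norm_num) hν
    have h4 : ((2 ^ (Nat.card (Subgroup.centralizer ({u} : Set G))).factorization 2 : ℕ) : ℝ) ≤
        ((2 ^ 2 : ℕ) : ℝ) := by exact_mod_cast h3
    calc _ ≤ ((2 ^ 2 : ℕ) : ℝ) := h4
      _ = 4 := by norm_num
  -- the four special characters
  have hs := T.hs
  have hy₂ := T.hy₂
  have hy₃ := T.hy₃
  have hone_ge : 1 ≤ f one := by
    apply T.one_le_normSq h he honeB T.hψ1.symm (fun j => (T.hΨne j).1.symm) _ u huord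
    rw [T.hUrep one honeB, T.hVrep one honeB, ind_self, ind_ne T.hχ1.symm, ind_ne T.hψ1.symm,
      ind_ne T.hβ1.symm, ind_ne T.hγ1.symm]
    exact ⟨0, by ring⟩
  have hχ₁_ge : 1 ≤ f T.χ₁ := by
    apply T.one_le_normSq h he T.hχ₁ T.hχψ (fun j => (T.hΨne j).2.1.symm) _ u huord
    rw [T.hUrep _ T.hχ₁, T.hVrep _ T.hχ₁, ind_self, ind_ne T.hχ1, ind_ne T.hχψ,
      ind_ne T.hβχ.symm, ind_ne T.hγχ.symm]
    rcases hs with h' | h' <;> rw [h']
    · exact ⟨0, by ring⟩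
    · exact ⟨-1, by ring⟩
  have hβ_ge : 1 ≤ f T.β := by
    apply T.one_le_normSq h he T.hβ T.hβψ (fun j => (T.hΨne j).2.2.2.1.symm) _ u huord
    rw [T.hUrep _ T.hβ, T.hVrep _ T.hβ, ind_self, ind_ne T.hβ1, ind_ne T.hβχ, ind_ne T.hβψ,
      ind_ne T.hβγ]
    rcases hy₂ with h' | h' <;> rw [h']
    · exact ⟨0, by ring⟩
    · exact ⟨-1, by ring⟩
  have hγ_ge : 1 ≤ f T.γ := by
    apply T.one_le_normSq h he T.hγ T.hγψ (fun j => (T.hΨne j).2.2.2.2.symm) _ u huord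
    rw [T.hUrep _ T.hγ, T.hVrep _ T.hγ, ind_self, ind_ne T.hγ1, ind_ne T.hγχ, ind_ne T.hγψ,
      ind_ne T.hβγ.symm]
    rcases hy₃ with h' | h' <;> rw [h']
    · exact ⟨0, by ring⟩
    · exact ⟨-1, by ring⟩
  -- the finset {χ, one, χ₁, β, γ}
  set T5 : Finset (IrrCharacter G) := {χ, one, T.χ₁, T.β, T.γ} with hT5
  have hT5S : T5 ⊆ S := by
    intro χ' hχ'
    rw [hT5] at hχ'
    simp only [Finset.mem_insert, Finset.mem_singleton] at hχ'
    rw [hmemS]
    rcases hχ' with rfl | rfl | rfl | rfl | rfl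
    · exact hχ
    · exact honeB
    · exact T.hχ₁
    · exact T.hβ
    · exact T.hγ
  have hle : ∑ χ' ∈ T5, f χ' ≤ ∑ χ' ∈ S, f χ' :=
    Finset.sum_le_sum_of_subset_of_nonneg hT5S (fun χ' _ _ => Complex.normSq_nonneg _)
  have hT5sum : ∑ χ' ∈ T5, f χ' = f χ + (f one + (f T.χ₁ + (f T.β + f T.γ))) := by
    rw [hT5, Finset.sum_insert, Finset.sum_insert, Finset.sum_insert, Finset.sum_insert,
      Finset.sum_singleton]
    · simp only [Finset.mem_singleton]; exact T.hβγ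
    · simp only [Finset.mem_insert, Finset.mem_singleton, not_or]
      exact ⟨T.hβχ.symm, T.hγχ.symm⟩
    · simp only [Finset.mem_insert, Finset.mem_singleton, not_or]
      exact ⟨T.hχ1.symm, T.hβ1.symm, T.hγ1.symm⟩
    · simp only [Finset.mem_insert, Finset.mem_singleton, not_or]
      exact ⟨hc1, hcχ, hcβ, hcγ⟩
  have hfχ : f χ ≤ 0 := by linarith
  have hfχ0 : f χ = 0 := le_antisymm hfχ (Complex.normSq_nonneg _)
  exact Complex.normSq_eq_zero.mp hfχ0

/-- **Completeness**: every character of the principal block is one of the listed ones. -/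
theorem listed (h : Setup M n m P σ) (he : e.IsPrimitive) {χ : IrrCharacter G}
    (hχ : χ ∈ principalBlock M G) :
    χ = Cfsg.Agent.Lib.H24.trivialIrr G ∨ χ = T.χ₁ ∨ χ = T.β ∨ χ = T.γ ∨ χ = T.ψ₁ ∨
      ∃ j, χ = T.Ψ j := by
  classical
  haveI : Fact (Nat.Prime 2) := ⟨Nat.prime_two⟩
  by_contra hcon
  simp only [not_or, not_exists] at hcon
  obtain ⟨hc1, hcχ, hcβ, hcγ, hcψ, hcΨ⟩ := hcon
  have hm4 := h.four_le
  have hU0 : T.Wz χ 0 = 0 := by
    rw [T.hUrep χ hχ, ind_ne hc1, ind_ne hcχ, ind_ne hcψ]; ring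
  have hV0 : T.Wz χ (half m) = 0 := by
    rw [T.hVrep χ hχ, ind_ne hcψ, ind_ne hcβ, ind_ne hcγ]; ring
  have hvan1 : ∀ l : ZMod m, l ≠ 0 → val σ χ l = 0 := by
    intro l hl
    rw [T.val_special h he hχ hcψ hcΨ l hl, hU0, hV0]
    simp
  have hvan : ∀ g : G, 2 ∣ orderOf g → (χ : G → ℂ) g = 0 := by
    intro g hg
    obtain ⟨z, y, hzy, hcomm, hzord, hyodd⟩ :=
      exists_isPPart Nat.prime_two g (isOfFinOrder_of_finite g)
    have hz1 : z ≠ 1 := by
      rintro rfl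
      rw [one_mul] at hzy
      rw [← hzy] at hg
      exact hyodd hg
    obtain ⟨N, hNn, hNodd, hidx⟩ := h.exists_npc hz1 hzord
    haveI := hNn
    have hyC : y ∈ Subgroup.centralizer ({z} : Set G) := by
      rw [Subgroup.mem_centralizer_iff]
      intro w hw
      rw [Set.mem_singleton_iff] at hw
      rw [hw]
      exact hcomm.eq
    rw [← hzy, section_const h.hM z hzord N hNodd hidx χ hχ y hyC hyodd]
    by_cases hex : ∃ c : G, c * z * c⁻¹ ∈ Subgroup.zpowers σ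
    · obtain ⟨c, hc⟩ := hex
      obtain ⟨a, ha⟩ := exists_pw_eq σ h.hσo hc
      have ha0 : a ≠ 0 := by
        rintro rfl
        rw [pw_zero] at ha
        apply hz1
        have : z = c⁻¹ * (c * z * c⁻¹) * c := by group
        rw [this, ha]; group
      have h1 := hvan1 a ha0
      unfold val at h1
      rw [← ha, Cfsg.Agent.Lib.H24.irr_conj] at h1
      exact h1
    · have hex' : ∀ c : G, c * z * c⁻¹ ∉ Subgroup.zpowers σ := fun c hc => hex ⟨c, hc⟩
      obtain ⟨c, hcP, _⟩ := exists_conj_sylow_centralizer P z (Setup.isPGroup_zpowers hzord)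
      have hinv := (h.dih.inv _ hcP (hex' c)).1
      have hzz : z * z = 1 := by
        have h2 : c * (z * z) * c⁻¹ = 1 := by rw [← hinv]; group
        have h3 : z * z = c⁻¹ * (c * (z * z) * c⁻¹) * c := by group
        rw [h3, h2]; group
      exact T.vanish_involution h he hχ hc1 hcχ hcβ hcγ z hzz hz1 hex'
  have hσ2 : 2 ∣ orderOf σ := by
    rw [h.hσo]
    exact h.even.two_dvd
  exact KleinBlock.not_mem_principal_of_vanish h.hM χ hvan σ hσ2 hχ

omit [DecidablePred (· ∈ principalBlock M G)] in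
theorem sum_cast_rep3 (S : Finset (IrrCharacter G)) (f : IrrCharacter G → ℤ)
    (g : IrrCharacter G → ℂ) {α β γ : IrrCharacter G} (hα : α ∈ S) (hβ : β ∈ S) (hγ : γ ∈ S)
    (a b c : ℤ) (hrep : ∀ χ ∈ S, f χ = a * ind α χ + b * ind β χ + c * ind γ χ) :
    ∑ χ ∈ S, (f χ : ℂ) * g χ = a * g α + b * g β + c * g γ := by
  have hind : ∀ p ∈ S, ∑ χ ∈ S, ((ind p χ : ℤ) : ℂ) * g χ = g p := by
    intro p hp
    have : ∀ χ ∈ S, ((ind p χ : ℤ) : ℂ) * g χ = if χ = p then g χ else 0 := by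
      intro χ _
      unfold ind
      split_ifs <;> simp
    rw [Finset.sum_congr rfl this, Finset.sum_ite_eq' S p g, if_pos hp]
  calc ∑ χ ∈ S, (f χ : ℂ) * g χ
      = ∑ χ ∈ S, ((a : ℂ) * (((ind α χ : ℤ) : ℂ) * g χ) + (b : ℂ) * (((ind β χ : ℤ) : ℂ) * g χ) +
          (c : ℂ) * (((ind γ χ : ℤ) : ℂ) * g χ)) :=
        Finset.sum_congr rfl (fun χ hχ => by rw [hrep χ hχ]; push_cast; ring)
    _ = a * g α + b * g β + c * g γ := by
        rw [Finset.sum_add_distrib, Finset.sum_add_distrib, ← Finset.mul_sum, ← Finset.mul_sum,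
          ← Finset.mul_sum, hind α hα, hind β hβ, hind γ hγ]

/-- **Relations on elements of odd order.** -/
theorem odd_relations (h : Setup M n m P σ) (he : e.IsPrimitive) (ρ : G)
    (hρ : Odd (orderOf ρ)) :
    1 + (T.s : ℂ) * (T.χ₁ : G → ℂ) ρ = (T.s : ℂ) * (T.ψ₁ : G → ℂ) ρ ∧
    (T.s : ℂ) * (T.ψ₁ : G → ℂ) ρ = (T.y₂ : ℂ) * (T.β : G → ℂ) ρ + (T.y₃ : ℂ) * (T.γ : G → ℂ) ρ ∧
    ∀ j, (T.Ψ j : G → ℂ) ρ = (T.ψ₁ : G → ℂ) ρ := by
  classical
  haveI hPr := isPrime_of_isPModular h.hM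
  set S : Finset (IrrCharacter G) := Finset.univ.filter (· ∈ principalBlock M G) with hS
  have hmemS : ∀ χ, χ ∈ S ↔ χ ∈ principalBlock M G := by
    intro χ
    rw [hS, Finset.mem_filter]
    simp
  have hρ2 : ¬ 2 ∣ orderOf ρ := by
    intro h2
    exact (Nat.not_even_iff_odd.mpr hρ) (even_iff_two_dvd.mpr h2)
  have hr : ∀ l : ZMod m, l ≠ 0 → ∑ χ ∈ S, val σ χ l * (χ : G → ℂ) ρ = 0 := by
    intro l hl
    have hz1 : pw σ l ≠ 1 := pw_ne_one σ h.hσo hl
    obtain ⟨k, hk⟩ := h.exists_orderOf (h.pw_mem l)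
    have h2 : 2 ∣ orderOf (pw σ l) := by
      rw [hk]
      rcases Nat.eq_zero_or_pos k with h0 | h0
      · rw [h0, pow_zero, orderOf_eq_one_iff] at hk
        exact absurd hk hz1
      · exact dvd_pow_self 2 (by omega)
    have h3 := orth_reg_sing h.hM ρ (pw σ l) hρ2 h2
    rw [← h3]
    refine Finset.sum_congr rfl (fun χ _ => ?_)
    have := h.val_conj χ l
    unfold val at this ⊢
    rw [this, mul_comm]
  have hW : ∀ i : ZMod m, ∑ χ ∈ S, (T.Wz χ i : ℂ) * (χ : G → ℂ) ρ = 0 := by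
    intro i
    rw [← sum_wc_mul e S (val σ) (fun χ => (χ : G → ℂ) ρ) hr i]
    exact Finset.sum_congr rfl (fun χ _ => by rw [T.hWz])
  have honeS : Cfsg.Agent.Lib.H24.trivialIrr G ∈ S := (hmemS _).2 trivialIrr_mem_principalBlock
  have h0 := hW 0
  rw [sum_cast_rep3 S (fun χ => T.Wz χ 0) (fun χ => (χ : G → ℂ) ρ) honeS ((hmemS _).2 T.hχ₁)
    ((hmemS _).2 T.hψ₁) _ _ _ (fun χ hχ => T.hUrep χ ((hmemS χ).1 hχ))] at h0
  have hh := hW (half m)
  rw [sum_cast_rep3 S (fun χ => T.Wz χ (half m)) (fun χ => (χ : G → ℂ) ρ) ((hmemS _).2 T.hψ₁)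
    ((hmemS _).2 T.hβ) ((hmemS _).2 T.hγ) _ _ _ (fun χ hχ => T.hVrep χ ((hmemS χ).1 hχ))] at hh
  have hone_val : (Cfsg.Agent.Lib.H24.trivialIrr G : G → ℂ) ρ = 1 := rfl
  rw [hone_val] at h0
  push_cast at h0 hh
  refine ⟨by linear_combination h0, by linear_combination -hh, ?_⟩
  intro j
  have hj := hW j.1
  rw [sum_cast_rep3 S (fun χ => T.Wz χ j.1) (fun χ => (χ : G → ℂ) ρ) ((hmemS _).2 (T.hΨ j))
    ((hmemS _).2 T.hψ₁) ((hmemS _).2 T.hψ₁) T.s (-T.s) 0
    (fun χ hχ => by rw [T.hWrep j χ ((hmemS χ).1 hχ)]; ring)] at hj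
  push_cast at hj
  have hs0 : (T.s : ℂ) ≠ 0 := by exact_mod_cast T.s_ne_zero
  have : (T.s : ℂ) * ((T.Ψ j : G → ℂ) ρ - (T.ψ₁ : G → ℂ) ρ) = 0 := by linear_combination hj
  rcases mul_eq_zero.mp this with h' | h'
  · exact absurd h' hs0
  · exact sub_eq_zero.mp h'

end Shape

end Cfsg.Agent.Lib.H22.DihMain
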