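import Cfsg.Agent.Lib.L0.DihedralSylow
import Cfsg.Agent.Lib.L0.DihedralFusion
import Cfsg.Agent.Lib.L0.FrobeniusPC

/-!
# Groups with dihedral Sylow 2-subgroups: local structure (helper22)

`DihData P σ m`: abstract description of a dihedral group `P` of order `2m` with rotation `σ`.
-/

set_option autoImplicit false

namespace Cfsg.Agent.Lib.H22.Dih

open Cfsg.Agent.Lib.L0 Cfsg.Agent.Lib.H10

variable {G : Type*} [Group G]

/-- Abstract dihedral data: `σ ∈ P` of order `m`, `|P| = 2m`, elements outside `⟨σ⟩` are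
involutions inverting `σ`. -/
structure DihData (P : Subgroup G) (σ : G) (m : ℕ) : Prop where
  mem : σ ∈ P
  ord : orderOf σ = m
  card : Nat.card P = 2 * m
  inv : ∀ a ∈ P, a ∉ Subgroup.zpowers σ → a * a = 1 ∧ a * σ * a⁻¹ = σ⁻¹

theorem DihData.of_equiv (P : Subgroup G) (m : ℕ) (hm : 3 ≤ m) (e : P ≃* DihedralGroup m)
    (σ : G) (hσ : σ ∈ P) (hσo : orderOf σ = m) : DihData P σ m := by
  haveI : NeZero m := ⟨by omega⟩
  have hcard : Nat.card P = 2 * m := by
    rw [Nat.card_congr e.toEquiv, DihedralGroup.nat_card]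
  -- image of σ is a rotation r i₀ with i₀ a unit
  have hord' : orderOf (e ⟨σ, hσ⟩) = m := by
    rw [MulEquiv.orderOf_eq, Subgroup.orderOf_mk, hσo]
  obtain ⟨i₀, hi₀⟩ : ∃ i₀, e ⟨σ, hσ⟩ = DihedralGroup.r i₀ := by
    cases h : e ⟨σ, hσ⟩ with
    | r i => exact ⟨i, rfl⟩
    | sr i =>
      rw [h, DihedralGroup.orderOf_sr] at hord'
      omega
  have hcop : Nat.Coprime i₀.val m := by
    rw [hi₀, DihedralGroup.orderOf_r] at hord'
    have h2 : Nat.gcd m i₀.val = 1 := by
      rcases Nat.div_eq_self.mp hord' with h0 | h0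
      · omega
      · exact h0
    rw [Nat.coprime_comm]
    exact h2
  refine ⟨hσ, hσo, hcard, ?_⟩
  intro a ha haσ
  cases h : e ⟨a, ha⟩ with
  | r i =>
    exfalso
    apply haσ
    -- i = k * i₀
    set u := ZMod.unitOfCoprime i₀.val hcop with hu
    have hu' : (u : ZMod m) = i₀ := by
      rw [hu, ZMod.coe_unitOfCoprime, ZMod.natCast_zmod_val]
    set k := (i * ((u⁻¹ : (ZMod m)ˣ) : ZMod m)).val with hk
    have h1 : (⟨a, ha⟩ : P) = (⟨σ, hσ⟩ : P) ^ k := by
      apply e.injective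
      rw [map_pow, hi₀, h, DihedralGroup.r_pow, hk, ZMod.natCast_zmod_val, ← hu']
      congr 1
      rw [mul_comm, mul_assoc, Units.inv_mul, mul_one]
    have h2 : a = σ ^ k := by
      have := congrArg Subtype.val h1
      simpa using this
    rw [h2]
    exact Subgroup.pow_mem _ (Subgroup.mem_zpowers σ) k
  | sr j =>
    constructor
    · have h1 : (⟨a, ha⟩ : P) * ⟨a, ha⟩ = 1 := by
        apply e.injective
        rw [map_mul, h, DihedralGroup.sr_mul_self, map_one]
      exact congrArg Subtype.val h1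
    · have h1 : (⟨a, ha⟩ : P) * ⟨σ, hσ⟩ * (⟨a, ha⟩ : P)⁻¹ = (⟨σ, hσ⟩ : P)⁻¹ := by
        apply e.injective
        rw [map_mul, map_mul, map_inv, map_inv, h, hi₀, DihedralGroup.inv_sr,
          DihedralGroup.sr_mul_r, DihedralGroup.sr_mul_sr, DihedralGroup.inv_r]
        congr 1
        ring
      exact congrArg Subtype.val h1

namespace DihData

variable {P : Subgroup G} {σ : G} {m : ℕ}

theorem zpowers_le (h : DihData P σ m) : Subgroup.zpowers σ ≤ P := by
  rw [Subgroup.zpowers_le]; exact h.mem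

theorem pow_mem (h : DihData P σ m) (k : ℕ) : σ ^ k ∈ P := Subgroup.pow_mem _ h.mem k

/-- Elements outside `⟨σ⟩` invert every power of `σ`. -/
theorem conj_pow (h : DihData P σ m) {a : G} (ha : a ∈ P) (haσ : a ∉ Subgroup.zpowers σ)
    (k : ℕ) : a * σ ^ k * a⁻¹ = (σ ^ k)⁻¹ := by
  have h1 := (h.inv a ha haσ).2
  have h2 : a * σ ^ k * a⁻¹ = (a * σ * a⁻¹) ^ k := by
    rw [_root_.conj_pow]
  rw [h2, h1, inv_pow]

theorem conj_mem_zpowers (h : DihData P σ m) {a : G} (ha : a ∈ P) {x : G}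
    (hx : x ∈ Subgroup.zpowers σ) : a * x * a⁻¹ = x ∨ a * x * a⁻¹ = x⁻¹ := by
  by_cases haσ : a ∈ Subgroup.zpowers σ
  · left
    obtain ⟨i, rfl⟩ := Subgroup.mem_zpowers_iff.mp haσ
    obtain ⟨j, rfl⟩ := Subgroup.mem_zpowers_iff.mp hx
    rw [← zpow_add, add_comm, zpow_add, mul_inv_cancel_right]
  · right
    obtain ⟨j, rfl⟩ := Subgroup.mem_zpowers_iff.mp hx
    have h1 := (h.inv a ha haσ).2
    have h2 : a * σ ^ j * a⁻¹ = (a * σ * a⁻¹) ^ j := by
      rw [conj_zpow]
    rw [h2, h1, inv_zpow]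

/-- There is an element of `P` outside `⟨σ⟩`. -/
theorem exists_not_mem [Finite G] (h : DihData P σ m) (hm : 0 < m) :
    ∃ τ ∈ P, τ ∉ Subgroup.zpowers σ := by
  by_contra hcon
  have hle : P ≤ Subgroup.zpowers σ := by
    intro x hx
    by_contra hx'
    exact hcon ⟨x, hx, hx'⟩
  have h1 := Subgroup.card_le_of_le hle
  rw [h.card, Nat.card_zpowers, h.ord] at h1
  omega

/-- Elements of `P` whose square is nontrivial lie in `⟨σ⟩`. -/
theorem mem_zpowers_of_sq_ne (h : DihData P σ m) {a : G} (ha : a ∈ P) (h2 : a * a ≠ 1) :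
    a ∈ Subgroup.zpowers σ := by
  by_contra hcon
  exact h2 (h.inv a ha hcon).1

/-- The centralizer in `P` of an element of `⟨σ⟩` of order `> 2` is `⟨σ⟩`. -/
theorem inf_centralizer_eq (h : DihData P σ m) {z : G} (hz : z ∈ Subgroup.zpowers σ)
    (hz2 : z * z ≠ 1) : P ⊓ Subgroup.centralizer ({z} : Set G) = Subgroup.zpowers σ := by
  apply le_antisymm
  · intro a ⟨haP, haC⟩
    by_contra haσ
    obtain ⟨j, rfl⟩ := Subgroup.mem_zpowers_iff.mp hz
    have h1 := (h.inv a haP haσ).2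
    have h2 : a * σ ^ j * a⁻¹ = (a * σ * a⁻¹) ^ j := by rw [conj_zpow]
    rw [h1, inv_zpow] at h2
    have h3 : a * σ ^ j = σ ^ j * a := by
      have := Subgroup.mem_centralizer_iff.mp haC (σ ^ j) (Set.mem_singleton _)
      exact this.symm
    rw [h3, mul_inv_cancel_right] at h2
    apply hz2
    nth_rewrite 2 [h2]
    exact mul_inv_cancel _
  · intro a haσ
    refine ⟨h.zpowers_le haσ, ?_⟩
    show a ∈ Subgroup.centralizer ({z} : Set G)
    rw [Subgroup.mem_centralizer_iff]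
    intro y hy
    rw [Set.mem_singleton_iff] at hy
    subst hy
    obtain ⟨i, rfl⟩ := Subgroup.mem_zpowers_iff.mp haσ
    obtain ⟨j, rfl⟩ := Subgroup.mem_zpowers_iff.mp hz
    rw [← zpow_add, add_comm, zpow_add]

end DihData

end Cfsg.Agent.Lib.H22.Dih
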