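import Cfsg.Agent.Lib.H22.DihGroupA

/-!
# Groups with dihedral Sylow 2-subgroups: centralizers of 2-elements have normal 2-complements
(helper22)
-/

set_option autoImplicit false

namespace Cfsg.Agent.Lib.H22.Dih

open Cfsg.Agent.Lib.L0 Cfsg.Agent.Lib.H10

variable {G : Type*} [Group G]

/-- In a group with dihedral Sylow 2-subgroups, odd-order elements normalizing a 2-subgroup `Q`
centralize it, unless `Q` is a Klein four group. -/
theorem odd_normalizer_centralizes [Finite G] (P : Sylow 2 G) (m : ℕ) [NeZero m]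
    (e : (P : Subgroup G) ≃* DihedralGroup m)
    (Q : Subgroup G) (hQ : IsPGroup 2 Q) (g : G) (hg : g ∈ Subgroup.normalizer (Q : Set G))
    (hodd : (orderOf g).Coprime 2)
    (hK : IsKleinFour Q → g ∈ Subgroup.centralizer (Q : Set G)) :
    g ∈ Subgroup.centralizer (Q : Set G) := by
  haveI : Fact (Nat.Prime 2) := ⟨Nat.prime_two⟩
  obtain ⟨P', hQP'⟩ := hQ.exists_le_sylow
  obtain ⟨x, hx⟩ := MulAction.exists_smul_eq G P P'
  subst hx
  let e' : ((x • P : Sylow 2 G) : Subgroup G) ≃* DihedralGroup m :=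
    (Sylow.equivSMul P x).symm.trans e
  obtain ⟨R₀, _, hcyc, h2, h3, _⟩ := exists_dihedral_rotation_subgroup _ m e'
  exact mem_centralizer_of_dihedralLike _ R₀ (x • P).2 hcyc h2 h3 Q hQP' g hg hodd hK

/-- An odd-order element normalizing a Klein four group and centralizing one of its involutions
centralizes it. -/
theorem klein_centralizes [Finite G] (Q : Subgroup G) (hQ : IsKleinFour Q) (z : G)
    (hzQ : z ∈ Q) (hz1 : z ≠ 1)
    (g : G) (hg : g ∈ Subgroup.normalizer (Q : Set G)) (hodd : (orderOf g).Coprime 2)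
    (hgz : g * z = z * g) : g ∈ Subgroup.centralizer (Q : Set G) := by
  have hsq : ∀ q ∈ Q, q * q = 1 := fun q hq =>
    congrArg Subtype.val (IsKleinFour.mul_self (⟨q, hq⟩ : Q))
  have hzz : z * z = 1 := hsq z hzQ
  have hzord : orderOf z = 2 := orderOf_eq_prime (by rw [pow_two]; exact hzz) hz1
  -- the subgroup ⟨z⟩ of Q has index 2
  set H' : Subgroup Q := (Subgroup.zpowers z).subgroupOf Q with hH'
  have hzle : Subgroup.zpowers z ≤ Q := by rw [Subgroup.zpowers_le]; exact hzQ
  have hcardH' : Nat.card H' = 2 := by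
    rw [hH', Nat.card_congr (Subgroup.subgroupOfEquivOfLe hzle).toEquiv, Nat.card_zpowers, hzord]
  have hidx : H'.index = 2 := by
    have h1 := Subgroup.card_mul_index H'
    rw [hcardH', hQ.card_four] at h1
    omega
  have hconjz : ∀ y ∈ Subgroup.zpowers z, g * y * g⁻¹ = y := by
    intro y hy
    obtain ⟨k, rfl⟩ := Subgroup.mem_zpowers_iff.mp hy
    have hc : Commute g z := hgz
    have := (hc.zpow_right k).eq
    rw [this, mul_inv_cancel_right]
  have hzcases : ∀ y ∈ Subgroup.zpowers z, y = 1 ∨ y = z := by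
    intro y hy
    obtain ⟨k, rfl⟩ := Subgroup.mem_zpowers_iff.mp hy
    rw [← zpow_mod_orderOf, hzord]
    have h3 : k % ((2 : ℕ) : ℤ) = 0 ∨ k % ((2 : ℕ) : ℤ) = 1 := by
      push_cast
      omega
    rcases h3 with h | h <;> rw [h] <;> simp
  rw [Subgroup.mem_centralizer_iff]
  intro q hq
  have hq' : g * q * g⁻¹ ∈ Q := (Subgroup.mem_normalizer_iff.mp hg q).mp hq
  -- q' * q ∈ ⟨z⟩
  have hmem : g * q * g⁻¹ * q ∈ Subgroup.zpowers z := by
    have h1 : (⟨g * q * g⁻¹, hq'⟩ : Q) * ⟨q, hq⟩ ∈ H' := by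
      rw [Subgroup.mul_mem_iff_of_index_two hidx]
      rw [hH', Subgroup.mem_subgroupOf, Subgroup.mem_subgroupOf]
      constructor
      · intro h
        have h2 := hconjz _ h
        have h3 : g⁻¹ * (g * q * g⁻¹) * g = q := by group
        have h4 : g * q * g⁻¹ = q := by
          have : g * (g * q * g⁻¹) * g⁻¹ = g * q * g⁻¹ := h2
          have h5 : g⁻¹ * (g * (g * q * g⁻¹) * g⁻¹) * g = g⁻¹ * (g * q * g⁻¹) * g := by rw [this]
          have h6 : g⁻¹ * (g * (g * q * g⁻¹) * g⁻¹) * g = g * q * g⁻¹ := by group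
          rw [h6, h3] at h5
          exact h5
        show q ∈ Subgroup.zpowers z
        rw [← h4]; exact h
      · intro h
        show g * q * g⁻¹ ∈ Subgroup.zpowers z
        rw [hconjz q h]; exact h
    simpa [hH', Subgroup.mem_subgroupOf] using h1
  rcases hzcases _ hmem with h | h
  · -- g q g⁻¹ q = 1
    have h1 : g * q * g⁻¹ = q⁻¹ := eq_inv_of_mul_eq_one_left h
    have h2 : q⁻¹ = q := inv_eq_of_mul_eq_one_right (hsq q hq)
    rw [h2] at h1
    have : g * q = q * g := by
      have h3 : g * q * g⁻¹ * g = q * g := by rw [h1]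
      rwa [inv_mul_cancel_right] at h3
    exact this.symm
  · exfalso
    have h2 : q⁻¹ = q := inv_eq_of_mul_eq_one_right (hsq q hq)
    have h1 : g * q * g⁻¹ = z * q := by
      have : g * q * g⁻¹ = z * q⁻¹ := by rw [← h]; group
      rw [this, h2]
    -- g² commutes with q
    have h3 : g ^ 2 * q * (g ^ 2)⁻¹ = q := by
      have : g ^ 2 * q * (g ^ 2)⁻¹ = g * (g * q * g⁻¹) * g⁻¹ := by rw [pow_two]; group
      rw [this, h1]
      have h4 : g * (z * q) * g⁻¹ = (g * z * g⁻¹) * (g * q * g⁻¹) := by group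
      rw [h4, h1, hconjz z (Subgroup.mem_zpowers z), ← mul_assoc, hzz, one_mul]
    have hc2 : Commute (g ^ 2) q := by
      have : g ^ 2 * q = q * g ^ 2 := by
        have h5 : g ^ 2 * q * (g ^ 2)⁻¹ * g ^ 2 = q * g ^ 2 := by rw [h3]
        rwa [inv_mul_cancel_right] at h5
      exact this
    have hoddg : Odd (orderOf g) := by
      rw [Nat.odd_iff]
      have := Nat.Coprime.eq_one_of_dvd hodd.symm
      by_contra hne
      have h0 : orderOf g % 2 = 0 := by omega
      have hd : 2 ∣ orderOf g := Nat.dvd_of_mod_eq_zero h0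
      have := Nat.eq_one_of_dvd_coprimes hodd hd (dvd_refl 2)
      omega
    obtain ⟨k, hk⟩ := hoddg
    have hg1 : g = (g ^ 2) ^ (k + 1) := by
      rw [← pow_mul]
      have : 2 * (k + 1) = orderOf g + 1 := by omega
      rw [this, pow_succ, pow_orderOf_eq_one, one_mul]
    have hc : Commute g q := by
      rw [hg1]; exact hc2.pow_left _
    have h6 : g * q * g⁻¹ = q := by rw [hc.eq, mul_inv_cancel_right]
    rw [h6] at h1
    apply hz1
    have : z * q = 1 * q := by rw [one_mul]; exact h1.symm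
    exact mul_right_cancel this

/-- In a group with dihedral Sylow 2-subgroups, the centralizer of a nontrivial 2-element
satisfies the Frobenius hypothesis. -/
theorem frobHyp_centralizer [Finite G] (P : Sylow 2 G) (m : ℕ) [NeZero m]
    (e : (P : Subgroup G) ≃* DihedralGroup m) (z : G) (hz1 : z ≠ 1)
    (hz : IsPGroup 2 (Subgroup.zpowers z)) :
    FrobHyp 2 (Subgroup.centralizer ({z} : Set G)) := by
  haveI : Fact (Nat.Prime 2) := ⟨Nat.prime_two⟩
  set H := Subgroup.centralizer ({z} : Set G) with hH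
  intro Q hQ g hg hcop
  have hcomm : ∀ x ∈ H, x * z = z * x := by
    intro x hx
    exact (Subgroup.mem_centralizer_iff.mp hx z (Set.mem_singleton z)).symm
  set QG : Subgroup G := Q.map H.subtype with hQG
  have hQGp : IsPGroup 2 QG := hQ.map _
  have hQGH : QG ≤ H := by
    rintro _ ⟨q, _, rfl⟩
    exact q.2
  have hgconj : ∀ x ∈ QG, (g : G) * x * (g : G)⁻¹ ∈ QG := by
    rintro _ ⟨q, hq, rfl⟩
    exact ⟨g * q * g⁻¹, (Subgroup.mem_normalizer_iff.mp hg q).mp hq, by simp⟩
  -- Q' = QG ⊔ ⟨z⟩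
  have hcent_le : H ≤ Subgroup.normalizer ((Subgroup.zpowers z : Subgroup G) : Set G) := by
    intro x hx
    apply mem_normalizer_of_forall_conj_mem
    intro y hy
    obtain ⟨k, rfl⟩ := Subgroup.mem_zpowers_iff.mp hy
    have hc : Commute x z := hcomm x hx
    rw [(hc.zpow_right k).eq, mul_inv_cancel_right]
    exact Subgroup.zpow_mem_zpowers z k
  set Q' : Subgroup G := QG ⊔ Subgroup.zpowers z with hQ'
  have hQ'p : IsPGroup 2 Q' := hQGp.to_sup_of_normal_right' hz (hQGH.trans hcent_le)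
  have hzQ' : z ∈ Q' := (le_sup_right : Subgroup.zpowers z ≤ Q') (Subgroup.mem_zpowers z)
  have hgz : (g : G) * z = z * (g : G) := hcomm g g.2
  have hgQ' : (g : G) ∈ Subgroup.normalizer (Q' : Set G) := by
    apply mem_normalizer_of_forall_conj_mem
    have hle : Q' ≤ Q'.comap (MulAut.conj (g : G)).toMonoidHom := by
      rw [hQ']
      apply sup_le
      · intro x hx
        rw [Subgroup.mem_comap]
        exact (le_sup_left : QG ≤ QG ⊔ Subgroup.zpowers z) (hgconj x hx)
      · rw [Subgroup.zpowers_le, Subgroup.mem_comap]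
        show (g : G) * z * (g : G)⁻¹ ∈ _
        rw [hgz, mul_inv_cancel_right]
        exact hzQ'
    intro x hx
    exact hle hx
  have hord : Nat.Coprime (orderOf (g : G)) 2 := by rwa [Subgroup.orderOf_coe]
  have hcent : (g : G) ∈ Subgroup.centralizer (Q' : Set G) :=
    odd_normalizer_centralizes P m e Q' hQ'p g hgQ' hord
      (fun hK => klein_centralizes Q' hK z hzQ' hz1 g hgQ' hord hgz)
  rw [Subgroup.mem_centralizer_iff] at hcent ⊢
  intro q hq
  apply Subtype.ext
  exact hcent (q : G) ((le_sup_left : QG ≤ Q') ⟨q, hq, rfl⟩)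

/-- Normal 2-complement in the centralizer of a nontrivial 2-element. -/
theorem exists_normal_complement_centralizer [Finite G] (P : Sylow 2 G) (m : ℕ) [NeZero m]
    (e : (P : Subgroup G) ≃* DihedralGroup m) (z : G) (hz1 : z ≠ 1)
    (hz : IsPGroup 2 (Subgroup.zpowers z)) :
    ∃ N : Subgroup (Subgroup.centralizer ({z} : Set G)), N.Normal ∧ ¬ 2 ∣ Nat.card N ∧
      N.index = 2 ^ (Nat.card (Subgroup.centralizer ({z} : Set G))).factorization 2 := by
  haveI : Fact (Nat.Prime 2) := ⟨Nat.prime_two⟩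
  obtain ⟨S, N, hN, hc⟩ := hasNormalPComplement_of_frobHyp (frobHyp_centralizer P m e z hz1 hz)
  refine ⟨N, hN, ?_, ?_⟩
  · rw [← hc.index_eq_card]
    exact S.not_dvd_index
  · rw [hc.symm.index_eq_card]
    exact S.card_eq_multiplicity

end Cfsg.Agent.Lib.H22.Dih
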