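import Cfsg.Agent.Lib.H22.DihGroupB

/-!
# Groups with dihedral Sylow 2-subgroups: fusion of rotations and orders of centralizers
(helper22)
-/

set_option autoImplicit false

namespace Cfsg.Agent.Lib.H22.Dih

open Cfsg.Agent.Lib.L0 Cfsg.Agent.Lib.H10

variable {G : Type*} [Group G]

/-- A conjugate of a `p`-element `z` lies in the Sylow subgroup `P` with `C_P` of that conjugate a
Sylow subgroup of its centralizer. -/
theorem exists_conj_sylow_centralizer [Finite G] {p : ℕ} [hp : Fact p.Prime] (P : Sylow p G)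
    (z : G) (hz : IsPGroup p (Subgroup.zpowers z)) :
    ∃ g : G, g * z * g⁻¹ ∈ (P : Subgroup G) ∧
      Nat.card ((P : Subgroup G) ⊓ Subgroup.centralizer ({g * z * g⁻¹} : Set G) : Subgroup G) =
        p ^ (Nat.card (Subgroup.centralizer ({z} : Set G))).factorization p := by
  set H := Subgroup.centralizer ({z} : Set G) with hH
  have hcomm : ∀ x ∈ H, x * z = z * x := by
    intro x hx
    exact (Subgroup.mem_centralizer_iff.mp hx z (Set.mem_singleton z)).symm
  have hzH : z ∈ H := by
    rw [hH, Subgroup.mem_centralizer_iff]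
    intro y hy
    rw [Set.mem_singleton_iff] at hy
    rw [hy]
  have hzp : IsPGroup p (Subgroup.zpowers (⟨z, hzH⟩ : H)) := by
    have h1 := hz.comap_of_injective H.subtype Subtype.coe_injective
    refine h1.to_le ?_
    rw [Subgroup.zpowers_le, Subgroup.mem_comap]
    exact Subgroup.mem_zpowers z
  obtain ⟨T₀, hT₀⟩ := hzp.exists_le_sylow
  set T : Subgroup G := (T₀ : Subgroup H).map H.subtype with hT
  have hTp : IsPGroup p T := T₀.2.map _
  have hzT : z ∈ T := ⟨⟨z, hzH⟩, hT₀ (Subgroup.mem_zpowers _), rfl⟩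
  have hTH : T ≤ H := by
    rintro _ ⟨t, _, rfl⟩
    exact t.2
  have hTcard : Nat.card T = p ^ (Nat.card H).factorization p := by
    rw [← T₀.card_eq_multiplicity]
    exact Nat.card_congr
      ((T₀ : Subgroup H).equivMapOfInjective H.subtype Subtype.coe_injective).symm.toEquiv
  obtain ⟨Q, hTQ⟩ := hTp.exists_le_sylow
  obtain ⟨g, hg⟩ := MulAction.exists_smul_eq G Q P
  have hconj : ∀ t ∈ T, g * t * g⁻¹ ∈ (P : Subgroup G) := by
    intro t ht
    rw [← hg, Sylow.coe_subgroup_smul, Subgroup.mem_pointwise_smul_iff_inv_smul_mem]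
    simpa [MulAut.smul_def, mul_assoc] using hTQ ht
  refine ⟨g, hconj z hzT, ?_⟩
  set z' := g * z * g⁻¹ with hz'
  set K : Subgroup G := (P : Subgroup G) ⊓ Subgroup.centralizer ({z'} : Set G) with hK
  have hKmem : ∀ t ∈ T, g * t * g⁻¹ ∈ K := by
    intro t ht
    refine ⟨hconj t ht, ?_⟩
    show g * t * g⁻¹ ∈ Subgroup.centralizer ({z'} : Set G)
    rw [Subgroup.mem_centralizer_iff]
    intro y hy
    rw [Set.mem_singleton_iff] at hy
    subst hy
    have h1 := hcomm t (hTH ht)
    rw [hz']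
    calc g * z * g⁻¹ * (g * t * g⁻¹) = g * (z * t) * g⁻¹ := by group
      _ = g * (t * z) * g⁻¹ := by rw [h1]
      _ = g * t * g⁻¹ * (g * z * g⁻¹) := by group
  have h1 : Nat.card T ≤ Nat.card K := by
    apply Nat.card_le_card_of_injective (fun t : T => (⟨g * t * g⁻¹, hKmem t t.2⟩ : K))
    intro a b hab
    have : g * (a : G) * g⁻¹ = g * (b : G) * g⁻¹ := congrArg Subtype.val hab
    apply Subtype.ext
    simpa using this
  have hKp : IsPGroup p K := P.2.to_le inf_le_left
  obtain ⟨a, ha⟩ := IsPGroup.iff_card.mp hKp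
  have hdvd : Nat.card K ∣ Nat.card H := by
    let f : K →* H := (((MulAut.conj g⁻¹).toMonoidHom).comp K.subtype).codRestrict H (by
      intro k
      show g⁻¹ * (k : G) * g⁻¹⁻¹ ∈ H
      rw [inv_inv, hH, Subgroup.mem_centralizer_iff]
      intro y hy
      rw [Set.mem_singleton_iff] at hy
      subst hy
      have hk : z' * (k : G) = (k : G) * z' :=
        Subgroup.mem_centralizer_iff.mp k.2.2 z' (Set.mem_singleton z')
      rw [hz'] at hk
      calc y * (g⁻¹ * (k : G) * g) = g⁻¹ * (g * y * g⁻¹ * (k : G)) * g := by group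
        _ = g⁻¹ * ((k : G) * (g * y * g⁻¹)) * g := by rw [hk]
        _ = g⁻¹ * (k : G) * g * y := by group)
    apply Subgroup.card_dvd_of_injective f
    intro x y hxy
    have h2 : g⁻¹ * (x : G) * g⁻¹⁻¹ = g⁻¹ * (y : G) * g⁻¹⁻¹ := congrArg Subtype.val hxy
    apply Subtype.ext
    simpa using h2
  have hHne : Nat.card H ≠ 0 := Nat.card_pos.ne'
  have hle : a ≤ (Nat.card H).factorization p := by
    rw [ha] at hdvd
    exact (hp.out.pow_dvd_iff_le_factorization hHne).mp hdvd
  have h2 : Nat.card K ≤ p ^ (Nat.card H).factorization p := by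
    rw [ha]
    exact Nat.pow_le_pow_right hp.out.pos hle
  rw [hTcard] at h1
  exact le_antisymm h2 h1

/-- In a finite cyclic group, `⟨x⟩` contains every element killed by the order of `x`. -/
theorem mem_zpowers_of_pow_orderOf_eq_one {C : Type*} [Group C] [Finite C] [IsCyclic C]
    (x y : C) (h : y ^ orderOf x = 1) : y ∈ Subgroup.zpowers x := by
  classical
  haveI := Fintype.ofFinite C
  have hd : 0 < orderOf x := orderOf_pos x
  have h1 : (Finset.univ.filter (fun a : C => a ^ orderOf x = 1)).card ≤ orderOf x := by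
    convert IsCyclic.card_pow_eq_one_le (α := C) hd
  set S := Finset.univ.filter (fun a : C => a ^ orderOf x = 1) with hS
  set T := (Subgroup.zpowers x : Set C).toFinset with hT
  have hTS : T ⊆ S := by
    intro a ha
    rw [hT, Set.mem_toFinset] at ha
    obtain ⟨k, rfl⟩ := Subgroup.mem_zpowers_iff.mp ha
    rw [hS, Finset.mem_filter]
    refine ⟨Finset.mem_univ _, ?_⟩
    rw [← zpow_natCast, ← zpow_mul, mul_comm, zpow_mul, zpow_natCast, pow_orderOf_eq_one, one_zpow]
  have hTcard : T.card = orderOf x := by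
    rw [hT, Set.toFinset_card, ← Nat.card_eq_fintype_card]
    exact Nat.card_zpowers x
  have hTS' : T = S := Finset.eq_of_subset_of_card_le hTS (by rw [hTcard]; exact h1)
  have hy : y ∈ S := by
    rw [hS, Finset.mem_filter]
    exact ⟨Finset.mem_univ _, h⟩
  rw [← hTS', hT, Set.mem_toFinset] at hy
  exact hy

theorem orderOf_conj_eq (g x : G) : orderOf (g * x * g⁻¹) = orderOf x := by
  have := (MulAut.conj g).orderOf_eq x
  simpa [MulAut.conj_apply] using this

/-- Two elements of `⟨σ⟩` that are conjugate in `G` are equal or inverse. -/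
theorem conj_zpowers_eq [Finite G] (P : Sylow 2 G) {σ : G} {m : ℕ}
    (h : DihData (P : Subgroup G) σ m) {x y g : G} (hx : x ∈ Subgroup.zpowers σ)
    (hy : y ∈ Subgroup.zpowers σ) (hxy : g * x * g⁻¹ = y) : y = x ∨ y = x⁻¹ := by
  haveI : Fact (Nat.Prime 2) := ⟨Nat.prime_two⟩
  have hord : orderOf y = orderOf x := by rw [← hxy]; exact orderOf_conj_eq g x
  have hyQ : y ∈ Subgroup.zpowers x := by
    have h1 : (⟨y, hy⟩ : Subgroup.zpowers σ) ∈ Subgroup.zpowers (⟨x, hx⟩ : Subgroup.zpowers σ) := by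
      apply mem_zpowers_of_pow_orderOf_eq_one
      apply Subtype.ext
      rw [Subgroup.orderOf_mk, ← hord]
      simp [pow_orderOf_eq_one]
    obtain ⟨k, hk⟩ := Subgroup.mem_zpowers_iff.mp h1
    rw [Subgroup.mem_zpowers_iff]
    refine ⟨k, ?_⟩
    have := congrArg Subtype.val hk
    simpa using this
  set Q := Subgroup.zpowers x with hQ
  have hxP : x ∈ (P : Subgroup G) := h.zpowers_le hx
  have hQP : Q ≤ (P : Subgroup G) := by rw [hQ, Subgroup.zpowers_le]; exact hxP
  have hgN : g ∈ Subgroup.normalizer (Q : Set G) := by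
    apply mem_normalizer_of_forall_conj_mem
    intro w hw
    obtain ⟨k, rfl⟩ := Subgroup.mem_zpowers_iff.mp hw
    have : g * x ^ k * g⁻¹ = (g * x * g⁻¹) ^ k := by rw [conj_zpow]
    rw [this, hxy]
    exact Subgroup.zpow_mem _ hyQ k
  have hPN : (P : Subgroup G) ≤ Subgroup.normalizer (Q : Set G) := by
    intro a ha
    apply mem_normalizer_of_forall_conj_mem
    intro w hw
    obtain ⟨k, rfl⟩ := Subgroup.mem_zpowers_iff.mp hw
    have h2 : a * x ^ k * a⁻¹ = (a * x * a⁻¹) ^ k := by rw [conj_zpow]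
    rw [h2]
    apply Subgroup.zpow_mem
    rcases h.conj_mem_zpowers ha hx with h3 | h3
    · rw [h3]; exact Subgroup.mem_zpowers x
    · rw [h3]; exact Subgroup.inv_mem _ (Subgroup.mem_zpowers x)
  have hT : Q ∈ sylNormFamily 2 (P : Subgroup G) := by
    refine ⟨hQP, ?_⟩
    rw [inf_eq_left.mpr hPN]
    intro hdvd
    exact P.not_dvd_index (dvd_trans hdvd (Subgroup.relIndex_dvd_index_of_le hPN))
  have hloc : ∀ g' ∈ Subgroup.normalizer (Q : Set G), Nat.Coprime (orderOf g') 2 →
      g' ∈ Subgroup.centralizer (Q : Set G) := fun g' hg' hc =>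
    mem_centralizer_of_cyclic_two_group Q (by rw [hQ]; infer_instance) (P.2.to_le hQP) hg' hc
  obtain ⟨u, hu, c, hc, hguc⟩ := normalizer_factor_of_local P Q hT hloc g hgN
  have hcx : c * x * c⁻¹ = x := by
    have h1 := Subgroup.mem_centralizer_iff.mp hc x (Subgroup.mem_zpowers x)
    rw [← h1, mul_inv_cancel_right]
  have hyu : y = u * x * u⁻¹ := by
    rw [← hxy, hguc]
    calc u * c * x * (u * c)⁻¹ = u * (c * x * c⁻¹) * u⁻¹ := by group
      _ = u * x * u⁻¹ := by rw [hcx]
  rw [hyu]
  exact h.conj_mem_zpowers hu.1 hx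

/-- `2`-part of the centralizer order of a rotation of order `> 2`. -/
theorem factorization_centralizer_of_sq_ne [Finite G] (P : Sylow 2 G) {σ : G} {m k : ℕ}
    (hmk : m = 2 ^ k) (h : DihData (P : Subgroup G) σ m) {z : G}
    (hz : z ∈ Subgroup.zpowers σ) (hz2 : z * z ≠ 1) :
    (Nat.card (Subgroup.centralizer ({z} : Set G))).factorization 2 = k := by
  haveI : Fact (Nat.Prime 2) := ⟨Nat.prime_two⟩
  have hzp : IsPGroup 2 (Subgroup.zpowers z) :=
    P.2.to_le (by rw [Subgroup.zpowers_le]; exact h.zpowers_le hz)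
  obtain ⟨g, hgP, hcard⟩ := exists_conj_sylow_centralizer P z hzp
  have hz'2 : g * z * g⁻¹ * (g * z * g⁻¹) ≠ 1 := by
    intro h1
    apply hz2
    have : g * (z * z) * g⁻¹ = 1 := by rw [← h1]; group
    have h2 : z * z = g⁻¹ * (g * (z * z) * g⁻¹) * g := by group
    rw [h2, this]; group
  have hz' := h.mem_zpowers_of_sq_ne hgP hz'2
  rw [h.inf_centralizer_eq hz' hz'2, Nat.card_zpowers, h.ord, hmk] at hcard
  exact (Nat.pow_right_injective (le_refl 2) hcard).symm

/-- `2`-part of the centralizer order of an element centralized by the Sylow subgroup. -/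
theorem factorization_centralizer_of_le [Finite G] (P : Sylow 2 G) {J : G}
    (hJ : (P : Subgroup G) ≤ Subgroup.centralizer ({J} : Set G)) :
    (Nat.card (Subgroup.centralizer ({J} : Set G))).factorization 2 =
      (Nat.card G).factorization 2 := by
  haveI : Fact (Nat.Prime 2) := ⟨Nat.prime_two⟩
  have hne : Nat.card (Subgroup.centralizer ({J} : Set G)) ≠ 0 := Nat.card_pos.ne'
  have hneG : Nat.card G ≠ 0 := Nat.card_pos.ne'
  apply le_antisymm
  · exact (Nat.factorization_le_iff_dvd hne hneG).mpr (Subgroup.card_subgroup_dvd_card _) 2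
  · have h1 : Nat.card (P : Subgroup G) ∣ Nat.card (Subgroup.centralizer ({J} : Set G)) :=
      Subgroup.card_dvd_of_le hJ
    rw [P.card_eq_multiplicity] at h1
    exact (Nat.prime_two.pow_dvd_iff_le_factorization hne).mp h1

end Cfsg.Agent.Lib.H22.Dih
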