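import Cfsg.Agent.Lib.H22.DihBlockF

/-!
# Brauer's order formula for dihedral Sylow 2-subgroups: character sums (helper22)
-/

set_option autoImplicit false

namespace Cfsg.Agent.Lib.H22.DihMain

open Cfsg Cfsg.Agent.Lib.H23 Cfsg.Agent.Lib.H22.Dih Cfsg.Agent.Lib.H22.DihZMod
  Cfsg.Agent.Lib.H22.DihFourier Cfsg.Agent.Lib.H22.DihBlock Cfsg.Agent.Lib.H22.DihLattice
open scoped ComplexConjugate

variable {G : Type*} [Group G] [Fintype G]
variable {M : Ideal AlgInt} {n m : ℕ} [NeZero m] {P : Sylow 2 G} {σ : G}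
variable [Fintype (IrrCharacter G)] [DecidablePred (· ∈ principalBlock M G)]
  [DecidableEq (IrrCharacter G)]

theorem half_mul_half (h4 : 4 ∣ m) : half m * half m = 0 := by
  unfold half
  rw [← Nat.cast_mul, ZMod.natCast_eq_zero_iff]
  obtain ⟨c, hc⟩ := h4
  refine ⟨c, ?_⟩
  have : m / 2 = 2 * c := by omega
  rw [this, hc]
  ring

theorem half_mul_two (hm : Even m) : half m * ((2 : ℕ) : ZMod m) = 0 := by
  have := half_add_half hm
  rw [Nat.cast_ofNat, mul_two]
  exact this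

namespace Shape

variable {e : AddChar (ZMod m) ℂ} (T : Shape M σ m e)

omit [Fintype (IrrCharacter G)] [DecidablePred (· ∈ principalBlock M G)] in
theorem val_χ₁ (h : Setup M n m P σ) (he : e.IsPrimitive) (l : ZMod m) (hl : l ≠ 0) :
    val σ T.χ₁ l = (T.s : ℂ) := by
  rw [T.val_special h he T.hχ₁ T.hχψ (fun j => (T.hΨne j).2.1.symm) _ hl,
    T.hUrep _ T.hχ₁, T.hVrep _ T.hχ₁, ind_self, ind_ne T.hχ1, ind_ne T.hχψ,
    ind_ne T.hβχ.symm, ind_ne T.hγχ.symm]
  push_cast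
  ring

omit [Fintype (IrrCharacter G)] [DecidablePred (· ∈ principalBlock M G)] in
theorem val_β (h : Setup M n m P σ) (he : e.IsPrimitive) (l : ZMod m) (hl : l ≠ 0) :
    val σ T.β l = (T.y₂ : ℂ) * e (half m * l) := by
  rw [T.val_special h he T.hβ T.hβψ (fun j => (T.hΨne j).2.2.2.1.symm) _ hl,
    T.hUrep _ T.hβ, T.hVrep _ T.hβ, ind_self, ind_ne T.hβ1, ind_ne T.hβχ, ind_ne T.hβψ,
    ind_ne T.hβγ]
  push_cast
  ring

omit [Fintype (IrrCharacter G)] [DecidablePred (· ∈ principalBlock M G)] in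
theorem val_γ (h : Setup M n m P σ) (he : e.IsPrimitive) (l : ZMod m) (hl : l ≠ 0) :
    val σ T.γ l = (T.y₃ : ℂ) * e (half m * l) := by
  rw [T.val_special h he T.hγ T.hγψ (fun j => (T.hΨne j).2.2.2.2.symm) _ hl,
    T.hUrep _ T.hγ, T.hVrep _ T.hγ, ind_self, ind_ne T.hγ1, ind_ne T.hγχ, ind_ne T.hγψ,
    ind_ne T.hβγ.symm]
  push_cast
  ring

omit [Fintype G] in
theorem e_sq_half (hm : Even m) (e : AddChar (ZMod m) ℂ) (a : ZMod m) :
    e (a * half m) * e (a * half m) = 1 := by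
  rw [← AddChar.map_add_eq_mul, ← mul_add, half_add_half hm, mul_zero, AddChar.map_zero_eq_one]

/-- The characters of even degree take values `±2` at the central involution and all have the
same degree. -/
theorem rest_props (h : Setup M n m P σ) (he : e.IsPrimitive) {χ : IrrCharacter G}
    (hχ : χ ∈ principalBlock M G) (hc1 : χ ≠ Cfsg.Agent.Lib.H24.trivialIrr G) (hcχ : χ ≠ T.χ₁)
    (hcβ : χ ≠ T.β) (hcγ : χ ≠ T.γ) :
    val σ χ (half m) * val σ χ (half m) = 4 ∧ (χ : G → ℂ) 1 = (T.ψ₁ : G → ℂ) 1 := by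
  have hev := h.even
  have hh0 : half m ≠ 0 := half_ne_zero hev
  have hs2 : (T.s : ℂ) * (T.s : ℂ) = 1 := by
    rcases T.hs with h' | h' <;> rw [h'] <;> norm_num
  have key : ∀ a : ZMod m, ((T.s : ℂ) * (e (a * half m) + e (-(a * half m)))) *
      ((T.s : ℂ) * (e (a * half m) + e (-(a * half m)))) = 4 := by
    intro a
    have h1 := e_sq_half hev e a
    have h2 : e (-(a * half m)) = e (a * half m) := by
      rw [AddChar.map_neg_eq_inv]
      exact inv_eq_of_mul_eq_one_right h1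
    rw [h2]
    linear_combination (4 * (e (a * half m) * e (a * half m))) * hs2 + 4 * h1
  obtain ⟨_, _, h3⟩ := T.odd_relations h he 1 (by rw [orderOf_one]; exact odd_one)
  rcases T.listed h he hχ with h' | h' | h' | h' | h' | ⟨j, h'⟩
  · exact absurd h' hc1
  · exact absurd h' hcχ
  · exact absurd h' hcβ
  · exact absurd h' hcγ
  · rw [h']
    refine ⟨?_, rfl⟩
    rw [T.val_ψ₁ h he _ hh0]
    have := key 1
    rw [one_mul] at this
    exact this
  · rw [h']
    refine ⟨?_, h3 j⟩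
    rw [T.val_Ψ h he j _ hh0]
    exact key j.1

/-- **The block sums.** -/
theorem block_sums (h : Setup M n m P σ) (he : e.IsPrimitive) (hehalf : e (half m) = -1) :
    (∑ χ ∈ Finset.univ.filter (· ∈ principalBlock M G),
        val σ χ (half m) * val σ χ (half m) * val σ χ (half m) / (χ : G → ℂ) 1) +
      (∑ χ ∈ Finset.univ.filter (· ∈ principalBlock M G),
        val σ χ (half m) * val σ χ (half m) * val σ χ (1 : ZMod m) / (χ : G → ℂ) 1) =
      2 * ((T.χ₁ : G → ℂ) 1 - T.s) ^ 2 / ((T.χ₁ : G → ℂ) 1 * ((T.χ₁ : G → ℂ) 1 + T.s)) ∧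
    (T.χ₁ : G → ℂ) 1 + T.s = (T.ψ₁ : G → ℂ) 1 := by
  classical
  haveI hPr := isPrime_of_isPModular h.hM
  have hev := h.even
  have hm4 := h.four_le
  have h4dvd : 4 ∣ m := by
    rw [h.hm]
    have hn := h.hn
    have : n - 1 = 2 + (n - 3) := by omega
    rw [this, pow_add]
    exact ⟨2 ^ (n - 3), by norm_num⟩
  have hh0 : half m ≠ 0 := half_ne_zero hev
  have h10 : (1 : ZMod m) ≠ 0 := (zmod_zero_ne_one (m := m) (by omega)).symm
  set S : Finset (IrrCharacter G) := Finset.univ.filter (· ∈ principalBlock M G) with hS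
  have hmemS : ∀ χ, χ ∈ S ↔ χ ∈ principalBlock M G := by
    intro χ
    rw [hS, Finset.mem_filter]
    simp
  set one := Cfsg.Agent.Lib.H24.trivialIrr G with hone
  set T4 : Finset (IrrCharacter G) := {one, T.χ₁, T.β, T.γ} with hT4
  have hT4S : T4 ⊆ S := by
    intro χ hχ
    rw [hT4] at hχ
    simp only [Finset.mem_insert, Finset.mem_singleton] at hχ
    rw [hmemS]
    rcases hχ with h' | h' | h' | h' <;> rw [h']
    · exact trivialIrr_mem_principalBlock
    · exact T.hχ₁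
    · exact T.hβ
    · exact T.hγ
  have hsumT4 : ∀ g : IrrCharacter G → ℂ, ∑ χ ∈ T4, g χ = g one + g T.χ₁ + g T.β + g T.γ := by
    intro g
    rw [hT4, Finset.sum_insert, Finset.sum_insert, Finset.sum_insert, Finset.sum_singleton]
    · ring
    · simp only [Finset.mem_singleton]
      exact T.hβγ
    · simp only [Finset.mem_insert, Finset.mem_singleton, not_or]
      exact ⟨T.hβχ.symm, T.hγχ.symm⟩
    · simp only [Finset.mem_insert, Finset.mem_singleton, not_or]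
      exact ⟨T.hχ1.symm, T.hβ1.symm, T.hγ1.symm⟩
  have hsplit : ∀ g : IrrCharacter G → ℂ,
      ∑ χ ∈ S, g χ = g one + g T.χ₁ + g T.β + g T.γ + ∑ χ ∈ S \ T4, g χ := by
    intro g
    rw [← Finset.sum_sdiff hT4S, hsumT4 g]
    ring
  have hrest : ∀ χ ∈ S \ T4,
      val σ χ (half m) * val σ χ (half m) = 4 ∧ (χ : G → ℂ) 1 = (T.ψ₁ : G → ℂ) 1 := by
    intro χ hχ
    rw [Finset.mem_sdiff, hmemS, hT4] at hχ
    simp only [Finset.mem_insert, Finset.mem_singleton, not_or] at hχ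
    exact T.rest_props h he hχ.1 hχ.2.1 hχ.2.2.1 hχ.2.2.2.1 hχ.2.2.2.2
  -- values
  have hone_val : ∀ l : ZMod m, val σ one l = 1 := fun l => rfl
  have hone1 : (one : G → ℂ) 1 = 1 := rfl
  have hehh : e (half m * half m) = 1 := by
    rw [half_mul_half h4dvd, AddChar.map_zero_eq_one]
  have heh1 : e (half m * 1) = -1 := by rw [mul_one, hehalf]
  have hχJ := T.val_χ₁ h he (half m) hh0
  have hχσ := T.val_χ₁ h he 1 h10
  have hβJ : val σ T.β (half m) = T.y₂ := by rw [T.val_β h he _ hh0, hehh, mul_one]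
  have hβσ : val σ T.β (1 : ZMod m) = -T.y₂ := by rw [T.val_β h he _ h10, heh1]; ring
  have hγJ : val σ T.γ (half m) = T.y₃ := by rw [T.val_γ h he _ hh0, hehh, mul_one]
  have hγσ : val σ T.γ (1 : ZMod m) = -T.y₃ := by rw [T.val_γ h he _ h10, heh1]; ring
  -- relations
  obtain ⟨r1, r2, _⟩ := T.odd_relations h he 1 (by rw [orderOf_one]; exact odd_one)
  set x₁ := (T.χ₁ : G → ℂ) 1 with hx₁
  set x' := (T.ψ₁ : G → ℂ) 1 with hx'
  set b := (T.β : G → ℂ) 1 with hb
  set c := (T.γ : G → ℂ) 1 with hc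
  have hx₁0 : x₁ ≠ 0 := Cfsg.Agent.Lib.H24.irr_one_ne_zero T.χ₁
  have hx'0 : x' ≠ 0 := Cfsg.Agent.Lib.H24.irr_one_ne_zero T.ψ₁
  have hs2 : (T.s : ℂ) * (T.s : ℂ) = 1 := by
    rcases T.hs with h' | h' <;> rw [h'] <;> norm_num
  have hxx : x₁ + T.s = x' := by
    linear_combination (T.s : ℂ) * r1 + (x' - x₁) * hs2
  set sJ := ∑ χ ∈ S \ T4, val σ χ (half m) with hsJ
  set sσ := ∑ χ ∈ S \ T4, val σ χ (1 : ZMod m) with hsσ
  -- orthogonality
  have o1 := h.orth (half m) 0 hh0.symm (by rw [neg_half hev]; exact hh0.symm)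
  have o2 := h.orth 1 0 h10.symm (by
    intro h'
    have : (1 : ZMod m) = 0 := by
      have := congrArg Neg.neg h'
      rw [neg_neg, neg_zero] at this
      exact this.symm
    exact h10 this)
  have hval0 : ∀ χ : IrrCharacter G, val σ χ (0 : ZMod m) = (χ : G → ℂ) 1 :=
    fun χ => Setup.val_zero_eq χ
  rw [← hS, hsplit] at o1 o2
  simp only [hval0] at o1 o2
  have hr1 : ∑ χ ∈ S \ T4, val σ χ (half m) * (χ : G → ℂ) 1 = sJ * x' := by
    rw [hsJ, Finset.sum_mul]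
    exact Finset.sum_congr rfl (fun χ hχ => by rw [(hrest χ hχ).2])
  have hr2 : ∑ χ ∈ S \ T4, val σ χ (1 : ZMod m) * (χ : G → ℂ) 1 = sσ * x' := by
    rw [hsσ, Finset.sum_mul]
    exact Finset.sum_congr rfl (fun χ hχ => by rw [(hrest χ hχ).2])
  rw [hr1, hone_val, hone1, hχJ, hβJ, hγJ] at o1
  rw [hr2, hone_val, hone1, hχσ, hβσ, hγσ] at o2
  have hsJv : sJ = -2 * T.s := by
    have : x' * (sJ + 2 * T.s) = 0 := by
      linear_combination o1 - r1 + r2
    rcases mul_eq_zero.1 this with h' | h'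
    · exact absurd h' hx'0
    · linear_combination h'
  have hsσv : sσ = 0 := by
    have : x' * sσ = 0 := by
      linear_combination o2 - r1 - r2
    rcases mul_eq_zero.1 this with h' | h'
    · exact absurd h' hx'0
    · exact h'
  refine ⟨?_, hxx⟩
  rw [hsplit, hsplit]
  have hA : ∑ χ ∈ S \ T4, val σ χ (half m) * val σ χ (half m) * val σ χ (half m) /
      (χ : G → ℂ) 1 = 4 * sJ / x' := by
    rw [hsJ, Finset.mul_sum, Finset.sum_div]
    exact Finset.sum_congr rfl (fun χ hχ => by rw [(hrest χ hχ).1, (hrest χ hχ).2])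
  have hB : ∑ χ ∈ S \ T4, val σ χ (half m) * val σ χ (half m) * val σ χ (1 : ZMod m) /
      (χ : G → ℂ) 1 = 4 * sσ / x' := by
    rw [hsσ, Finset.mul_sum, Finset.sum_div]
    exact Finset.sum_congr rfl (fun χ hχ => by rw [(hrest χ hχ).1, (hrest χ hχ).2])
  rw [hA, hB, hone_val, hone_val, hone1, hχJ, hχσ, hβJ, hβσ, hγJ, hγσ, hsJv, hsσv, ← hxx, ← hx₁]
  have hxs : x₁ + (T.s : ℂ) ≠ 0 := by rw [hxx]; exact hx'0
  rcases T.hs with h' | h'
  · rw [h'] at hxs ⊢
    push_cast at hxs ⊢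
    trans (2 + 2 / x₁ - 8 / (x₁ + 1))
    · ring
    · field_simp
      ring
  · rw [h'] at hxs ⊢
    push_cast at hxs ⊢
    have hxs' : x₁ - 1 ≠ 0 := by
      intro h0
      apply hxs
      linear_combination h0
    trans (2 - 2 / x₁ + 8 / (x₁ - 1))
    · ring
    · field_simp
      ring

/-- Identification of `χ₁` by its constant value on `⟨σ⟩ \ 1`. -/
theorem eq_χ₁_of_const (h : Setup M n m P σ) (he : e.IsPrimitive) (hehalf : e (half m) = -1)
    {χ : IrrCharacter G} (hχ : χ ∈ principalBlock M G)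
    (hχ1 : χ ≠ Cfsg.Agent.Lib.H24.trivialIrr G) (d : ℂ) (hd : d * d = 1)
    (hv1 : val σ χ (1 : ZMod m) = d) (hv2 : val σ χ ((2 : ℕ) : ZMod m) = d) (hvh : val σ χ (half m) = d) :
    χ = T.χ₁ ∧ d = T.s := by
  have hev := h.even
  have hm4 := h.four_le
  have h10 : (1 : ZMod m) ≠ 0 := (zmod_zero_ne_one (m := m) (by omega)).symm
  have h20 : ((2 : ℕ) : ZMod m) ≠ 0 := natCast_ne_zero (by omega) (by omega)
  have hcases : ∀ (ψ : IrrCharacter G) (y : ℤ), (y = 1 ∨ y = -1) →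
      (∀ l : ZMod m, l ≠ 0 → val σ ψ l = (y : ℂ) * e (half m * l)) → χ ≠ ψ := by
    intro ψ y hy hψ hχψ
    rw [hχψ, hψ 1 h10, mul_one, hehalf] at hv1
    rw [hχψ, hψ _ h20, half_mul_two hev, AddChar.map_zero_eq_one, mul_one] at hv2
    have : (y : ℂ) = 0 := by linear_combination (hv2 - hv1) / 2
    rcases hy with h' | h' <;> rw [h'] at this <;> norm_num at this
  by_cases hcχ : χ = T.χ₁
  · refine ⟨hcχ, ?_⟩
    rw [← hv1, hcχ, T.val_χ₁ h he 1 h10]
  · exfalso
    have hcβ := hcases T.β T.y₂ T.hy₂ (T.val_β h he)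
    have hcγ := hcases T.γ T.y₃ T.hy₃ (T.val_γ h he)
    have h4 := (T.rest_props h he hχ hχ1 hcχ hcβ hcγ).1
    rw [hvh, hd] at h4
    norm_num at h4

end Shape

end Cfsg.Agent.Lib.H22.DihMain
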