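import Mathlib
import Cfsg.Agent.Lib.H22.KleinGroup
import Cfsg.Agent.Lib.H23.BlockPrincipalLocal
import Cfsg.Agent.Lib.H23.BlockVanishP
import Cfsg.Agent.Lib.H23.ClassProduct
import Cfsg.Agent.Lib.H23.BlockVanish
import Cfsg.Agent.Lib.L0.BlockPReg
import Cfsg.Agent.Lib.L0.BlockKer
import Cfsg.Agent.Lib.H23.DegreeDvd

/-!
# Brauer's order formula for groups with Klein four Sylow 2-subgroups: block part (helper22)

* `mem_principalBlock_iff`, `blockCoeff_principal`: the principal block of a group with a normal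
  `p`-complement `K` is `Irr(H/K)`, its idempotent is the average over `K`;
* `sum_coset`: for an involution `J` whose centralizer has normal 2-complement `K`,
  `∑_{k ∈ K} χ(kJ) = |K| χ(J)` for `χ ∈ B₀(G)` and `0` otherwise (second + third main theorems);
* `master`: the class multiplication count over the coset `JK` as a sum over `B₀(G)`.
-/

set_option autoImplicit false

namespace Cfsg.Agent.Lib.H22.KleinOrder

open Cfsg MonoidAlgebra Cfsg.Agent.Lib.H23 Cfsg.Agent.Lib.H24 Cfsg.Agent.Lib.L0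
  Cfsg.Agent.Lib.L0.BlockKer Cfsg.Agent.Lib.L0.BlockPReg Cfsg.Agent.Lib.H22.KleinGroup
open scoped ComplexConjugate

section NormalComplement

variable {H : Type*} [Group H] [Fintype H] {p : ℕ} {M : Ideal AlgInt}

omit [Fintype H] in
/-- `p`-regular elements lie in every normal subgroup of `p`-power index. -/
theorem mem_of_pRegular (hp : p.Prime) (K : Subgroup H) [K.Normal] {e : ℕ}
    (hidx : K.index = p ^ e) {k : H} (hk : ¬ p ∣ orderOf k) : k ∈ K := by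
  have h1 : orderOf (QuotientGroup.mk' K k) ∣ orderOf k := orderOf_map_dvd (QuotientGroup.mk' K) k
  have h2 : orderOf (QuotientGroup.mk' K k) ∣ p ^ e := by
    rw [← hidx, Subgroup.index_eq_card]
    exact orderOf_dvd_natCard _
  obtain ⟨m, _, hm⟩ := (Nat.dvd_prime_pow hp).1 h2
  have hm0 : m = 0 := by
    by_contra hne
    apply hk
    have : p ∣ orderOf (QuotientGroup.mk' K k) := by rw [hm]; exact dvd_pow_self p hne
    exact this.trans h1
  rw [hm0, pow_zero, orderOf_eq_one_iff] at hm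
  exact (QuotientGroup.eq_one_iff k).1 hm

theorem mem_principalBlock_iff (hM : IsPModular p M) (K : Subgroup H) [K.Normal]
    (hK : ¬ p ∣ Nat.card K) {e : ℕ} (hidx : K.index = p ^ e) (ξ : IrrCharacter H) :
    ξ ∈ principalBlock M H ↔ ∀ n ∈ K, (ξ : H → ℂ) n = (ξ : H → ℂ) 1 := by
  haveI hPr := isPrime_of_isPModular hM
  constructor
  · intro hξ
    exact principalBlock_ker hM K hK ξ hξ
  · intro hker
    have h1 : SameBlock M ((trivialIrr H : IrrCharacter H) : H → ℂ) (ξ : H → ℂ) := by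
      refine sameBlock_of_pRegular hM (trivialIrr H) ξ ?_
      intro g hg
      have hgK : g ∈ K := mem_of_pRegular hM.1 K hidx hg
      have h0 : centralChar ((trivialIrr H : IrrCharacter H) : H → ℂ) g -
          centralChar (ξ : H → ℂ) g = 0 := by
        unfold centralChar
        rw [hker g hgK, trivialIrr_apply, trivialIrr_apply, mul_one, div_one, mul_div_assoc,
          div_self (irr_one_ne_zero ξ), mul_one, sub_self]
      rw [h0]
      exact memLocalIdeal_zero hPr.ne_top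
    exact h1

open scoped Classical in
theorem blockCoeff_principal (hM : IsPModular p M) (K : Subgroup H) [K.Normal]
    (hK : ¬ p ∣ Nat.card K) {e : ℕ} (hidx : K.index = p ^ e) (k : H) :
    blockCoeff (principalBlock M H) k = if k ∈ K then (Nat.card K : ℂ)⁻¹ else 0 := by
  have h1 : blockIdem (principalBlock M H) = avg K := by
    refine eq_of_forall_omega_eq (blockIdem_mem_center _) (avg_mem_center K) ?_
    intro ξ
    rw [omega_blockIdem]
    rcases omega_avg ξ K with ⟨hker, h2⟩ | ⟨hker, h2⟩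
    · rw [h2, if_pos ((mem_principalBlock_iff hM K hK hidx ξ).2 hker)]
    · rw [h2, if_neg (fun hmem => hker ((mem_principalBlock_iff hM K hK hidx ξ).1 hmem))]
  have h2 := congrArg (fun z : MonoidAlgebra ℂ H => z.coeff k) h1
  simp only [coeff_blockIdem] at h2
  rw [h2]
  simp only [avg, coeff_ofFun]

end NormalComplement

section Main

variable {G : Type*} [Group G] [Fintype G] {M : Ideal AlgInt}

open scoped Classical in
theorem sum_coset (hM : IsPModular 2 M) {J : G} (hJ2 : orderOf J = 2)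
    [Fintype ↥(Subgroup.centralizer ({J} : Set G))]
    (K : Subgroup ↥(Subgroup.centralizer ({J} : Set G))) [K.Normal] (hK : Odd (Nat.card K))
    (hcard : 4 * Nat.card K = Nat.card ↥(Subgroup.centralizer ({J} : Set G)))
    (χ : IrrCharacter G) :
    ∑ k : ↥(Subgroup.centralizer ({J} : Set G)),
        (if k ∈ K then (χ : G → ℂ) ((k : G) * J) else 0) =
      if χ ∈ principalBlock M G then (Nat.card K : ℂ) * (χ : G → ℂ) J else 0 := by
  haveI hPr := isPrime_of_isPModular hM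
  have hJH : J ∈ Subgroup.centralizer ({J} : Set G) := Subgroup.mem_centralizer_singleton_iff.2 rfl
  have hidx : K.index = 2 ^ 2 := by
    have h1 := K.card_mul_index
    rw [← hcard] at h1
    have hpos : 0 < Nat.card K := Nat.card_pos
    have : K.index = 4 := Nat.eq_of_mul_eq_mul_left hpos (by rw [h1, mul_comm])
    rw [this]; norm_num
  have hK2 : ¬ 2 ∣ Nat.card K := hK.not_two_dvd_nat
  have hx : ∃ k : ℕ, orderOf J = 2 ^ k := ⟨1, by rw [hJ2, pow_one]⟩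
  have hKne : (Nat.card K : ℂ) ≠ 0 := by exact_mod_cast (Nat.card_pos (α := K)).ne'
  have hsum : ∑ k : ↥(Subgroup.centralizer ({J} : Set G)),
      blockCoeff (principalBlock M ↥(Subgroup.centralizer ({J} : Set G))) k *
        (χ : G → ℂ) ((k : G) * J) =
      (Nat.card K : ℂ)⁻¹ * ∑ k : ↥(Subgroup.centralizer ({J} : Set G)),
        (if k ∈ K then (χ : G → ℂ) ((k : G) * J) else 0) := by
    rw [Finset.mul_sum]
    refine Finset.sum_congr rfl fun k _ => ?_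
    rw [blockCoeff_principal hM K hK2 hidx k]
    split_ifs <;> simp
  have hCcond : ∀ z : G, IsPPart 2 ((⟨J, hJH⟩ : ↥(Subgroup.centralizer ({J} : Set G))) : G) z →
      Subgroup.centralizer ({z} : Set G) ≤ Subgroup.centralizer ({J} : Set G) := by
    intro z hz
    have hJpart : IsPPart 2 J J := ⟨1, mul_one J, Commute.one_right J, hx, by simp⟩
    have : J = z := IsPPart.unique Nat.prime_two hJpart hz
    rw [← this]
  by_cases hχ : χ ∈ principalBlock M G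
  · rw [if_pos hχ]
    have h1 := principal_local hM (Subgroup.zpowers J) (zpowers_isPGroup hx)
      (Subgroup.centralizer ({J} : Set G)) (zpowers_le_centralizer_self J)
      (le_of_eq (centralizer_zpowers_eq J)) (centralizer_le_normalizer_zpowers J) χ hχ
      ⟨J, hJH⟩ hCcond
    simp only [Subgroup.coe_mk] at h1
    rw [hsum] at h1
    rw [h1, ← mul_assoc, mul_inv_cancel₀ hKne, one_mul]
  · rw [if_neg hχ]
    obtain ⟨χ₁, hind⟩ := exists_isInducedBlock_centralizer hM hx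
      (trivialIrr ↥(Subgroup.centralizer ({J} : Set G)))
    have hB : blockOf M (χ₁ : G → ℂ) = principalBlock M G :=
      (third_main hM (Subgroup.centralizer ({J} : Set G)) hind).2 rfl
    rw [hB] at hind
    have h1 := second_main (Subgroup.centralizer ({J} : Set G)) hM hind ⟨J, hJH⟩ hCcond χ hχ
    simp only [Subgroup.coe_mk] at h1
    change ∑ k : ↥(Subgroup.centralizer ({J} : Set G)),
      blockCoeff (principalBlock M ↥(Subgroup.centralizer ({J} : Set G))) k *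
        (χ : G → ℂ) ((k : G) * J) = 0 at h1
    rw [hsum] at h1
    exact (mul_eq_zero.1 h1).resolve_left (inv_ne_zero hKne)

open scoped Classical in
theorem master (hM : IsPModular 2 M) {J : G} (hJ2 : orderOf J = 2)
    [Fintype ↥(Subgroup.centralizer ({J} : Set G))] [Fintype (IrrCharacter G)]
    (K : Subgroup ↥(Subgroup.centralizer ({J} : Set G))) [K.Normal] (hK : Odd (Nat.card K))
    (hcard : 4 * Nat.card K = Nat.card ↥(Subgroup.centralizer ({J} : Set G))) :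
    (KData.pairCount J K : ℂ) = (Nat.card G : ℂ) * (Nat.card K : ℂ) *
      ∑ χ : IrrCharacter G, (if χ ∈ principalBlock M G then
        (χ : G → ℂ) J ^ 3 / (χ : G → ℂ) 1 else 0) := by
  have hJJ : J * J = 1 := by rw [← pow_two, ← hJ2, pow_orderOf_eq_one]
  have hJinv : J⁻¹ = J := inv_eq_of_mul_eq_one_right hJJ
  have hinner : ∀ χ : IrrCharacter G, ∑ k : ↥(Subgroup.centralizer ({J} : Set G)),
      (if k ∈ K then (χ : G → ℂ) ((k : G) * J)⁻¹ else 0) =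
      if χ ∈ principalBlock M G then (Nat.card K : ℂ) * (χ : G → ℂ) J else 0 := by
    intro χ
    rw [← sum_coset hM hJ2 K hK hcard χ]
    refine Fintype.sum_equiv (Equiv.inv ↥(Subgroup.centralizer ({J} : Set G))) _ _ fun k => ?_
    simp only [Equiv.inv_apply]
    have hk : (k : G)⁻¹ * J = J * (k : G)⁻¹ :=
      Subgroup.mem_centralizer_singleton_iff.1 (k⁻¹).2
    have e : ((k : G) * J)⁻¹ = ((k⁻¹ : ↥(Subgroup.centralizer ({J} : Set G))) : G) * J := by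
      rw [Subgroup.coe_inv, mul_inv_rev, hJinv, hk]
    rw [e]
    by_cases h : k ∈ K
    · rw [if_pos h, if_pos (K.inv_mem h)]
    · rw [if_neg h, if_neg (fun h' => h (by simpa using K.inv_mem h'))]
  have hk : ∀ k : ↥(Subgroup.centralizer ({J} : Set G)),
      (∑ s : G, ∑ t : G, if (s * J * s⁻¹) * (t * J * t⁻¹) = (k : G) * J then (1 : ℂ) else 0) =
        (Nat.card G : ℂ) * ∑ χ : IrrCharacter G,
          (χ : G → ℂ) J * (χ : G → ℂ) J * (χ : G → ℂ) ((k : G) * J)⁻¹ / (χ : G → ℂ) 1 :=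
    fun k => sum_sum_ite_conj_mul_eq J J ((k : G) * J)
  unfold KData.pairCount
  push_cast
  have step1 : ∀ k : ↥(Subgroup.centralizer ({J} : Set G)),
      (if k ∈ K then ∑ s : G, ∑ t : G,
        (if (s * J * s⁻¹) * (t * J * t⁻¹) = (k : G) * J then (1 : ℂ) else 0) else 0) =
      (Nat.card G : ℂ) * ∑ χ : IrrCharacter G, ((χ : G → ℂ) J * (χ : G → ℂ) J / (χ : G → ℂ) 1) *
        (if k ∈ K then (χ : G → ℂ) ((k : G) * J)⁻¹ else 0) := by
    intro k
    split_ifs with h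
    · rw [hk k]
      congr 1
      refine Finset.sum_congr rfl fun χ _ => ?_
      ring
    · simp
  rw [Finset.sum_congr rfl fun k _ => step1 k, ← Finset.mul_sum, Finset.sum_comm, mul_assoc]
  congr 1
  rw [Finset.mul_sum]
  refine Finset.sum_congr rfl fun χ _ => ?_
  rw [← Finset.mul_sum, hinner χ]
  split_ifs
  · ring
  · ring

theorem sum_block_four [Fintype (IrrCharacter G)] {B : Set (IrrCharacter G)}
    [DecidablePred (· ∈ B)] {χ₁ χ₂ χ₃ : IrrCharacter G}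
    (hB : B = {χ : IrrCharacter G | (χ : G → ℂ) = (fun _ => 1) ∨ χ = χ₁ ∨ χ = χ₂ ∨ χ = χ₃})
    (hdist : (χ₁ : G → ℂ) ≠ (fun _ => 1) ∧ (χ₂ : G → ℂ) ≠ (fun _ => 1) ∧
      (χ₃ : G → ℂ) ≠ (fun _ => 1) ∧ χ₁ ≠ χ₂ ∧ χ₁ ≠ χ₃ ∧ χ₂ ≠ χ₃) (f : IrrCharacter G → ℂ) :
    ∑ χ : IrrCharacter G, (if χ ∈ B then f χ else 0) =
      f (trivialIrr G) + f χ₁ + f χ₂ + f χ₃ := by
  classical
  obtain ⟨h1, h2, h3, h12, h13, h23⟩ := hdist
  have ht : ∀ χ : IrrCharacter G, (χ : G → ℂ) = (fun _ => 1) ↔ χ = trivialIrr G := by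
    intro χ
    constructor
    · intro h; exact Subtype.ext h
    · intro h; rw [h]; rfl
  have hfilter : (Finset.univ.filter (fun χ : IrrCharacter G => χ ∈ B)) =
      {trivialIrr G, χ₁, χ₂, χ₃} := by
    ext χ
    simp only [Finset.mem_filter, Finset.mem_univ, true_and, Finset.mem_insert,
      Finset.mem_singleton]
    rw [hB, Set.mem_setOf_eq, ht]
  rw [← Finset.sum_filter, hfilter]
  rw [Finset.sum_insert, Finset.sum_insert, Finset.sum_insert, Finset.sum_singleton]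
  · ring
  · simp [h23]
  · simp [h12, h13]
  · simp only [Finset.mem_insert, Finset.mem_singleton, not_or]
    exact ⟨fun h => h1 ((ht χ₁).2 h.symm), fun h => h2 ((ht χ₂).2 h.symm),
      fun h => h3 ((ht χ₃).2 h.symm)⟩

/-- The arithmetic behind the order formula. -/
theorem arith (g cJ cP k W x₁ x₂ x₃ : ℕ) (ε₁ ε₂ ε₃ : ℤ) (hε₁ : ε₁ = 1 ∨ ε₁ = -1)
    (hε₂ : ε₂ = 1 ∨ ε₂ = -1) (hε₃ : ε₃ = 1 ∨ ε₃ = -1) (hx₁ : x₁ ≠ 0) (hx₂ : x₂ ≠ 0)
    (hx₃ : x₃ ≠ 0) (hcJ : cJ ≠ 0) (hcP : cP ≠ 0) (hk : 4 * k = cJ)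
    (hcount : W * cP ^ 2 = 2 * cJ ^ 4)
    (hmaster : (W : ℚ) = g * k * (1 + (ε₁ : ℚ) ^ 3 / x₁ + (ε₂ : ℚ) ^ 3 / x₂ + (ε₃ : ℚ) ^ 3 / x₃))
    (horth : (1 : ℚ) + x₁ * ε₁ + x₂ * ε₂ + x₃ * ε₃ = 0) :
    (g : ℚ) * (((x₁ : ℚ) + ε₁) * ((x₂ : ℚ) + ε₂) * ((x₃ : ℚ) + ε₃)) * (cP : ℚ) ^ 2 =
        8 * (cJ : ℚ) ^ 3 * ((x₁ : ℚ) * x₂ * x₃) ∧
      (((x₁ : ℚ) + ε₁) * ((x₂ : ℚ) + ε₂) * ((x₃ : ℚ) + ε₃)) ≠ 0 := by
  have h₁ : (ε₁ : ℚ) ^ 2 = 1 := by rcases hε₁ with h | h <;> rw [h] <;> norm_num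
  have h₂ : (ε₂ : ℚ) ^ 2 = 1 := by rcases hε₂ with h | h <;> rw [h] <;> norm_num
  have h₃ : (ε₃ : ℚ) ^ 2 = 1 := by rcases hε₃ with h | h <;> rw [h] <;> norm_num
  have hx₁' : (x₁ : ℚ) ≠ 0 := Nat.cast_ne_zero.2 hx₁
  have hx₂' : (x₂ : ℚ) ≠ 0 := Nat.cast_ne_zero.2 hx₂
  have hx₃' : (x₃ : ℚ) ≠ 0 := Nat.cast_ne_zero.2 hx₃
  have hcJ' : (cJ : ℚ) ≠ 0 := Nat.cast_ne_zero.2 hcJ
  have hcP' : (cP : ℚ) ≠ 0 := Nat.cast_ne_zero.2 hcP
  have hk' : 4 * (k : ℚ) = cJ := by exact_mod_cast hk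
  have hc : (W : ℚ) * (cP : ℚ) ^ 2 = 2 * (cJ : ℚ) ^ 4 := by exact_mod_cast hcount
  obtain ⟨S, hS⟩ : ∃ S : ℚ, S = 1 + (ε₁ : ℚ) ^ 3 / x₁ + (ε₂ : ℚ) ^ 3 / x₂ + (ε₃ : ℚ) ^ 3 / x₃ :=
    ⟨_, rfl⟩
  rw [← hS] at hmaster
  have hSN : S * ((x₁ : ℚ) * x₂ * x₃) =
      ((x₁ : ℚ) + ε₁) * ((x₂ : ℚ) + ε₂) * ((x₃ : ℚ) + ε₃) := by
    have e : S * ((x₁ : ℚ) * x₂ * x₃) = (x₁ : ℚ) * x₂ * x₃ + (ε₁ : ℚ) ^ 3 * x₂ * x₃ +
        (ε₂ : ℚ) ^ 3 * x₁ * x₃ + (ε₃ : ℚ) ^ 3 * x₁ * x₂ := by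
      rw [hS]; field_simp
    rw [e]
    linear_combination ((ε₁ : ℚ) * x₂ * x₃ + ε₂ * ε₃ * x₁) * h₁ +
      ((ε₂ : ℚ) * x₁ * x₃ + ε₁ * ε₃ * x₂) * h₂ + ((ε₃ : ℚ) * x₁ * x₂ + ε₁ * ε₂ * x₃) * h₃ -
      (ε₁ : ℚ) * ε₂ * ε₃ * horth
  have e : (g : ℚ) * k * S * (cP : ℚ) ^ 2 = 2 * (cJ : ℚ) ^ 4 := by rw [← hmaster]; exact hc
  have key : (g : ℚ) * (((x₁ : ℚ) + ε₁) * ((x₂ : ℚ) + ε₂) * ((x₃ : ℚ) + ε₃)) * (cP : ℚ) ^ 2 =
      8 * (cJ : ℚ) ^ 3 * ((x₁ : ℚ) * x₂ * x₃) := by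
    rw [← hSN]
    have : (cJ : ℚ) * ((g : ℚ) * (S * ((x₁ : ℚ) * x₂ * x₃)) * (cP : ℚ) ^ 2) =
        cJ * (8 * (cJ : ℚ) ^ 3 * ((x₁ : ℚ) * x₂ * x₃)) := by
      linear_combination (4 * ((x₁ : ℚ) * x₂ * x₃)) * e -
        ((g : ℚ) * S * ((x₁ : ℚ) * x₂ * x₃) * (cP : ℚ) ^ 2) * hk'
    exact mul_left_cancel₀ hcJ' this
  refine ⟨key, ?_⟩
  intro hD
  rw [hD, mul_zero, zero_mul] at key
  have : (8 : ℚ) * (cJ : ℚ) ^ 3 * ((x₁ : ℚ) * x₂ * x₃) ≠ 0 := by positivity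
  exact this key.symm

end Main

end Cfsg.Agent.Lib.H22.KleinOrder
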