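import Mathlib
import Cfsg.Agent.Lib.H22.KleinOrder
import Cfsg.Agent.Lib.H22.DihOrderC

/-!
# Brauer's order formula for dihedral Sylow 2-subgroups: block part (helper22)

* `sum_coset'`: for a 2-element `J` whose centralizer has a normal 2-complement `K`, and a
  2-element `x ∈ C(J)` with `C(x) ≤ C(J)`: `∑_{k ∈ K} χ(k x) = |K| χ(x)` for `χ ∈ B₀(G)` and `0`
  otherwise;
* `master'`: the class multiplication count over the coset `K x` as a sum over `B₀(G)`;
* `sum_conj_pairs`: from pairs `(s, t)` to pairs of conjugates.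
-/

set_option autoImplicit false

namespace Cfsg.Agent.Lib.H22.DihOrder

open Cfsg MonoidAlgebra Cfsg.Agent.Lib.H23 Cfsg.Agent.Lib.H24 Cfsg.Agent.Lib.L0
  Cfsg.Agent.Lib.L0.BlockKer Cfsg.Agent.Lib.L0.BlockPReg Cfsg.Agent.Lib.H22.KleinOrder
open scoped ComplexConjugate

variable {G : Type*} [Group G] [Fintype G] {M : Ideal AlgInt}

theorem sum_coset' (hM : IsPModular 2 M) {J : G} (hJ : ∃ k : ℕ, orderOf J = 2 ^ k)
    [Fintype ↥(Subgroup.centralizer ({J} : Set G))]
    (K : Subgroup ↥(Subgroup.centralizer ({J} : Set G))) [K.Normal] [DecidablePred (· ∈ K)]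
    [DecidablePred (· ∈ principalBlock M G)] (hK : ¬ 2 ∣ Nat.card K)
    {e : ℕ} (hidx : K.index = 2 ^ e) (x : ↥(Subgroup.centralizer ({J} : Set G)))
    (hx : ∃ k : ℕ, orderOf (x : G) = 2 ^ k)
    (hxC : Subgroup.centralizer ({(x : G)} : Set G) ≤ Subgroup.centralizer ({J} : Set G))
    (χ : IrrCharacter G) :
    ∑ k : ↥(Subgroup.centralizer ({J} : Set G)),
        (if k ∈ K then (χ : G → ℂ) ((k : G) * (x : G)) else 0) =
      if χ ∈ principalBlock M G then (Nat.card K : ℂ) * (χ : G → ℂ) (x : G) else 0 := by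
  haveI hPr := isPrime_of_isPModular hM
  have hKne : (Nat.card K : ℂ) ≠ 0 := by exact_mod_cast (Nat.card_pos (α := K)).ne'
  have hsum : ∑ k : ↥(Subgroup.centralizer ({J} : Set G)),
      blockCoeff (principalBlock M ↥(Subgroup.centralizer ({J} : Set G))) k *
        (χ : G → ℂ) ((k : G) * (x : G)) =
      (Nat.card K : ℂ)⁻¹ * ∑ k : ↥(Subgroup.centralizer ({J} : Set G)),
        (if k ∈ K then (χ : G → ℂ) ((k : G) * (x : G)) else 0) := by
    rw [Finset.mul_sum]
    refine Finset.sum_congr rfl fun k _ => ?_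
    rw [blockCoeff_principal hM K hK hidx k]
    by_cases hk : k ∈ K
    · rw [if_pos hk, if_pos hk]
    · rw [if_neg hk, if_neg hk, zero_mul, mul_zero]
  have hCcond : ∀ z : G, IsPPart 2 (x : G) z →
      Subgroup.centralizer ({z} : Set G) ≤ Subgroup.centralizer ({J} : Set G) := by
    intro z hz
    have hxpart : IsPPart 2 (x : G) (x : G) := ⟨1, mul_one _, Commute.one_right _, hx, by simp⟩
    have : (x : G) = z := IsPPart.unique Nat.prime_two hxpart hz
    rw [← this]
    exact hxC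
  by_cases hχ : χ ∈ principalBlock M G
  · rw [if_pos hχ]
    have h1 := principal_local hM (Subgroup.zpowers J) (zpowers_isPGroup hJ)
      (Subgroup.centralizer ({J} : Set G)) (zpowers_le_centralizer_self J)
      (le_of_eq (centralizer_zpowers_eq J)) (centralizer_le_normalizer_zpowers J) χ hχ
      x hCcond
    rw [hsum] at h1
    rw [h1, ← mul_assoc, mul_inv_cancel₀ hKne, one_mul]
  · rw [if_neg hχ]
    obtain ⟨χ₁, hind⟩ := exists_isInducedBlock_centralizer hM hJ
      (trivialIrr ↥(Subgroup.centralizer ({J} : Set G)))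
    have hB : blockOf M (χ₁ : G → ℂ) = principalBlock M G :=
      (third_main hM (Subgroup.centralizer ({J} : Set G)) hind).2 rfl
    rw [hB] at hind
    have h1 := second_main (Subgroup.centralizer ({J} : Set G)) hM hind x hCcond χ hχ
    change ∑ k : ↥(Subgroup.centralizer ({J} : Set G)),
      blockCoeff (principalBlock M ↥(Subgroup.centralizer ({J} : Set G))) k *
        (χ : G → ℂ) ((k : G) * (x : G)) = 0 at h1
    rw [hsum] at h1
    exact (mul_eq_zero.1 h1).resolve_left (inv_ne_zero hKne)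

theorem master' (hM : IsPModular 2 M) {J : G} (hJ : ∃ k : ℕ, orderOf J = 2 ^ k)
    [Fintype ↥(Subgroup.centralizer ({J} : Set G))] [Fintype (IrrCharacter G)] [DecidableEq G]
    (K : Subgroup ↥(Subgroup.centralizer ({J} : Set G))) [K.Normal] [DecidablePred (· ∈ K)]
    [DecidablePred (· ∈ principalBlock M G)] (hK : ¬ 2 ∣ Nat.card K)
    {e : ℕ} (hidx : K.index = 2 ^ e) (x : ↥(Subgroup.centralizer ({J} : Set G)))
    (hx : ∃ k : ℕ, orderOf (x : G) = 2 ^ k)
    (hxC : Subgroup.centralizer ({(x : G)} : Set G) ≤ Subgroup.centralizer ({J} : Set G)) :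
    (∑ k : ↥(Subgroup.centralizer ({J} : Set G)), if k ∈ K then
        ∑ s : G, ∑ t : G,
          (if (s * J * s⁻¹) * (t * J * t⁻¹) = (k : G) * (x : G) then (1 : ℂ) else 0) else 0) =
      (Nat.card G : ℂ) * (Nat.card K : ℂ) *
      ∑ χ : IrrCharacter G, (if χ ∈ principalBlock M G then
        (χ : G → ℂ) J * (χ : G → ℂ) J * conj ((χ : G → ℂ) (x : G)) / (χ : G → ℂ) 1 else 0) := by
  have hinner : ∀ χ : IrrCharacter G, ∑ k : ↥(Subgroup.centralizer ({J} : Set G)),
      (if k ∈ K then (χ : G → ℂ) ((k : G) * (x : G))⁻¹ else 0) =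
      if χ ∈ principalBlock M G then (Nat.card K : ℂ) * conj ((χ : G → ℂ) (x : G)) else 0 := by
    intro χ
    have h1 : ∀ k : ↥(Subgroup.centralizer ({J} : Set G)),
        (if k ∈ K then (χ : G → ℂ) ((k : G) * (x : G))⁻¹ else 0) =
        conj (if k ∈ K then (χ : G → ℂ) ((k : G) * (x : G)) else 0) := by
      intro k
      by_cases hk : k ∈ K
      · rw [if_pos hk, if_pos hk, irr_inv]
      · rw [if_neg hk, if_neg hk, map_zero]
    rw [Finset.sum_congr rfl (fun k _ => h1 k), ← map_sum, sum_coset' hM hJ K hK hidx x hx hxC χ]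
    by_cases hχ : χ ∈ principalBlock M G
    · rw [if_pos hχ, if_pos hχ, map_mul, Complex.conj_natCast]
    · rw [if_neg hχ, if_neg hχ, map_zero]
  have hk : ∀ k : ↥(Subgroup.centralizer ({J} : Set G)),
      (∑ s : G, ∑ t : G,
        if (s * J * s⁻¹) * (t * J * t⁻¹) = (k : G) * (x : G) then (1 : ℂ) else 0) =
        (Nat.card G : ℂ) * ∑ χ : IrrCharacter G,
          (χ : G → ℂ) J * (χ : G → ℂ) J * (χ : G → ℂ) ((k : G) * (x : G))⁻¹ / (χ : G → ℂ) 1 :=
    fun k => sum_sum_ite_conj_mul_eq J J ((k : G) * (x : G))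
  have step1 : ∀ k : ↥(Subgroup.centralizer ({J} : Set G)),
      (if k ∈ K then ∑ s : G, ∑ t : G,
        (if (s * J * s⁻¹) * (t * J * t⁻¹) = (k : G) * (x : G) then (1 : ℂ) else 0) else 0) =
      (Nat.card G : ℂ) * ∑ χ : IrrCharacter G, ((χ : G → ℂ) J * (χ : G → ℂ) J / (χ : G → ℂ) 1) *
        (if k ∈ K then (χ : G → ℂ) ((k : G) * (x : G))⁻¹ else 0) := by
    intro k
    by_cases h : k ∈ K
    · rw [if_pos h, hk k]
      congr 1
      refine Finset.sum_congr rfl fun χ _ => ?_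
      rw [if_pos h]
      ring
    · rw [if_neg h]
      symm
      rw [mul_eq_zero]
      right
      refine Finset.sum_eq_zero fun χ _ => ?_
      rw [if_neg h, mul_zero]
  rw [Finset.sum_congr rfl fun k _ => step1 k, ← Finset.mul_sum, Finset.sum_comm, mul_assoc]
  congr 1
  rw [Finset.mul_sum]
  refine Finset.sum_congr rfl fun χ _ => ?_
  rw [← Finset.mul_sum, hinner χ]
  by_cases hχ : χ ∈ principalBlock M G
  · rw [if_pos hχ, if_pos hχ]
    ring
  · rw [if_neg hχ, if_neg hχ, mul_zero, mul_zero]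

theorem sum_conj_eq [DecidableEq G] (J : G) (f : G → ℕ) :
    ∑ s : G, f (s * J * s⁻¹) =
      Nat.card (Subgroup.centralizer ({J} : Set G)) * ∑ u ∈ clF J, f u := by
  have h1 : ∀ s : G, f (s * J * s⁻¹) =
      ∑ u ∈ clF J, (if s * J * s⁻¹ = u then f u else 0) := by
    intro s
    rw [Finset.sum_ite_eq, if_pos (mem_clF.2 ⟨s, rfl⟩)]
  rw [Finset.sum_congr rfl (fun s _ => h1 s), Finset.sum_comm, Finset.mul_sum]
  refine Finset.sum_congr rfl (fun u hu => ?_)
  obtain ⟨c, rfl⟩ := mem_clF.1 hu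
  have h2 := KleinGroup.sum_ite_conj J c
  rw [← h2, Finset.sum_mul]
  refine Finset.sum_congr rfl (fun s _ => ?_)
  by_cases h : s * J * s⁻¹ = c * J * c⁻¹
  · rw [if_pos h, if_pos h, one_mul]
  · rw [if_neg h, if_neg h, zero_mul]

theorem sum_conj_pairs [DecidableEq G] (J g : G) :
    (∑ s : G, ∑ t : G, if (s * J * s⁻¹) * (t * J * t⁻¹) = g then 1 else 0) =
      Nat.card (Subgroup.centralizer ({J} : Set G)) ^ 2 *
        ∑ u ∈ clF J, ∑ v ∈ clF J, if u * v = g then 1 else 0 := by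
  have h1 : ∀ s : G, (∑ t : G, if (s * J * s⁻¹) * (t * J * t⁻¹) = g then 1 else 0) =
      Nat.card (Subgroup.centralizer ({J} : Set G)) *
        ∑ v ∈ clF J, if (s * J * s⁻¹) * v = g then 1 else 0 :=
    fun s => sum_conj_eq J (fun v => if (s * J * s⁻¹) * v = g then 1 else 0)
  rw [Finset.sum_congr rfl (fun s _ => h1 s), ← Finset.mul_sum,
    sum_conj_eq J (fun u => ∑ v ∈ clF J, if u * v = g then 1 else 0), pow_two, mul_assoc]

end Cfsg.Agent.Lib.H22.DihOrder
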