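import Mathlib
import Cfsg.Agent.Lib.H22.DihOrderB
import Cfsg.Agent.Lib.H22.DihOrderC

/-!
# Brauer's order formula for dihedral Sylow 2-subgroups: from `G` to `C(J)` (helper22)
-/

set_option autoImplicit false

namespace Cfsg.Agent.Lib.H22.DihOrder

open Cfsg Cfsg.Agent.Lib.H22.Dih
open scoped ComplexConjugate

section Group

variable {G : Type*} [Group G]

/-- With one class of involutions. -/
theorem one_class [Fintype G] [DecidableEq G] (P : Sylow 2 G) {σ τ : G} {m : ℕ}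
    (hd : DihData (P : Subgroup G) σ m) (hm0 : 0 < m) (hm : Even m)
    (hτ : τ ∈ (P : Subgroup G)) (hτσ : τ ∉ Subgroup.zpowers σ)
    (hc1 : IsConj (σ ^ (m / 2)) τ) (hc2 : IsConj (σ ^ (m / 2)) (σ * τ))
    {u : G} (hu2 : u * u = 1) (hu1 : u ≠ 1) : ∃ c : G, c * σ ^ (m / 2) * c⁻¹ = u := by
  obtain ⟨g, hg⟩ := KleinGroup.exists_conj_mem_sylow P (y := u) (e := 1)
    (by rw [pow_one, pow_two, hu2])
  set w := g⁻¹ * u * g with hw
  have hu' : u = g * w * g⁻¹ := by rw [hw]; group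
  have hw2 : w * w = 1 := by
    calc w * w = g⁻¹ * (u * u) * g := by rw [hw]; group
      _ = 1 := by rw [hu2]; group
  by_cases hwσ : w ∈ Subgroup.zpowers σ
  · rcases hd.sq_eq_one_cases hm0 hm hwσ hw2 with h5 | h5
    · exfalso
      apply hu1
      rw [hu', h5]
      group
    · exact ⟨g, by rw [hu', h5]⟩
  · obtain ⟨a, ha⟩ := isConj_iff.1 hc1
    obtain ⟨b, hb⟩ := isConj_iff.1 hc2
    obtain ⟨j, hj | hj⟩ := conj_tau_cases hd hm0 hτ hτσ hg hwσ
    · refine ⟨g * σ ^ j * a, ?_⟩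
      rw [hu', hj, ← ha]
      group
    · refine ⟨g * σ ^ j * b, ?_⟩
      rw [hu', hj, ← hb]
      group

theorem invs_eq_clF [Fintype G] [DecidableEq G] {J : G} (hJ2 : J * J = 1) (hJ1 : J ≠ 1)
    (hone : ∀ u : G, u * u = 1 → u ≠ 1 → ∃ c : G, c * J * c⁻¹ = u) : invs G = clF J := by
  ext u
  rw [mem_invs, mem_clF]
  constructor
  · rintro ⟨h1, h2⟩
    exact hone u h1 h2
  · rintro ⟨c, rfl⟩
    constructor
    · calc c * J * c⁻¹ * (c * J * c⁻¹) = c * (J * J) * c⁻¹ := by group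
        _ = 1 := by rw [hJ2]; group
    · intro h
      apply hJ1
      calc J = c⁻¹ * (c * J * c⁻¹) * c := by group
        _ = 1 := by rw [h]; group

theorem pairs_in_centralizer {J u v g : G} (hJ2 : J * J = 1) (hu : u * u = 1) (hv : v * v = 1)
    (huv : u * v = g) (hgC : g ∈ Subgroup.centralizer ({J} : Set G)) {k : ℕ} (hk : g ^ k = J) :
    u ∈ Subgroup.centralizer ({J} : Set G) ∧ v ∈ Subgroup.centralizer ({J} : Set G) := by
  have hui : u⁻¹ = u := inv_eq_of_mul_eq_one_right hu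
  have hvi : v⁻¹ = v := inv_eq_of_mul_eq_one_right hv
  have hJi : J⁻¹ = J := inv_eq_of_mul_eq_one_right hJ2
  have h1 : u * g * u⁻¹ = g⁻¹ := by
    rw [← huv, mul_inv_rev, hui, hvi]
    calc u * (u * v) * u = (u * u) * v * u := by group
      _ = v * u := by rw [hu, one_mul]
  have h2 : u * J * u⁻¹ = J := by
    rw [← hk, ← conj_pow, h1, inv_pow, hk, hJi]
  have huC : u ∈ Subgroup.centralizer ({J} : Set G) := by
    rw [Subgroup.mem_centralizer_singleton_iff]
    calc u * J = (u * J * u⁻¹) * u := by group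
      _ = J * u := by rw [h2]
  refine ⟨huC, ?_⟩
  have : v = u⁻¹ * g := by rw [← huv]; group
  rw [this]
  exact Subgroup.mul_mem _ (Subgroup.inv_mem _ huC) hgC

/-- Products of two involutions equal to an element of `C(J)` having `J` as a power may be
counted inside `C(J)`. -/
theorem rCount_transfer [Fintype G] [DecidableEq G] {J : G} (hJ2 : J * J = 1)
    [Fintype ↥(Subgroup.centralizer ({J} : Set G))]
    [DecidableEq ↥(Subgroup.centralizer ({J} : Set G))]
    (g : ↥(Subgroup.centralizer ({J} : Set G))) (hg : ∃ k : ℕ, (g : G) ^ k = J) :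
    (∑ u ∈ invs G, ∑ v ∈ invs G, if u * v = (g : G) then 1 else 0) = rCount g := by
  classical
  obtain ⟨k, hk⟩ := hg
  set ι : ↥(Subgroup.centralizer ({J} : Set G)) ↪ G := ⟨Subtype.val, Subtype.val_injective⟩ with hι
  have himg : (invs ↥(Subgroup.centralizer ({J} : Set G))).map ι = (invs G).filter (· ∈ Subgroup.centralizer ({J} : Set G)) := by
    ext u
    rw [Finset.mem_map, Finset.mem_filter, mem_invs]
    constructor
    · rintro ⟨h, hh, rfl⟩
      rw [mem_invs] at hh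
      refine ⟨⟨?_, ?_⟩, h.2⟩
      · have := congrArg Subtype.val hh.1
        exact this
      · intro h1
        apply hh.2
        exact Subtype.ext h1
    · rintro ⟨⟨h1, h2⟩, h3⟩
      refine ⟨⟨u, h3⟩, mem_invs.2 ⟨Subtype.ext h1, fun h => h2 (congrArg Subtype.val h)⟩, rfl⟩
  have hmem : ∀ u ∈ invs G, ∀ v ∈ invs G, u * v = (g : G) → u ∈ Subgroup.centralizer ({J} : Set G) ∧ v ∈ Subgroup.centralizer ({J} : Set G) := by
    intro u hu v hv huv
    exact pairs_in_centralizer hJ2 (mem_invs.1 hu).1 (mem_invs.1 hv).1 huv g.2 hk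
  have h1 : (∑ u ∈ invs G, ∑ v ∈ invs G, if u * v = (g : G) then 1 else 0) =
      ∑ u ∈ (invs G).filter (· ∈ Subgroup.centralizer ({J} : Set G)), ∑ v ∈ (invs G).filter (· ∈ Subgroup.centralizer ({J} : Set G)),
        if u * v = (g : G) then 1 else 0 := by
    symm
    rw [Finset.sum_filter_of_ne]
    · refine Finset.sum_congr rfl (fun u hu => ?_)
      rw [Finset.sum_filter_of_ne]
      intro v hv hne
      by_contra hvC
      apply hne
      rw [if_neg]
      intro huv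
      exact hvC (hmem u hu v hv huv).2
    · intro u hu hne
      by_contra huC
      apply hne
      refine Finset.sum_eq_zero (fun v hv => ?_)
      rw [Finset.mem_filter] at hv
      rw [if_neg]
      intro huv
      exact huC (hmem u hu v hv.1 huv).1
  rw [h1, ← himg, Finset.sum_map]
  unfold rCount
  refine Finset.sum_congr rfl (fun u _ => ?_)
  rw [Finset.sum_map]
  refine Finset.sum_congr rfl (fun v _ => ?_)
  have hiff : (ι u * ι v = (g : G)) ↔ u * v = g := by
    constructor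
    · intro h
      exact Subtype.ext h
    · intro h
      exact congrArg Subtype.val h
  by_cases h : u * v = g
  · rw [if_pos h, if_pos (hiff.2 h)]
  · rw [if_neg h, if_neg (fun h' => h (hiff.1 h'))]

theorem card_centralizer_pair (J τ : G) (hτ : τ ∈ Subgroup.centralizer ({J} : Set G)) :
    Nat.card (Subgroup.centralizer ({J, τ} : Set G)) =
      Nat.card (Subgroup.centralizer
        ({(⟨τ, hτ⟩ : ↥(Subgroup.centralizer ({J} : Set G)))} :
          Set ↥(Subgroup.centralizer ({J} : Set G)))) := by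
  have key : ∀ c : G, c ∈ Subgroup.centralizer ({J, τ} : Set G) ↔
      c ∈ Subgroup.centralizer ({J} : Set G) ∧ c * τ = τ * c := by
    intro c
    rw [Subgroup.mem_centralizer_iff, Subgroup.mem_centralizer_singleton_iff]
    constructor
    · intro h
      exact ⟨(h J (Set.mem_insert _ _)).symm,
        (h τ (Set.mem_insert_of_mem _ (Set.mem_singleton _))).symm⟩
    · rintro ⟨h1, h2⟩ x hx
      rcases hx with rfl | hx
      · exact h1.symm
      · rw [Set.mem_singleton_iff] at hx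
        rw [hx]
        exact h2.symm
  refine Nat.card_congr ⟨fun c => ⟨⟨c.1, ((key c.1).1 c.2).1⟩, ?_⟩,
    fun c => ⟨c.1.1, (key _).2 ⟨c.1.2, ?_⟩⟩, ?_, ?_⟩
  · rw [Subgroup.mem_centralizer_singleton_iff]
    apply Subtype.ext
    exact ((key c.1).1 c.2).2
  · exact congrArg Subtype.val (Subgroup.mem_centralizer_singleton_iff.1 c.2)
  · intro c
    rfl
  · intro c
    rfl

theorem dihData_subgroupOf [Finite G] {P C : Subgroup G} {σ : G} {m : ℕ} (hd : DihData P σ m)
    (hPC : P ≤ C) : DihData (P.subgroupOf C) (⟨σ, hPC hd.mem⟩ : ↥C) m where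
  mem := by
    rw [Subgroup.mem_subgroupOf]
    exact hd.mem
  ord := (Subgroup.orderOf_mk σ _).trans hd.ord
  card := by
    rw [Nat.card_congr (Subgroup.subgroupOfEquivOfLe hPC).toEquiv, hd.card]
  inv := by
    intro a ha haσ
    rw [Subgroup.mem_subgroupOf] at ha
    have haσ' : (a : G) ∉ Subgroup.zpowers σ := by
      intro h
      apply haσ
      obtain ⟨k, hk⟩ := Subgroup.mem_zpowers_iff.1 h
      rw [Subgroup.mem_zpowers_iff]
      refine ⟨k, Subtype.ext ?_⟩
      rw [Subgroup.coe_zpow]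
      exact hk
    obtain ⟨h1, h2⟩ := hd.inv a ha haσ'
    exact ⟨Subtype.ext h1, Subtype.ext h2⟩

theorem exists_conj_mem_subgroupOf [Finite G] (P : Sylow 2 G) {C : Subgroup G}
    (hPC : (P : Subgroup G) ≤ C) (u : ↥C) (hu : u * u = 1) :
    ∃ g : ↥C, g⁻¹ * u * g ∈ (P : Subgroup G).subgroupOf C := by
  haveI : Fact (Nat.Prime 2) := ⟨Nat.prime_two⟩
  obtain ⟨g, hg⟩ := KleinGroup.exists_conj_mem_sylow (P.subtype hPC) (y := u) (e := 1)
    (by rw [pow_one, pow_two, hu])
  exact ⟨g, hg⟩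

end Group

section Master

variable {G : Type*} [Group G] [Fintype G] {M : Ideal AlgInt}

/-- The count over a coset of the normal 2-complement of `C(J)` as a principal block sum. -/
theorem master_count (hM : IsPModular 2 M) {J : G} (hJord : ∃ k : ℕ, orderOf J = 2 ^ k)
    (hJ2 : J * J = 1) (hJ1 : J ≠ 1)
    [Fintype ↥(Subgroup.centralizer ({J} : Set G))]
    [DecidableEq ↥(Subgroup.centralizer ({J} : Set G))]
    [Fintype (IrrCharacter G)] [DecidableEq G]
    (N : Subgroup ↥(Subgroup.centralizer ({J} : Set G))) [N.Normal] [DecidablePred (· ∈ N)]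
    [DecidablePred (· ∈ principalBlock M G)] (hN : ¬ 2 ∣ Nat.card N)
    {e : ℕ} (hidx : N.index = 2 ^ e)
    (hone : ∀ u : G, u * u = 1 → u ≠ 1 → ∃ c : G, c * J * c⁻¹ = u)
    (x : ↥(Subgroup.centralizer ({J} : Set G)))
    (hx : ∃ k : ℕ, orderOf (x : G) = 2 ^ k)
    (hxC : Subgroup.centralizer ({(x : G)} : Set G) ≤ Subgroup.centralizer ({J} : Set G))
    (hpow : ∀ k ∈ N, ∃ j : ℕ, ((k * x : ↥(Subgroup.centralizer ({J} : Set G))) : G) ^ j = J) :
    (Nat.card ↥(Subgroup.centralizer ({J} : Set G)) : ℂ) ^ 2 *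
      ((∑ k : ↥(Subgroup.centralizer ({J} : Set G)),
        if k ∈ N then rCount (k * x) else 0 : ℕ) : ℂ) =
      (Nat.card G : ℂ) * (Nat.card N : ℂ) *
      ∑ χ : IrrCharacter G, (if χ ∈ principalBlock M G then
        (χ : G → ℂ) J * (χ : G → ℂ) J * conj ((χ : G → ℂ) (x : G)) / (χ : G → ℂ) 1 else 0) := by
  rw [← master' hM hJord N hN hidx x hx hxC]
  push_cast
  rw [Finset.mul_sum]
  refine Finset.sum_congr rfl (fun k _ => ?_)
  by_cases hk : k ∈ N
  · rw [if_pos hk, if_pos hk]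
    have h1 := sum_conj_pairs J ((k : G) * (x : G))
    rw [← invs_eq_clF hJ2 hJ1 hone] at h1
    have h2 := rCount_transfer hJ2 (k * x) (hpow k hk)
    rw [Subgroup.coe_mul] at h2
    rw [h2] at h1
    have h3 := congrArg (Nat.cast : ℕ → ℂ) h1
    push_cast at h3
    rw [← h3]
  · rw [if_neg hk, if_neg hk, mul_zero]

end Master

section Arith

theorem arith_final (g cC nN h RJ Rσ I k₁ k₂ c₁ c₂ x₁ s A Sg : ℂ)
    (hcC : cC = nN * (2 * (2 * h))) (hcount : h * (RJ + Rσ) = I ^ 2) (hI : I = k₁ + k₂)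
    (hk₁ : k₁ * c₁ = cC) (hk₂ : k₂ * c₂ = cC) (hRJ : cC ^ 2 * RJ = g * nN * A)
    (hRσ : cC ^ 2 * Rσ = g * nN * Sg)
    (hAS : A + Sg = 2 * (x₁ - s) ^ 2 / (x₁ * (x₁ + s))) (hx₁ : x₁ ≠ 0) (hxs : x₁ + s ≠ 0)
    (hcC0 : cC ≠ 0) (hc₁ : c₁ ≠ 0) (hc₂ : c₂ ≠ 0) :
    g * (x₁ - s) ^ 2 = 2 * x₁ * (x₁ + s) * cC ^ 3 * (1 / c₁ + 1 / c₂) ^ 2 ∧
      g * (x₁ - s) ^ 2 = 2 * x₁ * (x₁ + s) * cC * I ^ 2 := by
  have hI' : I = cC * (1 / c₁ + 1 / c₂) := by
    rw [hI, eq_div_of_mul_eq hc₁ hk₁, eq_div_of_mul_eq hc₂ hk₂]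
    ring
  have e1 : cC * (4 * cC * I ^ 2 - g * (A + Sg)) = 0 := by
    rw [← hcount]
    linear_combination 4 * h * hRJ + 4 * h * hRσ - g * (A + Sg) * hcC
  have h4 : 4 * cC * I ^ 2 = g * (A + Sg) := by
    rcases mul_eq_zero.1 e1 with h' | h'
    · exact absurd h' hcC0
    · exact sub_eq_zero.1 h'
  have hden : x₁ * (x₁ + s) ≠ 0 := mul_ne_zero hx₁ hxs
  rw [eq_div_iff hden] at hAS
  have h5 : g * (x₁ - s) ^ 2 = 2 * x₁ * (x₁ + s) * cC * I ^ 2 := by
    linear_combination (-(g / 2)) * hAS - (x₁ * (x₁ + s) / 2) * h4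
  refine ⟨?_, h5⟩
  rw [h5, hI']
  ring

end Arith

end Cfsg.Agent.Lib.H22.DihOrder
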