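import Mathlib
import Cfsg.Prelude.Def_Local
import Cfsg.Agent.Lib.H22.UniqueOrderP
import Cfsg.Agent.Lib.H22.PPrimeCore
import Cfsg.Agent.Lib.H22.LowerCentralP
import Cfsg.Agent.Lib.H10.PSolvable2
import Cfsg.Agent.Lib.H9.PPrimeCore
import Cfsg.Agent.Lib.H7.CharMap
import Cfsg.Agent.Lib.H7.PConstrained2
import Cfsg.Agent.Lib.H1.PCore
import Cfsg.Agent.Lib.H16.SylowMore

/-!
# Groups in which `p`-subgroups of equal order are conjugate (under automorphisms)  (helper22)
-/

set_option autoImplicit false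

namespace Cfsg.Agent.Lib.H22

open Cfsg
open scoped commutatorElement

universe u

/-- in a finite `p`-group of exponent `p`, a proper nontrivial subgroup is not the only subgroup of
its order -/
theorem exists_ne_card_eq_of_exponent_p {X : Type*} [Group X] [Finite X] {p : ℕ} [hp : Fact p.Prime]
    (hX : IsPGroup p X) (hexp : ∀ x : X, x ^ p = 1) (S : Subgroup X) (hS1 : S ≠ ⊥) (hS2 : S ≠ ⊤) :
    ∃ T : Subgroup X, Nat.card T = Nat.card S ∧ T ≠ S := by
  obtain ⟨a, ha⟩ := (hX.to_subgroup S).exists_card_eq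
  obtain ⟨n, hn⟩ := hX.exists_card_eq
  have ha1 : 1 ≤ a := by
    rcases Nat.eq_zero_or_pos a with rfl | h
    · exfalso; apply hS1
      rw [pow_zero] at ha
      exact Subgroup.card_eq_one.mp ha
    · exact h
  have han : a < n := by
    by_contra hge
    rw [not_lt] at hge
    apply hS2
    apply Subgroup.eq_top_of_card_eq
    apply le_antisymm (Subgroup.card_le_card_group S)
    rw [ha, hn]
    exact Nat.pow_le_pow_right hp.out.pos hge
  obtain ⟨M, hMcard, hSM⟩ := Sylow.exists_subgroup_card_pow_succ (p := p) (n := a)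
    (by rw [hn]; exact pow_dvd_pow p han) ha
  have hMnc : ¬ IsCyclic M := by
    intro hc
    obtain ⟨g, hg⟩ := hc.exists_generator
    have h1 : orderOf g = p ^ (a + 1) := by
      rw [orderOf_eq_card_of_forall_mem_zpowers hg, hMcard]
    have h2 : g ^ p = 1 := Subtype.ext (by simpa using hexp g.1)
    have h3 : p ^ (a + 1) ∣ p := by rw [← h1]; exact orderOf_dvd_of_pow_eq_one h2
    have h4 : p ^ (a + 1) ≤ p := Nat.le_of_dvd hp.out.pos h3
    have h5 : p ^ 2 ≤ p ^ (a + 1) := Nat.pow_le_pow_right hp.out.pos (by omega)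
    have h6 : p < p ^ 2 := by
      have := hp.out.one_lt
      nlinarith
    omega
  obtain ⟨M₁, M₂, hne, hi1, hi2⟩ := exists_two_index_p (hX.to_subgroup M) hMnc
  have hcard : ∀ L : Subgroup M, L.index = p → Nat.card (L.map M.subtype) = Nat.card S := by
    intro L hL
    rw [Subgroup.card_map_of_injective M.subtype_injective, ha]
    have h1 := L.card_mul_index
    rw [hL, hMcard, pow_succ] at h1
    exact Nat.eq_of_mul_eq_mul_right hp.out.pos h1
  by_cases h : M₁.map M.subtype = S
  · refine ⟨M₂.map M.subtype, hcard M₂ hi2, ?_⟩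
    intro h2
    apply hne
    apply Subgroup.map_injective M.subtype_injective
    rw [h, h2]
  · exact ⟨M₁.map M.subtype, hcard M₁ hi1, h⟩

section

variable {H : Type u} [Group H] [Finite H] {p : ℕ} [hp : Fact p.Prime]

/-- subgroup form of `exists_ne_card_eq_of_exponent_p` -/
theorem exists_ne_card_eq_of_exponent_p' (P : Subgroup H) (hP : IsPGroup p P)
    (hexp : ∀ x ∈ P, x ^ p = 1) (S : Subgroup H) (hSP : S ≤ P) (hS1 : S ≠ ⊥) (hS2 : S ≠ P) :
    ∃ T : Subgroup H, T ≤ P ∧ Nat.card T = Nat.card S ∧ T ≠ S := by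
  have hexp' : ∀ x : P, x ^ p = 1 := fun x => Subtype.ext (by simpa using hexp x.1 x.2)
  have h1 : S.subgroupOf P ≠ ⊥ := by
    intro h
    apply hS1
    rw [Subgroup.subgroupOf_eq_bot, disjoint_iff, inf_eq_left.mpr hSP] at h
    exact h
  have h2 : S.subgroupOf P ≠ ⊤ := by
    intro h
    apply hS2
    rw [Subgroup.subgroupOf_eq_top] at h
    exact le_antisymm hSP h
  obtain ⟨T', hT'card, hT'ne⟩ := exists_ne_card_eq_of_exponent_p hP hexp' _ h1 h2
  have hmapS : (S.subgroupOf P).map P.subtype = S := Subgroup.map_subgroupOf_eq_of_le hSP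
  refine ⟨T'.map P.subtype, Subgroup.map_subtype_le T', ?_, ?_⟩
  · rw [Subgroup.card_map_of_injective P.subtype_injective, hT'card,
      ← Subgroup.card_map_of_injective P.subtype_injective, hmapS]
  · intro h
    apply hT'ne
    apply Subgroup.map_injective P.subtype_injective
    rw [h, hmapS]

/-- **dichotomy**: a subgroup invariant under all automorphisms meets `P` trivially or contains it -/
theorem inf_eq_bot_or_le_of_char
    (hA : ∀ A B : Subgroup H, IsPGroup p A → IsPGroup p B → Nat.card A = Nat.card B →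
      ∃ e : H ≃* H, B = A.map e.toMonoidHom)
    (P : Sylow p H) (hexp : ∀ x ∈ (P : Subgroup H), x ^ p = 1) (W : Subgroup H)
    (hW : ∀ e : H ≃* H, W.map e.toMonoidHom = W) :
    W ⊓ (P : Subgroup H) = ⊥ ∨ (P : Subgroup H) ≤ W := by
  by_contra hcon
  push Not at hcon
  obtain ⟨h1, h2⟩ := hcon
  have hSP : W ⊓ (P : Subgroup H) ≤ P := inf_le_right
  have hS2 : W ⊓ (P : Subgroup H) ≠ P := by
    intro h
    apply h2
    rw [← h]; exact inf_le_left
  obtain ⟨T, hTP, hTcard, hTne⟩ :=
    exists_ne_card_eq_of_exponent_p' (P : Subgroup H) P.2 hexp _ hSP h1 hS2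
  obtain ⟨e, he⟩ := hA _ T (P.2.to_le hSP) (P.2.to_le hTP) hTcard.symm
  apply hTne
  apply Subgroup.eq_of_le_of_card_ge _ hTcard.ge
  apply le_inf _ hTP
  rw [he]
  calc (W ⊓ (P : Subgroup H)).map e.toMonoidHom ≤ W.map e.toMonoidHom :=
        Subgroup.map_mono inf_le_left
    _ = W := hW e

/-- a nontrivial nilpotent subgroup is not contained in its own commutator -/
theorem not_le_commutator_self_of_isPGroup (C : Subgroup H) (hC : IsPGroup p C) (hC1 : C ≠ ⊥) :
    ¬ C ≤ ⁅C, C⁆ := by
  intro hle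
  have : Group.IsNilpotent C := hC.isNilpotent
  have htop : (⊤ : Subgroup C) ≠ ⊥ := by
    intro h
    apply hC1
    rw [eq_bot_iff]
    intro x hx
    have : (⟨x, hx⟩ : C) ∈ (⊤ : Subgroup C) := Subgroup.mem_top _
    rw [h, Subgroup.mem_bot] at this
    rw [Subgroup.mem_bot]
    exact congrArg Subtype.val this
  have h1 := lcs_succ_lt_of_ne_bot (G := C) 0 htop
  rw [zero_add, Subgroup.top_lowerCentralSeries_one, Subgroup.lowerCentralSeries_zero] at h1
  apply h1.ne
  apply Subgroup.map_injective C.subtype_injective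
  rw [Subgroup.map_subtype_commutator, ← MonoidHom.range_eq_map, Subgroup.range_subtype]
  refine le_antisymm ?_ hle
  rw [Subgroup.commutator_le]
  intro x hx y hy
  rw [commutatorElement_def]
  exact C.mul_mem (C.mul_mem (C.mul_mem hx hy) (C.inv_mem hx)) (C.inv_mem hy)

/-- **Theorem K**: in a finite `p`-solvable group in which `p`-subgroups of equal order are
conjugate under automorphisms, a Sylow `p`-subgroup of exponent `p` is abelian. -/
theorem abelian_of_equal_order_conj_aut (hsolv : IsPSolvable p H)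
    (hA : ∀ A B : Subgroup H, IsPGroup p A → IsPGroup p B → Nat.card A = Nat.card B →
      ∃ e : H ≃* H, B = A.map e.toMonoidHom)
    (P : Sylow p H) (hexp : ∀ x ∈ (P : Subgroup H), x ^ p = 1) :
    ∀ a ∈ (P : Subgroup H), ∀ b ∈ (P : Subgroup H), a * b = b * a := by
  by_contra hcon
  push Not at hcon
  obtain ⟨a, haP, b, hbP, hab⟩ := hcon
  -- the characteristic subgroups
  have hNchar : ∀ e : H ≃* H, (pPrimeCore p H).map e.toMonoidHom = pPrimeCore p H :=
    fun e => Cfsg.Agent.Lib.H9.pPrimeCore_map_equiv p e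
  have hRchar : ∀ e : H ≃* H, (pPrimePCore p H).map e.toMonoidHom = pPrimePCore p H :=
    fun e => Cfsg.Agent.Lib.H7.pPrimePCore_map_equiv p e
  have hNn : (pPrimeCore p H).Normal := pPrimeCore_normal p
  have hRn : (pPrimePCore p H).Normal := Cfsg.Agent.Lib.H7.pPrimePCore_normal p H
  have hNcop : (Nat.card (pPrimeCore p H)).Coprime p := card_pPrimeCore_coprime p
  have hmemR : ∀ x : H, x ∈ pPrimePCore p H ↔
      QuotientGroup.mk' (pPrimeCore p H) x ∈ pCore p (H ⧸ pPrimeCore p H) := fun x => Iff.rfl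
  have hCp : IsPGroup p (pCore p (H ⧸ pPrimeCore p H)) := Cfsg.Agent.Lib.H1.pCore_isPGroup p _
  -- the quotient is nontrivial and has nontrivial `p`-core
  have ha1 : a ≠ 1 := by
    rintro rfl
    exact hab (by rw [one_mul, mul_one])
  have haN : a ∉ pPrimeCore p H := by
    intro h
    have h1 : orderOf a ∣ Nat.card (pPrimeCore p H) := by
      have := orderOf_dvd_natCard (⟨a, h⟩ : pPrimeCore p H)
      rwa [Subgroup.orderOf_mk] at this
    have h2 : orderOf a ∣ p := orderOf_dvd_of_pow_eq_one (hexp a haP)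
    have h3 : orderOf a = 1 := Nat.eq_one_of_dvd_coprimes hNcop h1 h2
    exact ha1 (orderOf_eq_one_iff.mp h3)
  have hnt : Nontrivial (H ⧸ pPrimeCore p H) := by
    refine ⟨⟨QuotientGroup.mk' _ a, 1, ?_⟩⟩
    rw [QuotientGroup.mk'_apply, Ne, QuotientGroup.eq_one_iff]
    exact haN
  have hsolv' : IsPSolvable p (H ⧸ pPrimeCore p H) :=
    Cfsg.Agent.Lib.H10.isPSolvable_quotient hsolv _
  obtain ⟨M, hMn, hM1, hM⟩ := Cfsg.Agent.Lib.H10.exists_normal_of_isPSolvable hsolv'
  have hMp : IsPGroup p M := by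
    rcases hM with h | h
    · exact h
    · exfalso
      apply hM1
      have := le_pPrimeCore p M hMn h
      rwa [Cfsg.Agent.Lib.H9.pPrimeCore_quotient_eq_bot, le_bot_iff] at this
  have hMC : M ≤ pCore p (H ⧸ pPrimeCore p H) := Cfsg.Agent.Lib.H1.le_pCore hMn hMp
  have hC1 : pCore p (H ⧸ pPrimeCore p H) ≠ ⊥ := by
    intro h
    apply hM1
    rw [h, le_bot_iff] at hMC
    exact hMC
  -- `p` divides `|R|`
  have hRdvd : p ∣ Nat.card (pPrimePCore p H) := by
    by_contra hnd
    have hcop : (Nat.card (pPrimePCore p H)).Coprime p :=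
      (Nat.Coprime.symm ((Nat.Prime.coprime_iff_not_dvd hp.out).mpr hnd))
    have hle := le_pPrimeCore p _ hRn hcop
    apply hC1
    rw [eq_bot_iff]
    intro q hq
    obtain ⟨x, rfl⟩ := QuotientGroup.mk'_surjective (pPrimeCore p H) q
    have hx : x ∈ pPrimePCore p H := (hmemR x).mpr hq
    rw [Subgroup.mem_bot, QuotientGroup.mk'_apply, QuotientGroup.eq_one_iff]
    exact hle hx
  -- hence `R ∩ P ≠ 1`
  have hRP : pPrimePCore p H ⊓ (P : Subgroup H) ≠ ⊥ := by
    obtain ⟨u, hu⟩ := exists_prime_orderOf_dvd_card' p hRdvd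
    have hu' : orderOf (u : H) = p := by rw [Subgroup.orderOf_coe]; exact hu
    have hzp : IsPGroup p (Subgroup.zpowers (u : H)) := by
      apply IsPGroup.of_card (n := 1)
      rw [Nat.card_zpowers, hu', pow_one]
    obtain ⟨P', hP'⟩ := hzp.exists_le_sylow
    obtain ⟨h, hh⟩ := MulAction.exists_smul_eq H P' P
    have huP' : (u : H) ∈ (P' : Subgroup H) := hP' (Subgroup.mem_zpowers _)
    have hconj : h * (u : H) * h⁻¹ ∈ (P : Subgroup H) := by
      rw [← hh, Cfsg.Agent.Lib.H16.mem_sylow_smul_iff]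
      have : h⁻¹ * (h * (u : H) * h⁻¹) * h = (u : H) := by group
      rw [this]; exact huP'
    intro hbot
    have hmem : h * (u : H) * h⁻¹ ∈ pPrimePCore p H ⊓ (P : Subgroup H) :=
      ⟨hRn.conj_mem _ u.2 h, hconj⟩
    rw [hbot, Subgroup.mem_bot] at hmem
    have : (u : H) = 1 := by
      have : h * (u : H) * h⁻¹ = h * 1 * h⁻¹ := by rw [hmem]; group
      exact mul_left_cancel (mul_right_cancel this)
    rw [this, orderOf_one] at hu'
    exact hp.out.one_lt.ne hu'
  have hPR : (P : Subgroup H) ≤ pPrimePCore p H := by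
    rcases inf_eq_bot_or_le_of_char hA P hexp _ hRchar with h | h
    · exact absurd h hRP
    · exact h
  -- the second characteristic subgroup
  have hWchar : ∀ e : H ≃* H, (⁅pPrimePCore p H, pPrimePCore p H⁆ ⊔ pPrimeCore p H).map
      e.toMonoidHom = ⁅pPrimePCore p H, pPrimePCore p H⁆ ⊔ pPrimeCore p H := by
    intro e
    rw [Subgroup.map_sup, Subgroup.map_commutator, hRchar e, hNchar e]
  have hWP : (⁅pPrimePCore p H, pPrimePCore p H⁆ ⊔ pPrimeCore p H) ⊓ (P : Subgroup H) ≠ ⊥ := by
    intro hbot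
    have hmem : ⁅a, b⁆ ∈ (⁅pPrimePCore p H, pPrimePCore p H⁆ ⊔ pPrimeCore p H) ⊓
        (P : Subgroup H) := by
      refine ⟨Subgroup.mem_sup_left (Subgroup.commutator_mem_commutator (hPR haP) (hPR hbP)), ?_⟩
      rw [commutatorElement_def]
      exact Subgroup.mul_mem _ (Subgroup.mul_mem _ (Subgroup.mul_mem _ haP hbP)
        (Subgroup.inv_mem _ haP)) (Subgroup.inv_mem _ hbP)
    rw [hbot, Subgroup.mem_bot, commutatorElement_eq_one_iff_mul_comm] at hmem
    exact hab hmem
  have hPW : (P : Subgroup H) ≤ ⁅pPrimePCore p H, pPrimePCore p H⁆ ⊔ pPrimeCore p H := by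
    rcases inf_eq_bot_or_le_of_char hA P hexp _ hWchar with h | h
    · exact absurd h hWP
    · exact h
  -- images in the quotient
  have hsurj := QuotientGroup.mk'_surjective (pPrimeCore p H)
  have hmapR : (pPrimePCore p H).map (QuotientGroup.mk' (pPrimeCore p H)) =
      pCore p (H ⧸ pPrimeCore p H) := Subgroup.map_comap_eq_self_of_surjective hsurj _
  have hmapP : (P : Subgroup H).map (QuotientGroup.mk' (pPrimeCore p H)) =
      pCore p (H ⧸ pPrimeCore p H) := by
    have h1 := Cfsg.Agent.Lib.H7.map_sylow_pPrimePCore p (P.subtype hPR)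
    rw [Sylow.coe_subtype, Subgroup.map_subgroupOf_eq_of_le hPR] at h1
    exact h1
  have hmapW : (⁅pPrimePCore p H, pPrimePCore p H⁆ ⊔ pPrimeCore p H).map
      (QuotientGroup.mk' (pPrimeCore p H)) =
      ⁅pCore p (H ⧸ pPrimeCore p H), pCore p (H ⧸ pPrimeCore p H)⁆ := by
    rw [Subgroup.map_sup, Subgroup.map_commutator, hmapR, QuotientGroup.map_mk'_self, sup_bot_eq]
  apply not_le_commutator_self_of_isPGroup _ hCp hC1
  rw [← hmapW, ← hmapP]
  exact Subgroup.map_mono hPW

end

end Cfsg.Agent.Lib.H22
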