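import Mathlib
import Cfsg.Agent.S4475
import Cfsg.Agent.Lib.H24.CharFSInd
import Cfsg.Agent.Lib.H24.CharFS
import Cfsg.Agent.Lib.H24.CharConj
import Cfsg.Agent.Lib.L0.PrincipalCrit
import Cfsg.Agent.Lib.H22.KleinOrder

/-!
# Parity facts for Frobenius–Schur indicators (helper22)

* `even_of_fsInd_neg_one`: an irreducible representation with indicator `-1` has even degree;
* `irr_sub_involution`: `χ(1) - χ(J)` is twice a natural number for an involution `J`;
* `fsInd_ne_neg_one_of_odd_value`: `χ(J) = ±1` at an involution forces `ν(χ) ≠ -1`;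
* `irrConj_mem_principalBlock`: the principal block is closed under complex conjugation;
* `fs_block_sum`: `∑_{χ ∈ B₀} ν(χ) χ(J) = 0` in the Klein four setting.
-/

set_option autoImplicit false

namespace Cfsg.Agent.Lib.H22.FSParity

open Cfsg Cfsg.Agent.Lib.H24 Cfsg.Agent.Lib.H23 Cfsg.Agent.Lib.H22.KleinOrder
open scoped ComplexConjugate

section LinAlg

theorem trace_sub_of_involution {V : Type*} [AddCommGroup V] [Module ℂ V] [FiniteDimensional ℂ V]
    (A : V →ₗ[ℂ] V) (hA : A * A = 1) :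
    ∃ d : ℕ, LinearMap.trace ℂ V 1 - LinearMap.trace ℂ V A = 2 * (d : ℂ) := by
  obtain ⟨f, hf⟩ : ∃ f : V →ₗ[ℂ] V, f = (1 / 2 : ℂ) • (1 - A) := ⟨_, rfl⟩
  have hsq : (1 - A) * (1 - A) = (2 : ℂ) • (1 - A) := by
    calc (1 - A) * (1 - A) = 1 - A - A + A * A := by noncomm_ring
      _ = 1 - A - A + 1 := by rw [hA]
      _ = (2 : ℂ) • (1 - A) := by rw [two_smul]; abel
  have hidem : IsIdempotentElem f := by
    unfold IsIdempotentElem
    rw [hf, smul_mul_smul_comm, hsq, smul_smul]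
    congr 1
    norm_num
  have hproj := (LinearMap.isProj_range_iff_isIdempotentElem f).2 hidem
  have htr := hproj.trace
  refine ⟨Module.finrank ℂ (LinearMap.range f), ?_⟩
  rw [← htr, hf, map_smul, map_sub, smul_eq_mul]
  ring

end LinAlg

section Rep

variable {G : Type*} [Group G] [Fintype G]

theorem even_of_fsInd_neg_one {n : ℕ} (ρ : Representation ℂ G (Fin n → ℂ))
    (hρ : ρ.IsIrreducible) (hν : fsInd ρ.character = -1) : Even n := by
  have hreal : ∀ s, (ρ.character s).im = 0 := by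
    rcases fsInd_rep_cases ρ hρ with ⟨h0, _⟩ | ⟨_, hr⟩
    · rw [hν] at h0; norm_num at h0
    · exact hr
  obtain ⟨B, hne, hB, hflip⟩ := exists_invForm_of_real ρ hρ hreal
  rw [hν] at hflip
  have hker := hB.ker_eq_bot hρ hne
  obtain ⟨A, hA⟩ : ∃ A : Matrix (Fin n) (Fin n) ℂ, A = LinearMap.toMatrix₂' ℂ B := ⟨_, rfl⟩
  have hAt : A.transpose = -A := by
    rw [hA, ← Cfsg.Agent.S4475.toMatrix₂'_flip, hflip, map_smul, neg_one_smul]
  by_contra hodd
  rw [Nat.not_even_iff_odd] at hodd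
  have hdet : A.det = 0 := by
    have h1 : A.det = (-1) ^ n * A.det := by
      conv_lhs => rw [← Matrix.det_transpose, hAt, Matrix.det_neg, Fintype.card_fin]
    rw [hodd.neg_one_pow] at h1
    linear_combination (1 / 2 : ℂ) * h1
  have hdet' : A.transpose.det = 0 := by rw [Matrix.det_transpose, hdet]
  obtain ⟨v, hv0, hv⟩ := Matrix.exists_mulVec_eq_zero_iff.2 hdet'
  apply hv0
  have hmem : v ∈ LinearMap.ker B := by
    rw [LinearMap.mem_ker]
    refine LinearMap.ext fun w => ?_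
    have h1 : B v w = v ⬝ᵥ A.mulVec w := by
      rw [hA, ← Matrix.toLinearMap₂'_apply', Matrix.toLinearMap₂'_toMatrix']
    rw [h1, Matrix.dotProduct_mulVec, ← Matrix.mulVec_transpose, hv]
    simp
  rw [hker] at hmem
  exact (Submodule.mem_bot ℂ).1 hmem

theorem even_degree_of_fsInd_neg_one (χ : IrrCharacter G) (hν : fsInd (χ : G → ℂ) = -1) :
    ∃ m : ℕ, (χ : G → ℂ) 1 = ((m + m : ℕ) : ℂ) := by
  obtain ⟨n, ρ, hρ, hχ⟩ := irr_exists_rep χ
  rw [← hχ] at hν ⊢
  obtain ⟨m, hm⟩ := even_of_fsInd_neg_one ρ hρ hν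
  refine ⟨m, ?_⟩
  rw [Representation.char_one, Module.finrank_fin_fun, hm]

theorem irr_sub_involution (χ : IrrCharacter G) {J : G} (hJ : J * J = 1) :
    ∃ d : ℕ, (χ : G → ℂ) 1 - (χ : G → ℂ) J = 2 * (d : ℂ) := by
  obtain ⟨n, ρ, hρ, hχ⟩ := irr_exists_rep χ
  rw [← hχ]
  have hA : ρ J * ρ J = 1 := by rw [← map_mul, hJ, map_one]
  obtain ⟨d, hd⟩ := trace_sub_of_involution (ρ J) hA
  refine ⟨d, ?_⟩
  rw [← hd]
  show LinearMap.trace ℂ _ (ρ 1) - LinearMap.trace ℂ _ (ρ J) = _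
  rw [map_one]

theorem fsInd_ne_neg_one_of_odd_value (χ : IrrCharacter G) {J : G} (hJ : J * J = 1) {ε : ℤ}
    (hε : ε = 1 ∨ ε = -1) (hv : (χ : G → ℂ) J = ε) : fsInd (χ : G → ℂ) ≠ -1 := by
  intro hν
  obtain ⟨m, hm⟩ := even_degree_of_fsInd_neg_one χ hν
  obtain ⟨d, hd⟩ := irr_sub_involution χ hJ
  rw [hm, hv] at hd
  have h : ((m + m : ℕ) : ℤ) - ε = 2 * (d : ℤ) := by exact_mod_cast hd
  rcases hε with rfl | rfl <;> omega

theorem irrConj_mem_principalBlock {p : ℕ} [Fact p.Prime] {M : Ideal AlgInt}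
    (hM : IsPModular p M) {χ : IrrCharacter G} (hχ : χ ∈ principalBlock M G) :
    irrConj χ ∈ principalBlock M G := by
  classical
  rw [Cfsg.Agent.Lib.L0.PrincipalCrit.mem_principalBlock_iff hM,
    Cfsg.Agent.Lib.L0.PrincipalCrit.charEval_regSum] at hχ ⊢
  have h : ∑ x : G, (if p ∣ orderOf x then 0 else (irrConj χ : G → ℂ) x) =
      conj (∑ x : G, if p ∣ orderOf x then 0 else (χ : G → ℂ) x) := by
    rw [map_sum]
    refine Finset.sum_congr rfl fun x _ => ?_
    split_ifs <;> simp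
  rw [h]
  exact (map_ne_zero _).2 hχ

open scoped Classical in
theorem fs_block_sum {M : Ideal AlgInt} (hM : IsPModular 2 M) {J : G} (hJ2 : orderOf J = 2)
    [Fintype ↥(Subgroup.centralizer ({J} : Set G))] [Fintype (IrrCharacter G)]
    (K : Subgroup ↥(Subgroup.centralizer ({J} : Set G))) [K.Normal] (hK : Odd (Nat.card K))
    (hcard : 4 * Nat.card K = Nat.card ↥(Subgroup.centralizer ({J} : Set G)))
    (hno : ∀ k ∈ K, ∀ y : G, y * y ≠ (k : G) * J) :
    ∑ χ : IrrCharacter G, (if χ ∈ principalBlock M G then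
      fsInd (χ : G → ℂ) * (χ : G → ℂ) J else 0) = 0 := by
  have hKne : (Nat.card K : ℂ) ≠ 0 := by exact_mod_cast (Nat.card_pos (α := K)).ne'
  have h0 : ∀ k : ↥(Subgroup.centralizer ({J} : Set G)), k ∈ K →
      ∑ χ : IrrCharacter G, fsInd (χ : G → ℂ) * (χ : G → ℂ) ((k : G) * J) = 0 := by
    intro k hk
    rw [← card_sqrt_eq_sum]
    have : IsEmpty {s : G // s * s = (k : G) * J} := ⟨fun s => hno k hk s.1 s.2⟩
    rw [Nat.card_of_isEmpty, Nat.cast_zero]
  have h1 : ∑ k : ↥(Subgroup.centralizer ({J} : Set G)), (if k ∈ K then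
      ∑ χ : IrrCharacter G, fsInd (χ : G → ℂ) * (χ : G → ℂ) ((k : G) * J) else 0) = 0 := by
    refine Finset.sum_eq_zero fun k _ => ?_
    split_ifs with hk
    · exact h0 k hk
    · rfl
  have h2 : ∑ k : ↥(Subgroup.centralizer ({J} : Set G)), (if k ∈ K then
      ∑ χ : IrrCharacter G, fsInd (χ : G → ℂ) * (χ : G → ℂ) ((k : G) * J) else 0) =
      (Nat.card K : ℂ) * ∑ χ : IrrCharacter G, (if χ ∈ principalBlock M G then
        fsInd (χ : G → ℂ) * (χ : G → ℂ) J else 0) := by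
    calc ∑ k : ↥(Subgroup.centralizer ({J} : Set G)), (if k ∈ K then
        ∑ χ : IrrCharacter G, fsInd (χ : G → ℂ) * (χ : G → ℂ) ((k : G) * J) else 0)
        = ∑ k : ↥(Subgroup.centralizer ({J} : Set G)), ∑ χ : IrrCharacter G,
          fsInd (χ : G → ℂ) * (if k ∈ K then (χ : G → ℂ) ((k : G) * J) else 0) := by
          refine Finset.sum_congr rfl fun k _ => ?_
          split_ifs <;> simp
      _ = ∑ χ : IrrCharacter G, fsInd (χ : G → ℂ) *
          ∑ k : ↥(Subgroup.centralizer ({J} : Set G)),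
            (if k ∈ K then (χ : G → ℂ) ((k : G) * J) else 0) := by
          rw [Finset.sum_comm]
          refine Finset.sum_congr rfl fun χ _ => ?_
          rw [Finset.mul_sum]
      _ = _ := by
          rw [Finset.mul_sum]
          refine Finset.sum_congr rfl fun χ _ => ?_
          rw [sum_coset hM hJ2 K hK hcard χ]
          split_ifs <;> ring
  rw [h2] at h1
  exact (mul_eq_zero.1 h1).resolve_left hKne

end Rep

end Cfsg.Agent.Lib.H22.FSParity
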