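import Cfsg.Agent.Lib.H28.Fi22M.Base
import Cfsg.Agent.Lib.H17.O7Main
import Cfsg.Agent.Lib.H17.Fi22Ord.Order
import Cfsg.Agent.Lib.H28.O73M.Main
import Cfsg.Agent.Lib.H28.O73M.GS
import Cfsg.Agent.Lib.H5.O73AB6
import Cfsg.Agent.Lib.H18.SchurTransport

/-!
# S2053 piece BF1 (helper28 architect; draft by helper23, compiled/landed by helper22): facts on `KS9 = ⟨b, …, i⟩ ≅ Ω₇(3)` inside `Fi₂₂`
-/

set_option autoImplicit false
set_option maxRecDepth 100000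

namespace Cfsg.Agent.Lib.H22.Fi22M

open Cfsg.Agent.Lib.H28.Fi22M
open Cfsg.Agent.Lib.H14.SuzM (wv SL.L)
open scoped commutatorElement

/-- `KS9` is helper17's subgroup `K` -/
theorem KS9_eq_K : (KS9 : Subgroup FG) = Cfsg.Agent.Lib.H17.O7K.K := by
  rw [Cfsg.Agent.Lib.H17.O7K.K_eq]
  unfold KS9 HK9
  congr 1
  ext x
  simp only [Set.mem_insert_iff, Set.mem_singleton_iff, Set.mem_image,
    Cfsg.Agent.Lib.H17.Fi22O73.S]
  constructor
  · rintro (rfl | rfl | rfl | rfl | rfl | rfl | rfl | rfl)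
    · exact ⟨_, Or.inl rfl, rfl⟩
    · exact ⟨_, Or.inr (Or.inl rfl), rfl⟩
    · exact ⟨_, Or.inr (Or.inr (Or.inl rfl)), rfl⟩
    · exact ⟨_, Or.inr (Or.inr (Or.inr (Or.inl rfl))), rfl⟩
    · exact ⟨_, Or.inr (Or.inr (Or.inr (Or.inr (Or.inl rfl)))), rfl⟩
    · exact ⟨_, Or.inr (Or.inr (Or.inr (Or.inr (Or.inr (Or.inl rfl))))), rfl⟩
    · exact ⟨_, Or.inr (Or.inr (Or.inr (Or.inr (Or.inr (Or.inr (Or.inl rfl)))))), rfl⟩
    · exact ⟨_, Or.inr (Or.inr (Or.inr (Or.inr (Or.inr (Or.inr (Or.inr rfl)))))), rfl⟩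
  · rintro ⟨s, (rfl | rfl | rfl | rfl | rfl | rfl | rfl | rfl), rfl⟩
    · exact Or.inl rfl
    · exact Or.inr (Or.inl rfl)
    · exact Or.inr (Or.inr (Or.inl rfl))
    · exact Or.inr (Or.inr (Or.inr (Or.inl rfl)))
    · exact Or.inr (Or.inr (Or.inr (Or.inr (Or.inl rfl))))
    · exact Or.inr (Or.inr (Or.inr (Or.inr (Or.inr (Or.inl rfl)))))
    · exact Or.inr (Or.inr (Or.inr (Or.inr (Or.inr (Or.inr (Or.inl rfl))))))
    · exact Or.inr (Or.inr (Or.inr (Or.inr (Or.inr (Or.inr (Or.inr rfl))))))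

theorem finite_FG : Finite FG :=
  Nat.finite_of_card_ne_zero (by rw [Cfsg.Agent.Lib.H17.Fi22Ord.card_eq]; norm_num)

/-- a perfect subgroup equals its own commutator -/
theorem comm_self_of_perfect {G : Type*} [Group G] (K : Subgroup G) (h : commutator K = ⊤) :
    ⁅K, K⁆ = K := by
  have h1 := Subgroup.map_commutator (⊤ : Subgroup K) ⊤ K.subtype
  rw [← commutator_def, h, ← MonoidHom.range_eq_map, Subgroup.range_subtype] at h1
  exact h1.symm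

/-- the multiplier of `Ω₇(3)` as in `S2095` -/
theorem mult_Om6 : Cfsg.HasCyclicSchurMultiplier ↥Cfsg.Agent.Lib.H17.O7Main.Om 6 :=
  Cfsg.Agent.Lib.H28.O73M.mult_Om
    (fun hcard X hgen hX hXc hbound hm3 hm2 hlift =>
      Cfsg.Agent.Lib.H5.O73M.main_abstract6 hcard X hgen hX hXc hbound hm3 hm2 hlift)
    Cfsg.Agent.Lib.H28.O73M.GS.exists_gens18

/-- **BF1** -/
theorem facts_KS9 : Finite FG ∧ (KS9 : Subgroup FG).index = 14080 ∧ ⁅KS9, KS9⁆ = KS9 ∧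
    ∀ (L : Type) [Group L] [Finite L] (τ : L →* ↥KS9), Cfsg.IsStemExtension τ → Nat.card τ.ker ∣ 6 := by
  refine ⟨finite_FG, ?_, ?_, ?_⟩
  · rw [KS9_eq_K]
    exact Cfsg.Agent.Lib.H17.Fi22O73.index_eq
  · rw [KS9_eq_K]
    exact comm_self_of_perfect _ Cfsg.Agent.Lib.H17.O7K.perfect_K
  · intro L _ _ τ hτ
    have := finite_FG
    have hOm : Finite ↥Cfsg.Agent.Lib.H17.O7Main.Om := Cfsg.Agent.Lib.H28.O73M.finite_Om
    have e : ↥Cfsg.Agent.Lib.H17.O7Main.Om ≃* ↥KS9 :=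
      (Cfsg.Agent.Lib.H17.O7Main.isoΩ.trans Cfsg.Agent.Lib.H17.O7K.isoK.symm).trans
        (MulEquiv.subgroupCongr KS9_eq_K.symm)
    have hm : Cfsg.HasSchurMultiplier ↥KS9 (Multiplicative (ZMod 6)) :=
      Cfsg.Agent.Lib.H18.SchurTransport.hasSchurMultiplier_of_group_mulEquiv e mult_Om6
    obtain ⟨π, hπ⟩ := hm.2 L τ hτ
    have h1 := Subgroup.card_dvd_of_surjective π hπ
    have h2 : Nat.card (Multiplicative (ZMod 6)) = 6 := by
      rw [Nat.card_eq_fintype_card]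
      rfl
    rwa [h2] at h1

end Cfsg.Agent.Lib.H22.Fi22M
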