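import Cfsg.Agent.Lib.H28.Fi22M.Base
import Cfsg.Agent.Lib.H6.CoxUB

/-!
# S2053 piece E7 (helper22): the derived subgroup of a group with the Coxeter relations of `E₇`
over `b, …, h` meets the kernel trivially
-/

set_option autoImplicit false

namespace Cfsg.Agent.Lib.H22.Fi22M

open Cfsg.Agent.Lib.H28.Fi22M
open Cfsg.Agent.Lib.H14.SuzM (wv SL.L)
open scoped commutatorElement

/-- the letters of the nodes of `E₇` (Bourbaki `1, 2, 3, 4, 5, 6, 7` = `b, h, c, d, e, f, g`) -/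
def ell7 : Fin 7 → ℕ := ![1, 7, 2, 3, 4, 5, 6]

section pairs

variable {Γ : Type*} [Group Γ]

theorem pair_two (a b : Γ) (h : a * (b * (a * (b * 1))) = 1) :
    (a * b) ^ 2 = 1 ∧ (b * a) ^ 2 = 1 := by
  have h1 : (a * b) ^ 2 = 1 := by
    rw [pow_two, ← h]
    group
  refine ⟨h1, ?_⟩
  have h2 : (b * a) ^ 2 = a⁻¹ * (a * b) ^ 2 * a := by
    rw [pow_two, pow_two]
    group
  rw [h2, h1]
  group

theorem pair_three (a b : Γ) (h : a * (b * (a * (b * (a * (b * 1))))) = 1) :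
    (a * b) ^ 3 = 1 ∧ (b * a) ^ 3 = 1 := by
  have h1 : (a * b) ^ 3 = 1 := by
    rw [pow_succ, pow_two, ← h]
    group
  refine ⟨h1, ?_⟩
  have h2 : (b * a) ^ 3 = a⁻¹ * (a * b) ^ 3 * a := by
    rw [pow_succ, pow_two, pow_succ, pow_two]
    group
  rw [h2, h1]
  group

variable (y : ℕ → Γ)
  (hinv : ∀ i, 1 ≤ i → i ≤ 7 → y i * y i = 1)
  (hcox : ∀ w ∈ coxL, (∀ x ∈ w, 1 ≤ x ∧ x ≤ 7) → wv y w = 1)

include hcox in
theorem rel_two (a b : ℕ) (hab : [a, b, a, b] ∈ coxL) (ha : 1 ≤ a ∧ a ≤ 7) (hb : 1 ≤ b ∧ b ≤ 7) :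
    (y a * y b) ^ 2 = 1 ∧ (y b * y a) ^ 2 = 1 := by
  apply pair_two
  have := hcox _ hab (by
    intro x hx
    simp only [List.mem_cons, List.not_mem_nil, or_false] at hx
    rcases hx with rfl | rfl | rfl | rfl <;> assumption)
  simpa [wv] using this

include hcox in
theorem rel_three (a b : ℕ) (hab : [a, b, a, b, a, b] ∈ coxL) (ha : 1 ≤ a ∧ a ≤ 7)
    (hb : 1 ≤ b ∧ b ≤ 7) : (y a * y b) ^ 3 = 1 ∧ (y b * y a) ^ 3 = 1 := by
  apply pair_three
  have := hcox _ hab (by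
    intro x hx
    simp only [List.mem_cons, List.not_mem_nil, or_false] at hx
    rcases hx with rfl | rfl | rfl | rfl | rfl | rfl <;> assumption)
  simpa [wv] using this

include hinv hcox in
theorem liftable7 : CoxeterMatrix.E₇.IsLiftable (fun i => y (ell7 i)) := by
  intro i i'
  fin_cases i <;> fin_cases i' <;>
    first
    | (show (y _ * y _) ^ 1 = 1; rw [pow_one]; exact hinv _ (by decide) (by decide))
    | exact (rel_two y hcox _ _ (by decide) (by decide) (by decide)).1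
    | exact (rel_two y hcox _ _ (by decide) (by decide) (by decide)).2
    | exact (rel_three y hcox _ _ (by decide) (by decide) (by decide)).1
    | exact (rel_three y hcox _ _ (by decide) (by decide) (by decide)).2

end pairs


section main

/-- the Weyl group of type `E₇` -/
abbrev W7 : Type := CoxeterMatrix.E₇.Group

/-- its Coxeter system -/
noncomputable def cs7 : CoxeterSystem CoxeterMatrix.E₇ W7 := CoxeterMatrix.E₇.toCoxeterSystem

instance finite_W7 : Finite W7 := Cfsg.Agent.Lib.H6.CoxTC.ub_E7.1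

/-- the sign character -/
noncomputable def sgn7 : W7 →* Multiplicative (ZMod 2) :=
  cs7.lift ⟨fun _ => Multiplicative.ofAdd (1 : ZMod 2), by
    intro i i'
    have h : Multiplicative.ofAdd (1 : ZMod 2) * Multiplicative.ofAdd (1 : ZMod 2) = 1 := by decide
    rw [h, one_pow]⟩

theorem sgn7_simple (i : Fin 7) : sgn7 (cs7.simple i) = Multiplicative.ofAdd (1 : ZMod 2) :=
  cs7.lift_apply_simple _ i

/-- the element `(b c d e f g h)⁹` of `W(E₇)` -/
noncomputable def om7 : W7 :=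
  (cs7.simple 0 * cs7.simple 2 * cs7.simple 3 * cs7.simple 4 * cs7.simple 5 * cs7.simple 6 *
    cs7.simple 1) ^ 9

theorem sgn7_om7 : sgn7 om7 ≠ 1 := by
  unfold om7
  rw [map_pow]
  simp only [map_mul, sgn7_simple]
  decide

variable {Γ : Type} [Group Γ] (σ : Γ →* FG) (y : ℕ → Γ)
  (hy : ∀ i, 1 ≤ i → i ≤ 7 → σ (y i) = fg i) (hinv : ∀ i, 1 ≤ i → i ≤ 7 → y i * y i = 1)
  (hcox : ∀ w ∈ coxL, (∀ x ∈ w, 1 ≤ x ∧ x ≤ 7) → wv y w = 1)

/-- the map from `W(E₇)` onto `⟨y 1, …, y 7⟩` -/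
noncomputable def piW : W7 →* Γ := cs7.lift ⟨fun i => y (ell7 i), liftable7 y hinv hcox⟩

theorem piW_simple (i : Fin 7) : piW y hinv hcox (cs7.simple i) = y (ell7 i) :=
  cs7.lift_apply_simple _ i

omit [Group Γ] in
theorem range_ell7 (z : ℕ → Γ) :
    Set.range (fun i : Fin 7 => z (ell7 i)) = {z 1, z 2, z 3, z 4, z 5, z 6, z 7} := by
  ext x
  simp only [Set.mem_range, Set.mem_insert_iff, Set.mem_singleton_iff]
  constructor
  · rintro ⟨i, rfl⟩
    fin_cases i <;> simp [ell7]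
  · rintro (rfl | rfl | rfl | rfl | rfl | rfl | rfl)
    · exact ⟨0, rfl⟩
    · exact ⟨2, rfl⟩
    · exact ⟨3, rfl⟩
    · exact ⟨4, rfl⟩
    · exact ⟨5, rfl⟩
    · exact ⟨6, rfl⟩
    · exact ⟨1, rfl⟩

theorem range_piW : (piW y hinv hcox).range = HK7 y := by
  rw [MonoidHom.range_eq_map, ← cs7.subgroup_closure_range_simple, MonoidHom.map_closure,
    ← Set.range_comp]
  unfold HK7
  congr 1
  rw [← range_ell7 y]
  congr 1
  funext i
  exact piW_simple y hinv hcox i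

include hy in
theorem range_comp : (σ.comp (piW y hinv hcox)).range = KS7 := by
  rw [MonoidHom.range_eq_map, ← cs7.subgroup_closure_range_simple, MonoidHom.map_closure,
    ← Set.range_comp]
  unfold KS7 HK7
  congr 1
  rw [← range_ell7 fg]
  congr 1
  funext i
  show σ (piW y hinv hcox (cs7.simple i)) = fg (ell7 i)
  rw [piW_simple]
  apply hy <;> fin_cases i <;> decide

include hy in
theorem om7_mem_ker : om7 ∈ (σ.comp (piW y hinv hcox)).ker := by
  rw [MonoidHom.mem_ker]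
  have h := wv_fg_relW [1, 2, 3, 4, 5, 6, 7, 1, 2, 3, 4, 5, 6, 7, 1, 2, 3, 4, 5, 6, 7,
    1, 2, 3, 4, 5, 6, 7, 1, 2, 3, 4, 5, 6, 7, 1, 2, 3, 4, 5, 6, 7, 1, 2, 3, 4, 5, 6, 7,
    1, 2, 3, 4, 5, 6, 7, 1, 2, 3, 4, 5, 6, 7] (by decide)
  have e : ∀ i : Fin 7, σ (piW y hinv hcox (cs7.simple i)) = fg (ell7 i) := by
    intro i
    rw [piW_simple]
    apply hy <;> fin_cases i <;> decide
  unfold om7
  rw [MonoidHom.comp_apply, map_pow, map_pow]
  simp only [map_mul, e]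
  rw [← h]
  simp only [wv, ell7, List.map_cons, List.map_nil, List.prod_cons, List.prod_nil, mul_one]
  simp only [pow_succ, pow_zero, one_mul, mul_assoc]
  rfl

include hy in
theorem card_ker_comp_le (hcard : Nat.card ↥KS7 = 1451520) :
    Nat.card (σ.comp (piW y hinv hcox)).ker ≤ 2 := by
  have hub : Nat.card W7 ≤ 2903040 := Cfsg.Agent.Lib.H6.CoxTC.ub_E7.2
  have h1 : Nat.card (σ.comp (piW y hinv hcox)).ker * Nat.card (σ.comp (piW y hinv hcox)).range =
      Nat.card W7 := by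
    rw [← Subgroup.index_ker]
    exact Subgroup.card_mul_index _
  rw [range_comp σ y hy hinv hcox, hcard] at h1
  omega

/-- **E7** -/
theorem commutator_HK7_inf_ker {Γ : Type} [Group Γ] (σ : Γ →* FG) (y : ℕ → Γ)
    (hy : ∀ i, 1 ≤ i → i ≤ 7 → σ (y i) = fg i) (hinv : ∀ i, 1 ≤ i → i ≤ 7 → y i * y i = 1)
    (hcox : ∀ w ∈ coxL, (∀ x ∈ w, 1 ≤ x ∧ x ≤ 7) → wv y w = 1)
    (hcard : Nat.card ↥KS7 = 1451520) : ⁅HK7 y, HK7 y⁆ ⊓ σ.ker = ⊥ := by
  rw [eq_bot_iff]
  rintro x ⟨hx1, hx2⟩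
  rw [Subgroup.mem_bot]
  have hx1' : x ∈ ⁅HK7 y, HK7 y⁆ := hx1
  rw [← range_piW y hinv hcox, MonoidHom.range_eq_map, ← Subgroup.map_commutator] at hx1'
  obtain ⟨w, hw, rfl⟩ := Subgroup.mem_map.1 hx1'
  have hsw : sgn7 w = 1 := by
    have h := Abelianization.commutator_subset_ker sgn7
    rw [commutator_def] at h
    exact MonoidHom.mem_ker.1 (h hw)
  have hwk : w ∈ (σ.comp (piW y hinv hcox)).ker := by
    rw [MonoidHom.mem_ker, MonoidHom.comp_apply]
    exact MonoidHom.mem_ker.1 hx2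
  have hok := om7_mem_ker σ y hy hinv hcox
  have hk := card_ker_comp_le σ y hy hinv hcox hcard
  by_contra hne
  have hw1 : w ≠ 1 := by
    intro h
    apply hne
    rw [h, map_one]
  have hwo : w ≠ om7 := by
    intro h
    rw [h] at hsw
    exact sgn7_om7 hsw
  have ho1 : om7 ≠ 1 := by
    intro h
    apply sgn7_om7
    rw [h, map_one]
  have hsub : ({(1 : W7), om7, w} : Set W7) ⊆ ((σ.comp (piW y hinv hcox)).ker : Set W7) := by
    intro z hz
    rcases hz with rfl | rfl | rfl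
    · exact one_mem _
    · exact hok
    · exact hwk
  have h3 : ({(1 : W7), om7, w} : Set W7).ncard = 3 :=
    Set.ncard_eq_three.2 ⟨1, om7, w, ho1.symm, hw1.symm, hwo.symm, rfl⟩
  have h4 := Set.ncard_le_ncard hsub (Set.toFinite _)
  rw [h3, ← Nat.card_coe_set_eq] at h4
  have h5 : Nat.card ↥((σ.comp (piW y hinv hcox)).ker : Set W7) =
      Nat.card (σ.comp (piW y hinv hcox)).ker := rfl
  omega

end main

end Cfsg.Agent.Lib.H22.Fi22M
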