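import Cfsg.Agent.Lib.H28.Fi22M.Base

/-!
# S2053 piece Y2 (helper22): the part of the kernel of a stem extension of `Fi₂₂` inside the lift of
`Ω₇(3)` has order dividing `3`
-/

set_option autoImplicit false

namespace Cfsg.Agent.Lib.H22.Fi22M

open Cfsg.Agent.Lib.H28.Fi22M
open Cfsg.Agent.Lib.H14.SuzM (wv SL.L)
open Cfsg.Agent.Lib.H14.SuzM
open scoped commutatorElement

/-- the conclusion of **CL** (copy of the definition in the signature file) -/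
def CoxLift : Prop :=
  ∀ (Γ : Type) [Group Γ] (σ : Γ →* FG), Function.Surjective σ → σ.ker ≤ Subgroup.center Γ →
    ∃ g : ℕ → Γ, (∀ i < 9, σ (g i) = fg i) ∧ (∀ i < 9, g i * g i = 1) ∧ ∀ w ∈ coxL, wv g w = 1

section

variable {Γ : Type} [Group Γ] (σ : Γ →* FG) (g : ℕ → Γ)

/-- `σ` maps `⟨g 1, …, g 7⟩` onto `⟨b, …, h⟩` -/
theorem map_HK7 (hg : ∀ i < 9, σ (g i) = fg i) : (HK7 g).map σ = KS7 := by
  unfold KS7 HK7
  rw [MonoidHom.map_closure]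
  congr 1
  simp only [Set.image_insert_eq, Set.image_singleton]
  rw [hg 1 (by norm_num), hg 2 (by norm_num), hg 3 (by norm_num), hg 4 (by norm_num),
    hg 5 (by norm_num), hg 6 (by norm_num), hg 7 (by norm_num)]

/-- every element over `⟨b, …, h⟩` is a product of an element of `⟨g 1, …, g 7⟩` and an element
of the kernel -/
theorem exists_HK7_mul (hg : ∀ i < 9, σ (g i) = fg i) {x : Γ} (hx : x ∈ KS7.comap σ) :
    ∃ h ∈ HK7 g, ∃ z ∈ σ.ker, x = h * z := by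
  have h1 : σ x ∈ (HK7 g).map σ := by
    rw [map_HK7 σ g hg]
    exact hx
  obtain ⟨h, hh, hhx⟩ := Subgroup.mem_map.1 h1
  refine ⟨h, hh, h⁻¹ * x, ?_, by group⟩
  rw [MonoidHom.mem_ker, map_mul, map_inv, hhx, inv_mul_cancel]

theorem comm_comap_KS7_le (hc : σ.ker ≤ Subgroup.center Γ) (hg : ∀ i < 9, σ (g i) = fg i) :
    ⁅KS7.comap σ, KS7.comap σ⁆ ≤ ⁅HK7 g, HK7 g⁆ := by
  rw [Subgroup.commutator_le]
  intro x1 h1 x2 h2
  obtain ⟨y1, hy1, z1, hz1, rfl⟩ := exists_HK7_mul σ g hg h1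
  obtain ⟨y2, hy2, z2, hz2, rfl⟩ := exists_HK7_mul σ g hg h2
  rw [SL.comm_central_mul σ hc hz1 hz2]
  exact Subgroup.commutator_mem_commutator hy1 hy2

end

/-- **Y2** -/
theorem card_inf_L_dvd_three (hCL : CoxLift)
    (hTR : ∀ {P : Type} [Group P], commutator P = ⊤ → ∀ (M : Subgroup P) [M.FiniteIndex] (z : P),
      z ∈ Subgroup.center P → z ^ M.index ∈ ⁅M, M⁆)
    (hE7 : ∀ {Γ : Type} [Group Γ] (σ : Γ →* FG) (y : ℕ → Γ),
      (∀ i, 1 ≤ i → i ≤ 7 → σ (y i) = fg i) → (∀ i, 1 ≤ i → i ≤ 7 → y i * y i = 1) →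
      (∀ w ∈ coxL, (∀ x ∈ w, 1 ≤ x ∧ x ≤ 7) → wv y w = 1) → ⁅HK7 y, HK7 y⁆ ⊓ σ.ker = ⊥)
    (hperf : ⁅KS9, KS9⁆ = KS9)
    (hmult : ∀ (L : Type) [Group L] [Finite L] (τ : L →* ↥KS9), Cfsg.IsStemExtension τ →
      Nat.card τ.ker ∣ 6)
    (hidx : (KS7 : Subgroup FG).relIndex KS9 = 3159)
    (Γ : Type) [Group Γ] [Finite Γ] (σ : Γ →* FG) (hσ : Cfsg.IsStemExtension σ) :
    Nat.card ↥(σ.ker ⊓ SL.L σ KS9) ∣ 3 := by
  obtain ⟨hs, hc, -⟩ := hσ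
  have hstem := SL.tau_stem σ KS9 hs hc hperf
  -- the kernel of `tau` is `σ.ker ⊓ L`
  have hcardeq : Nat.card (SL.tau σ KS9).ker = Nat.card ↥(σ.ker ⊓ SL.L σ KS9) := by
    apply Nat.card_congr
    refine ⟨fun x => ⟨x.1.1, (SL.mem_ker_tau σ KS9 x.1).1 x.2, x.1.2⟩,
      fun x => ⟨⟨x.1, x.2.2⟩, (SL.mem_ker_tau σ KS9 ⟨x.1, x.2.2⟩).2 x.2.1⟩, ?_, ?_⟩
    · intro x; rfl
    · intro x; rfl
  have h6 : Nat.card ↥(σ.ker ⊓ SL.L σ KS9) ∣ 6 := by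
    rw [← hcardeq]
    exact hmult _ (SL.tau σ KS9) hstem
  -- every element of `σ.ker ⊓ L` is killed by `3159`
  have hkill : ∀ z : Γ, z ∈ σ.ker ⊓ SL.L σ KS9 → z ^ 3159 = 1 := by
    intro z hz
    obtain ⟨g, hg, hginv, hgcox⟩ := hCL Γ σ hs hc
    have hperfL := SL.commutator_L_eq_top σ KS9 hs hc hperf
    -- the subgroup `M` of `L` over `KS7`
    set M : Subgroup ↥(SL.L σ KS9) := (KS7.subgroupOf KS9).comap (SL.tau σ KS9) with hM
    have hMidx : M.index = 3159 := by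
      rw [hM, Subgroup.index_comap_of_surjective _ hstem.1]
      exact hidx
    have : M.FiniteIndex := ⟨by rw [hMidx]; norm_num⟩
    have hzc : (⟨z, hz.2⟩ : ↥(SL.L σ KS9)) ∈ Subgroup.center ↥(SL.L σ KS9) := by
      rw [Subgroup.mem_center_iff]
      intro x
      apply Subtype.ext
      show x.1 * z = z * x.1
      exact (SL.central σ hc hz.1 x.1).symm
    have h1 := hTR hperfL M ⟨z, hz.2⟩ hzc
    rw [hMidx] at h1
    -- push to `Γ`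
    have h2 : z ^ 3159 ∈ ⁅M.map (SL.L σ KS9).subtype, M.map (SL.L σ KS9).subtype⁆ := by
      rw [← Subgroup.map_commutator]
      exact ⟨_, h1, rfl⟩
    have hMle : M.map (SL.L σ KS9).subtype ≤ KS7.comap σ := by
      rintro _ ⟨x, hx, rfl⟩
      have hx' : SL.tau σ KS9 x ∈ KS7.subgroupOf KS9 := hx
      rw [Subgroup.mem_subgroupOf, SL.tau_apply] at hx'
      exact hx'
    have h3 : z ^ 3159 ∈ ⁅HK7 g, HK7 g⁆ :=
      comm_comap_KS7_le σ g hc hg (Subgroup.commutator_mono hMle hMle h2)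
    have h4 : z ^ 3159 ∈ σ.ker := Subgroup.pow_mem _ hz.1 _
    have h5 := hE7 σ g (fun i _ h7 => hg i (by omega)) (fun i _ h7 => hginv i (by omega))
      (fun w hw _ => hgcox w hw)
    have h6 : z ^ 3159 ∈ ⁅HK7 g, HK7 g⁆ ⊓ σ.ker := ⟨h3, h4⟩
    rw [h5, Subgroup.mem_bot] at h6
    exact h6
  -- the order is odd
  have hodd : ¬ 2 ∣ Nat.card ↥(σ.ker ⊓ SL.L σ KS9) := by
    intro h2
    have : Fact (Nat.Prime 2) := ⟨Nat.prime_two⟩
    obtain ⟨x, hx⟩ := exists_prime_orderOf_dvd_card' (G := ↥(σ.ker ⊓ SL.L σ KS9)) 2 h2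
    have h1 : x.1 ^ 3159 = 1 := hkill x.1 x.2
    have h3 : x ^ 3159 = 1 := Subtype.ext h1
    have h4 := orderOf_dvd_of_pow_eq_one h3
    rw [hx] at h4
    omega
  have hcop : Nat.Coprime (Nat.card ↥(σ.ker ⊓ SL.L σ KS9)) 2 :=
    ((Nat.Prime.coprime_iff_not_dvd Nat.prime_two).2 hodd).symm
  exact Nat.Coprime.dvd_of_dvd_mul_left hcop (show _ ∣ 3 * 2 from h6)

end Cfsg.Agent.Lib.H22.Fi22M
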