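import Mathlib
import Cfsg.Prelude.Def_KGroupFacts
import Cfsg.Prelude.Def_LieChev
import Cfsg.Agent.Lib.H28.G23M.Words
import Cfsg.Agent.Lib.H29.ChevCentG2b

/-!
# S2101 piece GS: the root elements `x_i(1)` of `G₂(3)` generate and satisfy `Rels`; the words of `cenL` are trivial.

Every relation is an instance of the commutator formula `cert12_G2.c6.cfg` at `t = u = 1` over `ZMod 3`; the
instances are checked against the tables `fdG2.commT` by `decide +kernel`.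
-/

set_option autoImplicit false
set_option linter.unusedSectionVars false
set_option linter.unusedVariables false

namespace Cfsg.Agent.Lib.H22.G23M

open Cfsg.Agent.Lib.H28.G23M Cfsg.Agent.Lib.H29.Chev Cfsg.Lie

local notation "xg" => cert12_G2.c6.c2.xA

/-- the root elements `x_i(1)` in `GL` -/
noncomputable def XG (i : ℕ) : GL chevG2.Idx (ZMod 3) := xg i (1 : ZMod 3)

/-- the root elements `x_i(1)` in the group -/
noncomputable def XS (i : ℕ) : ↥(chevG2.group (ZMod 3)) :=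
  ⟨xg i (1 : ZMod 3), cert12_G2.c6.c2.xA_mem_group i 1⟩

/-- letters for one factor of the commutator formula at `t = u = 1` over `ZMod 3` -/
def ctLetter (c : ℕ × ℤ × ℕ × ℕ) : List ℕ :=
  if (c.2.1 * (-1) ^ c.2.2.1) % 3 = 1 then [c.1]
  else if (c.2.1 * (-1) ^ c.2.2.1) % 3 = 2 then [c.1 + 12] else []

/-- the word of the right side of the commutator formula -/
def cw (r s : ℕ) : List ℕ := (fdG2.commT r s).flatMap ctLetter

/-- all roots of the table entry are in range -/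
def okT (r s : ℕ) : Bool := (fdG2.commT r s).all (fun c => decide (c.1 < 12))

theorem lv_XG_lt {q : ℕ} (hq : q < 12) : lv XG q = xg q (1 : ZMod 3) := by
  rw [lv_of_lt XG hq]; rfl

theorem lv_XG_add {q : ℕ} (hq : q < 12) : lv XG (q + 12) = xg q (-1 : ZMod 3) := by
  unfold lv
  have h1 : ¬ ((q + 12) / 12) % 2 = 0 := by omega
  have h2 : (q + 12) % 12 = q := by omega
  rw [if_neg h1, h2]
  show (xg q (1 : ZMod 3))⁻¹ = _
  rw [cert12_G2.c6.c2.xA_inv]

theorem ev_ctLetter (c : ℕ × ℤ × ℕ × ℕ) (hc : c.1 < 12) :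
    ev XG (ctLetter c) =
      xg c.1 (((c.2.1 : ℤ) : ZMod 3) * (-(1 : ZMod 3)) ^ c.2.2.1 * (1 : ZMod 3) ^ c.2.2.2) := by
  have hcoef : ((c.2.1 : ℤ) : ZMod 3) * (-(1 : ZMod 3)) ^ c.2.2.1 * (1 : ZMod 3) ^ c.2.2.2 =
      (((c.2.1 * (-1) ^ c.2.2.1) % 3 : ℤ) : ZMod 3) := by
    have h3 : (((c.2.1 * (-1) ^ c.2.2.1) % ((3 : ℕ) : ℤ) : ℤ) : ZMod 3) = ((c.2.1 * (-1) ^ c.2.2.1 : ℤ) : ZMod 3) :=
      ZMod.intCast_mod _ 3
    have h3' : (((c.2.1 * (-1) ^ c.2.2.1) % 3 : ℤ) : ZMod 3) = ((c.2.1 * (-1) ^ c.2.2.1 : ℤ) : ZMod 3) := by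
      exact_mod_cast h3
    rw [h3', one_pow, mul_one]
    push_cast
    ring
  rw [hcoef]
  have hlo : 0 ≤ (c.2.1 * (-1) ^ c.2.2.1) % 3 := Int.emod_nonneg _ (by norm_num)
  have hhi : (c.2.1 * (-1) ^ c.2.2.1) % 3 < 3 := Int.emod_lt_of_pos _ (by norm_num)
  unfold ctLetter
  by_cases h1 : (c.2.1 * (-1) ^ c.2.2.1) % 3 = 1
  · rw [if_pos h1, h1, ev_single, lv_XG_lt hc]
    norm_num
  · rw [if_neg h1]
    by_cases h2 : (c.2.1 * (-1) ^ c.2.2.1) % 3 = 2
    · rw [if_pos h2, h2, ev_single, lv_XG_add hc]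
      congr 1
    · rw [if_neg h2]
      have h0 : (c.2.1 * (-1) ^ c.2.2.1) % 3 = 0 := by omega
      rw [h0, ev_nil]
      norm_num
      exact (cert12_G2.c6.c2.xA_zero c.1).symm

theorem ev_flatMap (L : List (ℕ × ℤ × ℕ × ℕ)) (hL : ∀ c ∈ L, c.1 < 12) :
    ev XG (L.flatMap ctLetter) = cert12_G2.c6.c2.ctG L (1 : ZMod 3) 1 := by
  induction L with
  | nil => simp [Cert2.ctG, ev_nil]
  | cons c L ih =>
    rw [List.flatMap_cons, ev_append, ih (fun c' hc' => hL c' (List.mem_cons_of_mem _ hc')),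
      ev_ctLetter c (hL c (List.mem_cons_self ..))]
    unfold Cert2.ctG
    rw [List.map_cons, List.prod_cons]

theorem okT_spec {r s : ℕ} (h : okT r s = true) : ∀ c ∈ fdG2.commT r s, c.1 < 12 := by
  unfold okT at h
  rw [List.all_eq_true] at h
  intro c hc
  exact of_decide_eq_true (h c hc)

theorem ev_cw {r s : ℕ} (h : okT r s = true) :
    ev XG (cw r s) = cert12_G2.c6.c2.ctG (fdG2.commT r s) (1 : ZMod 3) 1 :=
  ev_flatMap _ (okT_spec h)

/-- the commutator formula at `t = u = 1` -/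
theorem cfg11 {r s : ℕ} (hr : r < 12) (hs : s < 12) (h1 : s ≠ r) (h2 : s ≠ 11 - r) (h : okT r s = true) :
    XG s * XG r = XG r * XG s * ev XG (cw r s) := by
  rw [ev_cw h]
  exact cert12_G2.c6.cfg (F := ZMod 3) r s (by rw [g2_n]; exact hr) (by rw [g2_n]; exact hs) h1
    (by rw [g2_n]; exact h2) 1 1

/-- check that `x_p(1)` and `x_q(1)` commute -/
def commOK (p q : ℕ) : Bool :=
  decide (p < 12) && decide (q < 12) && decide (q ≠ p) && decide (q ≠ 11 - p) && okT p q &&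
    decide (cw p q = [])

theorem comm_of_ok {p q : ℕ} (h : commOK p q = true) : XG q * XG p = XG p * XG q := by
  unfold commOK at h
  simp only [Bool.and_eq_true, decide_eq_true_eq] at h
  obtain ⟨⟨⟨⟨⟨hp, hq⟩, h1⟩, h2⟩, h3⟩, h4⟩ := h
  have := cfg11 hp hq h1 h2 h3
  rw [h4, ev_nil, mul_one] at this
  exact this

/-- check of a Steinberg relation `x_a x_b x_a⁻¹ x_b⁻¹ = x_c` -/
def stOK (s : ℕ × ℕ × ℕ) : Bool :=
  decide (s.1 < 12) && decide (s.2.1 < 12) && decide (s.2.2 < 12) && decide (s.1 ≠ s.2.1) &&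
    decide (s.1 ≠ 11 - s.2.1) && okT s.2.1 s.1 && decide (cw s.2.1 s.1 = [s.2.2]) && commOK s.2.2 s.1 &&
    commOK s.2.2 s.2.1

theorem st_of_ok {s : ℕ × ℕ × ℕ} (h : stOK s = true) :
    XG s.1 * XG s.2.1 * (XG s.1)⁻¹ * (XG s.2.1)⁻¹ = XG s.2.2 := by
  unfold stOK at h
  simp only [Bool.and_eq_true, decide_eq_true_eq] at h
  obtain ⟨⟨⟨⟨⟨⟨⟨⟨ha, hb⟩, hc⟩, h1⟩, h2⟩, h3⟩, h4⟩, h5⟩, h6⟩ := h
  have e := cfg11 hb ha h1 h2 h3
  rw [h4, ev_single, lv_of_lt XG hc] at e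
  have c1 := comm_of_ok h5
  have c2 := comm_of_ok h6
  rw [e]
  calc XG s.2.1 * XG s.1 * XG s.2.2 * (XG s.1)⁻¹ * (XG s.2.1)⁻¹
      = XG s.2.1 * (XG s.1 * XG s.2.2) * (XG s.1)⁻¹ * (XG s.2.1)⁻¹ := by group
    _ = XG s.2.1 * (XG s.2.2 * XG s.1) * (XG s.1)⁻¹ * (XG s.2.1)⁻¹ := by rw [c1]
    _ = (XG s.2.1 * XG s.2.2) * (XG s.2.1)⁻¹ := by group
    _ = (XG s.2.2 * XG s.2.1) * (XG s.2.1)⁻¹ := by rw [c2]
    _ = XG s.2.2 := by group

/-- check that a word of `cenL` is trivial: a commutator of commuting root elements, or the defect of an instance of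
the commutator formula -/
def cenOK (w : List ℕ) : Bool :=
  match w with
  | [a, b, a', b'] => decide (a' = a + 12) && decide (b' = b + 12) && commOK a b
  | s' :: r' :: s :: r :: tail =>
      decide (s' = s + 12) && decide (r' = r + 12) && decide (r < 12) && decide (s < 12) && decide (s ≠ r) &&
        decide (s ≠ 11 - r) && okT r s && decide (tail = winv (cw r s))
  | _ => false

theorem cen_of_ok {w : List ℕ} (h : cenOK w = true) : ev XG w = 1 := by
  unfold cenOK at h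
  split at h
  · rename_i a b a' b'
    simp only [Bool.and_eq_true, decide_eq_true_eq] at h
    obtain ⟨⟨rfl, rfl⟩, h3⟩ := h
    have hc := comm_of_ok h3
    have ha : a < 12 := by
      unfold commOK at h3
      simp only [Bool.and_eq_true, decide_eq_true_eq] at h3
      exact h3.1.1.1.1.1
    have hb : b < 12 := by
      unfold commOK at h3
      simp only [Bool.and_eq_true, decide_eq_true_eq] at h3
      exact h3.1.1.1.1.2
    rw [ev_cons, ev_cons, ev_cons, ev_single, lv_XG_lt ha, lv_XG_lt hb, lv_XG_add ha, lv_XG_add hb,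
      ← cert12_G2.c6.c2.xA_inv, ← cert12_G2.c6.c2.xA_inv]
    show XG a * (XG b * ((XG a)⁻¹ * (XG b)⁻¹)) = 1
    calc XG a * (XG b * ((XG a)⁻¹ * (XG b)⁻¹)) = (XG a * XG b) * (XG a)⁻¹ * (XG b)⁻¹ := by group
      _ = (XG b * XG a) * (XG a)⁻¹ * (XG b)⁻¹ := by rw [hc]
      _ = 1 := by group
  · rename_i s' r' s r tail _
    simp only [Bool.and_eq_true, decide_eq_true_eq] at h
    obtain ⟨⟨⟨⟨⟨⟨⟨rfl, rfl⟩, hr⟩, hs⟩, h1⟩, h2⟩, h3⟩, rfl⟩ := h
    have e := cfg11 hr hs h1 h2 h3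
    rw [ev_cons, ev_cons, ev_cons, ev_cons, ev_winv, lv_XG_lt hr, lv_XG_lt hs, lv_XG_add hr, lv_XG_add hs,
      ← cert12_G2.c6.c2.xA_inv, ← cert12_G2.c6.c2.xA_inv]
    show (XG s)⁻¹ * ((XG r)⁻¹ * (XG s * (XG r * (ev XG (cw r s))⁻¹))) = 1
    calc (XG s)⁻¹ * ((XG r)⁻¹ * (XG s * (XG r * (ev XG (cw r s))⁻¹)))
        = (XG s)⁻¹ * (XG r)⁻¹ * (XG s * XG r) * (ev XG (cw r s))⁻¹ := by group
      _ = (XG s)⁻¹ * (XG r)⁻¹ * (XG r * XG s * ev XG (cw r s)) * (ev XG (cw r s))⁻¹ := by rw [e]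
      _ = 1 := by group
  · exact absurd h (by simp)

set_option maxRecDepth 1000000 in
theorem commL_ok : ∀ p ∈ commL, commOK p.1 p.2 = true := by
  decide +kernel

set_option maxRecDepth 1000000 in
theorem stL_ok : ∀ s ∈ stL, stOK s = true := by
  decide +kernel

set_option maxRecDepth 1000000 in
theorem cenL_ok : ∀ c ∈ cenL, cenOK c = true := by
  decide +kernel

theorem coe_XS (i : ℕ) : ((XS i : ↥(chevG2.group (ZMod 3))) : GL chevG2.Idx (ZMod 3)) = XG i := rfl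

theorem ev_XS (w : List ℕ) :
    ((ev XS w : ↥(chevG2.group (ZMod 3))) : GL chevG2.Idx (ZMod 3)) = ev XG w := by
  have := map_ev (chevG2.group (ZMod 3)).subtype XS w
  have h2 : (fun i => (chevG2.group (ZMod 3)).subtype (XS i)) = XG := rfl
  rw [h2] at this
  exact this

theorem XG_cube (i : ℕ) : XG i ^ 3 = 1 := by
  unfold XG
  rw [pow_succ, pow_two, cert12_G2.c6.c2.xA_mul, cert12_G2.c6.c2.xA_mul]
  have : (1 : ZMod 3) + 1 + 1 = 0 := by decide
  rw [this, cert12_G2.c6.c2.xA_zero]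

theorem rels_XS : Rels XS := by
  refine ⟨?_, ?_, ?_, ?_⟩
  · intro i _
    apply Subtype.ext
    rw [Subgroup.coe_pow, coe_XS, XG_cube]; rfl
  · intro s hs
    apply Subtype.ext
    have := st_of_ok (stL_ok s hs)
    simpa [coe_XS] using this
  · intro p hp
    apply Subtype.ext
    have := comm_of_ok (commL_ok p hp)
    simp only [Subgroup.coe_mul, coe_XS]
    exact this.symm
  · intro c hc q _
    have h1 : ev XS c = 1 := by
      apply Subtype.ext
      rw [ev_XS, cen_of_ok (cenL_ok c hc)]; rfl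
    rw [h1, one_mul, mul_one]

theorem cen_XS : ∀ c ∈ cenL, ev XS c = 1 := by
  intro c hc
  apply Subtype.ext
  rw [ev_XS, cen_of_ok (cenL_ok c hc)]; rfl

theorem zmod3_cases : ∀ t : ZMod 3, t = 0 ∨ t = 1 ∨ t = 2 := by decide

theorem g2_nroots : chevG2.nroots = 12 := by rw [cert12_G2.c6.c2.nroots_eq, g2_n]

theorem gen_XS :
    Subgroup.closure {g : ↥(chevG2.group (ZMod 3)) | ∃ i < 12, g = XS i} = ⊤ := by
  set K : Subgroup ↥(chevG2.group (ZMod 3)) :=
    Subgroup.closure {g : ↥(chevG2.group (ZMod 3)) | ∃ i < 12, g = XS i} with hK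
  have hmemK : ∀ i < 12, XS i ∈ K := fun i hi => Subgroup.subset_closure ⟨i, hi, rfl⟩
  have hle : chevG2.group (ZMod 3) ≤ K.map (chevG2.group (ZMod 3)).subtype := by
    show Subgroup.closure {g : GL chevG2.Idx (ZMod 3) | ∃ (r : Fin chevG2.nroots) (t : ZMod 3),
      (g : Matrix chevG2.Idx chevG2.Idx (ZMod 3)) = chevG2.xMat (ZMod 3) r t} ≤ _
    rw [Subgroup.closure_le]
    rintro x ⟨r, t, hx⟩
    have hr : r.val < 12 := lt_of_lt_of_eq r.isLt g2_nroots
    have e : x = xg r.val t := by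
      apply gl_ext
      rw [hx, cert12_G2.c6.c2.xA_val]
      unfold ChevalleyDatum.x
      rw [dif_pos r.isLt]
    rw [e]
    rcases zmod3_cases t with rfl | rfl | rfl
    · rw [cert12_G2.c6.c2.xA_zero]; exact Subgroup.one_mem _
    · exact ⟨XS r.val, hmemK _ hr, rfl⟩
    · refine ⟨XS r.val * XS r.val, K.mul_mem (hmemK _ hr) (hmemK _ hr), ?_⟩
      show xg r.val (1 : ZMod 3) * xg r.val 1 = xg r.val 2
      rw [cert12_G2.c6.c2.xA_mul]
      congr 1
  rw [eq_top_iff]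
  rintro ⟨g, hg⟩ -
  obtain ⟨k, hk, hkg⟩ := hle hg
  have : k = ⟨g, hg⟩ := Subtype.ext hkg
  rw [← this]; exact hk

theorem exists_gens : ∃ X : ℕ → ↥(Cfsg.Lie.chevG2.group (ZMod 3)),
    Subgroup.closure {g : ↥(Cfsg.Lie.chevG2.group (ZMod 3)) | ∃ i < 12, g = X i} = ⊤ ∧ Rels X ∧
      ∀ c ∈ cenL, ev X c = 1 :=
  ⟨XS, gen_XS, rels_XS, cen_XS⟩

end Cfsg.Agent.Lib.H22.G23M
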