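import Cfsg.Agent.Lib.H1.G85.Defs
import Cfsg.Agent.Lib.H5.Glaub.OddCore
import Cfsg.Agent.Lib.H5.Glaub.NcDist

/-!
# S4385, piece (C22): the case `(q,t) = (2,2)`

`H0 = ⟨x_(-2), x_(-1), x_0⟩`, `z = x_(-1)` is central, `P_0 = {1, z, b, zb}` (`b = x_0`) is an abelian Sylow
2-subgroup with `N(P_0) = C(P_0)`: Burnside's transfer gives a normal complement of odd order and index 4.
-/

set_option autoImplicit false

namespace Cfsg.Agent.Lib.H22.G85

open scoped Pointwise
open Cfsg.Agent.Lib.H5.Glaub Cfsg.Agent.Lib.H5.Glaub.Setup Cfsg.Agent.Lib.H1.G85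

section abstract

variable {X : Type*} [Group X] [Finite X]

/-- a Sylow 2-subgroup `{1, z, b, zb}` with `z` central has a normal complement of odd order, and all
squares lie in it -/
theorem v4_complement (P : Sylow 2 X) (hcard : Nat.card (P : Subgroup X) = 4) (z b : X)
    (hzc : ∀ g : X, g * z = z * g) (hz2 : z * z = 1) (hb2 : b * b = 1)
    (hzP : z ∈ (P : Subgroup X)) (hbP : b ∈ (P : Subgroup X))
    (hz1 : z ≠ 1) (hb1 : b ≠ 1) (hzb : z ≠ b) :
    ∃ O : Subgroup X, O.Normal ∧ (Nat.card O).Coprime 2 ∧ O.index = 4 ∧ ∀ x : X, x ^ 2 ∈ O := by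
  classical
  have : Fact (Nat.Prime 2) := ⟨Nat.prime_two⟩
  -- enumeration of `P`
  have henum : ∀ g : X, g ∈ (P : Subgroup X) → g = 1 ∨ g = z ∨ g = b ∨ g = z * b := by
    have hzb1 : z * b ≠ 1 := by
      intro h
      apply hzb
      calc z = z * (b * b) := by rw [hb2, mul_one]
        _ = (z * b) * b := by rw [mul_assoc]
        _ = b := by rw [h, one_mul]
    have hzbz : z * b ≠ z := by
      intro h
      apply hb1
      calc b = (z * z) * b := by rw [hz2, one_mul]
        _ = z * (z * b) := by rw [mul_assoc]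
        _ = 1 := by rw [h, hz2]
    have hzbb : z * b ≠ b := by
      intro h
      apply hz1
      calc z = z * (b * b) := by rw [hb2, mul_one]
        _ = (z * b) * b := by rw [mul_assoc]
        _ = 1 := by rw [h, hb2]
    let T : Finset X := {1, z, b, z * b}
    have hT : T.card = 4 := by
      simp only [T]
      rw [Finset.card_insert_of_notMem, Finset.card_insert_of_notMem, Finset.card_insert_of_notMem,
        Finset.card_singleton]
      · simp only [Finset.mem_singleton]; exact fun h => hzbb h.symm
      · simp only [Finset.mem_insert, Finset.mem_singleton, not_or]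
        exact ⟨hzb, fun h => hzbz h.symm⟩
      · simp only [Finset.mem_insert, Finset.mem_singleton, not_or]
        exact ⟨fun h => hz1 h.symm, fun h => hb1 h.symm, fun h => hzb1 h.symm⟩
    have hsub : (T : Set X) ⊆ ((P : Subgroup X) : Set X) := by
      intro g hg
      simp only [T, Finset.coe_insert, Finset.coe_singleton, Set.mem_insert_iff,
        Set.mem_singleton_iff] at hg
      rcases hg with rfl | rfl | rfl | rfl
      · exact one_mem _
      · exact hzP
      · exact hbP
      · exact mul_mem hzP hbP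
    have heq : (T : Set X) = ((P : Subgroup X) : Set X) := by
      apply Set.eq_of_subset_of_ncard_le hsub
      rw [Set.ncard_coe_finset, hT]
      have : Nat.card ((P : Subgroup X) : Set X) = 4 := hcard
      rw [Nat.card_coe_set_eq] at this
      exact this.le
    intro g hg
    have : g ∈ (T : Set X) := by rw [heq]; exact hg
    simpa [T] using this
  -- every element of `P` is an involution, and `P` commutes with `b`
  have hPsq : ∀ g : X, g ∈ (P : Subgroup X) → g * g = 1 := by
    intro g hg
    rcases henum g hg with rfl | rfl | rfl | rfl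
    · simp
    · exact hz2
    · exact hb2
    · calc z * b * (z * b) = z * (b * z) * b := by group
        _ = z * (z * b) * b := by rw [hzc b]
        _ = (z * z) * (b * b) := by group
        _ = 1 := by rw [hz2, hb2, one_mul]
  have hPb : ∀ g : X, g ∈ (P : Subgroup X) → g * b = b * g := by
    intro g hg
    rcases henum g hg with rfl | rfl | rfl | rfl
    · simp
    · exact (hzc b).symm
    · rfl
    · calc z * b * b = z * (b * b) := by group
        _ = (b * b) * z := by rw [hb2, mul_one, one_mul]
        _ = b * (b * z) := by group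
        _ = b * (z * b) := by rw [hzc b]
  -- `N(P) ≤ C(P)`
  have hNC : Subgroup.normalizer ((P : Subgroup X) : Set X) ≤ Subgroup.centralizer ((P : Subgroup X) : Set X) := by
    intro g hg
    -- it suffices that `g` commutes with `b`
    suffices hgb : g * b = b * g by
      rw [Subgroup.mem_centralizer_iff]
      intro p hp
      rcases henum p hp with rfl | rfl | rfl | rfl
      · simp
      · exact (hzc g).symm
      · exact hgb.symm
      · calc z * b * g = z * (b * g) := by group
          _ = z * (g * b) := by rw [hgb]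
          _ = (z * g) * b := by group
          _ = (g * z) * b := by rw [hzc g]
          _ = g * (z * b) := by group
    have hconj : g * b * g⁻¹ ∈ (P : Subgroup X) := (Subgroup.mem_normalizer_iff.1 hg b).1 hbP
    rcases henum _ hconj with h | h | h | h
    · -- `b = 1`
      exfalso; apply hb1
      calc b = g⁻¹ * (g * b * g⁻¹) * g := by group
        _ = 1 := by rw [h]; group
    · -- `g b g⁻¹ = z`, so `b = z`
      exfalso; apply hzb
      calc z = g⁻¹ * z * g := by rw [mul_assoc, ← hzc g, ← mul_assoc, inv_mul_cancel, one_mul]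
        _ = g⁻¹ * (g * b * g⁻¹) * g := by rw [h]
        _ = b := by group
    · calc g * b = (g * b * g⁻¹) * g := by group
        _ = b * g := by rw [h]
    · -- `g b g⁻¹ = z b`: the 2-part of `g` lies in `P`, hence commutes with `b`
      exfalso
      have hpow : ∀ j : ℕ, g ^ j * b * (g ^ j)⁻¹ = z ^ j * b := by
        intro j
        induction j with
        | zero => simp
        | succ j ih =>
          calc g ^ (j + 1) * b * (g ^ (j + 1))⁻¹ = g * (g ^ j * b * (g ^ j)⁻¹) * g⁻¹ := by
                rw [pow_succ']; group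
            _ = g * (z ^ j * b) * g⁻¹ := by rw [ih]
            _ = z ^ j * (g * b * g⁻¹) := by
                have hc : g * z ^ j = z ^ j * g := by
                  induction j with
                  | zero => simp
                  | succ i ihi =>
                    have := (Commute.pow_right (show Commute g z from hzc g) (i + 1))
                    exact this
                calc g * (z ^ j * b) * g⁻¹ = (g * z ^ j) * b * g⁻¹ := by group
                  _ = (z ^ j * g) * b * g⁻¹ := by rw [hc]
                  _ = z ^ j * (g * b * g⁻¹) := by group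
            _ = z ^ j * (z * b) := by rw [h]
            _ = z ^ (j + 1) * b := by rw [pow_succ]; group
      obtain ⟨e, u, hu, ho⟩ := Nat.exists_eq_two_pow_mul_odd (orderOf_pos g).ne'
      have hord : orderOf (g ^ u) = 2 ^ e := by
        rw [orderOf_pow_of_dvd hu.pos.ne' (by rw [ho]; exact dvd_mul_left _ _), ho,
          Nat.mul_div_cancel _ hu.pos]
      have hpg : IsPGroup 2 (Subgroup.zpowers (g ^ u)) :=
        IsPGroup.of_card (n := e) (by rw [Nat.card_zpowers, hord])
      have hmem : g ^ u ∈ (P : Subgroup X) := by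
        have h1 : g ^ u ∈ Subgroup.zpowers (g ^ u) ⊓ Subgroup.normalizer ((P : Subgroup X) : Set X) :=
          ⟨Subgroup.mem_zpowers _, pow_mem hg u⟩
        have h3 : g ^ u ∈ Subgroup.zpowers (g ^ u) ⊓ (P : Subgroup X) := by
          rw [← hpg.inf_normalizer_sylow P]; exact h1
        exact h3.2
      have h2 : g ^ u * b * (g ^ u)⁻¹ = b := by
        rw [hPb _ hmem]; group
      have hzu : z ^ u = z := by
        obtain ⟨k, rfl⟩ := hu
        rw [pow_succ, pow_mul, pow_two, hz2, one_pow, one_mul]
      rw [hpow u, hzu] at h2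
      apply hz1
      calc z = (z * b) * b⁻¹ := by group
        _ = 1 := by rw [h2]; group
  -- Burnside
  have hcompl := MonoidHom.ker_transferSylow_isComplement' P hNC
  refine ⟨(MonoidHom.transferSylow P hNC).ker, inferInstance, ?_, ?_, ?_⟩
  · have := MonoidHom.not_dvd_card_ker_transferSylow P hNC
    exact ((Nat.Prime.coprime_iff_not_dvd Nat.prime_two).2 this).symm
  · rw [hcompl.symm.index_eq_card, hcard]
  · intro x
    rw [MonoidHom.mem_ker, map_pow]
    apply Subtype.ext
    have := hPsq _ (MonoidHom.transferSylow P hNC x).2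
    rw [pow_two]
    exact this

end abstract

section glue

variable {G : Type*} [Group G] [Finite G]

/-- (C22) `(q,t) = (2,2)`. -/
theorem case22 (S : Setup G) (hp2 : S.p = 2) (hU : S.Uni 2) (hI : S.Ivl 2) (hD : S.Dist 2 2)
    (x : ℤ → G) (hx : Gen S 2 x) (hodd : ¬ 2 ∣ (S.Pj 0).relIndex (H0 S)) :
    Nonempty (↥(H0 S) ⧸ Cfsg.oddCore ↥(H0 S) ≃* Multiplicative (ZMod 2) × Multiplicative (ZMod 2)) := by
  classical
  have : Fact (Nat.Prime 2) := ⟨Nat.prime_two⟩
  have hcardP : Nat.card (S.Pj 0) = 4 := by
    have := hU.card 0 0 (Nat.zero_le _)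
    rw [S.J_unfold_zero, hp2] at this
    rw [this]; norm_num
  have hPle : S.Pj 0 ≤ H0 S := Pj_zero_le_H0 S
  have hXz : S.X 2 (-1) ≤ S.Pj 0 :=
    S.J_le_Pj (i := -1) (j := 0) (n := 2 - 1) (by norm_num) (by norm_num)
  have hXb : S.X 2 0 ≤ S.Pj 0 :=
    S.J_le_Pj (i := 0) (j := 0) (n := 2 - 1) le_rfl (by norm_num)
  have hzX : x (-1) ∈ S.X 2 (-1) := by rw [hx.X_eq]; exact Subgroup.mem_zpowers _
  have hbX : x 0 ∈ S.X 2 0 := by rw [hx.X_eq]; exact Subgroup.mem_zpowers _
  -- `z = x (-1)` is central in `H0`
  have hcent : H0 S ≤ Subgroup.centralizer ((S.X 2 (-1) : Subgroup G) : Set G) := by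
    have hk : ∀ k : ℤ, -2 ≤ k → k ≤ 0 →
        S.X 2 k ≤ Subgroup.centralizer ((S.X 2 (-1) : Subgroup G) : Set G) := by
      intro k h1 h2
      rw [← comm_iff_le_centralizer]
      apply hD.comm
      rw [abs_lt]
      constructor <;> push_cast <;> omega
    unfold H0
    rw [hI.Pj_eq (-1), hI.Pj_eq 0]
    refine sup_le ?_ ?_
    · rw [S.Iv_le_iff]
      intro k h1 h2
      exact hk k (by push_cast at h1; omega) (by omega)
    · rw [S.Iv_le_iff]
      intro k h1 h2
      exact hk k (by push_cast at h1; omega) (by omega)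
  have hzc : ∀ g ∈ H0 S, g * x (-1) = x (-1) * g := by
    intro g hg
    exact (Subgroup.mem_centralizer_iff.1 (hcent hg) (x (-1)) hzX).symm
  have hne : x (-1) ≠ x 0 := by
    intro h
    have hle : S.Pj 0 ≤ S.X 2 (-1) := by
      rw [hI.Pj_eq 0, S.Iv_le_iff]
      intro k h1 h2
      have : k = -1 ∨ k = 0 := by push_cast at h1; omega
      rcases this with rfl | rfl
      · exact le_rfl
      · rw [hx.X_eq 0, hx.X_eq (-1), h]
    have h1 := Subgroup.card_le_of_le hle
    rw [hcardP, card_X S 2 hU (-1), hp2] at h1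
    omega
  -- the Sylow subgroup of `↥(H0 S)`
  have hPp : IsPGroup 2 ((S.Pj 0).subgroupOf (H0 S)) := by
    have h0 : IsPGroup 2 (S.Pj 0) := IsPGroup.of_card (n := 2) (by rw [hcardP]; norm_num)
    exact h0.comap_subtype
  let P' : Sylow 2 ↥(H0 S) := hPp.toSylow hodd
  have hcard' : Nat.card ((P' : Subgroup ↥(H0 S))) = 4 := by
    rw [← hcardP]
    exact Nat.card_congr (Subgroup.subgroupOfEquivOfLe hPle).toEquiv
  obtain ⟨O, hOn, hOc, hOi, hOs⟩ := v4_complement P' hcard'
    (⟨x (-1), hPle (hXz hzX)⟩ : ↥(H0 S)) (⟨x 0, hPle (hXb hbX)⟩ : ↥(H0 S))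
    (fun g => Subtype.ext (hzc g g.2)) (Subtype.ext (hx.sq (-1))) (Subtype.ext (hx.sq 0))
    (Subgroup.mem_subgroupOf.2 (hXz hzX)) (Subgroup.mem_subgroupOf.2 (hXb hbX))
    (fun h => hx.ne_one (-1) (congrArg Subtype.val h))
    (fun h => hx.ne_one 0 (congrArg Subtype.val h))
    (fun h => hne (congrArg Subtype.val h))
  have := hOn
  have : (Cfsg.oddCore ↥(H0 S)).Normal := Cfsg.Agent.Lib.H22.pPrimeCore_normal 2
  exact quot_oddCore_v4 O hOc hOi hOs

end glue

end Cfsg.Agent.Lib.H22.G85
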