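import Cfsg.Agent.Lib.H1.G85.Defs
import Cfsg.Agent.Lib.H5.Glaub.NcDist
import Cfsg.Agent.Lib.H13.GlaubIVL
import Cfsg.Agent.Lib.H2.GlaubUNI

/-!
# S4385, wave 2, piece (CH23): chain facts for `(q,t) = (2,3)`
-/

set_option autoImplicit false

namespace Cfsg.Agent.Lib.H22.G85

open scoped Pointwise
open Cfsg.Agent.Lib.H5.Glaub Cfsg.Agent.Lib.H5.Glaub.Setup Cfsg.Agent.Lib.H1.G85

variable {G : Type*} [Group G]

/-- powers of an involution -/
theorem ch_zpow_of_sq {a : G} (h : a * a = 1) (n : ℤ) : a ^ n = 1 ∨ a ^ n = a := by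
  have h2 : a ^ (2 : ℤ) = 1 := by rw [zpow_two]; exact h
  rcases Int.emod_two_eq_zero_or_one n with h0 | h1
  · left
    have : n = 2 * (n / 2) := by omega
    rw [this, zpow_mul, h2, one_zpow]
  · right
    have : n = 2 * (n / 2) + 1 := by omega
    rw [this, zpow_add, zpow_mul, h2, one_zpow, one_mul, zpow_one]

theorem ch_mem_X {S : Setup G} {t : ℕ} {x : ℤ → G} (hx : Gen S t x) (k : ℤ) : x k ∈ S.X t k := by
  rw [hx.X_eq]; exact Subgroup.mem_zpowers _

theorem ch_mem_X_iff {S : Setup G} {t : ℕ} {x : ℤ → G} (hx : Gen S t x) (k : ℤ) (g : G) :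
    g ∈ S.X t k ↔ g = 1 ∨ g = x k := by
  constructor
  · intro hg
    rw [hx.X_eq, Subgroup.mem_zpowers_iff] at hg
    obtain ⟨n, rfl⟩ := hg
    exact ch_zpow_of_sq (hx.sq k) n
  · rintro (rfl | rfl)
    · exact one_mem _
    · exact ch_mem_X hx k

theorem ch_comm {S : Setup G} {t q : ℕ} {x : ℤ → G} (hx : Gen S t x) (hD : S.Dist t q) (i j : ℤ)
    (h : |i - j| < q) : x i * x j = x j * x i :=
  hD.comm i j h (x i) (ch_mem_X hx i) (x j) (ch_mem_X hx j)

theorem ch_ncomm {S : Setup G} {t q : ℕ} {x : ℤ → G} (hx : Gen S t x) (hD : S.Dist t q) (i j : ℤ)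
    (hj : j = i + q) : x i * x j ≠ x j * x i := by
  intro h
  apply hD.ncomm i
  rw [← hj]
  intro a ha b hb
  rw [ch_mem_X_iff hx] at ha hb
  rcases ha with rfl | rfl <;> rcases hb with rfl | rfl
  · rfl
  · simp
  · simp
  · exact h

/-- consecutive generators are different -/
theorem ch_ne_succ {S : Setup G} {t : ℕ} {x : ℤ → G} (hx : Gen S t x) (hU : S.Uni t) (i j : ℤ)
    (hj : j = i + 1) : x i ≠ x j := by
  intro h
  have ht := hU.pos
  have hmem : x i ∈ S.J i t := by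
    rw [S.mem_J]
    intro k hk1 hk2
    by_cases hk : k ≤ i + ((t - 1 : ℕ) : ℤ)
    · exact (S.mem_J.1 (ch_mem_X hx i)) k hk1 hk
    · rw [h]
      refine (S.mem_J.1 (ch_mem_X hx j)) k (by omega) ?_
      have : ((t - 1 : ℕ) : ℤ) = (t : ℤ) - 1 := by
        rw [Nat.cast_sub ht]; simp
      omega
  rw [Cfsg.Agent.Lib.H13.Glaub.J_top_eq_bot S t hU i, Subgroup.mem_bot] at hmem
  exact hx.ne_one i hmem

variable [Finite G]

/-- enumeration of a subgroup of order 4 -/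
theorem ch_four_enum {A : Subgroup G} (hcard : Nat.card A = 4) {u v : G} (hu : u ∈ A) (hv : v ∈ A)
    (hu1 : u ≠ 1) (hv1 : v ≠ 1) (huv : u ≠ v) (hv2 : v * v = 1) (g : G) :
    g ∈ A ↔ g = 1 ∨ g = u ∨ g = v ∨ g = u * v := by
  classical
  have h1 : u * v ≠ 1 := by
    intro h
    apply huv
    calc u = u * (v * v) := by rw [hv2, mul_one]
      _ = (u * v) * v := by rw [mul_assoc]
      _ = v := by rw [h, one_mul]
  have h2 : u * v ≠ u := by
    intro h
    apply hv1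
    calc v = u⁻¹ * (u * v) := by group
      _ = 1 := by rw [h]; group
  have h3 : u * v ≠ v := by
    intro h
    apply hu1
    calc u = (u * v) * v⁻¹ := by group
      _ = 1 := by rw [h]; group
  let T : Finset G := {1, u, v, u * v}
  have hT : T.card = 4 := by
    simp only [T]
    rw [Finset.card_insert_of_notMem, Finset.card_insert_of_notMem, Finset.card_insert_of_notMem,
      Finset.card_singleton]
    · simp only [Finset.mem_singleton]; exact fun h => h3 h.symm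
    · simp only [Finset.mem_insert, Finset.mem_singleton, not_or]
      exact ⟨huv, fun h => h2 h.symm⟩
    · simp only [Finset.mem_insert, Finset.mem_singleton, not_or]
      exact ⟨fun h => hu1 h.symm, fun h => hv1 h.symm, fun h => h1 h.symm⟩
  have hsub : (T : Set G) ⊆ (A : Set G) := by
    intro g hg
    simp only [T, Finset.coe_insert, Finset.coe_singleton, Set.mem_insert_iff,
      Set.mem_singleton_iff] at hg
    rcases hg with rfl | rfl | rfl | rfl
    · exact one_mem _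
    · exact hu
    · exact hv
    · exact mul_mem hu hv
  have heq : (T : Set G) = (A : Set G) := by
    apply Set.eq_of_subset_of_ncard_le hsub
    rw [Set.ncard_coe_finset, hT]
    have : Nat.card (A : Set G) = 4 := hcard
    rw [Nat.card_coe_set_eq] at this
    exact this.le
  constructor
  · intro hg
    have : g ∈ (T : Set G) := by rw [heq]; exact hg
    simpa [T] using this
  · intro hg
    have : g ∈ (T : Set G) := by simpa [T] using hg
    rw [heq] at this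
    exact this

/-- (CH23) chain facts for `(q,t) = (2,3)` -/
theorem chain23 (S : Setup G) (hp2 : S.p = 2) (hU : S.Uni 3) (hI : S.Ivl 3) (hD : S.Dist 3 2) (hC : S.Cen 3 2)
    (x : ℤ → G) (hx : Gen S 3 x) (hodd : ¬ 2 ∣ (S.Pj 0).relIndex (H0 S)) :
    (∀ k : ℤ, -3 ≤ k → k ≤ 0 → x k ∈ H0 S) ∧
    (∀ g : G, g ∈ S.Pj (-1) ⊓ S.Pj 0 ↔ g = 1 ∨ g = x (-1) ∨ g = x (-2) ∨ g = x (-1) * x (-2)) ∧
    H0 S ≤ Subgroup.normalizer ((S.Pj (-1) ⊓ S.Pj 0 : Subgroup G) : Set G) ∧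
    x (-1) ≠ x (-2) ∧ x (-1) * x (-2) = x (-2) * x (-1) ∧
    x (-3) * x (-2) * (x (-3))⁻¹ = x (-2) ∧ x (-3) * x (-1) * (x (-3))⁻¹ = x (-1) * x (-2) ∧
    x 0 * x (-1) * (x 0)⁻¹ = x (-1) ∧ x 0 * x (-2) * (x 0)⁻¹ = x (-2) * x (-1) ∧
    ∃ m : ℕ, ¬ 2 ∣ m ∧ Nat.card ↥(H0 S) = 8 * m := by
  have _ := hI
  have _ := hC
  -- memberships of the generators
  have hmemP : ∀ k j : ℤ, k ≤ j → j ≤ k + 2 → x k ∈ S.Pj j := by
    intro k j h1 h2
    exact S.J_le_Pj (i := k) (j := j) (n := 3 - 1) h1 (by norm_num; omega) (ch_mem_X hx k)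
  have hH0 : ∀ k : ℤ, -3 ≤ k → k ≤ 0 → x k ∈ H0 S := by
    intro k h1 h2
    by_cases hk : k ≤ -1
    · exact Pj_neg_one_le_H0 S (hmemP k (-1) hk (by omega))
    · exact Pj_zero_le_H0 S (hmemP k 0 h2 (by omega))
  -- `Q`
  have hQJ : S.Pj (-1) ⊓ S.Pj 0 = S.J (-1) 1 := by
    ext g
    rw [Subgroup.mem_inf, S.mem_J]
    constructor
    · rintro ⟨h1, h2⟩ j hj1 hj2
      have : j = -1 ∨ j = 0 := by push_cast at hj2; omega
      rcases this with rfl | rfl
      · exact h1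
      · exact h2
    · intro h
      exact ⟨h (-1) le_rfl (by norm_num), h 0 (by norm_num) (by norm_num)⟩
  have hcardQ : Nat.card ↥(S.Pj (-1) ⊓ S.Pj 0 : Subgroup G) = 2 ^ 2 := by
    rw [hQJ, hU.card (-1) 1 (by norm_num), hp2]
  have hcardP : ∀ j : ℤ, Nat.card (S.Pj j) = 2 ^ (2 + 1) := by
    intro j
    have := hU.card j 0 (Nat.zero_le _)
    rwa [S.J_unfold_zero, hp2] at this
  have hm1Q : x (-1) ∈ S.Pj (-1) ⊓ S.Pj 0 := ⟨hmemP _ _ le_rfl (by norm_num), hmemP _ _ (by norm_num) (by norm_num)⟩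
  have hm2Q : x (-2) ∈ S.Pj (-1) ⊓ S.Pj 0 := ⟨hmemP _ _ (by norm_num) (by norm_num), hmemP _ _ (by norm_num) (by norm_num)⟩
  have hne12 : x (-1) ≠ x (-2) := fun h => ch_ne_succ hx hU (-2) (-1) (by norm_num) h.symm
  have henum : ∀ g : G, g ∈ S.Pj (-1) ⊓ S.Pj 0 ↔ g = 1 ∨ g = x (-1) ∨ g = x (-2) ∨ g = x (-1) * x (-2) :=
    fun g => ch_four_enum (by rw [hcardQ]; norm_num) hm1Q hm2Q (hx.ne_one _) (hx.ne_one _) hne12 (hx.sq _) g
  -- normality
  have hN1 : S.Pj (-1) ≤ Subgroup.normalizer ((S.Pj (-1) ⊓ S.Pj 0 : Subgroup G) : Set G) :=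
    Cfsg.Agent.Lib.H2.Glaub.uni_le_normalizer Nat.prime_two inf_le_left hcardQ (hcardP (-1))
  have hN0 : S.Pj 0 ≤ Subgroup.normalizer ((S.Pj (-1) ⊓ S.Pj 0 : Subgroup G) : Set G) :=
    Cfsg.Agent.Lib.H2.Glaub.uni_le_normalizer Nat.prime_two inf_le_right hcardQ (hcardP 0)
  have hN : H0 S ≤ Subgroup.normalizer ((S.Pj (-1) ⊓ S.Pj 0 : Subgroup G) : Set G) := sup_le hN1 hN0
  have hconjQ : ∀ a : G, a ∈ H0 S → ∀ g : G, g ∈ S.Pj (-1) ⊓ S.Pj 0 → a * g * a⁻¹ ∈ S.Pj (-1) ⊓ S.Pj 0 :=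
    fun a ha g hg => (Subgroup.mem_normalizer_iff.1 (hN ha) g).1 hg
  -- commutation
  have hc12 : x (-1) * x (-2) = x (-2) * x (-1) := ch_comm hx hD _ _ (by norm_num)
  have hc32 : x (-3) * x (-2) = x (-2) * x (-3) := ch_comm hx hD _ _ (by norm_num)
  have hc01 : x 0 * x (-1) = x (-1) * x 0 := ch_comm hx hD _ _ (by norm_num)
  have hn31 : x (-3) * x (-1) ≠ x (-1) * x (-3) := ch_ncomm hx hD (-3) (-1) (by norm_num)
  have hn20 : x (-2) * x 0 ≠ x 0 * x (-2) := ch_ncomm hx hD (-2) 0 (by norm_num)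
  have e32 : x (-3) * x (-2) * (x (-3))⁻¹ = x (-2) := by rw [hc32]; group
  have e01 : x 0 * x (-1) * (x 0)⁻¹ = x (-1) := by rw [hc01]; group
  have e31 : x (-3) * x (-1) * (x (-3))⁻¹ = x (-1) * x (-2) := by
    rcases (henum _).1 (hconjQ _ (hH0 (-3) le_rfl (by norm_num)) _ hm1Q) with h | h | h | h
    · exfalso
      apply hx.ne_one (-1)
      calc x (-1) = (x (-3))⁻¹ * (x (-3) * x (-1) * (x (-3))⁻¹) * x (-3) := by group
        _ = 1 := by rw [h]; group
    · exfalso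
      apply hn31
      calc x (-3) * x (-1) = (x (-3) * x (-1) * (x (-3))⁻¹) * x (-3) := by group
        _ = x (-1) * x (-3) := by rw [h]
    · exfalso
      apply hne12
      calc x (-1) = (x (-3))⁻¹ * (x (-3) * x (-1) * (x (-3))⁻¹) * x (-3) := by group
        _ = (x (-3))⁻¹ * (x (-2) * x (-3)) := by rw [h]; group
        _ = (x (-3))⁻¹ * (x (-3) * x (-2)) := by rw [hc32]
        _ = x (-2) := by group
    · exact h
  have e02 : x 0 * x (-2) * (x 0)⁻¹ = x (-2) * x (-1) := by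
    rcases (henum _).1 (hconjQ _ (hH0 0 (by norm_num) le_rfl) _ hm2Q) with h | h | h | h
    · exfalso
      apply hx.ne_one (-2)
      calc x (-2) = (x 0)⁻¹ * (x 0 * x (-2) * (x 0)⁻¹) * x 0 := by group
        _ = 1 := by rw [h]; group
    · exfalso
      apply hne12
      have h' : x 0 * x (-2) * (x 0)⁻¹ = x 0 * x (-1) * (x 0)⁻¹ := by rw [h, e01]
      exact (mul_left_cancel (mul_right_cancel h')).symm
    · exfalso
      apply hn20
      calc x (-2) * x 0 = (x 0)⁻¹ * (x 0 * x (-2) * (x 0)⁻¹) * x 0 * x 0 := by group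
        _ = (x 0)⁻¹ * x (-2) * (x 0 * x 0) := by rw [h]; group
        _ = (x 0)⁻¹ * x (-2) := by rw [hx.sq 0, mul_one]
        _ = (x 0)⁻¹ * (x 0 * x 0) * x (-2) := by rw [hx.sq 0, mul_one]
        _ = x 0 * x (-2) := by group
    · rw [h, hc12]
  refine ⟨hH0, henum, hN, hne12, hc12, e32, e31, e01, e02, (S.Pj 0).relIndex (H0 S), hodd, ?_⟩
  rw [← Cfsg.Agent.Lib.H2.Glaub.uni_card_mul_relIndex (Pj_zero_le_H0 S), hcardP 0]
  norm_num

end Cfsg.Agent.Lib.H22.G85
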