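import Mathlib
import Cfsg.Prelude.Def_Blocks
import Cfsg.Prelude.Def_Characters
import Cfsg.Agent.Lib.H23.GagDefs
import Cfsg.Agent.Lib.H23.BlockGenDecomp
import Cfsg.Agent.Lib.H24.CharBasic

/-!
# S4561 (Gagola), piece KER (helper22): `[Z*, Tw] ≤ ker χ`.

`z x z⁻¹ x⁻¹ = (k, 1, 0, 0)` with `k t = z.f t * (z.f (x.s⁻¹ t))⁻¹ ∈ Z(H₀)` and `∏ k t = 1`; the set `KS` of all
elements of this shape is stable under conjugation, and `ϑ` takes the value `ϑ(1)` on it.  The condition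
`∏ k t = 1` is phrased through all functions `L : H₀ → ℂ` that are multiplicative on the centre.
-/

set_option autoImplicit false

universe u

namespace Cfsg.Agent.Lib.H22.GAG

open Cfsg Cfsg.Agent.Lib.H23.Gag

section tw

variable {H₀ : Type u} [Group H₀]

/-- `L` is multiplicative on the centre and `L 1 = 1`. -/
def CMul (L : H₀ → ℂ) : Prop :=
  L 1 = 1 ∧ ∀ a ∈ Subgroup.center H₀, ∀ b ∈ Subgroup.center H₀, L (a * b) = L a * L b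

/-- elements `(k, 1, 0, 0)` with `k` central-valued of total product one -/
def KS (H₀ : Type u) [Group H₀] (p : ℕ) [NeZero p] (k : Tw H₀ p) : Prop :=
  k.s = 1 ∧ k.v = 0 ∧ k.c = 0 ∧ (∀ t, k.f t ∈ Subgroup.center H₀) ∧
    ∀ L : H₀ → ℂ, CMul L → ∏ t, L (k.f t) = 1

theorem KS_comm (p : ℕ) [NeZero p] (z : Tw H₀ p) (hz : z ∈ Tw.zstar H₀ p) (x : Tw H₀ p) :
    KS H₀ p (z * x * z⁻¹ * x⁻¹) := by
  obtain ⟨h1, h2, h3⟩ := hz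
  have hf : ∀ t, (z * x * z⁻¹ * x⁻¹).f t = z.f t * (z.f (x.s⁻¹ * t))⁻¹ := by
    intro t
    have hc := h3 (x.s⁻¹ * t)
    rw [Subgroup.mem_center_iff] at hc
    simp only [Tw.mul_f, Tw.inv_f, Tw.mul_s, Tw.inv_s, h1, inv_one, one_mul, mul_one, Pi.mul_apply,
      mul_inv_cancel_left]
    have hc' : ∀ a : H₀, a * (z.f (x.s⁻¹ * t))⁻¹ = (z.f (x.s⁻¹ * t))⁻¹ * a := by
      intro a
      have h := hc a
      calc a * (z.f (x.s⁻¹ * t))⁻¹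
          = (z.f (x.s⁻¹ * t))⁻¹ * (z.f (x.s⁻¹ * t) * a) * (z.f (x.s⁻¹ * t))⁻¹ := by group
        _ = (z.f (x.s⁻¹ * t))⁻¹ * (a * z.f (x.s⁻¹ * t)) * (z.f (x.s⁻¹ * t))⁻¹ := by rw [h]
        _ = (z.f (x.s⁻¹ * t))⁻¹ * a := by group
    rw [mul_assoc, mul_assoc, ← mul_assoc (x.f t), hc' (x.f t), mul_assoc, mul_inv_cancel, mul_one]
  refine ⟨by simp [h1], by simp [h2], by simp [h1, h2], fun t => ?_, fun L hL => ?_⟩
  · rw [hf]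
    exact Subgroup.mul_mem _ (h3 t) (Subgroup.inv_mem _ (h3 _))
  · have e1 : ∀ t, L ((z * x * z⁻¹ * x⁻¹).f t) = L (z.f t) * L ((z.f (x.s⁻¹ * t))⁻¹) := by
      intro t
      rw [hf, hL.2 _ (h3 t) _ (Subgroup.inv_mem _ (h3 _))]
    rw [Finset.prod_congr rfl (fun t _ => e1 t), Finset.prod_mul_distrib]
    have e2 : ∏ t : Cp p, L ((z.f (x.s⁻¹ * t))⁻¹) = ∏ t : Cp p, L ((z.f t)⁻¹) :=
      Fintype.prod_equiv (Equiv.mulLeft x.s⁻¹) _ _ (fun t => rfl)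
    rw [e2, ← Finset.prod_mul_distrib]
    refine Finset.prod_eq_one (fun t _ => ?_)
    rw [← hL.2 _ (h3 t) _ (Subgroup.inv_mem _ (h3 t)), mul_inv_cancel, hL.1]

theorem KS_conj (p : ℕ) [NeZero p] (k : Tw H₀ p) (hk : KS H₀ p k) (y : Tw H₀ p) :
    KS H₀ p (y⁻¹ * k * y) := by
  obtain ⟨h1, h2, h3, h4, h5⟩ := hk
  have hf : ∀ t, (y⁻¹ * k * y).f t = k.f (y.s * t) := by
    intro t
    have hy : y⁻¹ * k * y = y⁻¹ * k * y⁻¹⁻¹ := by rw [inv_inv]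
    rw [hy, Tw.conj_f, h1, inv_one, one_mul, Tw.inv_s, inv_inv]
    have hc := h4 (y.s * t)
    rw [Subgroup.mem_center_iff] at hc
    rw [hc, mul_inv_cancel_right]
  refine ⟨by simp [h1], by simp [h2], by simp [h1, h2, h3], fun t => ?_, fun L hL => ?_⟩
  · rw [hf]; exact h4 _
  · rw [← h5 L hL]
    refine Fintype.prod_equiv (Equiv.mulLeft y.s) _ _ (fun t => ?_)
    rw [hf]; rfl

theorem cmul_irr [Finite H₀] (χ₀ : IrrCharacter H₀) :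
    CMul (fun h : H₀ => (χ₀ : H₀ → ℂ) h / (χ₀ : H₀ → ℂ) 1) := by
  have : Fintype H₀ := Fintype.ofFinite H₀
  have h0 : (χ₀ : H₀ → ℂ) 1 ≠ 0 := Cfsg.Agent.Lib.H24.irr_one_ne_zero χ₀
  refine ⟨div_self h0, fun a ha b _ => ?_⟩
  show (χ₀ : H₀ → ℂ) (a * b) / (χ₀ : H₀ → ℂ) 1 =
    (χ₀ : H₀ → ℂ) a / (χ₀ : H₀ → ℂ) 1 * ((χ₀ : H₀ → ℂ) b / (χ₀ : H₀ → ℂ) 1)
  rw [Cfsg.Agent.Lib.H23.irr_central_mul χ₀ ha b]
  ring

theorem theta_KS [Finite H₀] (p : ℕ) [NeZero p] (χ₀ : IrrCharacter H₀) (k : Tw H₀ p) (hk : KS H₀ p k) :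
    Tw.theta p (χ₀ : H₀ → ℂ) ⟨k, hk.1⟩ =
      Tw.theta p (χ₀ : H₀ → ℂ) ⟨1, Subgroup.one_mem _⟩ := by
  have h0 : (χ₀ : H₀ → ℂ) 1 ≠ 0 := Cfsg.Agent.Lib.H24.irr_one_ne_zero χ₀
  obtain ⟨h1, h2, h3, h4, h5⟩ := hk
  have h6 := h5 _ (cmul_irr χ₀)
  simp only [Finset.prod_div_distrib] at h6
  have h7 : ∏ t : Cp p, (χ₀ : H₀ → ℂ) 1 ≠ 0 := Finset.prod_ne_zero_iff.mpr (fun _ _ => h0)
  rw [div_eq_one_iff_eq h7] at h6
  unfold Tw.theta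
  simp only [Tw.one_f, Tw.one_c, Pi.one_apply, h3]
  rw [h6]

/-- KER.  `[Z*, Tw] ≤ ker χ`. -/
theorem chi_comm_zstar [Finite H₀] (p : ℕ) [Fact p.Prime] (χ₀ : IrrCharacter H₀) (z : Tw H₀ p)
    (hz : z ∈ Tw.zstar H₀ p) (x : Tw H₀ p) :
    Tw.chi p (χ₀ : H₀ → ℂ) (z * x * z⁻¹ * x⁻¹) = Tw.chi p (χ₀ : H₀ → ℂ) 1 := by
  have hk := KS_comm p z hz x
  unfold Tw.chi Cfsg.indFun
  congr 1
  refine Finset.sum_congr rfl (fun y _ => ?_)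
  have hk' := KS_conj p _ hk y
  have e1 : y⁻¹ * 1 * y = 1 := by group
  rw [e1]
  unfold Cfsg.extendByZero
  have a1 := Function.Injective.extend_apply (Subtype.val_injective (p := (· ∈ Tw.base H₀ p)))
    (Tw.theta p (χ₀ : H₀ → ℂ)) 0 ⟨_, hk'.1⟩
  have a2 := Function.Injective.extend_apply (Subtype.val_injective (p := (· ∈ Tw.base H₀ p)))
    (Tw.theta p (χ₀ : H₀ → ℂ)) 0 ⟨1, Subgroup.one_mem _⟩
  rw [a1, a2]
  exact theta_KS p χ₀ _ hk'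

end tw

end Cfsg.Agent.Lib.H22.GAG
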