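import Mathlib
import Cfsg.Agent.Lib.H4.PCOMPLcore

/-!
# S1951 (helper12's sigs), piece A1 = `singular_of_regular_mul` (helper22, TWIN of helper20's): the pair lemma,
a wrap of helper4's `Cfsg.Agent.Lib.H4.PC.modEq_of_regular`.
-/

set_option autoImplicit false

namespace Cfsg.Agent.Lib.H22.GR

open Cfsg

variable {G : Type*} [Group G] [Finite G] {p : ℕ} [Fact p.Prime]

/-- A1. The pair lemma (pure group theory). -/
theorem singular_of_regular_mul (P : Sylow p G) (hPc : ∀ a ∈ (P : Subgroup G), ∀ b ∈ (P : Subgroup G), a * b = b * a)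
    {x z : G} (hx : orderOf x = p) (hz : orderOf z = p)
    (hH : Cfsg.IsPSolvable p ↥(Subgroup.closure ({x, z} : Set G)))
    (hreg : ¬ p ∣ orderOf (x * z)) (k : ℕ) (hk : ¬ k ≡ 1 [MOD p]) : p ∣ orderOf (x ^ k * z) := by
  have hp : p.Prime := Fact.out
  by_contra hcon
  have hset : Subgroup.closure ({z, x⁻¹} : Set G) = Subgroup.closure ({x, z} : Set G) := by
    apply le_antisymm
    · rw [Subgroup.closure_le]
      rintro w (rfl | rfl)
      · exact Subgroup.subset_closure (by simp)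
      · exact Subgroup.inv_mem _ (Subgroup.subset_closure (by simp))
    · rw [Subgroup.closure_le]
      rintro w (rfl | rfl)
      · have : w⁻¹ ∈ Subgroup.closure ({z, w⁻¹} : Set G) := Subgroup.subset_closure (by simp)
        simpa using Subgroup.inv_mem _ this
      · exact Subgroup.subset_closure (by simp)
  have hH' : Cfsg.IsPSolvable p ↥(Subgroup.closure ({z, x⁻¹} : Set G)) := by
    rw [hset]; exact hH
  have hxi : orderOf x⁻¹ = p := by rw [orderOf_inv, hx]
  have e1 : z⁻¹ * x⁻¹ ^ 1 = (x * z)⁻¹ := by rw [pow_one, mul_inv_rev]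
  have ek : z⁻¹ * x⁻¹ ^ k = (x ^ k * z)⁻¹ := by rw [mul_inv_rev, inv_pow]
  have h1 : (orderOf (z⁻¹ * x⁻¹ ^ 1)).Coprime p := by
    rw [e1, orderOf_inv]
    exact ((Nat.Prime.coprime_iff_not_dvd hp).2 hreg).symm
  have h2 : (orderOf (z⁻¹ * x⁻¹ ^ k)).Coprime p := by
    rw [ek, orderOf_inv]
    exact ((Nat.Prime.coprime_iff_not_dvd hp).2 hcon).symm
  have := Cfsg.Agent.Lib.H4.PC.modEq_of_regular P hPc hz hxi hH' h2 h1
  exact hk this

end Cfsg.Agent.Lib.H22.GR
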