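import Mathlib
import Cfsg.Prelude.Def_Local
import Cfsg.Prelude.Def_Transfer

/-!
# S1951 (helper12's sigs), piece A2 core (helper22): the count `(p - 1) * #T ≤ |G|`

`T = {a : (a z a⁻¹) z is p-regular}`; for `j = 1, …, p - 1` pick `n_j` with `n_j z n_j⁻¹ = z ^ j`; the translates
`T n_j⁻¹` are pairwise disjoint by the pair lemma A1 (taken here as a hypothesis `hA1`), so `(p - 1) |T| ≤ |G|`.
-/

set_option autoImplicit false

namespace Cfsg.Agent.Lib.H22.GR

open Cfsg

variable {G : Type*} [Group G] [Finite G] {p : ℕ} [Fact p.Prime]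

/-- The count, with the pair lemma A1 as a hypothesis. -/
theorem bad_card_le_of_pair (P : Sylow p G) (hPe : Cfsg.IsElementaryAbelian p (P : Subgroup G))
    (hconj : ∀ x ∈ (P : Subgroup G), ∀ y ∈ (P : Subgroup G), x ≠ 1 → y ≠ 1 → ∃ g : G, g * x * g⁻¹ = y)
    (hA1 : ∀ x z : G, orderOf x = p → orderOf z = p → ¬ p ∣ orderOf (x * z) →
      ∀ k : ℕ, ¬ k ≡ 1 [MOD p] → p ∣ orderOf (x ^ k * z))
    {z : G} (hz : z ∈ (P : Subgroup G)) (hz1 : z ≠ 1) :
    (p - 1) * Nat.card {a : G // ¬ p ∣ orderOf (a * z * a⁻¹ * z)} ≤ Nat.card G := by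
  classical
  have hp : p.Prime := Fact.out
  have hzp : z ^ p = 1 := hPe.2 z hz
  have hoz : orderOf z = p := orderOf_eq_prime hzp hz1
  have hpow1 : ∀ j : Fin (p - 1), z ^ (j.1 + 1) ≠ 1 := by
    intro j h
    have h1 := orderOf_dvd_of_pow_eq_one h
    rw [hoz] at h1
    have h2 := Nat.le_of_dvd (Nat.succ_pos _) h1
    have h3 := j.2
    omega
  have hn : ∀ j : Fin (p - 1), ∃ n : G, n * z * n⁻¹ = z ^ (j.1 + 1) := by
    intro j
    exact hconj z hz _ (Subgroup.pow_mem _ hz _) hz1 (hpow1 j)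
  choose n hn using hn
  have key : ∀ (c : G) (i j : Fin (p - 1)), ¬ p ∣ orderOf (c * z ^ (i.1 + 1) * c⁻¹ * z) →
      ¬ p ∣ orderOf (c * z ^ (j.1 + 1) * c⁻¹ * z) → i = j := by
    intro c i j hi hj
    by_contra hij
    have hxo : orderOf (c * z ^ (i.1 + 1) * c⁻¹) = p := by
      apply orderOf_eq_prime
      · rw [conj_pow, ← pow_mul, mul_comm, pow_mul, hzp, one_pow]; group
      · intro h
        apply hpow1 i
        have : z ^ (i.1 + 1) = c⁻¹ * (c * z ^ (i.1 + 1) * c⁻¹) * c := by group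
        rw [this, h]; group
    have hi2 := i.2
    have hj2 := j.2
    have hcop : Nat.Coprime (i.1 + 1) p := by
      rw [Nat.coprime_comm, hp.coprime_iff_not_dvd]
      intro h
      have := Nat.le_of_dvd (Nat.succ_pos _) h
      omega
    obtain ⟨m, -, hm⟩ := Nat.exists_mul_mod_eq_one_of_coprime hcop hp.one_lt
    have hm' : (i.1 + 1) * m ≡ 1 [MOD p] := by
      unfold Nat.ModEq
      rw [hm, Nat.mod_eq_of_lt hp.one_lt]
    have hk : (i.1 + 1) * (m * (j.1 + 1)) ≡ j.1 + 1 [MOD p] := by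
      have := hm'.mul_right (j.1 + 1)
      rwa [one_mul, mul_assoc] at this
    have hxk : (c * z ^ (i.1 + 1) * c⁻¹) ^ (m * (j.1 + 1)) = c * z ^ (j.1 + 1) * c⁻¹ := by
      rw [conj_pow, ← pow_mul]
      have : z ^ ((i.1 + 1) * (m * (j.1 + 1))) = z ^ (j.1 + 1) := by
        rw [pow_eq_pow_iff_modEq, hoz]; exact hk
      rw [this]
    have hk1 : ¬ (m * (j.1 + 1)) ≡ 1 [MOD p] := by
      intro h
      have h1 := h.mul_left (i.1 + 1)
      rw [mul_one] at h1
      have h2 : i.1 + 1 ≡ j.1 + 1 [MOD p] := h1.symm.trans hk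
      have h3 := Nat.ModEq.eq_of_lt_of_lt h2 (by omega) (by omega)
      apply hij
      exact Fin.ext (by omega)
    have := hA1 _ z hxo hoz hi _ hk1
    rw [hxk] at this
    exact hj this
  let f : Fin (p - 1) × {a : G // ¬ p ∣ orderOf (a * z * a⁻¹ * z)} → G :=
    fun ja => ja.2.1 * (n ja.1)⁻¹
  have hf : Function.Injective f := by
    rintro ⟨i, a⟩ ⟨j, b⟩ h
    simp only [f] at h
    have hij : i = j := by
      apply key (a.1 * (n i)⁻¹) i j
      · have : a.1 * (n i)⁻¹ * z ^ (i.1 + 1) * (a.1 * (n i)⁻¹)⁻¹ = a.1 * z * a.1⁻¹ := by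
          rw [← hn i]; group
        rw [this]; exact a.2
      · rw [h]
        have : b.1 * (n j)⁻¹ * z ^ (j.1 + 1) * (b.1 * (n j)⁻¹)⁻¹ = b.1 * z * b.1⁻¹ := by
          rw [← hn j]; group
        rw [this]; exact b.2
    subst hij
    have hab : a.1 = b.1 := mul_right_cancel h
    exact Prod.ext rfl (Subtype.ext hab)
  have hcard := Nat.card_le_card_of_injective f hf
  rwa [Nat.card_prod, Nat.card_fin] at hcard

end Cfsg.Agent.Lib.H22.GR
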