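import Mathlib
import Cfsg.Agent.Lib.H22.GRA2core
import Cfsg.Agent.Lib.H22.GRA1

/-!
# S1951 (helper12's sigs), piece A2 = `bad_card_le` (helper22), exact signature of
`tools/blueprints/S1951_sigs_h12.lean`; A1 = `Cfsg.Agent.Lib.H22.GR.singular_of_regular_mul` (wrap of helper4 H4.PC.modEq_of_regular).
-/

set_option autoImplicit false

namespace Cfsg.Agent.Lib.H22.GR

open Cfsg

variable {G : Type*} [Group G] [Finite G] {p : ℕ} [Fact p.Prime]

/-- A2. The count (on A1 + K). -/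
theorem bad_card_le (P : Sylow p G) (hPe : Cfsg.IsElementaryAbelian p (P : Subgroup G))
    (hconj : ∀ x ∈ (P : Subgroup G), ∀ y ∈ (P : Subgroup G), x ≠ 1 → y ≠ 1 → ∃ g : G, g * x * g⁻¹ = y)
    (hc : ∀ x y : G, orderOf x = p → orderOf y = p → Cfsg.IsPSolvable p ↥(Subgroup.closure ({x, y} : Set G)))
    {z : G} (hz : z ∈ (P : Subgroup G)) (hz1 : z ≠ 1) :
    (p - 1) * Nat.card {a : G // ¬ p ∣ orderOf (a * z * a⁻¹ * z)} ≤ Nat.card G := by
  have hPc : ∀ a ∈ (P : Subgroup G), ∀ b ∈ (P : Subgroup G), a * b = b * a := by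
    intro a ha b hb
    have h := hPe.1
    have := h.is_comm.comm (⟨a, ha⟩ : (P : Subgroup G)) ⟨b, hb⟩
    exact congrArg Subtype.val this
  refine bad_card_le_of_pair P hPe hconj ?_ hz hz1
  intro x w hx hw hreg k hk
  exact singular_of_regular_mul P hPc hx hw (hc x w hx hw) hreg k hk

end Cfsg.Agent.Lib.H22.GR
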