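/-
S5665 (architect helper25), piece **(SE)** `scl_all` (helper22): spreading - one singular transvection centre gives all
symplectic transvections.
-/
import Mathlib
import Cfsg.Agent.Lib.H25.GsDefs

set_option autoImplicit false
set_option linter.unusedSimpArgs false
set_option linter.unusedSectionVars false
set_option linter.unusedVariables false

namespace Cfsg.Agent.Lib.H22.Gs

open Matrix Module
open Cfsg Cfsg.Geo
open Cfsg.Agent.Lib.H11.SubspMax
open Cfsg.Agent.Lib.H25.Gs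
open Cfsg.Agent.Lib.H4 (sympForm_self sympForm_add_left sympForm_add_right sympForm_smul_left
  sympForm_smul_right sympForm_swap)

variable {F : Type*} [Field F] {m : ℕ} {J : Matrix (Fin m ⊕ Fin m) (Fin m ⊕ Fin m) F} {d : F}

theorem d_ne (S : SJ m J d) : d ≠ 0 := by
  intro h
  exact S.nsq 0 (by rw [h]; ring)

theorem norm_zero (S : SJ m J d) {a b : F} (h : a ^ 2 - d * b ^ 2 = 0) : a = 0 ∧ b = 0 := by
  have hb : b = 0 := by
    by_contra hb
    apply S.nsq (a / b)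
    field_simp
    linear_combination h
  subst hb
  refine ⟨?_, rfl⟩
  have h2 : a ^ 2 = 0 := by linear_combination h
  exact (pow_eq_zero_iff two_ne_zero).mp h2

theorem Bf_symm (S : SJ m J d) (x y : Fin m ⊕ Fin m → F) : Bf J x y = Bf J y x := by
  unfold Bf
  rw [sympForm_swap m y (J *ᵥ x), S.adj x y, neg_neg]

theorem Bf_J_right (S : SJ m J d) (x y : Fin m ⊕ Fin m → F) :
    Bf J x (J *ᵥ y) = d * Cfsg.sympForm m F x y := by
  unfold Bf
  rw [S.sq, sympForm_smul_right]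

theorem utv_mulVec (S : SJ m J d) {w : Fin m ⊕ Fin m → F} (hw : Sing J w) (c : F)
    (x : Fin m ⊕ Fin m → F) :
    ((utv J d w c : GL (Fin m ⊕ Fin m) F) : Matrix (Fin m ⊕ Fin m) (Fin m ⊕ Fin m) F) *ᵥ x =
      x + (-(d * c) * Cfsg.sympForm m F x w) • w +
        (c * Cfsg.sympForm m F x (J *ᵥ w)) • (J *ᵥ w) := by
  unfold utv
  rw [gl_mul_mulVec, stv_mulVec, stv_mulVec, sympForm_add_left, sympForm_smul_left]
  have h0 : Cfsg.sympForm m F w (J *ᵥ w) = 0 := hw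
  rw [h0, mul_zero, add_zero]

/-- (E1) -/
theorem scl_e1 (S : SJ m J d) {H : Subgroup (GL (Fin m ⊕ Fin m) F)} (hH : H ≤ Cfsg.spGL m F)
    (hU : HasU H J d) {z y : Fin m ⊕ Fin m → F} (hzH : z ∈ Scl H) (hy : Sing J y)
    (hB : Cfsg.sympForm m F z (J *ᵥ y) = 0) (hne : Cfsg.sympForm m F z y ≠ 0) : y ∈ Scl H := by
  set v : Fin m ⊕ Fin m → F := d⁻¹ • (J *ᵥ y) with hv
  have hJv : J *ᵥ v = y := by
    rw [hv, Matrix.mulVec_smul, S.sq, smul_smul, inv_mul_cancel₀ (d_ne S), one_smul]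
  have hvs : Sing J v := by
    unfold Sing
    rw [hJv, hv, sympForm_smul_left, S.adj]
    have h0 : Cfsg.sympForm m F y (J *ᵥ y) = 0 := hy
    rw [h0]
    ring
  have hzv : Cfsg.sympForm m F z v = 0 := by
    rw [hv, sympForm_smul_right, hB, mul_zero]
  have key : ∀ c : F, z + (c * Cfsg.sympForm m F z y) • y ∈ Scl H := by
    intro c
    have h1 := Scl_inv hH (hU v hvs c) hzH
    rw [utv_mulVec S hvs, hJv, hzv, mul_zero, zero_smul, add_zero] at h1
    exact h1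
  have hw : z + y ∈ Scl H := by
    have h1 := key (Cfsg.sympForm m F z y)⁻¹
    rwa [inv_mul_cancel₀ hne, one_smul] at h1
  have hne2 : Cfsg.sympForm m F (z + y) z ≠ 0 := by
    rw [sympForm_add_left, sympForm_self, zero_add, sympForm_swap]
    exact neg_ne_zero.mpr hne
  have h2 := Scl_add hH hzH hw hne2 (-1)
  have e : z + y + (-1 : F) • z = y := by
    rw [neg_one_smul]
    abel
  rwa [e] at h2

theorem li_pair (S : SJ m J d) {y : Fin m ⊕ Fin m → F} (hy : y ≠ 0) :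
    LinearIndependent F ![y, J *ᵥ y] := by
  rw [LinearIndependent.pair_iff]
  intro a b h
  have h2 : a • (J *ᵥ y) + (b * d) • y = 0 := by
    have h1 := congrArg (fun v => J *ᵥ v) h
    simp only [Matrix.mulVec_add, Matrix.mulVec_smul, S.sq, Matrix.mulVec_zero, smul_smul] at h1
    exact h1
  have h3 : (a ^ 2 - d * b ^ 2) • y = 0 := by
    linear_combination (norm := module) a • h - b • h2
  rcases smul_eq_zero.mp h3 with h4 | h4
  · exact norm_zero S h4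
  · exact absurd h4 hy

/-- (K-lemma) -/
theorem li_four (S : SJ m J d) {z y : Fin m ⊕ Fin m → F} (hz : z ≠ 0) (hy : ¬ InK J z y) :
    LinearIndependent F ![z, J *ᵥ z, y, J *ᵥ y] := by
  rw [Fintype.linearIndependent_iff]
  intro g hg
  rw [Fin.sum_univ_four] at hg
  have hg' : g 0 • z + g 1 • (J *ᵥ z) + g 2 • y + g 3 • (J *ᵥ y) = 0 := hg
  have hJ : g 0 • (J *ᵥ z) + (g 1 * d) • z + g 2 • (J *ᵥ y) + (g 3 * d) • y = 0 := by
    have h1 := congrArg (fun v => J *ᵥ v) hg'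
    simp only [Matrix.mulVec_add, Matrix.mulVec_smul, S.sq, Matrix.mulVec_zero, smul_smul] at h1
    exact h1
  have h3 : (g 2 ^ 2 - d * g 3 ^ 2) • y =
      (-(g 2 * g 0 - d * g 3 * g 1)) • z + (-(g 2 * g 1 - g 3 * g 0)) • (J *ᵥ z) := by
    linear_combination (norm := module) g 2 • hg' - g 3 • hJ
  have hN : g 2 ^ 2 - d * g 3 ^ 2 = 0 := by
    by_contra hN
    apply hy
    refine ⟨(g 2 ^ 2 - d * g 3 ^ 2)⁻¹ * (-(g 2 * g 0 - d * g 3 * g 1)),
      (g 2 ^ 2 - d * g 3 ^ 2)⁻¹ * (-(g 2 * g 1 - g 3 * g 0)), ?_⟩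
    have h4 := congrArg (fun v => (g 2 ^ 2 - d * g 3 ^ 2)⁻¹ • v) h3
    simp only [smul_smul, inv_mul_cancel₀ hN, one_smul, smul_add] at h4
    exact h4
  obtain ⟨h2, h3'⟩ := norm_zero S hN
  rw [h2, h3', zero_smul, zero_smul, add_zero, add_zero] at hg'
  obtain ⟨h0, h1⟩ := LinearIndependent.pair_iff.mp (li_pair S hz) (g 0) (g 1) hg'
  intro i
  fin_cases i
  · exact h0
  · exact h1
  · exact h2
  · exact h3'

/-- (E2a) -/
theorem scl_e2a (S : SJ m J d) (G : GeoS m J) {H : Subgroup (GL (Fin m ⊕ Fin m) F)}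
    (hH : H ≤ Cfsg.spGL m F) (hU : HasU H J d) {z y : Fin m ⊕ Fin m → F} (hz : z ≠ 0)
    (hzs : Sing J z) (hzH : z ∈ Scl H) (hy : Sing J y) (hnot : ¬ InK J z y) : y ∈ Scl H := by
  obtain ⟨y₁, hy₁s, hy₁⟩ := G.pairing ![z, J *ᵥ z, y, J *ᵥ y] (li_four S hz hnot) ![0, d, 0, d]
    (by have := S.hm; omega)
  have h0 : Bf J y₁ z = 0 := hy₁ 0
  have h1 : Bf J y₁ (J *ᵥ z) = d := hy₁ 1
  have h2 : Bf J y₁ y = 0 := hy₁ 2
  have h3 : Bf J y₁ (J *ᵥ y) = d := hy₁ 3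
  have hz1 : Cfsg.sympForm m F y₁ z = 1 :=
    mul_left_cancel₀ (d_ne S) (by rw [← Bf_J_right S, h1, mul_one])
  have hy1 : Cfsg.sympForm m F y₁ y = 1 :=
    mul_left_cancel₀ (d_ne S) (by rw [← Bf_J_right S, h3, mul_one])
  have hy₁H : y₁ ∈ Scl H := by
    apply scl_e1 S hH hU hzH hy₁s
    · have := Bf_symm S z y₁
      unfold Bf at this
      rw [this]
      exact h0
    · rw [sympForm_swap, hz1]
      exact neg_ne_zero.mpr one_ne_zero
  apply scl_e1 S hH hU hy₁H hy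
  · exact h2
  · rw [hy1]
    exact one_ne_zero

/-- (E2b) -/
theorem scl_e2b (S : SJ m J d) (G : GeoS m J) {H : Subgroup (GL (Fin m ⊕ Fin m) F)}
    (hH : H ≤ Cfsg.spGL m F) (hU : HasU H J d) {z y : Fin m ⊕ Fin m → F} (hz : z ≠ 0)
    (hzs : Sing J z) (hzH : z ∈ Scl H) (hy0 : y ≠ 0) (hy : Sing J y) (hin : InK J z y) :
    y ∈ Scl H := by
  obtain ⟨y₂, hy₂s, hy₂⟩ := G.pairing ![y, J *ᵥ y] (li_pair S hy0) ![0, d]
    (by have := S.hm; omega)
  have h0 : Bf J y₂ y = 0 := hy₂ 0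
  have h1 : Bf J y₂ (J *ᵥ y) = d := hy₂ 1
  have hy1 : Cfsg.sympForm m F y₂ y = 1 :=
    mul_left_cancel₀ (d_ne S) (by rw [← Bf_J_right S, h1, mul_one])
  have hnot : ¬ InK J z y₂ := by
    rintro ⟨α, β, hαβ⟩
    obtain ⟨a, b, hab⟩ := hin
    have hzz : Cfsg.sympForm m F z (J *ᵥ z) = 0 := hzs
    have hzz' : Cfsg.sympForm m F (J *ᵥ z) z = 0 := by rw [sympForm_swap, hzz, neg_zero]
    have h5 : Cfsg.sympForm m F y₂ y = 0 := by
      rw [hαβ, hab]
      simp only [sympForm_add_left, sympForm_add_right, sympForm_smul_left, sympForm_smul_right,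
        sympForm_self, hzz, hzz', mul_zero, add_zero]
    rw [hy1] at h5
    exact one_ne_zero h5
  have hy₂H : y₂ ∈ Scl H := scl_e2a S G hH hU hz hzs hzH hy₂s hnot
  apply scl_e1 S hH hU hy₂H hy
  · exact h0
  · rw [hy1]
    exact one_ne_zero

theorem scl_sing (S : SJ m J d) (G : GeoS m J) {H : Subgroup (GL (Fin m ⊕ Fin m) F)}
    (hH : H ≤ Cfsg.spGL m F) (hU : HasU H J d) {z : Fin m ⊕ Fin m → F} (hz : z ≠ 0)
    (hzs : Sing J z) (hzH : z ∈ Scl H) (y : Fin m ⊕ Fin m → F) (hy : Sing J y) : y ∈ Scl H := by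
  by_cases hy0 : y = 0
  · rw [hy0]
    exact Scl_zero
  by_cases hin : InK J z y
  · exact scl_e2b S G hH hU hz hzs hzH hy0 hy hin
  · exact scl_e2a S G hH hU hz hzs hzH hy hin

/-- **(SE)** spreading: one singular transvection centre gives all transvections -/
theorem scl_all (S : SJ m J d) (G : GeoS m J) {H : Subgroup (GL (Fin m ⊕ Fin m) F)}
    (hH : H ≤ Cfsg.spGL m F) (hU : HasU H J d) {z : Fin m ⊕ Fin m → F} (hz : z ≠ 0)
    (hzs : Sing J z) (hzH : z ∈ Scl H) : ∀ v : Fin m ⊕ Fin m → F, v ∈ Scl H := by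
  intro v
  by_cases hv0 : v = 0
  · rw [hv0]
    exact Scl_zero
  obtain ⟨u₁, hu₁s, hu₁⟩ := G.pairing ![v, J *ᵥ v] (li_pair S hv0)
    ![Cfsg.sympForm m F v (J *ᵥ v) / 2, d] (by have := S.hm; omega)
  have h0 : Bf J u₁ v = Cfsg.sympForm m F v (J *ᵥ v) / 2 := hu₁ 0
  have h1 : Bf J u₁ (J *ᵥ v) = d := hu₁ 1
  have hv1 : Cfsg.sympForm m F u₁ v = 1 :=
    mul_left_cancel₀ (d_ne S) (by rw [← Bf_J_right S, h1, mul_one])
  set u₂ : Fin m ⊕ Fin m → F := v - u₁ with hu₂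
  have hu₂s : Sing J u₂ := by
    unfold Sing
    have hs1 : Cfsg.sympForm m F u₁ (J *ᵥ u₁) = 0 := hu₁s
    have hb1 : Cfsg.sympForm m F u₁ (J *ᵥ v) = Cfsg.sympForm m F v (J *ᵥ v) / 2 := h0
    have hb2 : Cfsg.sympForm m F v (J *ᵥ u₁) = Cfsg.sympForm m F v (J *ᵥ v) / 2 := by
      have := Bf_symm S v u₁
      unfold Bf at this
      rw [this]
      exact h0
    rw [hu₂, Matrix.mulVec_sub, sympForm_sub_left, sympForm_sub_right, sympForm_sub_right, hs1, hb1, hb2]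
    have h2 := S.two
    field_simp
    ring
  have hu₁H : u₁ ∈ Scl H := scl_sing S G hH hU hz hzs hzH u₁ hu₁s
  have hu₂H : u₂ ∈ Scl H := scl_sing S G hH hU hz hzs hzH u₂ hu₂s
  have hne : Cfsg.sympForm m F u₂ u₁ ≠ 0 := by
    rw [hu₂, sympForm_sub_left, sympForm_self, sub_zero, sympForm_swap, hv1]
    exact neg_ne_zero.mpr one_ne_zero
  have h3 := Scl_add' hH hu₁H hu₂H hne
  have e : u₂ + u₁ = v := by
    rw [hu₂]
    abel
  rwa [e] at h3

end Cfsg.Agent.Lib.H22.Gs
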