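import Cfsg.Agent.Lib.H13.HSDefs

/-!
# S2536 piece P10 (EXISTENCE), arithmetic core: the three Hall subgroups from the cardinalities of the stabilizers.
-/

set_option autoImplicit false

namespace Cfsg.Agent.Lib.H22.HS

open Equiv MulAction Cfsg.Agent.Lib.H13.HS
open scoped Pointwise

/-- index of a subgroup of `Perm α` from its cardinality. -/
theorem p10_index_of_card {α : Type*} [Finite α] (K : Subgroup (Perm α)) {c i : ℕ}
    (hc : Nat.card K = c) (hci : c * i = (Nat.card α).factorial) (hc0 : 0 < c) : K.index = i := by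
  have h := Subgroup.card_mul_index K
  rw [Nat.card_perm, hc, ← hci] at h
  exact Nat.eq_of_mul_eq_mul_left hc0 h

theorem p10_prime_dvd_factorial_lt {p n : ℕ} (hp : p.Prime) (h : p ∣ n.factorial) : p ≤ n :=
  (hp.dvd_factorial).1 h

/-- point stabilizer, from its cardinality. -/
theorem hall_stabilizer_point_of {α : Type*} [Finite α] {π : Set ℕ} (h : Below π (Nat.card α)) (x : α)
    (hc : Nat.card (stabilizer (Perm α) x) = (Nat.card α - 1).factorial) :
    Cfsg.IsPiHall π (stabilizer (Perm α) x) := by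
  obtain ⟨hn, hπ⟩ := h
  set n := Nat.card α with hndef
  have hn1 : 1 ≤ n := hn.one_lt.le
  have hidx : (stabilizer (Perm α) x).index = n := by
    apply p10_index_of_card _ hc _ (Nat.factorial_pos _)
    rw [← hndef]
    obtain ⟨m, hm⟩ : ∃ m, n = m + 1 := ⟨n - 1, by omega⟩
    rw [hm, Nat.factorial_succ]
    simp only [Nat.add_sub_cancel]
    ring
  refine ⟨?_, ?_⟩
  · intro p hp hdvd
    rw [hc] at hdvd
    have hle : p ≤ n - 1 := p10_prime_dvd_factorial_lt hp hdvd
    exact (hπ p hp (by omega)).2 (by omega)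
  · intro p hp hpπ hdvd
    rw [hidx] at hdvd
    have hpn : p = n := (Nat.prime_dvd_prime_iff_eq hp hn).1 hdvd
    have := (hπ p hp (by omega)).1 hpπ
    omega

theorem p10_piNum_of_two_three {π : Set ℕ} {n k : ℕ} (h : TwoThree π n) (h3 : 3 ≤ n)
    (hk : ∀ p : ℕ, p.Prime → p ∣ k → p = 2 ∨ p = 3) : PiNum π k := by
  intro p hp hdvd
  rcases hk p hp hdvd with rfl | rfl
  · exact (h 2 Nat.prime_two (by omega)).2 (Or.inl rfl)
  · exact (h 3 Nat.prime_three (by omega)).2 (Or.inr rfl)

theorem p10_piFree_35 {π : Set ℕ} {n : ℕ} (h : TwoThree π n) (h7 : 7 ≤ n) : PiFree π 35 := by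
  intro p hp hpπ hdvd
  have h35 : (35 : ℕ) = 5 * 7 := by norm_num
  rw [h35] at hdvd
  rcases (Nat.Prime.dvd_mul hp).1 hdvd with h5 | h7'
  · have : p = 5 := (Nat.prime_dvd_prime_iff_eq hp (by norm_num)).1 h5
    subst this
    rcases (h 5 hp (by omega)).1 hpπ with h | h <;> omega
  · have : p = 7 := (Nat.prime_dvd_prime_iff_eq hp (by norm_num)).1 h7'
    subst this
    rcases (h 7 hp (by omega)).1 hpπ with h | h <;> omega

theorem p10_prime_dvd_144 {p : ℕ} (hp : p.Prime) (h : p ∣ 144) : p = 2 ∨ p = 3 := by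
  have h144 : (144 : ℕ) = 2 ^ 4 * 3 ^ 2 := by norm_num
  rw [h144] at h
  rcases (Nat.Prime.dvd_mul hp).1 h with h2 | h3
  · left; exact (Nat.prime_dvd_prime_iff_eq hp Nat.prime_two).1 (hp.dvd_of_dvd_pow h2)
  · right; exact (Nat.prime_dvd_prime_iff_eq hp Nat.prime_three).1 (hp.dvd_of_dvd_pow h3)

theorem p10_prime_dvd_1152 {p : ℕ} (hp : p.Prime) (h : p ∣ 1152) : p = 2 ∨ p = 3 := by
  have h1152 : (1152 : ℕ) = 2 ^ 7 * 3 ^ 2 := by norm_num
  rw [h1152] at h
  rcases (Nat.Prime.dvd_mul hp).1 h with h2 | h3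
  · left; exact (Nat.prime_dvd_prime_iff_eq hp Nat.prime_two).1 (hp.dvd_of_dvd_pow h2)
  · right; exact (Nat.prime_dvd_prime_iff_eq hp Nat.prime_three).1 (hp.dvd_of_dvd_pow h3)

/-- stabilizer of a 3-set in degree 7, from its cardinality. -/
theorem hall_stabilizer_three_of {α : Type*} [Finite α] {π : Set ℕ} (h7 : Nat.card α = 7)
    (h : TwoThree π 7) (s : Set α) (hs : s.ncard = 3)
    (hc : Nat.card (stabilizer (Perm α) s) = (s.ncard).factorial * (sᶜ.ncard).factorial) :
    Cfsg.IsPiHall π (stabilizer (Perm α) s) := by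
  have hcompl : sᶜ.ncard = 4 := by
    have := Set.ncard_add_ncard_compl s
    rw [hs, h7] at this; omega
  rw [hs, hcompl] at hc
  have hc' : Nat.card (stabilizer (Perm α) s) = 144 := by rw [hc]; decide
  have hidx : (stabilizer (Perm α) s).index = 35 := by
    apply p10_index_of_card _ hc' _ (by norm_num)
    rw [h7]; decide
  refine ⟨?_, ?_⟩
  · rw [hc']
    exact p10_piNum_of_two_three h (by norm_num) (fun p hp hd => p10_prime_dvd_144 hp hd)
  · rw [hidx]
    exact p10_piFree_35 h le_rfl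

/-- stabilizer of a partition into two 4-sets in degree 8, from its cardinality. -/
theorem hall_partStab_of {α : Type*} [Finite α] {π : Set ℕ} (h8 : Nat.card α = 8)
    (h : TwoThree π 8) (s : Set α) (hs : s.ncard = 4)
    (hc : Nat.card (partStab s) = 2 * ((s.ncard).factorial * (s.ncard).factorial)) :
    Cfsg.IsPiHall π (partStab s) := by
  rw [hs] at hc
  have hc' : Nat.card (partStab s) = 1152 := by rw [hc]; decide
  have hidx : (partStab s).index = 35 := by
    apply p10_index_of_card _ hc' _ (by norm_num)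
    rw [h8]; decide
  refine ⟨?_, ?_⟩
  · rw [hc']
    exact p10_piNum_of_two_three h (by norm_num) (fun p hp hd => p10_prime_dvd_1152 hp hd)
  · rw [hidx]
    exact p10_piFree_35 h (by norm_num)

end Cfsg.Agent.Lib.H22.HS
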