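import Cfsg.Agent.Lib.H4.HT.Defs
import Cfsg.Prelude.Def_CaseTheorems

set_option autoImplicit false

/-! S3371 piece DD (helper22): the data for a dihedral 2-group. -/

namespace Cfsg.Agent.Lib.H22.HT

open Cfsg Cfsg.Agent.Lib.H4.HT

variable {q : ℕ} {V : Type*} [AddCommGroup V] [Module (ZMod q) V] {G : Type*} [Group G]

/-- membership in `zpowers (r 1)` of a dihedral group -/
theorem dd_mem_zpowers_r_one {m : ℕ} (g : DihedralGroup m) :
    g ∈ Subgroup.zpowers (DihedralGroup.r (1 : ZMod m)) ↔ ∃ i : ZMod m, g = DihedralGroup.r i := by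
  constructor
  · rintro ⟨k, rfl⟩
    exact ⟨(k : ZMod m), DihedralGroup.r_one_zpow k⟩
  · rintro ⟨i, rfl⟩
    refine ⟨(ZMod.cast i : ℤ), ?_⟩
    change DihedralGroup.r (1 : ZMod m) ^ (ZMod.cast i : ℤ) = DihedralGroup.r i
    rw [DihedralGroup.r_one_zpow, ZMod.intCast_zmod_cast]

theorem dd_sr_not_mem {m : ℕ} (i : ZMod m) :
    DihedralGroup.sr i ∉ Subgroup.zpowers (DihedralGroup.r (1 : ZMod m)) := by
  rw [dd_mem_zpowers_r_one]
  rintro ⟨j, hj⟩
  cases hj

/-- P14a (M, pure group theory): the data for a dihedral 2-group. -/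
theorem dihedral_data [Finite G] (hG : IsPGroup 2 G) (n' : ℕ) (hn' : 8 ≤ n')
    (e : G ≃* DihedralGroup n') :
    ∃ n : ℕ, 3 ≤ n ∧ n' = 2 ^ n ∧ Nat.card G = 2 ^ (n + 1) ∧ ∃ x : G, orderOf x = 2 ^ n ∧
      (∀ τ : G, τ ∉ Subgroup.zpowers x → τ * x * τ⁻¹ = x ^ (2 ^ n - 1)) ∧
      Nat.card {τ : G | τ ∉ Subgroup.zpowers x ∧ τ * τ = 1} = 2 ^ n := by
  have : NeZero n' := ⟨by omega⟩
  have hcard : Nat.card G = 2 * n' := by
    rw [Nat.card_congr e.toEquiv, DihedralGroup.nat_card]
  obtain ⟨k, hk⟩ := hG.exists_card_eq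
  rw [hcard] at hk
  have hk0 : k ≠ 0 := by
    rintro rfl
    omega
  obtain ⟨n, rfl⟩ : ∃ n, k = n + 1 := ⟨k - 1, by omega⟩
  have hn'eq : n' = 2 ^ n := by
    rw [pow_succ] at hk
    omega
  have hn3 : 3 ≤ n := by
    by_contra hlt
    rw [not_le] at hlt
    have : (2 : ℕ) ^ n ≤ 2 ^ 2 := Nat.pow_le_pow_right (by norm_num) (by omega)
    omega
  refine ⟨n, hn3, hn'eq, by rw [hcard, hn'eq, pow_succ, mul_comm], e.symm (DihedralGroup.r 1), ?_, ?_, ?_⟩
  · rw [MulEquiv.orderOf_eq, DihedralGroup.orderOf_r_one, hn'eq]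
  · intro τ hτ
    have hτ' : e τ ∉ Subgroup.zpowers (DihedralGroup.r (1 : ZMod n')) := by
      intro hmem
      apply hτ
      obtain ⟨j, hj⟩ := hmem
      refine ⟨j, ?_⟩
      apply e.injective
      simp only [map_zpow, MulEquiv.apply_symm_apply]
      exact hj
    apply e.injective
    simp only [map_mul, map_inv, map_pow, MulEquiv.apply_symm_apply]
    rcases hτe : e τ with i | i
    · exfalso
      apply hτ'
      rw [hτe, dd_mem_zpowers_r_one]
      exact ⟨i, rfl⟩
    · have hinv : (DihedralGroup.sr i)⁻¹ = DihedralGroup.sr i := rfl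
      rw [hinv, DihedralGroup.sr_mul_r, DihedralGroup.sr_mul_sr, DihedralGroup.r_one_pow]
      congr 1
      have h2 : ((2 ^ n - 1 : ℕ) : ZMod n') = -1 := by
        have h1 : 1 ≤ 2 ^ n := Nat.one_le_two_pow
        rw [Nat.cast_sub h1, ← hn'eq]
        simp
      rw [h2]
      ring
  · have hset : {τ : G | τ ∉ Subgroup.zpowers (e.symm (DihedralGroup.r 1)) ∧ τ * τ = 1} =
        Set.range (fun i : ZMod n' => e.symm (DihedralGroup.sr i)) := by
      ext τ
      simp only [Set.mem_ofPred_eq, Set.mem_range]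
      constructor
      · rintro ⟨hτ, -⟩
        rcases hτe : e τ with i | i
        · exfalso
          apply hτ
          have hmem : e τ ∈ Subgroup.zpowers (DihedralGroup.r (1 : ZMod n')) := by
            rw [hτe, dd_mem_zpowers_r_one]
            exact ⟨i, rfl⟩
          obtain ⟨j, hj⟩ := hmem
          refine ⟨j, ?_⟩
          apply e.injective
          simp only [map_zpow, MulEquiv.apply_symm_apply]
          exact hj
        · exact ⟨i, by rw [← hτe, MulEquiv.symm_apply_apply]⟩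
      · rintro ⟨i, rfl⟩
        constructor
        · rintro ⟨j, hj⟩
          apply dd_sr_not_mem i
          refine ⟨j, ?_⟩
          have := congrArg e hj
          simpa only [map_zpow, MulEquiv.apply_symm_apply] using this
        · rw [← map_mul, DihedralGroup.sr_mul_self, map_one]
    rw [hset, Nat.card_range_of_injective, Nat.card_eq_fintype_card, ZMod.card, hn'eq]
    intro i j hij
    have := e.symm.injective hij
    cases this
    rfl

end Cfsg.Agent.Lib.H22.HT
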