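import Cfsg.Agent.Lib.H4.HT.Defs
import Cfsg.Prelude.Def_CaseTheorems

set_option autoImplicit false

/-! S3371 piece NQ (helper22): a finite `QuaternionGroup n` has exactly one involution. -/

namespace Cfsg.Agent.Lib.H22.HT

open Cfsg Cfsg.Agent.Lib.H4.HT

variable {q : ℕ} {V : Type*} [AddCommGroup V] [Module (ZMod q) V] {G : Type*} [Group G]

/-- in a finite `QuaternionGroup n`, `n ≠ 0` -/
theorem nq_ne_zero (n : ℕ) [Finite (QuaternionGroup n)] : n ≠ 0 := by
  rintro rfl
  have hinj : Function.Injective (fun i : ZMod (2 * 0) => (QuaternionGroup.a i : QuaternionGroup 0)) := by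
    intro i j hij
    exact QuaternionGroup.a.inj hij
  have : Finite (ZMod (2 * 0)) := Finite.of_injective _ hinj
  have h2 : Infinite (ZMod (2 * 0)) := by
    change Infinite ℤ
    infer_instance
  exact not_finite (ZMod (2 * 0))

/-- the involutions of a finite `QuaternionGroup n` are equal to `a n` -/
theorem nq_invol (n : ℕ) [Finite (QuaternionGroup n)] (g : QuaternionGroup n) (hg : g ^ 2 = 1)
    (hg1 : g ≠ 1) : g = QuaternionGroup.a (n : ZMod (2 * n)) := by
  have hn : n ≠ 0 := nq_ne_zero n
  have : NeZero n := ⟨hn⟩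
  rcases g with i | i
  · -- g = a i
    rw [sq, QuaternionGroup.a_mul_a, QuaternionGroup.one_def] at hg
    have h2i : i + i = 0 := QuaternionGroup.a.inj hg
    have hi0 : i ≠ 0 := by
      rintro rfl
      exact hg1 QuaternionGroup.a_zero
    congr 1
    -- i + i = 0, i ≠ 0 in ZMod (2n) gives i = n
    have hv : ((i.val + i.val : ℕ) : ZMod (2 * n)) = 0 := by
      rw [Nat.cast_add, ZMod.natCast_zmod_val, h2i]
    rw [ZMod.natCast_eq_zero_iff] at hv
    have hlt : i.val < 2 * n := ZMod.val_lt i
    have hpos : 0 < i.val := by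
      rcases Nat.eq_zero_or_pos i.val with h0 | h0
      · exact absurd ((ZMod.val_eq_zero i).mp h0) hi0
      · exact h0
    obtain ⟨c, hc⟩ := hv
    have hc1 : c = 1 := by
      have h1 : 2 * n * c < 2 * n * 2 := by rw [← hc]; omega
      have h2 : 0 < 2 * n * c := by rw [← hc]; omega
      have hc2 : c < 2 := Nat.lt_of_mul_lt_mul_left h1
      have hc0 : c ≠ 0 := by rintro rfl; simp at h2
      omega
    rw [hc1, mul_one] at hc
    have hval : i.val = n := by omega
    rw [← ZMod.natCast_zmod_val i, hval]
  · -- g = xa i has order four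
    exfalso
    have h4 := QuaternionGroup.orderOf_xa (n := n) i
    have hdvd : orderOf (QuaternionGroup.xa i : QuaternionGroup n) ∣ 2 := orderOf_dvd_of_pow_eq_one hg
    rw [h4] at hdvd
    omega

/-- P12b (M, pure group theory): a finite `QuaternionGroup n` has exactly one involution. -/
theorem not_quaternion_of_pair [Finite G] (n : ℕ) (e : G ≃* QuaternionGroup n) (g z : G)
    (hg : g ^ 2 = 1) (hg1 : g ≠ 1) (hz1 : z ≠ 1) (hz2 : z ^ 2 = 1) (hgz : g ∉ Subgroup.zpowers z) :
    False := by
  have : Finite (QuaternionGroup n) := Finite.of_equiv G e.toEquiv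
  have h1 : e g = QuaternionGroup.a (n : ZMod (2 * n)) := by
    apply nq_invol n (e g)
    · rw [← map_pow, hg, map_one]
    · intro h
      exact hg1 (e.injective (h.trans (map_one e).symm))
  have h2 : e z = QuaternionGroup.a (n : ZMod (2 * n)) := by
    apply nq_invol n (e z)
    · rw [← map_pow, hz2, map_one]
    · intro h
      exact hz1 (e.injective (h.trans (map_one e).symm))
  have : g = z := e.injective (h1.trans h2.symm)
  exact hgz (this ▸ Subgroup.mem_zpowers z)

end Cfsg.Agent.Lib.H22.HT
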