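import Cfsg.Agent.Lib.H4.HT.Defs
import Cfsg.Prelude.Def_CaseTheorems

set_option autoImplicit false

/-! S3371 piece QD (helper22): the data for a quasi-dihedral group. -/

namespace Cfsg.Agent.Lib.H22.HT

open Cfsg Cfsg.Agent.Lib.H4.HT

variable {q : ℕ} {V : Type*} [AddCommGroup V] [Module (ZMod q) V] {G : Type*} [Group G]

/-- an element of `zpowers x` is a power `x ^ i` with `i < orderOf x` -/
theorem qd_exists_pow_lt [Finite G] {x h : G} (hh : h ∈ Subgroup.zpowers x) :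
    ∃ i : ℕ, i < orderOf x ∧ x ^ i = h := by
  classical
  rw [mem_zpowers_iff_mem_range_orderOf] at hh
  obtain ⟨i, hi, rfl⟩ := Finset.mem_image.mp hh
  exact ⟨i, Finset.mem_range.mp hi, rfl⟩

/-- P14b (M, pure group theory): the data for a quasi-dihedral group: every `τ = x^i y ∉ ⟨x⟩` conjugates `x`
to `x^(2^(n-1)-1)` and is an involution iff `i` is even. -/
theorem qd_data [Finite G] (h : Cfsg.IsQuasiDihedral G) :
    ∃ n : ℕ, 3 ≤ n ∧ Nat.card G = 2 ^ (n + 1) ∧ ∃ x : G, orderOf x = 2 ^ n ∧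
      (∀ τ : G, τ ∉ Subgroup.zpowers x → τ * x * τ⁻¹ = x ^ (2 ^ (n - 1) - 1)) ∧
      Nat.card {τ : G | τ ∉ Subgroup.zpowers x ∧ τ * τ = 1} = 2 ^ (n - 1) := by
  obtain ⟨n, hn, hcard, x, y, hx, hy, hyx⟩ := h
  refine ⟨n, hn, hcard, x, hx, ?_⟩
  set e : ℕ := 2 ^ (n - 1) - 1 with he
  have hpow : (2 : ℕ) ^ n = 2 * 2 ^ (n - 1) := by
    obtain ⟨m, rfl⟩ : ∃ m, n = m + 1 := ⟨n - 1, by omega⟩
    rw [pow_succ, Nat.add_sub_cancel, mul_comm]
  have h4 : 4 ≤ 2 ^ (n - 1) := by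
    have : (2 : ℕ) ^ 2 ≤ 2 ^ (n - 1) := Nat.pow_le_pow_right (by norm_num) (by omega)
    simpa using this
  have he1 : e + 1 = 2 ^ (n - 1) := by omega
  -- index of ⟨x⟩ is two
  have hidx : (Subgroup.zpowers x).index = 2 := by
    have h1 := (Subgroup.zpowers x).card_mul_index
    rw [Nat.card_zpowers, hx, hcard, pow_succ] at h1
    have hpos : 0 < 2 ^ n := by positivity
    exact Nat.eq_of_mul_eq_mul_left hpos h1
  have hyy : y * y = 1 := by
    rw [← sq, ← hy, pow_orderOf_eq_one]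
  have hyinv : y⁻¹ = y := by
    rw [inv_eq_iff_mul_eq_one, hyy]
  -- y ∉ ⟨x⟩
  have hynot : y ∉ Subgroup.zpowers x := by
    intro hmem
    have hcomm : y * x = x * y := by
      obtain ⟨k, rfl⟩ := hmem
      exact ((Commute.refl x).zpow_left k).eq
    have : x ^ e = x ^ 1 := by
      rw [pow_one, ← hyx, hcomm, mul_assoc, mul_inv_cancel, mul_one]
    have hlt : e < orderOf x := by rw [hx, hpow]; omega
    have h1lt : 1 < orderOf x := by rw [hx, hpow]; omega
    have := pow_injOn_Iio_orderOf (Set.mem_Iio.mpr hlt) (Set.mem_Iio.mpr h1lt) this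
    omega
  -- conjugation of powers
  have hconj : ∀ i : ℕ, y * x ^ i * y⁻¹ = x ^ (e * i) := by
    intro i
    rw [← conj_pow, hyx, ← pow_mul]
  -- coset decomposition
  have hdecomp : ∀ τ : G, τ ∉ Subgroup.zpowers x → ∃ i : ℕ, i < 2 ^ n ∧ τ = x ^ i * y := by
    intro τ hτ
    have hmem : τ * y ∈ Subgroup.zpowers x := by
      rw [Subgroup.mul_mem_iff_of_index_two hidx]
      exact ⟨fun h => absurd h hτ, fun h => absurd h hynot⟩
    obtain ⟨i, hi, hxi⟩ := qd_exists_pow_lt hmem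
    refine ⟨i, hx ▸ hi, ?_⟩
    rw [hxi, mul_assoc, hyy, mul_one]
  -- squares of coset elements
  have hsq : ∀ i : ℕ, (x ^ i * y) * (x ^ i * y) = x ^ (i * 2 ^ (n - 1)) := by
    intro i
    have h1 : (x ^ i * y) * (x ^ i * y) = x ^ i * (y * x ^ i * y⁻¹) * (y * y) := by
      group
    rw [h1, hconj, hyy, mul_one, ← pow_add]
    congr 1
    rw [← he1]; ring
  have hnotmem : ∀ i : ℕ, x ^ i * y ∉ Subgroup.zpowers x := by
    intro i hmem
    apply hynot
    have := (Subgroup.zpowers x).mul_mem ((Subgroup.zpowers x).inv_mem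
      (Subgroup.npow_mem_zpowers x i)) hmem
    rwa [inv_mul_cancel_left] at this
  refine ⟨?_, ?_⟩
  · intro τ hτ
    obtain ⟨i, -, rfl⟩ := hdecomp τ hτ
    rw [mul_inv_rev, hyinv]
    have h1 : x ^ i * y * x * (y * (x ^ i)⁻¹) = x ^ i * (y * x * y⁻¹) * (x ^ i)⁻¹ := by
      conv_rhs => rw [hyinv]
      group
    rw [h1, hyx]
    have hc : Commute (x ^ i) (x ^ e) := (Commute.refl x).pow_pow i e
    rw [hc.eq, mul_assoc, mul_inv_cancel, mul_one]
  · have hset : {τ : G | τ ∉ Subgroup.zpowers x ∧ τ * τ = 1} =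
        Set.range (fun j : Fin (2 ^ (n - 1)) => x ^ (2 * (j : ℕ)) * y) := by
      ext τ
      simp only [Set.mem_ofPred_eq, Set.mem_range]
      constructor
      · rintro ⟨hτ, hτ2⟩
        obtain ⟨i, hi, rfl⟩ := hdecomp τ hτ
        rw [hsq] at hτ2
        have hdvd : 2 ^ n ∣ i * 2 ^ (n - 1) := by
          rw [← hx]; exact orderOf_dvd_of_pow_eq_one hτ2
        rw [hpow] at hdvd
        have hpos : 0 < 2 ^ (n - 1) := by positivity
        have h2i : 2 ∣ i := by
          rw [mul_comm i] at hdvd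
          rw [mul_comm 2] at hdvd
          exact (Nat.mul_dvd_mul_iff_left hpos).mp hdvd
        obtain ⟨j, rfl⟩ := h2i
        refine ⟨⟨j, by omega⟩, rfl⟩
      · rintro ⟨j, rfl⟩
        refine ⟨hnotmem _, ?_⟩
        rw [hsq]
        have : 2 * (j : ℕ) * 2 ^ (n - 1) = 2 ^ n * j := by rw [hpow]; ring
        rw [this, pow_mul, ← hx, pow_orderOf_eq_one, one_pow]
    rw [hset, Nat.card_range_of_injective, Nat.card_eq_fintype_card, Fintype.card_fin]
    intro j j' hjj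
    have h1 : x ^ (2 * (j : ℕ)) = x ^ (2 * (j' : ℕ)) := mul_right_cancel hjj
    have hj : 2 * (j : ℕ) < orderOf x := by rw [hx, hpow]; have := j.2; omega
    have hj' : 2 * (j' : ℕ) < orderOf x := by rw [hx, hpow]; have := j'.2; omega
    have := pow_injOn_Iio_orderOf (Set.mem_Iio.mpr hj) (Set.mem_Iio.mpr hj') h1
    exact Fin.ext (by omega)

end Cfsg.Agent.Lib.H22.HT
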