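import Mathlib
import Cfsg.Agent.Lib.H21.Hall4Defs
import Cfsg.Agent.Lib.H22.Hall4CV

/-!
# S4221 (M. Hall), piece CU (helper22): `st G s ⊓ C(t,t')` has index 4 in `C_G(t,t')`.
-/

set_option autoImplicit false

namespace Cfsg.Agent.Lib.H22.Hall4

open Equiv Cfsg.Agent.Lib.H21.Hall4

variable {α : Type*} [Fintype α] [DecidableEq α] {G : Subgroup (Perm α)}

/-- **Piece CU.** -/
theorem card_cent_U {t t' : Perm α} (ht : t ∈ G) (ht' : t' ∈ G) (htt : t * t' = t' * t)
    (s : Fin 4 ↪ α) (hpt : Pat t s σ01) (hpt' : Pat t' s σ23)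
    (h01 : ∀ x, t' x = x → t x ≠ x → x = s 0 ∨ x = s 1)
    (h23 : ∀ x, t x = x → t' x ≠ x → x = s 2 ∨ x = s 3) :
    Nat.card (G ⊓ Subgroup.centralizer ({t, t'} : Set (Perm α)) : Subgroup (Perm α)) =
      4 * Nat.card (st G s ⊓ Subgroup.centralizer ({t, t'} : Set (Perm α)) : Subgroup (Perm α)) := by
  -- values of the patterns
  have e010 : σ01 0 = 1 := by decide
  have e012 : σ01 2 = 2 := by decide
  have e230 : σ23 0 = 0 := by decide
  have e232 : σ23 2 = 3 := by decide
  have t0 : t (s 0) = s 1 := by rw [hpt 0, e010]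
  have t2 : t (s 2) = s 2 := by rw [hpt 2, e012]
  have t'0 : t' (s 0) = s 0 := by rw [hpt' 0, e230]
  have t'2 : t' (s 2) = s 3 := by rw [hpt' 2, e232]
  have ne01 : s 0 ≠ s 1 := fun h => by
    have := s.injective h
    exact absurd this (by decide)
  have ne23 : s 2 ≠ s 3 := fun h => by
    have := s.injective h
    exact absurd this (by decide)
  set C : Subgroup (Perm α) := G ⊓ Subgroup.centralizer ({t, t'} : Set (Perm α)) with hC
  set C₁ : Subgroup (Perm α) := C ⊓ MulAction.stabilizer (Perm α) (s 0) with hC₁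
  have htC : t ∈ C := mem_inf_cent2.mpr ⟨ht, rfl, htt⟩
  have ht'C : t' ∈ C := mem_inf_cent2.mpr ⟨ht', htt.symm, rfl⟩
  have hcomm : ∀ c ∈ C, (∀ x, c (t x) = t (c x)) ∧ ∀ x, c (t' x) = t' (c x) := by
    intro c hc
    obtain ⟨_, h1, h2⟩ := mem_inf_cent2.mp hc
    exact ⟨fun x => by rw [← Perm.mul_apply, h1, Perm.mul_apply],
      fun x => by rw [← Perm.mul_apply, h2, Perm.mul_apply]⟩
  -- first orbit
  have step1 : Nat.card C = ({s 0, s 1} : Finset α).card * Nat.card C₁ := by
    apply card_eq_orbit_mul C C₁ (s 0)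
    · intro y
      rw [Finset.mem_insert, Finset.mem_singleton]
      constructor
      · rintro (rfl | rfl)
        · exact ⟨1, C.one_mem, rfl⟩
        · exact ⟨t, htC, t0⟩
      · rintro ⟨c, hc, rfl⟩
        obtain ⟨hct, hct'⟩ := hcomm c hc
        apply h01
        · rw [← hct', t'0]
        · rw [← hct, t0]
          intro h
          exact ne01 (c.injective h).symm
    · intro c
      rw [hC₁, Subgroup.mem_inf, MulAction.mem_stabilizer_iff, Perm.smul_def]
  -- second orbit
  have step2 : Nat.card C₁ = ({s 2, s 3} : Finset α).card *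
      Nat.card (st G s ⊓ Subgroup.centralizer ({t, t'} : Set (Perm α)) : Subgroup (Perm α)) := by
    apply card_eq_orbit_mul C₁ _ (s 2)
    · intro y
      rw [Finset.mem_insert, Finset.mem_singleton]
      constructor
      · rintro (rfl | rfl)
        · exact ⟨1, C₁.one_mem, rfl⟩
        · refine ⟨t', ?_, t'2⟩
          rw [hC₁, Subgroup.mem_inf, MulAction.mem_stabilizer_iff, Perm.smul_def]
          exact ⟨ht'C, t'0⟩
      · rintro ⟨c, hc, rfl⟩
        rw [hC₁, Subgroup.mem_inf] at hc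
        obtain ⟨hct, hct'⟩ := hcomm c hc.1
        apply h23
        · rw [← hct, t2]
        · rw [← hct', t'2]
          intro h
          exact ne23 (c.injective h).symm
    · intro c
      rw [hC₁, Subgroup.mem_inf, Subgroup.mem_inf, MulAction.mem_stabilizer_iff, Perm.smul_def,
        mem_st, hC, Subgroup.mem_inf]
      constructor
      · rintro ⟨⟨hcG, hcs⟩, hcent⟩
        exact ⟨⟨⟨hcG, hcent⟩, hcs 0⟩, hcs 2⟩
      · rintro ⟨⟨⟨hcG, hcent⟩, hc0⟩, hc2⟩
        have hcC : c ∈ C := by rw [hC, Subgroup.mem_inf]; exact ⟨hcG, hcent⟩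
        obtain ⟨hct, hct'⟩ := hcomm c hcC
        refine ⟨⟨hcG, fun i => ?_⟩, hcent⟩
        fin_cases i
        · exact hc0
        · show c (s 1) = s 1
          rw [← t0, hct, hc0]
        · exact hc2
        · show c (s 3) = s 3
          rw [← t'2, hct', hc2]
  have c1 : ({s 0, s 1} : Finset α).card = 2 := Finset.card_pair ne01
  have c2 : ({s 2, s 3} : Finset α).card = 2 := Finset.card_pair ne23
  rw [step1, step2, c1, c2]
  ring

end Cfsg.Agent.Lib.H22.Hall4
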