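import Mathlib

/-!
# S3050 piece CPAIR : the commutator pairing `Q/Z × Q/Z → Z` of a class-2 situation
-/

set_option autoImplicit false

namespace Cfsg.Agent.Lib.H22.Hig

/-- the commutator does not see central factors. -/
private theorem comm_central_aux {G : Type*} [Group G] (Q Z : Subgroup G)
    (hZQ : Z ≤ Q) (hcen : ∀ q ∈ Q, ∀ z ∈ Z, q * z = z * q)
    {a b z₁ z₂ : G} (ha : a ∈ Q) (hb : b ∈ Q) (hz₁ : z₁ ∈ Z) (hz₂ : z₂ ∈ Z) :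
    (a * z₁) * (b * z₂) * (a * z₁)⁻¹ * (b * z₂)⁻¹ = a * b * a⁻¹ * b⁻¹ := by
  have h1 : z₁ * b = b * z₁ := (hcen b hb z₁ hz₁).symm
  have h2 : z₂ * z₁⁻¹ = z₁⁻¹ * z₂ := hcen z₂ (hZQ hz₂) z₁⁻¹ (Z.inv_mem hz₁)
  have h3 : z₂ * a⁻¹ = a⁻¹ * z₂ := (hcen a⁻¹ (Q.inv_mem ha) z₂ hz₂).symm
  calc (a * z₁) * (b * z₂) * (a * z₁)⁻¹ * (b * z₂)⁻¹
      = a * (z₁ * b) * (z₂ * z₁⁻¹) * a⁻¹ * z₂⁻¹ * b⁻¹ := by group
    _ = a * (b * z₁) * (z₁⁻¹ * z₂) * a⁻¹ * z₂⁻¹ * b⁻¹ := by rw [h1, h2]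
    _ = a * b * (z₂ * a⁻¹) * z₂⁻¹ * b⁻¹ := by group
    _ = a * b * (a⁻¹ * z₂) * z₂⁻¹ * b⁻¹ := by rw [h3]
    _ = a * b * a⁻¹ * b⁻¹ := by group

theorem exists_comm_pairing {G : Type*} [Group G] (Q Z : Subgroup G) [Z.Normal]
    (hZQ : Z ≤ Q) (hcen : ∀ q ∈ Q, ∀ z ∈ Z, q * z = z * q)
    (hab : ∀ a ∈ Q, ∀ b ∈ Q, a * b * a⁻¹ * b⁻¹ ∈ Z)
    (Q' : Subgroup (G ⧸ Z)) (hQ' : ∀ g : G, (g : G ⧸ Z) ∈ Q' ↔ g ∈ Q) :
    ∃ c : ↥Q' → ↥Q' → ↥Z,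
      (∀ (a b : G) (u v : ↥Q'), (u : G ⧸ Z) = (a : G ⧸ Z) → (v : G ⧸ Z) = (b : G ⧸ Z) →
        ((c u v : ↥Z) : G) = a * b * a⁻¹ * b⁻¹) ∧
      (∀ u u' v, c (u * u') v = c u v * c u' v) ∧
      (∀ u v v', c u (v * v') = c u v * c u v') := by
  classical
  -- representatives
  have hr : ∀ u : ↥Q', (Quotient.out (u : G ⧸ Z) : G) ∈ Q := by
    intro u
    rw [← hQ']
    have : ((Quotient.out (u : G ⧸ Z) : G) : G ⧸ Z) = (u : G ⧸ Z) := QuotientGroup.out_eq' _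
    rw [this]
    exact u.2
  let c : ↥Q' → ↥Q' → ↥Z := fun u v =>
    ⟨Quotient.out (u : G ⧸ Z) * Quotient.out (v : G ⧸ Z) * (Quotient.out (u : G ⧸ Z))⁻¹ *
      (Quotient.out (v : G ⧸ Z))⁻¹, hab _ (hr u) _ (hr v)⟩
  have key : ∀ (a b : G) (u v : ↥Q'), (u : G ⧸ Z) = (a : G ⧸ Z) → (v : G ⧸ Z) = (b : G ⧸ Z) →
      ((c u v : ↥Z) : G) = a * b * a⁻¹ * b⁻¹ := by
    intro a b u v hu hv
    have haQ : a ∈ Q := by rw [← hQ', ← hu]; exact u.2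
    have hbQ : b ∈ Q := by rw [← hQ', ← hv]; exact v.2
    have hu' : ((Quotient.out (u : G ⧸ Z) : G) : G ⧸ Z) = (a : G ⧸ Z) := by
      rw [QuotientGroup.out_eq']; exact hu
    have hv' : ((Quotient.out (v : G ⧸ Z) : G) : G ⧸ Z) = (b : G ⧸ Z) := by
      rw [QuotientGroup.out_eq']; exact hv
    have hz₁ : a⁻¹ * Quotient.out (u : G ⧸ Z) ∈ Z := (QuotientGroup.eq).mp hu'.symm
    have hz₂ : b⁻¹ * Quotient.out (v : G ⧸ Z) ∈ Z := (QuotientGroup.eq).mp hv'.symm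
    have e1 : (Quotient.out (u : G ⧸ Z) : G) = a * (a⁻¹ * Quotient.out (u : G ⧸ Z)) := by group
    have e2 : (Quotient.out (v : G ⧸ Z) : G) = b * (b⁻¹ * Quotient.out (v : G ⧸ Z)) := by group
    show Quotient.out (u : G ⧸ Z) * Quotient.out (v : G ⧸ Z) * (Quotient.out (u : G ⧸ Z))⁻¹ *
      (Quotient.out (v : G ⧸ Z))⁻¹ = a * b * a⁻¹ * b⁻¹
    have := comm_central_aux Q Z hZQ hcen haQ hbQ hz₁ hz₂
    rw [← e1, ← e2] at this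
    exact this
  refine ⟨c, key, ?_, ?_⟩
  · intro u u' v
    apply Subtype.ext
    have hmul : ((u * u' : ↥Q') : G ⧸ Z) =
        ((Quotient.out (u : G ⧸ Z) * Quotient.out (u' : G ⧸ Z) : G) : G ⧸ Z) := by
      rw [QuotientGroup.mk_mul, QuotientGroup.out_eq', QuotientGroup.out_eq']; rfl
    have hv : (v : G ⧸ Z) = ((Quotient.out (v : G ⧸ Z) : G) : G ⧸ Z) :=
      (QuotientGroup.out_eq' _).symm
    rw [key _ _ (u * u') v hmul hv, Subgroup.coe_mul,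
      key _ _ u v (QuotientGroup.out_eq' _).symm hv, key _ _ u' v (QuotientGroup.out_eq' _).symm hv]
    set a := (Quotient.out (u : G ⧸ Z) : G) with ha
    set a' := (Quotient.out (u' : G ⧸ Z) : G) with ha'
    set b := (Quotient.out (v : G ⧸ Z) : G) with hb
    have haQ : a ∈ Q := hr u
    have hzZ : a' * b * a'⁻¹ * b⁻¹ ∈ Z := hab _ (hr u') _ (hr v)
    have hzZ' : a * b * a⁻¹ * b⁻¹ ∈ Z := hab _ (hr u) _ (hr v)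
    have h1 : a * (a' * b * a'⁻¹ * b⁻¹) = (a' * b * a'⁻¹ * b⁻¹) * a := hcen a haQ _ hzZ
    have h2 : (a' * b * a'⁻¹ * b⁻¹) * (a * b * a⁻¹ * b⁻¹) = (a * b * a⁻¹ * b⁻¹) * (a' * b * a'⁻¹ * b⁻¹) :=
      hcen _ (hZQ hzZ) _ hzZ'
    calc a * a' * b * (a * a')⁻¹ * b⁻¹
        = (a * (a' * b * a'⁻¹ * b⁻¹)) * b * a⁻¹ * b⁻¹ := by group
      _ = ((a' * b * a'⁻¹ * b⁻¹) * a) * b * a⁻¹ * b⁻¹ := by rw [h1]
      _ = (a' * b * a'⁻¹ * b⁻¹) * (a * b * a⁻¹ * b⁻¹) := by group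
      _ = (a * b * a⁻¹ * b⁻¹) * (a' * b * a'⁻¹ * b⁻¹) := h2
  · intro u v v'
    apply Subtype.ext
    have hmul : ((v * v' : ↥Q') : G ⧸ Z) =
        ((Quotient.out (v : G ⧸ Z) * Quotient.out (v' : G ⧸ Z) : G) : G ⧸ Z) := by
      rw [QuotientGroup.mk_mul, QuotientGroup.out_eq', QuotientGroup.out_eq']; rfl
    have hu : (u : G ⧸ Z) = ((Quotient.out (u : G ⧸ Z) : G) : G ⧸ Z) :=
      (QuotientGroup.out_eq' _).symm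
    rw [key _ _ u (v * v') hu hmul, Subgroup.coe_mul,
      key _ _ u v hu (QuotientGroup.out_eq' _).symm, key _ _ u v' hu (QuotientGroup.out_eq' _).symm]
    set a := (Quotient.out (u : G ⧸ Z) : G) with ha
    set b := (Quotient.out (v : G ⧸ Z) : G) with hb
    set b' := (Quotient.out (v' : G ⧸ Z) : G) with hb'
    have hbQ : b ∈ Q := hr v
    have hzZ : a * b' * a⁻¹ * b'⁻¹ ∈ Z := hab _ (hr u) _ (hr v')
    have h1 : b * (a * b' * a⁻¹ * b'⁻¹) = (a * b' * a⁻¹ * b'⁻¹) * b := hcen b hbQ _ hzZ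
    calc a * (b * b') * a⁻¹ * (b * b')⁻¹
        = (a * b * a⁻¹ * b⁻¹) * (b * (a * b' * a⁻¹ * b'⁻¹)) * b⁻¹ := by group
      _ = (a * b * a⁻¹ * b⁻¹) * ((a * b' * a⁻¹ * b'⁻¹) * b) * b⁻¹ := by rw [h1]
      _ = (a * b * a⁻¹ * b⁻¹) * (a * b' * a⁻¹ * b'⁻¹) := by group

end Cfsg.Agent.Lib.H22.Hig
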