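import Mathlib
import Cfsg.Agent.Lib.H15.HigBasic
import Cfsg.Agent.Lib.H15.Nat2
import Cfsg.Agent.Lib.H15.Nat5

/-!
# S3050 piece ORD3 : in `SL₂(K)`, `char K = 2`, `K` perfect, the elements of order 3 are conjugate
to `uSL 1 * nSL 1 = [[1,1],[1,0]]`
-/

set_option autoImplicit false

namespace Cfsg.Agent.Lib.H22.Hig

open Matrix Cfsg.Agent.Lib.H2.SL2 Cfsg.Agent.Lib.H15.Nat Cfsg.Agent.Lib.H15.Hig

variable {K : Type*} [Field K] [CharP K 2]

omit [CharP K 2] in
theorem sigma_val :
    ((uSL (1 : K) * nSL 1 : SpecialLinearGroup (Fin 2) K) : Matrix (Fin 2) (Fin 2) K) =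
      !![-1, 1; -1, 0] := by
  ext i j
  fin_cases i <;> fin_cases j <;> simp [mul_val, uSL_val, nSL_val (one_ne_zero (α := K))]

/-- the trace of a non-trivial element of order 3 is `1`. -/
theorem trace_of_order_three (a b c d : K) (hdet : a * d - b * c = 1)
    (E00 : (a * a + b * c) * a + (a * b + b * d) * c = 1)
    (E01 : (a * a + b * c) * b + (a * b + b * d) * d = 0)
    (E10 : (c * a + d * c) * a + (c * b + d * d) * c = 0)
    (E11 : (c * a + d * c) * b + (c * b + d * d) * d = 1)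
    (hne : ¬ (a = 1 ∧ b = 0 ∧ c = 0 ∧ d = 1)) : a + d = 1 := by
  have h2 : (2 : K) = 0 := CharTwo.two_eq_zero
  by_contra ht
  have ht1 : a + d + 1 ≠ 0 := by
    intro h
    apply ht
    linear_combination h - h2
  have hsq : (a + d + 1) * (a + d + 1) ≠ 0 := mul_ne_zero ht1 ht1
  have hb : (a + d + 1) * (a + d + 1) * b = 0 := by
    linear_combination E01 - b * hdet + (a * b + d * b + b) * h2 + (a * d * b - b - b ^ 2 * c) * h2
  have hc : (a + d + 1) * (a + d + 1) * c = 0 := by
    linear_combination E10 - c * hdet + (a * c + d * c + c) * h2 + (a * d * c - c - c ^ 2 * b) * h2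
  have hb0 : b = 0 := by
    rcases mul_eq_zero.mp hb with h | h
    · exact absurd h hsq
    · exact h
  have hc0 : c = 0 := by
    rcases mul_eq_zero.mp hc with h | h
    · exact absurd h hsq
    · exact h
  subst hb0; subst hc0
  have had : a * d = 1 := by linear_combination hdet
  have ha3 : a * a * a = 1 := by linear_combination E00
  have hd3 : d * d * d = 1 := by linear_combination E11
  have hprod : (a - 1) * (a + d + 1) = 0 := by
    linear_combination (1 - a ^ 2) * had + d * ha3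
  rcases mul_eq_zero.mp hprod with h | h
  · have ha1 : a = 1 := by linear_combination h
    have hd1 : d = 1 := by rw [ha1, one_mul] at had; exact had
    exact hne ⟨ha1, rfl, rfl, hd1⟩
  · exact ht1 h

/-- generic conjugation: a vector `v = (x, y)` with `det [g v | v] ≠ 0`. -/
theorem conj_of_vec (hsq : ∀ c : K, ∃ a : K, a ^ 2 = c) (g : SpecialLinearGroup (Fin 2) K)
    (ht : (g : Matrix (Fin 2) (Fin 2) K) 0 0 + (g : Matrix (Fin 2) (Fin 2) K) 1 1 = 1) (x y : K)
    (hδ : ((g : Matrix (Fin 2) (Fin 2) K) 0 0 * x + (g : Matrix (Fin 2) (Fin 2) K) 0 1 * y) * y -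
      x * ((g : Matrix (Fin 2) (Fin 2) K) 1 0 * x + (g : Matrix (Fin 2) (Fin 2) K) 1 1 * y) ≠ 0) :
    ∃ h : SpecialLinearGroup (Fin 2) K, g = h * (uSL 1 * nSL 1) * h⁻¹ := by
  have h2 : (2 : K) = 0 := CharTwo.two_eq_zero
  have hdet := det_eq_one g
  set a := (g : Matrix (Fin 2) (Fin 2) K) 0 0 with ha
  set b := (g : Matrix (Fin 2) (Fin 2) K) 0 1 with hb
  set c := (g : Matrix (Fin 2) (Fin 2) K) 1 0 with hc
  set d := (g : Matrix (Fin 2) (Fin 2) K) 1 1 with hd
  obtain ⟨μ, hμ⟩ := hsq (((a * x + b * y) * y - x * (c * x + d * y))⁻¹)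
  have hμ' : μ ^ 2 * ((a * x + b * y) * y - x * (c * x + d * y)) = 1 := by
    rw [hμ]; exact inv_mul_cancel₀ hδ
  let h : SpecialLinearGroup (Fin 2) K :=
    ⟨!![μ * (a * x + b * y), μ * x; μ * (c * x + d * y), μ * y], by
      rw [Matrix.det_fin_two_of]; linear_combination hμ'⟩
  have hval : (h : Matrix (Fin 2) (Fin 2) K) =
      !![μ * (a * x + b * y), μ * x; μ * (c * x + d * y), μ * y] := rfl
  refine ⟨h, eq_mul_inv_of_mul_eq ?_⟩
  apply ext_entries
  · rw [mul_val, mul_val, sigma_val, hval]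
    simp only [Matrix.of_apply, Matrix.cons_val_zero, Matrix.cons_val_one, Matrix.cons_val',
      Matrix.cons_val_fin_one]
    linear_combination μ * x * (a * ht - hdet + a * h2) + μ * y * b * (ht + h2)
  · rw [mul_val, mul_val, sigma_val, hval]
    simp only [Matrix.of_apply, Matrix.cons_val_zero, Matrix.cons_val_one, Matrix.cons_val',
      Matrix.cons_val_fin_one]
    ring
  · rw [mul_val, mul_val, sigma_val, hval]
    simp only [Matrix.of_apply, Matrix.cons_val_zero, Matrix.cons_val_one, Matrix.cons_val',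
      Matrix.cons_val_fin_one]
    linear_combination μ * x * c * (ht + h2) + μ * y * (d * ht - hdet + d * h2)
  · rw [mul_val, mul_val, sigma_val, hval]
    simp only [Matrix.of_apply, Matrix.cons_val_zero, Matrix.cons_val_one, Matrix.cons_val',
      Matrix.cons_val_fin_one]
    ring

theorem conj_sigma_of_order_three (hsq : ∀ c : K, ∃ a : K, a ^ 2 = c)
    (g : SpecialLinearGroup (Fin 2) K) (hg1 : g ≠ 1) (hg3 : g ^ 3 = 1) :
    ∃ h : SpecialLinearGroup (Fin 2) K, g = h * (uSL 1 * nSL 1) * h⁻¹ := by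
  have h2 : (2 : K) = 0 := CharTwo.two_eq_zero
  have hdet := det_eq_one g
  have hg3' : g * g * g = 1 := by rw [← hg3, pow_succ, pow_succ, pow_one]
  have E : ∀ i j, ((g * g * g : SpecialLinearGroup (Fin 2) K) : Matrix (Fin 2) (Fin 2) K) i j =
      ((1 : SpecialLinearGroup (Fin 2) K) : Matrix (Fin 2) (Fin 2) K) i j := by
    intro i j; rw [hg3']
  have E00 := E 0 0
  have E01 := E 0 1
  have E10 := E 1 0
  have E11 := E 1 1
  rw [mul_val, mul_val, mul_val] at E00 E01 E10 E11
  have o00 : ((1 : SpecialLinearGroup (Fin 2) K) : Matrix (Fin 2) (Fin 2) K) 0 0 = 1 := by simp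
  have o01 : ((1 : SpecialLinearGroup (Fin 2) K) : Matrix (Fin 2) (Fin 2) K) 0 1 = 0 := by simp
  have o10 : ((1 : SpecialLinearGroup (Fin 2) K) : Matrix (Fin 2) (Fin 2) K) 1 0 = 0 := by simp
  have o11 : ((1 : SpecialLinearGroup (Fin 2) K) : Matrix (Fin 2) (Fin 2) K) 1 1 = 1 := by simp
  rw [o00] at E00
  rw [o01] at E01
  rw [o10] at E10
  rw [o11] at E11
  have ht : (g : Matrix (Fin 2) (Fin 2) K) 0 0 + (g : Matrix (Fin 2) (Fin 2) K) 1 1 = 1 := by
    apply trace_of_order_three _ _ _ _ hdet E00 E01 E10 E11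
    rintro ⟨h00, h01, h10, h11⟩
    apply hg1
    apply ext_entries <;> simp [h00, h01, h10, h11]
  by_cases hc : (g : Matrix (Fin 2) (Fin 2) K) 1 0 = 0
  · by_cases hb : (g : Matrix (Fin 2) (Fin 2) K) 0 1 = 0
    · -- diagonal: `v = (1,1)`
      apply conj_of_vec hsq g ht 1 1
      rw [hc, hb]
      intro h0
      have : (1 : K) = 0 := by linear_combination h0 - ht + (g : Matrix (Fin 2) (Fin 2) K) 1 1 * h2
      exact one_ne_zero this
    · apply conj_of_vec hsq g ht 0 1
      intro h0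
      apply hb
      linear_combination h0
  · apply conj_of_vec hsq g ht 1 0
    intro h0
    apply hc
    linear_combination -h0

end Cfsg.Agent.Lib.H22.Hig
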