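import Mathlib

/-!
# S3050 piece QFPF : fixed point freeness passes to the quotient by a normal 2-subgroup
-/

set_option autoImplicit false

namespace Cfsg.Agent.Lib.H22.Hig

/-- the permutation `n ↦ q⁻¹ (x (q n) x⁻¹)` of `N` (when `x q x⁻¹ q⁻¹ ∈ N`). -/
private theorem fpf_quot_aux {G : Type*} [Group G] (N : Subgroup G) [N.Normal] (x q : G)
    (hq : x * q * x⁻¹ * q⁻¹ ∈ N) (n : G) (hn : n ∈ N) : q⁻¹ * (x * (q * n) * x⁻¹) ∈ N := by
  have h1 : q⁻¹ * (x * q * x⁻¹ * q⁻¹) * q⁻¹⁻¹ ∈ N := ‹N.Normal›.conj_mem _ hq _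
  have h2 : x * n * x⁻¹ ∈ N := ‹N.Normal›.conj_mem _ hn _
  have h3 : q⁻¹ * (x * (q * n) * x⁻¹) = (q⁻¹ * (x * q * x⁻¹ * q⁻¹) * q⁻¹⁻¹) * (x * n * x⁻¹) := by
    group
  rw [h3]
  exact N.mul_mem h1 h2

theorem fpf_quot {G : Type*} [Group G] [Finite G] (N Q : Subgroup G) [N.Normal] (hNQ : N ≤ Q)
    (hN : IsPGroup 2 ↥N) (x : G) (hx3 : x ^ 3 = 1)
    (hfpf : ∀ q ∈ Q, x * q * x⁻¹ = q → q = 1) :
    ∀ q ∈ Q, x * q * x⁻¹ * q⁻¹ ∈ N → q ∈ N := by
  classical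
  intro q hqQ hq
  have hx3' : x * x * x = 1 := by rw [← hx3, pow_succ, pow_succ, pow_one]
  -- the map on `N`
  let f : ↥N → ↥N := fun n => ⟨q⁻¹ * (x * (q * n) * x⁻¹), fpf_quot_aux N x q hq n n.2⟩
  have hf3 : ∀ n : ↥N, f (f (f n)) = n := by
    intro n
    apply Subtype.ext
    show q⁻¹ * (x * (q * (q⁻¹ * (x * (q * (q⁻¹ * (x * (q * n) * x⁻¹))) * x⁻¹))) * x⁻¹) = (n : G)
    have : q⁻¹ * (x * (q * (q⁻¹ * (x * (q * (q⁻¹ * (x * (q * (n : G)) * x⁻¹))) * x⁻¹))) * x⁻¹)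
        = q⁻¹ * ((x * x * x) * (q * n) * (x * x * x)⁻¹) := by group
    rw [this, hx3']; group
  let e : Function.End ↥N := f
  have he3 : e ^ 3 ^ 1 = 1 := by
    have h3 : e ^ 3 ^ 1 = e * (e * e) := by
      rw [pow_one, pow_succ, pow_succ, pow_one, mul_assoc]
    rw [h3]
    funext n
    show f (f (f n)) = n
    exact hf3 n
  haveI : Fintype ↥N := Fintype.ofFinite _
  have : Fact (Nat.Prime 3) := ⟨by norm_num⟩
  have hmod := Equiv.Perm.card_fixedPoints_modEq (p := 3) (n := 1) he3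
  obtain ⟨j, hj⟩ := IsPGroup.iff_card.mp hN
  have hcard : Fintype.card ↥N = 2 ^ j := by rw [← Nat.card_eq_fintype_card]; exact hj
  have hne : Fintype.card (Function.fixedPoints e) ≠ 0 := by
    intro h0
    rw [h0, hcard] at hmod
    have h3 : 3 ∣ 2 ^ j := (Nat.modEq_zero_iff_dvd).mp hmod
    have : 3 ∣ 2 := Nat.Prime.dvd_of_dvd_pow (by norm_num) h3
    omega
  obtain ⟨⟨n, hn⟩⟩ : Nonempty (Function.fixedPoints (e : ↥N → ↥N)) := by
    by_contra hemp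
    rw [not_nonempty_iff] at hemp
    exact hne Fintype.card_eq_zero
  -- `q * n` is fixed by `x`
  have hfix : f n = n := hn
  have hfix' : q⁻¹ * (x * (q * n) * x⁻¹) = (n : G) := congrArg Subtype.val hfix
  have hfix'' : x * (q * n) * x⁻¹ = q * n := by
    have := congrArg (fun t => q * t) hfix'
    simpa [mul_assoc] using this
  have hqn : q * n = 1 := hfpf (q * n) (Q.mul_mem hqQ (hNQ n.2)) hfix''
  have : q = (n : G)⁻¹ := eq_inv_of_mul_eq_one_left hqn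
  rw [this]
  exact N.inv_mem n.2

end Cfsg.Agent.Lib.H22.Hig
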