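import Mathlib
import Cfsg.Agent.Lib.H7.K4Defs

/-!
# S3805 farm-out, piece GRPA (helper22 twin, for helper7): `exists_gens`

`T` a self-centralising elementary abelian Sylow 3-subgroup of order 9 with `N_G(T)/T` a Klein four
group: there are `x, y ∈ T#` and commuting involutions `u, v ∈ N_G(T)` such that `u` inverts `x` and
centralises `y`, `v` centralises `x` and inverts `y`.  Elementwise proof (no Sylow 2-subgroup).
-/

set_option autoImplicit false

namespace Cfsg.Agent.Lib.H22.K4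

open Cfsg Cfsg.Agent.Lib.H7.K4

section aux
variable {G : Type*} [Group G]

theorem eq_one_of_cube_of_sq {t : G} (h3 : t ^ 3 = 1) (h2 : t ^ 2 = 1) : t = 1 := by
  have : t ^ 3 = t ^ 2 * t := pow_succ t 2
  rw [h3, h2, one_mul] at this
  exact this.symm

/-- the elements of `T` inverted by `u` -/
def invSub (T : Subgroup G) (hc : ∀ a ∈ T, ∀ b ∈ T, a * b = b * a) (u : G) : Subgroup G where
  carrier := {t | t ∈ T ∧ u * t * u⁻¹ = t⁻¹}
  one_mem' := ⟨T.one_mem, by simp⟩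
  mul_mem' := by
    rintro a b ⟨ha, ha'⟩ ⟨hb, hb'⟩
    refine ⟨T.mul_mem ha hb, ?_⟩
    have h1 : u * (a * b) * u⁻¹ = (u * a * u⁻¹) * (u * b * u⁻¹) := by group
    rw [h1, ha', hb', mul_inv_rev]
    exact hc _ (T.inv_mem ha) _ (T.inv_mem hb)
  inv_mem' := by
    rintro a ⟨ha, ha'⟩
    refine ⟨T.inv_mem ha, ?_⟩
    have h1 : u * a⁻¹ * u⁻¹ = (u * a * u⁻¹)⁻¹ := by group
    rw [h1, ha']

theorem mem_invSub {T : Subgroup G} {hc : ∀ a ∈ T, ∀ b ∈ T, a * b = b * a} {u t : G} :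
    t ∈ invSub T hc u ↔ t ∈ T ∧ u * t * u⁻¹ = t⁻¹ := Iff.rfl

/-- the elements of `T` centralised by `u` -/
def cenSub (T : Subgroup G) (u : G) : Subgroup G where
  carrier := {t | t ∈ T ∧ u * t * u⁻¹ = t}
  one_mem' := ⟨T.one_mem, by simp⟩
  mul_mem' := by
    rintro a b ⟨ha, ha'⟩ ⟨hb, hb'⟩
    refine ⟨T.mul_mem ha hb, ?_⟩
    have h1 : u * (a * b) * u⁻¹ = (u * a * u⁻¹) * (u * b * u⁻¹) := by group
    rw [h1, ha', hb']
  inv_mem' := by
    rintro a ⟨ha, ha'⟩
    refine ⟨T.inv_mem ha, ?_⟩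
    have h1 : u * a⁻¹ * u⁻¹ = (u * a * u⁻¹)⁻¹ := by group
    rw [h1, ha']

theorem mem_cenSub {T : Subgroup G} {u t : G} :
    t ∈ cenSub T u ↔ t ∈ T ∧ u * t * u⁻¹ = t := Iff.rfl

/-- a proper subgroup of a group of order 9 containing an element of order 3 is generated by it -/
theorem eq_zpowers_of_card_nine [Finite G] (T K : Subgroup G) (hT : Nat.card T = 9) (hK : K ≤ T)
    {x y : G} (hx : x ∈ K) (hx1 : x ≠ 1) (hx3 : x ^ 3 = 1) (hy : y ∈ T) (hyK : y ∉ K) :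
    K = Subgroup.zpowers x := by
  have hdvd : Nat.card K ∣ 9 := hT ▸ Subgroup.card_dvd_of_le hK
  have ho : orderOf x = 3 := by
    have h3 : orderOf x ∣ 3 := orderOf_dvd_of_pow_eq_one hx3
    rcases (Nat.dvd_prime Nat.prime_three).1 h3 with h | h
    · exact absurd (orderOf_eq_one_iff.1 h) hx1
    · exact h
  have hz : Subgroup.zpowers x ≤ K := by
    rw [Subgroup.zpowers_le]
    exact hx
  have hzc : Nat.card (Subgroup.zpowers x) = 3 := by
    rw [Nat.card_zpowers, ho]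
  have h3K : 3 ∣ Nat.card K := hzc ▸ Subgroup.card_dvd_of_le hz
  have hne9 : Nat.card K ≠ 9 := by
    intro h9
    have : K = T := Subgroup.eq_of_le_of_card_ge hK (by rw [hT, h9])
    exact hyK (this ▸ hy)
  have hK3 : Nat.card K = 3 := by
    have hle : Nat.card K ≤ 9 := Nat.le_of_dvd (by norm_num) hdvd
    have hpos : 0 < Nat.card K := Nat.card_pos
    interval_cases h : Nat.card K <;> omega
  exact (Subgroup.eq_of_le_of_card_ge hz (by rw [hzc, hK3])).symm

theorem zpow_eq_or_of_cube {x : G} (hx3 : x ^ 3 = 1) (k : ℤ) (hk : x ^ k ≠ 1) :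
    x ^ k = x ∨ x ^ k = x⁻¹ := by
  have h1 : x ^ k = x ^ (k % 3) := by
    have hk3 : k = k % 3 + 3 * (k / 3) := (Int.emod_add_mul_ediv k 3).symm
    have hx3' : x ^ (3 : ℤ) = 1 := by exact_mod_cast hx3
    conv_lhs => rw [hk3]
    rw [zpow_add, zpow_mul, hx3', one_zpow, mul_one]
  have h2 : 0 ≤ k % 3 := Int.emod_nonneg k (by norm_num)
  have h3 : k % 3 < 3 := Int.emod_lt_of_pos k (by norm_num)
  rw [h1] at hk ⊢
  have hcases : k % 3 = 0 ∨ k % 3 = 1 ∨ k % 3 = 2 := by omega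
  rcases hcases with h | h | h
  · rw [h, zpow_zero] at hk
    exact absurd rfl hk
  · left
    rw [h, zpow_one]
  · right
    rw [h]
    have : x ^ (2 : ℤ) * x = 1 := by
      have : x ^ (2 : ℤ) = x ^ 2 := by exact_mod_cast zpow_natCast x 2
      rw [this, ← pow_succ]
      exact hx3
    exact eq_inv_of_mul_eq_one_left this

end aux

section main
variable {G : Type*} [Group G] [Finite G]

/-- the core: everything elementwise -/
theorem exists_gens_core (T N : Subgroup G) (hTN : T ≤ N)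
    (hnorm : ∀ g ∈ N, ∀ t ∈ T, g * t * g⁻¹ ∈ T)
    (hc : ∀ a ∈ T, ∀ b ∈ T, a * b = b * a) (h3 : ∀ a ∈ T, a ^ 3 = 1) (hcard : Nat.card T = 9)
    (hC : ∀ g : G, (∀ t ∈ T, g * t * g⁻¹ = t) → g ∈ T)
    (hsq : ∀ g ∈ N, g ^ 2 ∈ T)
    (hex : ∃ a ∈ N, ∃ b ∈ N, a ∉ T ∧ b ∉ T ∧ a * b ∉ T) :
    ∃ x y u v : G, x ∈ T ∧ y ∈ T ∧ u ∈ N ∧ v ∈ N ∧
      x ≠ 1 ∧ y ≠ 1 ∧ u ^ 2 = 1 ∧ v ^ 2 = 1 ∧ u * v = v * u ∧
      u * x * u⁻¹ = x⁻¹ ∧ u * y * u⁻¹ = y ∧ v * x * v⁻¹ = x ∧ v * y * v⁻¹ = y⁻¹ := by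
  -- no involutions in `T`
  have hT2 : ∀ t ∈ T, t ^ 2 = 1 → t = 1 := fun t ht h2 => eq_one_of_cube_of_sq (h3 t ht) h2
  -- step 1: involutions in the cosets
  have hinv : ∀ g ∈ N, g ∉ T → (g ^ 3) ∈ N ∧ (g ^ 3) ^ 2 = 1 ∧ g ^ 3 ∉ T ∧ g⁻¹ * g ^ 3 ∈ T := by
    intro g hg hgT
    have h2 := hsq g hg
    refine ⟨N.pow_mem hg 3, ?_, ?_, ?_⟩
    · rw [← pow_mul, show 3 * 2 = 2 * 3 from rfl, pow_mul]
      exact h3 _ h2
    · intro h
      apply hgT
      have : g = g ^ 3 * (g ^ 2)⁻¹ := by group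
      rw [this]
      exact T.mul_mem h (T.inv_mem h2)
    · have : g⁻¹ * g ^ 3 = g ^ 2 := by group
      rw [this]
      exact h2
  obtain ⟨a0, ha0N, b0, hb0N, ha0T, hb0T, hab0⟩ := hex
  obtain ⟨haN, ha2, haT, haa0⟩ := hinv a0 ha0N ha0T
  obtain ⟨hbN, hb2, hbT, hbb0⟩ := hinv b0 hb0N hb0T
  set a := a0 ^ 3 with ha
  set b := b0 ^ 3 with hb
  -- `a * b ∉ T`
  have habT : a * b ∉ T := by
    intro h
    apply hab0
    -- a0 * b0 = a0 * (a⁻¹ (a b) b⁻¹) b0 and T normal in N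
    have e1 : a0 * b0 = (a0 * a⁻¹) * (a * b) * (b⁻¹ * b0) := by group
    have h1 : a0 * a⁻¹ ∈ T := by
      have : a0 * a⁻¹ = (a0 * (a0⁻¹ * a)⁻¹ * a0⁻¹) := by group
      rw [this]
      exact hnorm a0 ha0N _ (T.inv_mem haa0)
    have h2 : b⁻¹ * b0 ∈ T := by
      have : b⁻¹ * b0 = (b0⁻¹ * b)⁻¹ := by group
      rw [this]
      exact T.inv_mem hbb0
    rw [e1]
    exact T.mul_mem (T.mul_mem h1 h) h2
  -- step 2: the central involution of `⟨a, b⟩`
  set w := a * b with hw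
  have hwN : w ∈ N := N.mul_mem haN hbN
  obtain ⟨hzN, hz2, hzT, hwz⟩ := hinv w hwN habT
  set z := w ^ 3 with hz
  have hainv : a⁻¹ = a := by
    have : a * a = 1 := by rw [← pow_two]; exact ha2
    exact inv_eq_of_mul_eq_one_left this
  have hbinv : b⁻¹ = b := by
    have : b * b = 1 := by rw [← pow_two]; exact hb2
    exact inv_eq_of_mul_eq_one_left this
  have hzinv : z⁻¹ = z := by
    have : z * z = 1 := by rw [← pow_two]; exact hz2
    exact inv_eq_of_mul_eq_one_left this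
  have hawa : a * w * a⁻¹ = w⁻¹ := by
    rw [hw, mul_inv_rev, hainv, hbinv]
    have : a * a = 1 := by rw [← pow_two]; exact ha2
    calc a * (a * b) * a = (a * a) * b * a := by group
      _ = b * a := by rw [this, one_mul]
  have haz : a * z = z * a := by
    have h1 : a * z * a⁻¹ = z⁻¹ := by
      rw [hz]
      have : a * w ^ 3 * a⁻¹ = (a * w * a⁻¹) ^ 3 := conj_pow.symm
      rw [this, hawa, inv_pow]
    rw [hzinv] at h1
    calc a * z = a * z * a⁻¹ * a := by group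
      _ = z * a := by rw [h1]
  have hazT : a * z ∉ T := by
    intro h
    apply hbT
    -- b = a⁻¹ w, z = w * (w⁻¹ z)
    have e1 : b = (a * z) * (w⁻¹ * z)⁻¹ := by
      rw [hw]
      have : a * a = 1 := by rw [← pow_two]; exact ha2
      calc b = (a * a) * b := by rw [this, one_mul]
        _ = a * z * ((a * b)⁻¹ * z)⁻¹ := by group
    rw [e1]
    exact T.mul_mem h (T.inv_mem hwz)
  -- step 3: an involution outside `T` does not centralise `T`; decomposition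
  have hdec : ∀ g ∈ N, g ^ 2 = 1 → g ∉ T →
      (∀ t ∈ T, g * t * g⁻¹ = t⁻¹) ∨
      ∃ x ∈ T, ∃ y ∈ T, x ≠ 1 ∧ y ≠ 1 ∧ g * x * g⁻¹ = x⁻¹ ∧ g * y * g⁻¹ = y := by
    intro g hgN hg2 hgT
    have hginv : g⁻¹ = g := by
      have : g * g = 1 := by rw [← pow_two]; exact hg2
      exact inv_eq_of_mul_eq_one_left this
    have hgg : ∀ t, g * (g * t * g⁻¹) * g⁻¹ = t := by
      intro t
      have : g * g = 1 := by rw [← pow_two]; exact hg2
      calc g * (g * t * g⁻¹) * g⁻¹ = (g * g) * t * (g * g)⁻¹ := by group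
        _ = t := by rw [this]; group
    by_cases hall : ∀ t ∈ T, t * (g * t * g⁻¹) = 1
    · left
      intro t ht
      exact (eq_inv_of_mul_eq_one_right (hall t ht))
    · right
      push Not at hall
      obtain ⟨t, ht, hty⟩ := hall
      have hgt : g * t * g⁻¹ ∈ T := hnorm g hgN t ht
      -- some t' is not centralised
      have hnc : ∃ t' ∈ T, t' * (g * t' * g⁻¹)⁻¹ ≠ 1 := by
        by_contra hcon
        push Not at hcon
        apply hgT
        apply hC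
        intro t' ht'
        have := hcon t' ht'
        have h1 : t' = g * t' * g⁻¹ := by
          have := mul_inv_eq_one.1 this
          exact this
        exact h1.symm
      obtain ⟨t', ht', htx⟩ := hnc
      have hgt' : g * t' * g⁻¹ ∈ T := hnorm g hgN t' ht'
      refine ⟨t' * (g * t' * g⁻¹)⁻¹, T.mul_mem ht' (T.inv_mem hgt'), t * (g * t * g⁻¹),
        T.mul_mem ht hgt, htx, hty, ?_, ?_⟩
      · have e1 : g * (t' * (g * t' * g⁻¹)⁻¹) * g⁻¹ =
            (g * t' * g⁻¹) * (g * (g * t' * g⁻¹) * g⁻¹)⁻¹ := by group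
        rw [e1, hgg, mul_inv_rev, inv_inv]
      · have e1 : g * (t * (g * t * g⁻¹)) * g⁻¹ = (g * t * g⁻¹) * (g * (g * t * g⁻¹) * g⁻¹) := by
          group
        rw [e1, hgg]
        exact hc _ hgt _ ht
  -- step 4: choose `u ∈ {a, z}` not inverting `T`
  have hnotboth : ¬ ((∀ t ∈ T, a * t * a⁻¹ = t⁻¹) ∧ (∀ t ∈ T, z * t * z⁻¹ = t⁻¹)) := by
    rintro ⟨h1, h2⟩
    apply hazT
    apply hC
    intro t ht
    have e1 : a * z * t * (a * z)⁻¹ = a * (z * t * z⁻¹) * a⁻¹ := by group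
    rw [e1, h2 t ht, h1 _ (T.inv_mem ht), inv_inv]
  -- the general finishing argument
  have hfinish : ∀ u v0 : G, u ∈ N → v0 ∈ N → u ^ 2 = 1 → v0 ^ 2 = 1 → u * v0 = v0 * u →
      u ∉ T → v0 ∉ T → u * v0 ∉ T →
      (∃ x ∈ T, ∃ y ∈ T, x ≠ 1 ∧ y ≠ 1 ∧ u * x * u⁻¹ = x⁻¹ ∧ u * y * u⁻¹ = y) →
      ∃ x y u v : G, x ∈ T ∧ y ∈ T ∧ u ∈ N ∧ v ∈ N ∧
        x ≠ 1 ∧ y ≠ 1 ∧ u ^ 2 = 1 ∧ v ^ 2 = 1 ∧ u * v = v * u ∧
        u * x * u⁻¹ = x⁻¹ ∧ u * y * u⁻¹ = y ∧ v * x * v⁻¹ = x ∧ v * y * v⁻¹ = y⁻¹ := by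
    intro u v0 huN hv0N hu2 hv02 huv huT hv0T huv0T ⟨x, hx, y, hy, hx1, hy1, hux, huy⟩
    -- the two eigen-subgroups
    have hxI : x ∈ invSub T hc u := mem_invSub.2 ⟨hx, hux⟩
    have hyC : y ∈ cenSub T u := mem_cenSub.2 ⟨hy, huy⟩
    have hyI : y ∉ invSub T hc u := by
      intro hmem
      obtain ⟨_, h⟩ := mem_invSub.1 hmem
      apply hy1
      apply hT2 y hy
      rw [huy] at h
      rw [pow_two]
      exact mul_eq_one_iff_eq_inv.2 h
    have hxC : x ∉ cenSub T u := by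
      intro hmem
      obtain ⟨_, h⟩ := mem_cenSub.1 hmem
      apply hx1
      apply hT2 x hx
      rw [hux] at h
      rw [pow_two]
      exact mul_eq_one_iff_eq_inv.2 h.symm
    have hI : invSub T hc u = Subgroup.zpowers x :=
      eq_zpowers_of_card_nine T _ hcard (fun t ht => (mem_invSub.1 ht).1) hxI hx1 (h3 x hx) hy hyI
    have hCz : cenSub T u = Subgroup.zpowers y :=
      eq_zpowers_of_card_nine T _ hcard (fun t ht => (mem_cenSub.1 ht).1) hyC hy1 (h3 y hy) hx hxC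
    -- `v0` preserves both
    have hvu : ∀ t, u * (v0 * t * v0⁻¹) * u⁻¹ = v0 * (u * t * u⁻¹) * v0⁻¹ := by
      intro t
      calc u * (v0 * t * v0⁻¹) * u⁻¹ = (u * v0) * t * (u * v0)⁻¹ := by group
        _ = (v0 * u) * t * (v0 * u)⁻¹ := by rw [huv]
        _ = v0 * (u * t * u⁻¹) * v0⁻¹ := by group
    have hvx : v0 * x * v0⁻¹ ∈ invSub T hc u := by
      refine mem_invSub.2 ⟨hnorm v0 hv0N x hx, ?_⟩
      rw [hvu, hux]
      group
    have hvy : v0 * y * v0⁻¹ ∈ cenSub T u := by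
      refine mem_cenSub.2 ⟨hnorm v0 hv0N y hy, ?_⟩
      rw [hvu, huy]
    rw [hI] at hvx
    rw [hCz] at hvy
    obtain ⟨k, hk⟩ := Subgroup.mem_zpowers_iff.1 hvx
    obtain ⟨l, hl⟩ := Subgroup.mem_zpowers_iff.1 hvy
    have hvx1 : v0 * x * v0⁻¹ ≠ 1 := by
      intro h
      apply hx1
      have : x = v0⁻¹ * (v0 * x * v0⁻¹) * v0 := by group
      rw [this, h]
      group
    have hvy1 : v0 * y * v0⁻¹ ≠ 1 := by
      intro h
      apply hy1
      have : y = v0⁻¹ * (v0 * y * v0⁻¹) * v0 := by group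
      rw [this, h]
      group
    have hxk := zpow_eq_or_of_cube (h3 x hx) k (hk ▸ hvx1)
    have hyl := zpow_eq_or_of_cube (h3 y hy) l (hl ▸ hvy1)
    rw [hk] at hxk
    rw [hl] at hyl
    -- `T = ⟨x⟩ ⟨y⟩`: an element centralising `x` and `y` centralises `T`
    have hgen : ∀ g : G, g ∈ N → g * x * g⁻¹ = x → g * y * g⁻¹ = y → ∀ t ∈ T, g * t * g⁻¹ = t := by
      intro g hgN hgx hgy t ht
      -- t² = (t * u t u⁻¹) * (t * (u t u⁻¹)⁻¹), first factor in ⟨y⟩, second in ⟨x⟩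
      have hut : u * t * u⁻¹ ∈ T := hnorm u huN t ht
      have huinv : u⁻¹ = u := by
        have : u * u = 1 := by rw [← pow_two]; exact hu2
        exact inv_eq_of_mul_eq_one_left this
      have huu : u * (u * t * u⁻¹) * u⁻¹ = t := by
        have : u * u = 1 := by rw [← pow_two]; exact hu2
        calc u * (u * t * u⁻¹) * u⁻¹ = (u * u) * t * (u * u)⁻¹ := by group
          _ = t := by rw [this]; group
      have h1 : t * (u * t * u⁻¹) ∈ cenSub T u := by
        refine mem_cenSub.2 ⟨T.mul_mem ht hut, ?_⟩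
        have e1 : u * (t * (u * t * u⁻¹)) * u⁻¹ = (u * t * u⁻¹) * (u * (u * t * u⁻¹) * u⁻¹) := by
          group
        rw [e1, huu]
        exact hc _ hut _ ht
      have h2 : t * (u * t * u⁻¹)⁻¹ ∈ invSub T hc u := by
        refine mem_invSub.2 ⟨T.mul_mem ht (T.inv_mem hut), ?_⟩
        have e1 : u * (t * (u * t * u⁻¹)⁻¹) * u⁻¹ =
            (u * t * u⁻¹) * (u * (u * t * u⁻¹) * u⁻¹)⁻¹ := by group
        rw [e1, huu, mul_inv_rev, inv_inv]
      rw [hCz] at h1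
      rw [hI] at h2
      obtain ⟨i, hi⟩ := Subgroup.mem_zpowers_iff.1 h1
      obtain ⟨j, hj⟩ := Subgroup.mem_zpowers_iff.1 h2
      have hgzy : ∀ i : ℤ, g * y ^ i * g⁻¹ = y ^ i := by
        intro i
        have : g * y ^ i * g⁻¹ = (g * y * g⁻¹) ^ i := by
          rw [← MulAut.conj_apply, map_zpow, MulAut.conj_apply]
        rw [this, hgy]
      have hgzx : ∀ i : ℤ, g * x ^ i * g⁻¹ = x ^ i := by
        intro i
        have : g * x ^ i * g⁻¹ = (g * x * g⁻¹) ^ i := by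
          rw [← MulAut.conj_apply, map_zpow, MulAut.conj_apply]
        rw [this, hgx]
      have ht2 : t ^ 2 = y ^ i * x ^ j := by
        rw [hi, hj, pow_two]
        calc t * t = t * ((u * t * u⁻¹) * (u * t * u⁻¹)⁻¹) * t := by group
          _ = t * (u * t * u⁻¹) * ((u * t * u⁻¹)⁻¹ * t) := by group
          _ = t * (u * t * u⁻¹) * (t * (u * t * u⁻¹)⁻¹) := by
              rw [hc _ (T.inv_mem hut) _ ht]
      have hg2 : g * t ^ 2 * g⁻¹ = t ^ 2 := by
        rw [ht2]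
        have : g * (y ^ i * x ^ j) * g⁻¹ = (g * y ^ i * g⁻¹) * (g * x ^ j * g⁻¹) := by group
        rw [this, hgzy, hgzx]
      -- t = (t²)² as t³ = 1
      have ht4 : t = (t ^ 2) ^ 2 := by
        rw [← pow_mul]
        have : t ^ (2 * 2) = t ^ 3 * t := pow_succ t 3
        rw [this, h3 t ht, one_mul]
      have : g * (t ^ 2) ^ 2 * g⁻¹ = (g * t ^ 2 * g⁻¹) ^ 2 := conj_pow.symm
      rw [ht4, this, hg2]
    -- the four cases
    have hv0inv : v0⁻¹ = v0 := by
      have : v0 * v0 = 1 := by rw [← pow_two]; exact hv02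
      exact inv_eq_of_mul_eq_one_left this
    have huinv : u⁻¹ = u := by
      have : u * u = 1 := by rw [← pow_two]; exact hu2
      exact inv_eq_of_mul_eq_one_left this
    rcases hxk with hxk | hxk <;> rcases hyl with hyl | hyl
    · -- v0 centralises T
      exact absurd (hC v0 (hgen v0 hv0N hxk hyl)) hv0T
    · -- v = v0
      exact ⟨x, y, u, v0, hx, hy, huN, hv0N, hx1, hy1, hu2, hv02, huv, hux, huy, hxk, hyl⟩
    · -- u * v0 centralises T
      exfalso
      apply huv0T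
      apply hC
      apply hgen (u * v0) (N.mul_mem huN hv0N)
      · have : u * v0 * x * (u * v0)⁻¹ = u * (v0 * x * v0⁻¹) * u⁻¹ := by group
        rw [this, hxk]
        have : u * x⁻¹ * u⁻¹ = (u * x * u⁻¹)⁻¹ := by group
        rw [this, hux, inv_inv]
      · have : u * v0 * y * (u * v0)⁻¹ = u * (v0 * y * v0⁻¹) * u⁻¹ := by group
        rw [this, hyl, huy]
    · -- v = u * v0
      refine ⟨x, y, u, u * v0, hx, hy, huN, N.mul_mem huN hv0N, hx1, hy1, hu2, ?_, ?_, hux, huy,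
        ?_, ?_⟩
      · rw [pow_two]
        calc u * v0 * (u * v0) = u * v0 * (v0 * u) := by rw [huv]
          _ = u * (v0 * v0) * u := by group
          _ = 1 := by
              have h1 : v0 * v0 = 1 := by rw [← pow_two]; exact hv02
              have h2 : u * u = 1 := by rw [← pow_two]; exact hu2
              rw [h1, mul_one, h2]
      · calc u * (u * v0) = u * (v0 * u) := by rw [huv]
          _ = u * v0 * u := by group
      · have : u * v0 * x * (u * v0)⁻¹ = u * (v0 * x * v0⁻¹) * u⁻¹ := by group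
        rw [this, hxk]
        have : u * x⁻¹ * u⁻¹ = (u * x * u⁻¹)⁻¹ := by group
        rw [this, hux, inv_inv]
      · have : u * v0 * y * (u * v0)⁻¹ = u * (v0 * y * v0⁻¹) * u⁻¹ := by group
        rw [this, hyl]
        have : u * y⁻¹ * u⁻¹ = (u * y * u⁻¹)⁻¹ := by group
        rw [this, huy]
  -- apply to (a, z) or (z, a)
  rcases hdec a haN ha2 haT with hainvT | hadec
  · rcases hdec z hzN hz2 hzT with hzinvT | hzdec
    · exact absurd ⟨hainvT, hzinvT⟩ hnotboth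
    · refine hfinish z a hzN haN hz2 ha2 haz.symm hzT haT ?_ hzdec
      rw [← haz]
      exact hazT
  · exact hfinish a z haN hzN ha2 hz2 haz haT hzT hazT hadec

/-- GRPA. -/
theorem exists_gens (T : Sylow 3 G) (hT : Cfsg.IsElementaryAbelian 3 (T : Subgroup G))
    (hcard : Nat.card T = 9)
    (hC : Subgroup.centralizer ((T : Subgroup G) : Set G) = T)
    [hn : ((T : Subgroup G).subgroupOf (Subgroup.normalizer ((T : Subgroup G) : Set G))).Normal]
    (hK : IsKleinFour (↥(Subgroup.normalizer ((T : Subgroup G) : Set G)) ⧸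
      (T : Subgroup G).subgroupOf (Subgroup.normalizer ((T : Subgroup G) : Set G)))) :
    ∃ x y u v : G, x ∈ (T : Subgroup G) ∧ y ∈ (T : Subgroup G) ∧
      u ∈ Subgroup.normalizer ((T : Subgroup G) : Set G) ∧
      v ∈ Subgroup.normalizer ((T : Subgroup G) : Set G) ∧
      x ≠ 1 ∧ y ≠ 1 ∧ u ^ 2 = 1 ∧ v ^ 2 = 1 ∧ u * v = v * u ∧
      u * x * u⁻¹ = x⁻¹ ∧ u * y * u⁻¹ = y ∧ v * x * v⁻¹ = x ∧ v * y * v⁻¹ = y⁻¹ := by
  classical
  set N : Subgroup G := Subgroup.normalizer ((T : Subgroup G) : Set G) with hN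
  set Tn : Subgroup ↥N := (T : Subgroup G).subgroupOf N with hTn
  have hTN : (T : Subgroup G) ≤ N := Subgroup.le_normalizer
  have hnorm : ∀ g ∈ N, ∀ t ∈ (T : Subgroup G), g * t * g⁻¹ ∈ (T : Subgroup G) := by
    intro g hg t ht
    exact (Subgroup.mem_normalizer_iff.1 hg t).1 ht
  have hc : ∀ a ∈ (T : Subgroup G), ∀ b ∈ (T : Subgroup G), a * b = b * a := by
    intro a ha b hb
    have := hT.1.is_comm.comm (⟨a, ha⟩ : (T : Subgroup G)) ⟨b, hb⟩
    exact congrArg Subtype.val this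
  have h3 : ∀ a ∈ (T : Subgroup G), a ^ 3 = 1 := hT.2
  have hcard' : Nat.card (T : Subgroup G) = 9 := hcard
  have hC' : ∀ g : G, (∀ t ∈ (T : Subgroup G), g * t * g⁻¹ = t) → g ∈ (T : Subgroup G) := by
    intro g hg
    rw [← hC, Subgroup.mem_centralizer_iff]
    intro t ht
    have := hg t ht
    calc t * g = (g * t * g⁻¹) * g := by rw [this]
      _ = g * t := by group
  -- the quotient
  have hq2 : ∀ q : ↥N ⧸ Tn, q ^ 2 = 1 := by
    intro q
    have := Monoid.pow_exponent_eq_one q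
    rwa [IsKleinFour.exponent_two] at this
  have hsq : ∀ g ∈ N, g ^ 2 ∈ (T : Subgroup G) := by
    intro g hg
    have h1 := hq2 (QuotientGroup.mk (⟨g, hg⟩ : ↥N))
    rw [← QuotientGroup.mk_pow, QuotientGroup.eq_one_iff, hTn, Subgroup.mem_subgroupOf] at h1
    simpa using h1
  have hmem : ∀ g : ↥N, (QuotientGroup.mk g : ↥N ⧸ Tn) = 1 ↔ (g : G) ∈ (T : Subgroup G) := by
    intro g
    rw [QuotientGroup.eq_one_iff, hTn, Subgroup.mem_subgroupOf]
  -- two distinct non-trivial cosets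
  have hex2 : ∃ q1 q2 : ↥N ⧸ Tn, q1 ≠ 1 ∧ q2 ≠ 1 ∧ q1 ≠ q2 := by
    have hc4 : Nat.card (↥N ⧸ Tn) = 4 := IsKleinFour.card_four
    have e : (↥N ⧸ Tn) ≃ Fin 4 := Finite.equivFinOfCardEq hc4
    have hinj := e.symm.injective
    have h01 : e.symm 0 ≠ e.symm 1 := fun h => by simpa using hinj h
    have h02 : e.symm 0 ≠ e.symm 2 := fun h => by simpa using hinj h
    have h12 : e.symm 1 ≠ e.symm 2 := fun h => by simpa using hinj h
    by_cases h0 : e.symm 0 = 1
    · refine ⟨e.symm 1, e.symm 2, ?_, ?_, h12⟩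
      · intro h; exact h01 (h0.trans h.symm)
      · intro h; exact h02 (h0.trans h.symm)
    · by_cases h1 : e.symm 1 = 1
      · refine ⟨e.symm 0, e.symm 2, h0, ?_, h02⟩
        intro h; exact h12 (h1.trans h.symm)
      · exact ⟨e.symm 0, e.symm 1, h0, h1, h01⟩
  obtain ⟨q1, q2, hq1, hq2', hq12⟩ := hex2
  obtain ⟨g1, rfl⟩ := QuotientGroup.mk_surjective q1
  obtain ⟨g2, rfl⟩ := QuotientGroup.mk_surjective q2
  have hex : ∃ a ∈ N, ∃ b ∈ N, a ∉ (T : Subgroup G) ∧ b ∉ (T : Subgroup G) ∧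
      a * b ∉ (T : Subgroup G) := by
    refine ⟨g1, g1.2, g2, g2.2, ?_, ?_, ?_⟩
    · intro h; exact hq1 ((hmem g1).2 h)
    · intro h; exact hq2' ((hmem g2).2 h)
    · intro h
      have h1 : (QuotientGroup.mk (g1 * g2) : ↥N ⧸ Tn) = 1 := (hmem (g1 * g2)).2 (by simpa using h)
      rw [QuotientGroup.mk_mul] at h1
      have h2 := hq2 (QuotientGroup.mk g2 : ↥N ⧸ Tn)
      rw [pow_two] at h2
      apply hq12
      calc (QuotientGroup.mk g1 : ↥N ⧸ Tn) = QuotientGroup.mk g1 * (QuotientGroup.mk g2 * QuotientGroup.mk g2) := by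
            rw [h2, mul_one]
        _ = (QuotientGroup.mk g1 * QuotientGroup.mk g2) * QuotientGroup.mk g2 := by rw [mul_assoc]
        _ = QuotientGroup.mk g2 := by rw [h1, one_mul]
  exact exists_gens_core (T : Subgroup G) N hTN hnorm hc h3 hcard' hC' hsq hex

end main

end Cfsg.Agent.Lib.H22.K4
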