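import Cfsg.Agent.Lib.H28.KB.Defs
import Cfsg.Agent.Lib.H23.ContribP
import Cfsg.Agent.Lib.H23.ContribN
import Cfsg.Agent.Lib.H23.ContribM

/-!
# S4539, piece FACTS: the facts about `pcontrib` over `B` and `(ZMod m)ˣ` (helper22)

Five conjuncts assembled from helper23's `sum_normSq_contrib`, `contrib_self_eq_sum`,
`contrib_ne_zero_of_height_zero`, `card_units_mul_pow_le_sum_contrib_self` and the existence of a
character of height zero in a block.
-/

set_option autoImplicit false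

namespace Cfsg.Agent.Lib.H22.KB

open Cfsg Cfsg.Agent.Lib.H23 Cfsg.Agent.Lib.H23.Contrib Cfsg.Agent.Lib.H28.KB
open scoped ComplexConjugate

theorem pcontrib_facts {G : Type*} [Group G] [Fintype G] {p : ℕ} [Fact p.Prime] {M : Ideal AlgInt}
    [Fintype (IrrCharacter G)] (hM : IsPModular p M)
    (H : Subgroup G) [Fintype H] [Fintype (IrrCharacter H)] (ξ₁ : IrrCharacter H)
    [DecidablePred (· ∈ blockOf M (ξ₁ : H → ℂ))] {B : Set (IrrCharacter G)} [DecidablePred (· ∈ B)]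
    (hind : IsInducedBlock M H (blockOf M (ξ₁ : H → ℂ)) B)
    (hdef : blockDefect p (blockOf M (ξ₁ : H → ℂ)) = blockDefect p B) (y : H)
    (hyc : y ∈ Subgroup.center H) (hy : ∃ k : ℕ, orderOf y = p ^ k)
    (hC : ∀ g : G, g * (y : G) * g⁻¹ = (y : G) → g ∈ H) (m : ℕ) [NeZero m] (hm : m = Nat.card G) :
    (∀ k : (ZMod m)ˣ, ∑ χ : {χ : IrrCharacter G // χ ∈ B},
        (pcontrib p H (blockOf M (ξ₁ : H → ℂ)) (blockDefect p B) y m k
          ((χ : IrrCharacter G) : G → ℂ) ((χ : IrrCharacter G) : G → ℂ)).re ≤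
        (blockRank p (blockOf M (ξ₁ : H → ℂ)) : ℝ) * (p : ℝ) ^ blockDefect p B) ∧
    (∀ (χ : {χ : IrrCharacter G // χ ∈ B}) (k : (ZMod m)ˣ),
        ∑ ψ : {χ : IrrCharacter G // χ ∈ B},
          ‖pcontrib p H (blockOf M (ξ₁ : H → ℂ)) (blockDefect p B) y m k
            ((χ : IrrCharacter G) : G → ℂ) ((ψ : IrrCharacter G) : G → ℂ)‖ ^ 2 ≤
        (p : ℝ) ^ blockDefect p B *
          (pcontrib p H (blockOf M (ξ₁ : H → ℂ)) (blockDefect p B) y m k
            ((χ : IrrCharacter G) : G → ℂ) ((χ : IrrCharacter G) : G → ℂ)).re) ∧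
    (∀ χ ψ : {χ : IrrCharacter G // χ ∈ B},
        blockHeight p B ((χ : IrrCharacter G) : G → ℂ) = 0 →
        pcontrib p H (blockOf M (ξ₁ : H → ℂ)) (blockDefect p B) y m 1
          ((χ : IrrCharacter G) : G → ℂ) ((ψ : IrrCharacter G) : G → ℂ) ≠ 0) ∧
    (∀ χ : {χ : IrrCharacter G // χ ∈ B},
        (Fintype.card (ZMod m)ˣ : ℝ) * (p : ℝ) ^ blockHeight p B ((χ : IrrCharacter G) : G → ℂ) ≤
        ∑ k : (ZMod m)ˣ, (pcontrib p H (blockOf M (ξ₁ : H → ℂ)) (blockDefect p B) y m k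
          ((χ : IrrCharacter G) : G → ℂ) ((χ : IrrCharacter G) : G → ℂ)).re) ∧
    (Nonempty {χ : IrrCharacter G // χ ∈ B} →
        ∃ χ : {χ : IrrCharacter G // χ ∈ B}, blockHeight p B ((χ : IrrCharacter G) : G → ℂ) = 0) := by
  classical
  have hPr := isPrime_of_isPModular hM
  have hp : p.Prime := Fact.out
  have hp0 : (p : ℂ) ≠ 0 := Nat.cast_ne_zero.2 hp.ne_zero
  have hpR : (0 : ℝ) < p := by exact_mod_cast hp.pos
  set d := blockDefect p B with hd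
  set b := blockOf M (ξ₁ : H → ℂ) with hb
  have hpd : (0 : ℝ) < (p : ℝ) ^ d := pow_pos hpR d
  -- data for the powers of `y`
  have hord_dvd : orderOf y ∣ m := by
    rw [hm]
    exact (orderOf_dvd_natCard y).trans (Subgroup.card_subgroup_dvd_card H)
  have hym : y ^ m = 1 := by
    obtain ⟨q, hq⟩ := hord_dvd
    rw [hq, pow_mul, pow_orderOf_eq_one, one_pow]
  have hdata : ∀ k : (ZMod m)ˣ,
      y ^ (k : ZMod m).val ∈ Subgroup.center H ∧
      (∃ j : ℕ, orderOf (y ^ (k : ZMod m).val) = p ^ j) ∧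
      ∀ g : G, g * ((y ^ (k : ZMod m).val : H) : G) * g⁻¹ = ((y ^ (k : ZMod m).val : H) : G) →
        g ∈ H := by
    intro k
    exact pow_central_data H hyc hy hp hC
      (Nat.Coprime.coprime_dvd_right hord_dvd (ZMod.val_coe_unit_coprime k))
  -- the real numbers `r k χ`
  set r : (ZMod m)ˣ → IrrCharacter G → ℝ := fun k χ => ∑ ψ : IrrCharacter G,
    ‖contrib p H b (y ^ (k : ZMod m).val) (χ : G → ℂ) (ψ : G → ℂ)‖ ^ 2 with hr
  have hr0 : ∀ k χ, 0 ≤ r k χ := fun k χ => Finset.sum_nonneg fun ψ _ => by positivity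
  have hcr : ∀ (k : (ZMod m)ˣ) (χ : IrrCharacter G), contrib p H b (y ^ (k : ZMod m).val) (χ : G → ℂ)
      (χ : G → ℂ) = ((r k χ : ℝ) : ℂ) := fun k χ =>
    contrib_self_eq_sum H hM (hdata k).1 (hdata k).2.1 (hdata k).2.2 ξ₁ χ
  have hre : ∀ (k : (ZMod m)ˣ) (χ : IrrCharacter G),
      (pcontrib p H b d y m k (χ : G → ℂ) (χ : G → ℂ)).re = (p : ℝ) ^ d * r k χ := by
    intro k χ
    rw [pcontrib, hcr k χ]
    have : ((p : ℂ) ^ d * ((r k χ : ℝ) : ℂ)) = (((p : ℝ) ^ d * r k χ : ℝ) : ℂ) := by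
      push_cast
      rfl
    rw [this, Complex.ofReal_re]
  have hnorm : ∀ (k : (ZMod m)ˣ) (χ ψ : IrrCharacter G),
      ‖pcontrib p H b d y m k (χ : G → ℂ) (ψ : G → ℂ)‖ ^ 2 =
        ((p : ℝ) ^ d) ^ 2 * ‖contrib p H b (y ^ (k : ZMod m).val) (χ : G → ℂ) (ψ : G → ℂ)‖ ^ 2 := by
    intro k χ ψ
    rw [pcontrib, norm_mul, mul_pow, norm_pow, Complex.norm_natCast]
  have hA : ∀ k : (ZMod m)ˣ, ∑ χ : IrrCharacter G, r k χ = (blockRank p b : ℝ) :=
    fun k => sum_normSq_contrib H _ _ hM (hdata k).1 (hdata k).2.1 (hdata k).2.2 ξ₁ rfl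
  -- sums over the subtype are at most sums over everything
  have hsub : ∀ f : IrrCharacter G → ℝ, (∀ χ, 0 ≤ f χ) →
      ∑ χ : {χ : IrrCharacter G // χ ∈ B}, f (χ : IrrCharacter G) ≤ ∑ χ : IrrCharacter G, f χ := by
    intro f hf
    rw [← Finset.sum_subtype (Finset.univ.filter (· ∈ B)) (fun χ => by simp) f]
    exact Finset.sum_le_sum_of_subset_of_nonneg (Finset.subset_univ _) fun χ _ _ => hf χ
  refine ⟨?_, ?_, ?_, ?_, ?_⟩
  · intro k
    have h1 : ∑ χ : {χ : IrrCharacter G // χ ∈ B},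
        (pcontrib p H b d y m k ((χ : IrrCharacter G) : G → ℂ) ((χ : IrrCharacter G) : G → ℂ)).re =
        ∑ χ : {χ : IrrCharacter G // χ ∈ B}, (p : ℝ) ^ d * r k (χ : IrrCharacter G) :=
      Finset.sum_congr rfl fun χ _ => hre k χ
    rw [h1]
    refine (hsub (fun χ => (p : ℝ) ^ d * r k χ) fun χ => mul_nonneg hpd.le (hr0 k χ)).trans ?_
    rw [← Finset.mul_sum, hA k, mul_comm]
  · intro χ k
    have h1 : ∑ ψ : {χ : IrrCharacter G // χ ∈ B},
        ‖pcontrib p H b d y m k ((χ : IrrCharacter G) : G → ℂ) ((ψ : IrrCharacter G) : G → ℂ)‖ ^ 2 =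
        ∑ ψ : {χ : IrrCharacter G // χ ∈ B}, ((p : ℝ) ^ d) ^ 2 *
          ‖contrib p H b (y ^ (k : ZMod m).val) ((χ : IrrCharacter G) : G → ℂ)
            ((ψ : IrrCharacter G) : G → ℂ)‖ ^ 2 :=
      Finset.sum_congr rfl fun ψ _ => hnorm k χ ψ
    rw [h1, hre k χ]
    refine (hsub (fun ψ => ((p : ℝ) ^ d) ^ 2 *
      ‖contrib p H b (y ^ (k : ZMod m).val) ((χ : IrrCharacter G) : G → ℂ) (ψ : G → ℂ)‖ ^ 2)
      fun ψ => by positivity).trans ?_
    rw [← Finset.mul_sum]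
    apply le_of_eq
    simp only [hr]
    ring
  · intro χ ψ h0
    rw [pcontrib]
    refine mul_ne_zero (pow_ne_zero _ hp0) ?_
    have h1 : y ^ (((1 : (ZMod m)ˣ) : ZMod m)).val = y := by
      rw [Units.val_one]
      exact pow_val_one_eq m y hym
    rw [h1]
    exact contrib_ne_zero_of_height_zero H ξ₁ hM hind hdef hyc hy χ.2 h0 ψ.2
  · intro χ
    have h := card_units_mul_pow_le_sum_contrib_self hM H ξ₁ hind hdef y hyc hy hC χ.2 m hm
    refine h.trans (le_of_eq ?_)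
    refine Finset.sum_congr rfl fun k _ => ?_
    rw [hre k χ]
  · intro _
    obtain ⟨χ₁, hχ₁⟩ := hind.2.1
    obtain ⟨ψ₀, hψ₀B, hψ₀0⟩ :=
      Cfsg.Agent.Lib.L0.BlockHeight.exists_height_zero (p := p) (M := M) χ₁
    rw [← hχ₁] at hψ₀B hψ₀0
    exact ⟨⟨ψ₀, hψ₀B⟩, hψ₀0⟩

end Cfsg.Agent.Lib.H22.KB
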