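import Cfsg.Agent.Lib.H23.ContribP
import Cfsg.Agent.Lib.H23.ContribM

/-!
# S4540, piece D1 (helper22): the diagonal contribution of a character of positive height

For a subsection `(z, b)` of `B` (`z` central in `H`, `b^G = B`) and `χ ∈ B` of height `h ≥ 1`:
`|G|_{p'} p^d m^{(z,b)}_{χχ} = p^h v` with `v` in the local IDEAL.

* `lamW_inv`, `contrib_inv`: `m^{(z⁻¹,b)}_{χψ} = conj m^{(z,b)}_{χψ}`;
* `ordCompl_mul_pow_mul_contrib_self_eq`: the statement above.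
-/

set_option autoImplicit false

namespace Cfsg.Agent.Lib.H22.KC

open Cfsg MonoidAlgebra Cfsg.Agent.Lib.H23 Cfsg.Agent.Lib.H23.Contrib Cfsg.Agent.Lib.H24
  Cfsg.Agent.Lib.L0
open scoped ComplexConjugate

variable {G : Type*} [Group G] [Fintype G] {p : ℕ} [Fact p.Prime] {M : Ideal AlgInt}
  (H : Subgroup G) [Fintype H] [Fintype (IrrCharacter H)]

omit [Fintype G] [Fact p.Prime] [Fintype (IrrCharacter H)] in
theorem lamW_inv {z : H} (hzc : z ∈ Subgroup.center H) (ξ ξ' : IrrCharacter H) :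
    lamW H z⁻¹ ξ ξ' = conj (lamW H z ξ ξ') := by
  have h0 : (ξ : H → ℂ) 1 ≠ 0 := irr_one_ne_zero ξ
  have h0' : (ξ' : H → ℂ) 1 ≠ 0 := irr_one_ne_zero ξ'
  have hn : 0 < orderOf z := orderOf_pos z
  have hzinv : z⁻¹ = z ^ (orderOf z - 1) := by
    symm
    apply eq_inv_of_mul_eq_one_left
    rw [← pow_succ, Nat.sub_add_cancel hn, pow_orderOf_eq_one]
  have hpow : lamW H (z ^ (orderOf z - 1)) ξ ξ' = (lamW H z ξ ξ') ^ (orderOf z - 1) := by
    unfold lamW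
    rw [irr_central_pow ξ hzc, irr_central_pow ξ' hzc, mul_div_assoc, div_self h0, mul_one,
      mul_div_assoc, div_self h0', mul_one, mul_pow, map_pow]
  have hw1 : (lamW H z ξ ξ') ^ orderOf z = 1 := by
    unfold lamW
    rw [mul_pow, ← map_pow, lam_pow_eq_one ξ hzc, lam_pow_eq_one ξ' hzc, map_one, one_mul]
  have hnorm : ‖lamW H z ξ ξ'‖ = 1 := Complex.norm_eq_one_of_pow_eq_one hw1 hn.ne'
  have hconj : conj (lamW H z ξ ξ') = (lamW H z ξ ξ')⁻¹ := by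
    rw [Complex.inv_def, Complex.normSq_eq_norm_sq, hnorm]
    simp
  have hinv : (lamW H z ξ ξ') ^ (orderOf z - 1) = (lamW H z ξ ξ')⁻¹ := by
    apply eq_inv_of_mul_eq_one_left
    rw [← pow_succ, Nat.sub_add_cancel hn, hw1]
  rw [hzinv, hpow, hinv, hconj]

/-- The contributions of `(z⁻¹, b)` are the complex conjugates of those of `(z, b)`. -/
theorem contrib_inv [Fintype (IrrCharacter G)] (hM : IsPModular p M) (ξ₁ : IrrCharacter H)
    [DecidablePred (· ∈ blockOf M (ξ₁ : H → ℂ))] {z : H} (hzc : z ∈ Subgroup.center H)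
    (χ ψ : IrrCharacter G) :
    contrib p H (blockOf M (ξ₁ : H → ℂ)) z⁻¹ (χ : G → ℂ) (ψ : G → ℂ) =
      conj (contrib p H (blockOf M (ξ₁ : H → ℂ)) z (χ : G → ℂ) (ψ : G → ℂ)) := by
  have hp : p.Prime := Fact.out
  rw [contrib_eq_sum H _ z⁻¹ hM (inv_mem hzc) ξ₁ rfl χ ψ, contrib_eq_sum H _ z hM hzc ξ₁ rfl χ ψ,
    map_sum]
  refine Finset.sum_congr rfl fun ξ _ => ?_
  rw [map_sum]
  refine Finset.sum_congr rfl fun ξ' _ => ?_
  split_ifs with h
  · rw [map_mul, map_mul, map_mul, resMult_conj, resMult_conj, lamW_inv H hzc, pin_conj,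
      ← pin_symm_irr hp]
  · rw [map_zero]

/-- For `χ ∈ B` of positive height `h`: `|G|_{p'} p^d m^{(z,b)}_{χχ} = p^h v` with `v` in the
local ideal. -/
theorem ordCompl_mul_pow_mul_contrib_self_eq [Fintype (IrrCharacter G)] (hM : IsPModular p M)
    (ξ₁ : IrrCharacter H) [DecidablePred (· ∈ blockOf M (ξ₁ : H → ℂ))]
    {B : Set (IrrCharacter G)} (hind : IsInducedBlock M H (blockOf M (ξ₁ : H → ℂ)) B) {z : H}
    (hzc : z ∈ Subgroup.center H) {χ : IrrCharacter G} (hχ : χ ∈ B)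
    (h1 : 1 ≤ blockHeight p B (χ : G → ℂ)) :
    ∃ v : ℂ, MemLocalIdeal M v ∧
      ((Nat.card G / p ^ (Nat.card G).factorization p : ℕ) : ℂ) *
        ((p : ℂ) ^ blockDefect p B *
          contrib p H (blockOf M (ξ₁ : H → ℂ)) z (χ : G → ℂ) (χ : G → ℂ)) =
      (p : ℂ) ^ blockHeight p B (χ : G → ℂ) * v := by
  classical
  have hPr := isPrime_of_isPModular hM
  have hp : p.Prime := Fact.out
  obtain ⟨χ₁, hχ₁⟩ := hind.2.1
  subst hχ₁
  obtain ⟨χ₀, hχ₀B, hχ₀0⟩ :=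
    Cfsg.Agent.Lib.L0.BlockHeight.exists_height_zero (p := p) (M := M) χ₁
  set b := blockOf M (ξ₁ : H → ℂ) with hb
  set h := blockHeight p (blockOf M (χ₁ : G → ℂ)) (χ : G → ℂ) with hh
  set rχ : ℕ := charDegree (χ : G → ℂ) / p ^ (charDegree (χ : G → ℂ)).factorization p with hrχ
  set rχ₀ : ℕ := charDegree (χ₀ : G → ℂ) / p ^ (charDegree (χ₀ : G → ℂ)).factorization p
    with hrχ₀
  have hkey1 := ordCompl_mul_pow_mul_contrib H hM b z χ₁ hχ (χ : G → ℂ)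
  have hkey2 := ordCompl_mul_pow_mul_contrib H hM b z χ₁ hχ₀B (χ : G → ℂ)
  have hkey3 := ordCompl_mul_pow_mul_contrib H hM b z⁻¹ χ₁ hχ (χ₀ : G → ℂ)
  rw [hχ₀0, pow_zero, one_mul] at hkey2
  -- `contrib z χ χ₀ = contrib z⁻¹ χ₀ χ`
  have hsw : contrib p H b z (χ : G → ℂ) (χ₀ : G → ℂ) =
      contrib p H b z⁻¹ (χ₀ : G → ℂ) (χ : G → ℂ) := by
    rw [contrib_inv H hM ξ₁ hzc χ₀ χ, contrib_conj H b z hM hzc ξ₁ rfl χ₀ χ]
  rw [hsw, hkey3] at hkey2
  -- `ω_{χ₀}(S)` lies in the local ideal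
  have hS' : MemLocalRing M (omega (χ : G → ℂ) (secElt H b z⁻¹ p (χ₀ : G → ℂ))) :=
    omega_memLocalRing χ (secElt_mem_center H _ _ _)
      (secElt_mem_intCoeff H _ _ (inv_mem hzc) χ₀)
  have hph : MemLocalIdeal M ((p : ℂ) ^ h) := by
    obtain ⟨h', hh'⟩ : ∃ h', h = h' + 1 := ⟨h - 1, (Nat.sub_add_cancel h1).symm⟩
    rw [hh', pow_succ]
    exact memLocalIdeal_mul_left (memLocalRing_pow (natCast_mem_localRing p) _)
      (memLocalIdeal_p hM)
  have h2 : MemLocalIdeal M ((rχ₀ : ℂ) * omega (χ₀ : G → ℂ) (secElt H b z p (χ : G → ℂ))) := by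
    rw [← hkey2, mul_assoc]
    exact memLocalIdeal_mul_right hph
      (memLocalRing_mul (natCast_mem_localRing rχ) hS')
  have hrχ₀' : ¬ MemLocalIdeal M (rχ₀ : ℂ) := by
    rw [natCast_memLocalIdeal_iff hM]
    exact Nat.not_dvd_ordCompl hp (charDegree_pos _ χ₀.2).ne'
  have h3 : MemLocalIdeal M (omega (χ₀ : G → ℂ) (secElt H b z p (χ : G → ℂ))) :=
    memLocalIdeal_of_mul (natCast_mem_localRing rχ₀) hrχ₀' h2
  have hsame : SameBlock M (χ : G → ℂ) (χ₀ : G → ℂ) :=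
    sameBlock_trans (sameBlock_symm hχ) hχ₀B
  have h4 := omega_sub_memLocalIdeal hsame (secElt_mem_center H b z (χ : G → ℂ))
    (secElt_mem_intCoeff (M := M) (p := p) H b z hzc χ)
  have h5 : MemLocalIdeal M (omega (χ : G → ℂ) (secElt H b z p (χ : G → ℂ))) := by
    have := memLocalIdeal_add h4 h3
    rwa [sub_add_cancel] at this
  refine ⟨(rχ : ℂ) * omega (χ : G → ℂ) (secElt H b z p (χ : G → ℂ)),
    memLocalIdeal_mul_left (natCast_mem_localRing rχ) h5, ?_⟩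
  rw [hkey1, mul_assoc]

end Cfsg.Agent.Lib.H22.KC
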