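import Mathlib
import Cfsg.Prelude.Def_Characters
import Cfsg.Agent.Lib.L0.CharOps
import Cfsg.Agent.Lib.L0.CharBasic
import Cfsg.Agent.Lib.H24.CharLinearMul
import Cfsg.Agent.Lib.H18.BKDUAL

/-!
helper22 library (S4640, piece 6 (TW)): twist counting.  `G/N` abelian, `χ ∈ Irr(G)` fixed by no nontrivial linear
character of `G/N` ⟹ `χ|_N` is irreducible.  Exact signature of `tools/blueprints/S4640_sigs.lean`.
-/

set_option autoImplicit false

namespace Cfsg.Agent.Lib.H22.KK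

open scoped ComplexConjugate

section chars
variable {G : Type*} [Group G] [Fintype G]

/-- the sum over the dual group of `G/N` of the inner products `⟨χ β, χ⟩` is `⟨χ|_N, χ|_N⟩`. -/
theorem sum_twist_classInner (N : Subgroup G) [N.Normal] [Fintype N]
    (hab : ∀ a b : G, a * b * a⁻¹ * b⁻¹ ∈ N) (χ : G → ℂ) [Fintype (G ⧸ N →* ℂˣ)] :
    ∑ φ : G ⧸ N →* ℂˣ, Cfsg.classInner (fun g => χ g * ((φ (g : G ⧸ N) : ℂˣ) : ℂ)) χ =
      Cfsg.classInner (fun n : N => χ n) (fun n : N => χ n) := by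
  classical
  unfold Cfsg.classInner
  rw [← Finset.mul_sum, Finset.sum_comm]
  have h1 : ∀ g : G, ∑ φ : G ⧸ N →* ℂˣ, χ g * ((φ (g : G ⧸ N) : ℂˣ) : ℂ) * conj (χ g) =
      if g ∈ N then (N.index : ℂ) * (χ g * conj (χ g)) else 0 := by
    intro g
    have h2 := Cfsg.Agent.Lib.H18.BK.finsum_quot_dual_apply N hab g
    rw [finsum_eq_sum_of_fintype] at h2
    have h3 : ∑ φ : G ⧸ N →* ℂˣ, χ g * ((φ (g : G ⧸ N) : ℂˣ) : ℂ) * conj (χ g) =
        (χ g * conj (χ g)) * ∑ φ : G ⧸ N →* ℂˣ, ((φ (g : G ⧸ N) : ℂˣ) : ℂ) := by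
      rw [Finset.mul_sum]
      refine Finset.sum_congr rfl (fun φ _ => ?_)
      ring
    rw [h3, h2]
    split_ifs
    · ring
    · ring
  rw [Finset.sum_congr rfl (fun g _ => h1 g)]
  rw [← Finset.sum_filter]
  have h4 : ∑ g ∈ Finset.univ.filter (fun g : G => g ∈ N), (N.index : ℂ) * (χ g * conj (χ g)) =
      ∑ n : N, (N.index : ℂ) * (χ n * conj (χ n)) := by
    refine (Finset.sum_subtype (Finset.univ.filter (fun g : G => g ∈ N)) (fun g => by simp) _)
  rw [h4, ← Finset.mul_sum]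
  have hc : (Nat.card G : ℂ) = (Nat.card N : ℂ) * (N.index : ℂ) := by
    rw [← Nat.cast_mul, Subgroup.card_mul_index]
  have hN0 : (Nat.card N : ℂ) ≠ 0 := by
    exact_mod_cast (Nat.card_pos (α := N)).ne'
  have hi0 : (N.index : ℂ) ≠ 0 := by
    have : N.index ≠ 0 := Subgroup.index_ne_zero_of_finite
    exact_mod_cast this
  rw [hc]
  field_simp

/-- (TW) twist counting: `G/N` abelian, `χ ∈ Irr(G)` fixed by no nontrivial linear character of `G/N`
⟹ `χ|_N` is irreducible. -/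
theorem restrict_irr_of_no_twist (N : Subgroup G) [N.Normal] [Fintype N]
    (hab : ∀ a b : G, a * b * a⁻¹ * b⁻¹ ∈ N) (χ : G → ℂ) (hχ : Cfsg.IsIrrCharacter G χ)
    (hno : ∀ β : G →* ℂˣ, (∀ n ∈ N, β n = 1) → (∀ g, χ g * ((β g : ℂˣ) : ℂ) = χ g) → β = 1) :
    Cfsg.IsIrrCharacter N (fun n : N => χ n) := by
  classical
  have := Fintype.ofFinite (G ⧸ N →* ℂˣ)
  refine Cfsg.Agent.Lib.L0.isIrrCharacter_of_classInner_self_eq_one
    (Cfsg.Agent.Lib.L0.isCharacter_restrict N (Cfsg.Agent.Lib.L0.isCharacter_of_irr hχ)) ?_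
  rw [← sum_twist_classInner N hab χ]
  rw [Finset.sum_eq_single (1 : G ⧸ N →* ℂˣ)]
  · simp only [MonoidHom.one_apply, Units.val_one, mul_one]
    exact Cfsg.Agent.Lib.L0.irr_classInner_self hχ
  · intro φ _ hφ
    have hirr := Cfsg.Agent.Lib.H24.isIrrCharacter_mul_hom χ hχ (φ.comp (QuotientGroup.mk' N))
    refine Cfsg.Agent.Lib.L0.irr_classInner_ne hirr hχ ?_
    intro heq
    apply hφ
    have h1 := hno (φ.comp (QuotientGroup.mk' N))
      (fun n hn => by
        simp only [MonoidHom.comp_apply, QuotientGroup.mk'_apply]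
        rw [(QuotientGroup.eq_one_iff n).2 hn, map_one])
      (fun g => congrFun heq g)
    refine MonoidHom.ext (fun q => ?_)
    induction q using QuotientGroup.induction_on with
    | H g =>
      have h2 := congrArg (fun β : G →* ℂˣ => β g) h1
      simp only [MonoidHom.comp_apply, QuotientGroup.mk'_apply, MonoidHom.one_apply] at h2
      rw [h2]
      rfl
  · intro h
    exact absurd (Finset.mem_univ _) h

end chars

end Cfsg.Agent.Lib.H22.KK
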