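/-
S4591 piece PPC (architect helper20): a character of degree prime to `p` has an irreducible constituent of degree prime
to `p`.
-/
import Mathlib
import Cfsg.Agent.Lib.H23.DegreeDvd
import Cfsg.Agent.Lib.L0.CharOps
import Cfsg.Agent.Lib.L0.CharDecomp

set_option autoImplicit false
set_option linter.unusedSectionVars false

namespace Cfsg.Agent.Lib.H22.KPP

open Cfsg Cfsg.Agent.Lib.L0 Cfsg.Agent.Lib.H23

variable {G : Type*} [Group G] [Fintype G] (p : ℕ) [hp : Fact p.Prime]

/-- the degree of a sum of irreducible characters -/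
theorem list_sum_apply_one (l : List (G → ℂ)) (hl : ∀ χ ∈ l, IsIrrCharacter G χ) :
    l.sum 1 = (((l.map charDegree).sum : ℕ) : ℂ) := by
  induction l with
  | nil => simp
  | cons x l ih =>
    rw [List.sum_cons, Pi.add_apply, ih (fun χ hχ => hl χ (List.mem_cons_of_mem _ hχ)), List.map_cons, List.sum_cons,
      Nat.cast_add, apply_one_eq_charDegree x (hl x List.mem_cons_self)]

/-- PPC: a character of degree prime to `p` has an irreducible constituent of degree prime to `p`. -/
theorem exists_pprime_constituent (ψ : G → ℂ) (hψ : IsCharacter G ψ) (d : ℕ) (hd : ψ 1 = d)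
    (hpd : ¬ p ∣ d) :
    ∃ χ : IrrCharacter G, ¬ p ∣ charDegree (χ : G → ℂ) ∧ classInner ψ (χ : G → ℂ) ≠ 0 := by
  classical
  obtain ⟨l, hl, rfl⟩ := isCharacter_exists_irr_decomp hψ
  by_contra hcon
  push Not at hcon
  have h1 : ∀ χ ∈ l, p ∣ charDegree χ := by
    intro χ hχ
    by_contra hnd
    have h0 := hcon ⟨χ, hl χ hχ⟩ hnd
    rw [classInner_irr_list_sum hl (hl χ hχ)] at h0
    have h0' : l.count χ = 0 := by exact_mod_cast h0
    exact (List.count_pos_iff.mpr hχ).ne' h0'
  apply hpd
  rw [list_sum_apply_one l hl] at hd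
  have hd' : (l.map charDegree).sum = d := by exact_mod_cast hd
  rw [← hd']
  apply List.dvd_sum
  intro x hx
  obtain ⟨χ, hχ, rfl⟩ := List.mem_map.mp hx
  exact h1 χ hχ

end Cfsg.Agent.Lib.H22.KPP
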