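/-
S4591 piece RESK (architect helper20): if `χ x = χ 1` then every irreducible constituent `μ` of `χ_H` has `μ x = μ 1`.
-/
import Mathlib
import Cfsg.Agent.Lib.L0.CharOps
import Cfsg.Agent.Lib.L0.CharDecomp

set_option autoImplicit false
set_option linter.unusedSectionVars false

namespace Cfsg.Agent.Lib.H22.KPP

open Cfsg Cfsg.Agent.Lib.L0

variable {G : Type*} [Group G] [Fintype G] (p : ℕ) [hp : Fact p.Prime]

/-- a character value of norm at most the degree whose real part is the degree -/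
theorem char_re_le {H : Type*} [Group H] [Finite H] {ψ : H → ℂ} (hψ : IsCharacter H ψ) (x : H) :
    (ψ x).re ≤ (ψ 1).re ∧ ((ψ x).re = (ψ 1).re → ψ x = ψ 1) := by
  obtain ⟨n, ρ, rfl⟩ := hψ
  have h1 : ρ.character 1 = (Module.finrank ℂ (Fin n → ℂ) : ℂ) := Representation.char_one ρ
  have h2 := norm_char_le ρ x
  rw [h1, Complex.natCast_re]
  have h3 : (ρ.character x).re ≤ ‖ρ.character x‖ := Complex.re_le_norm _
  refine ⟨h3.trans h2, fun h => ?_⟩
  have h4 : ‖ρ.character x‖ ^ 2 = (ρ.character x).re ^ 2 + (ρ.character x).im ^ 2 := by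
    rw [Complex.sq_norm, Complex.normSq_apply]
    ring
  have h5 : ‖ρ.character x‖ ^ 2 ≤ ((Module.finrank ℂ (Fin n → ℂ) : ℕ) : ℝ) ^ 2 :=
    pow_le_pow_left₀ (norm_nonneg _) h2 2
  have h6 : (ρ.character x).im = 0 := by
    rw [h4, h] at h5
    nlinarith [sq_nonneg (ρ.character x).im]
  apply Complex.ext
  · rw [h, Complex.natCast_re]
  · rw [h6, Complex.natCast_im]

/-- in a sum of characters taking the value of the degree at `x`, every summand does -/
theorem list_sum_apply_eq {H : Type*} [Group H] [Finite H] (l : List (H → ℂ)) (hl : ∀ ψ ∈ l, IsCharacter H ψ) (x : H) :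
    (l.sum x).re ≤ (l.sum 1).re ∧ ((l.sum x).re = (l.sum 1).re → ∀ ψ ∈ l, ψ x = ψ 1) := by
  induction l with
  | nil => simp
  | cons a l ih =>
    obtain ⟨h1, h2⟩ := ih (fun ψ hψ => hl ψ (List.mem_cons_of_mem _ hψ))
    obtain ⟨h3, h4⟩ := char_re_le (hl a List.mem_cons_self) x
    rw [List.sum_cons, Pi.add_apply, Pi.add_apply, Complex.add_re, Complex.add_re]
    refine ⟨add_le_add h3 h1, fun h => ?_⟩
    have h5 : (a x).re = (a 1).re := by linarith
    have h6 : (l.sum x).re = (l.sum 1).re := by linarith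
    intro ψ hψ
    rcases List.mem_cons.mp hψ with rfl | hψ
    · exact h4 h5
    · exact h2 h6 ψ hψ

/-- RESK: if `χ x = χ 1` then every irreducible constituent `μ` of `χ_H` has `μ x = μ 1`. -/
theorem constituent_apply_eq (H : Subgroup G) [Fintype H] (χ : G → ℂ) (hχ : IsCharacter G χ)
    (μ : H → ℂ) (hμ : IsIrrCharacter H μ)
    (hcon : classInner (fun x : H => χ x) μ ≠ 0) (x : H) (hx : χ x = χ 1) : μ x = μ 1 := by
  classical
  obtain ⟨l, hl, hsum⟩ := isCharacter_exists_irr_decomp (isCharacter_restrict H hχ)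
  have hmem : μ ∈ l := by
    have h := classInner_irr_list_sum hl hμ
    rw [← hsum] at h
    rw [h] at hcon
    have : l.count μ ≠ 0 := by
      intro h0; apply hcon; rw [h0]; simp
    exact List.count_pos_iff.mp (Nat.pos_of_ne_zero this)
  have hx' : l.sum x = l.sum 1 := by
    rw [← hsum]
    exact hx
  exact (list_sum_apply_eq l (fun ψ hψ => isCharacter_of_irr (hl ψ hψ)) x).2 (by rw [hx']) μ hmem

end Cfsg.Agent.Lib.H22.KPP
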