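import Mathlib
import Cfsg.Agent.Lib.H23.ContribP
import Cfsg.Agent.Lib.H22.KCT1

/-!
# S4575, piece J (helper22): exact signature of `tools/blueprints/S4575_sigs.lean`

`χ₀ ∈ B` of height zero, `S := ∑_k p^d ∑_ψ ‖m^{(y^k,b)}_{χ₀ψ}‖²`:
`φ² ∑_{ψ ∈ B, ψ ≠ χ₀} (p^{h(ψ)})² ≤ S (φ p^d - S)`  (idempotency + Cauchy-Schwarz + T1).
-/

set_option autoImplicit false

namespace Cfsg.Agent.Lib.H22.KX

open Cfsg MonoidAlgebra Cfsg.Agent.Lib.H23 Cfsg.Agent.Lib.H24 Cfsg.Agent.Lib.L0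
  Cfsg.Agent.Lib.H23.Contrib
open scoped ComplexConjugate

variable {G : Type*} [Group G] [Fintype G] {p : ℕ} [Fact p.Prime] {M : Ideal AlgInt}

theorem sum_sq_pow_height_le [Fintype (IrrCharacter G)] (hM : IsPModular p M)
    (H : Subgroup G) [Fintype H] [Fintype (IrrCharacter H)] (ξ₁ : IrrCharacter H)
    [DecidablePred (· ∈ blockOf M (ξ₁ : H → ℂ))] {B : Set (IrrCharacter G)} [DecidablePred (· ∈ B)]
    (hind : IsInducedBlock M H (blockOf M (ξ₁ : H → ℂ)) B)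
    (hdef : blockDefect p (blockOf M (ξ₁ : H → ℂ)) = blockDefect p B) (y : H)
    (hyc : y ∈ Subgroup.center H) (hy : ∃ k : ℕ, orderOf y = p ^ k)
    (hC : ∀ g : G, g * (y : G) * g⁻¹ = (y : G) → g ∈ H) {χ₀ : IrrCharacter G}
    (hχ₀ : χ₀ ∈ B) (h0 : blockHeight p B (χ₀ : G → ℂ) = 0)
    (m : ℕ) [NeZero m] (hm : m = Nat.card G) :
    (Fintype.card (ZMod m)ˣ : ℝ) * ((Fintype.card (ZMod m)ˣ : ℝ) *
        ∑ ψ ∈ Finset.univ.filter (fun ψ : IrrCharacter G => ψ ∈ B ∧ ψ ≠ χ₀),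
          ((p : ℝ) ^ blockHeight p B (ψ : G → ℂ)) ^ 2) ≤
      (∑ k : (ZMod m)ˣ, (p : ℝ) ^ blockDefect p B * ∑ ψ : IrrCharacter G,
        ‖contrib p H (blockOf M (ξ₁ : H → ℂ)) (y ^ (k : ZMod m).val) (χ₀ : G → ℂ) (ψ : G → ℂ)‖ ^ 2) *
      ((Fintype.card (ZMod m)ˣ : ℝ) * (p : ℝ) ^ blockDefect p B -
        ∑ k : (ZMod m)ˣ, (p : ℝ) ^ blockDefect p B * ∑ ψ : IrrCharacter G,
        ‖contrib p H (blockOf M (ξ₁ : H → ℂ)) (y ^ (k : ZMod m).val) (χ₀ : G → ℂ) (ψ : G → ℂ)‖ ^ 2) := by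
  classical
  have hp : p.Prime := Fact.out
  have hpR : (0 : ℝ) < p := by exact_mod_cast hp.pos
  set d := blockDefect p B with hd
  set b := blockOf M (ξ₁ : H → ℂ) with hb
  set P : ℝ := (p : ℝ) ^ d with hP
  have hPpos : 0 < P := pow_pos hpR d
  set φ : ℝ := (Fintype.card (ZMod m)ˣ : ℝ) with hφ
  have hφ0 : 0 ≤ φ := Nat.cast_nonneg _
  -- data for the powers of `y`
  have hord_dvd : orderOf y ∣ m := by
    rw [hm]
    exact (orderOf_dvd_natCard y).trans (Subgroup.card_subgroup_dvd_card H)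
  have hdata : ∀ k : (ZMod m)ˣ,
      y ^ (k : ZMod m).val ∈ Subgroup.center H ∧
      (∃ j : ℕ, orderOf (y ^ (k : ZMod m).val) = p ^ j) ∧
      ∀ g : G, g * ((y ^ (k : ZMod m).val : H) : G) * g⁻¹ = ((y ^ (k : ZMod m).val : H) : G) →
        g ∈ H := by
    intro k
    exact pow_central_data H hyc hy hp hC
      (Nat.Coprime.coprime_dvd_right hord_dvd (ZMod.val_coe_unit_coprime k))
  -- the squared absolute values
  set F : (ZMod m)ˣ → IrrCharacter G → ℝ := fun k ψ =>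
    ‖contrib p H b (y ^ (k : ZMod m).val) (χ₀ : G → ℂ) (ψ : G → ℂ)‖ ^ 2 with hF
  have hF0 : ∀ k ψ, 0 ≤ F k ψ := fun k ψ => by positivity
  set r : (ZMod m)ˣ → ℝ := fun k => ∑ ψ : IrrCharacter G, F k ψ with hr
  have hr0 : ∀ k, 0 ≤ r k := fun k => Finset.sum_nonneg fun ψ _ => hF0 k ψ
  have hcr : ∀ k : (ZMod m)ˣ, contrib p H b (y ^ (k : ZMod m).val) (χ₀ : G → ℂ)
      (χ₀ : G → ℂ) = ((r k : ℝ) : ℂ) := fun k =>
    contrib_self_eq_sum H hM (hdata k).1 (hdata k).2.1 (hdata k).2.2 ξ₁ χ₀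
  have hself : ∀ k, F k χ₀ = (r k) ^ 2 := by
    intro k
    show ‖contrib p H b (y ^ (k : ZMod m).val) (χ₀ : G → ℂ) (χ₀ : G → ℂ)‖ ^ 2 = (r k) ^ 2
    rw [hcr k, Complex.norm_real, Real.norm_eq_abs, sq_abs]
  set E : Finset (IrrCharacter G) := Finset.univ.erase χ₀ with hE
  have hsplit : ∀ k, ∑ ψ ∈ E, F k ψ = r k - (r k) ^ 2 := by
    intro k
    have h1 : F k χ₀ + ∑ ψ ∈ E, F k ψ = r k :=
      Finset.add_sum_erase Finset.univ (F k) (Finset.mem_univ χ₀)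
    rw [hself k] at h1
    linarith
  set W : (ZMod m)ˣ → ℝ := fun k => P * r k with hW
  -- Step A
  have hA : ∀ k, ∑ ψ ∈ E, P ^ 2 * F k ψ = W k * (P - W k) := by
    intro k
    rw [← Finset.mul_sum, hsplit k]
    simp only [hW]
    ring
  -- Step B (T1)
  set T : Finset (IrrCharacter G) :=
    Finset.univ.filter (fun ψ : IrrCharacter G => ψ ∈ B ∧ ψ ≠ χ₀) with hT
  have hnorm : ∀ (k : (ZMod m)ˣ) (ψ : IrrCharacter G),
      ‖(p : ℂ) ^ d * contrib p H b (y ^ (k : ZMod m).val) (χ₀ : G → ℂ) (ψ : G → ℂ)‖ ^ 2 =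
        P ^ 2 * F k ψ := by
    intro k ψ
    rw [norm_mul, mul_pow, norm_pow, Complex.norm_natCast]
  have hB : φ * ∑ ψ ∈ T, ((p : ℝ) ^ blockHeight p B (ψ : G → ℂ)) ^ 2 ≤
      ∑ ψ ∈ T, ∑ k : (ZMod m)ˣ, P ^ 2 * F k ψ := by
    rw [Finset.mul_sum]
    refine Finset.sum_le_sum fun ψ hψ => ?_
    have hψB : ψ ∈ B := (Finset.mem_filter.1 hψ).2.1
    have h1 := Cfsg.Agent.Lib.H22.KC.card_units_mul_sq_pow_le_sum_normSq_contrib hM H ξ₁ hind hdef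
      y hyc hy hχ₀ h0 hψB m hm
    refine h1.trans (le_of_eq ?_)
    exact Finset.sum_congr rfl fun k _ => hnorm k ψ
  -- Step C
  have hTE : T ⊆ E := by
    intro ψ hψ
    rw [hE, Finset.mem_erase]
    exact ⟨(Finset.mem_filter.1 hψ).2.2, Finset.mem_univ _⟩
  have hCc : ∑ ψ ∈ T, ∑ k : (ZMod m)ˣ, P ^ 2 * F k ψ ≤ ∑ k : (ZMod m)ˣ, W k * (P - W k) := by
    have h1 : ∑ ψ ∈ T, ∑ k : (ZMod m)ˣ, P ^ 2 * F k ψ ≤ ∑ ψ ∈ E, ∑ k : (ZMod m)ˣ, P ^ 2 * F k ψ :=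
      Finset.sum_le_sum_of_subset_of_nonneg hTE fun ψ _ _ =>
        Finset.sum_nonneg fun k _ => mul_nonneg (sq_nonneg P) (hF0 k ψ)
    refine h1.trans (le_of_eq ?_)
    rw [Finset.sum_comm]
    exact Finset.sum_congr rfl fun k _ => hA k
  -- Step D (Cauchy-Schwarz)
  have hD : (∑ k : (ZMod m)ˣ, W k) ^ 2 ≤ φ * ∑ k : (ZMod m)ˣ, (W k) ^ 2 := by
    have := sq_sum_le_card_mul_sum_sq (s := (Finset.univ : Finset (ZMod m)ˣ)) (f := W)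
    rwa [Finset.card_univ] at this
  -- conclusion
  have hsumW : ∑ k : (ZMod m)ˣ, W k * (P - W k) =
      P * (∑ k : (ZMod m)ˣ, W k) - ∑ k : (ZMod m)ˣ, (W k) ^ 2 := by
    rw [Finset.mul_sum, ← Finset.sum_sub_distrib]
    refine Finset.sum_congr rfl fun k _ => ?_
    ring
  have hgoal : (∑ k : (ZMod m)ˣ, (p : ℝ) ^ d * ∑ ψ : IrrCharacter G,
      ‖contrib p H b (y ^ (k : ZMod m).val) (χ₀ : G → ℂ) (ψ : G → ℂ)‖ ^ 2) =
      ∑ k : (ZMod m)ˣ, W k := rfl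
  rw [hgoal]
  set S : ℝ := ∑ k : (ZMod m)ˣ, W k with hS
  set Q : ℝ := ∑ k : (ZMod m)ˣ, (W k) ^ 2 with hQ
  set X : ℝ := ∑ ψ ∈ T, ((p : ℝ) ^ blockHeight p B (ψ : G → ℂ)) ^ 2 with hX
  have h1 : φ * X ≤ P * S - Q := by
    rw [← hsumW]
    exact hB.trans hCc
  have h2 : φ * (φ * X) ≤ φ * (P * S - Q) := mul_le_mul_of_nonneg_left h1 hφ0
  nlinarith [h2, hD]

end Cfsg.Agent.Lib.H22.KX
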