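import Mathlib
import Cfsg.Agent.Lib.H23.ContribP
import Cfsg.Agent.Lib.H22.KCT1

/-!
# S4540, piece G (helper22): exact signature of `tools/blueprints/S4540_sigs.lean`
(wrapper of `Cfsg.Agent.Lib.H22.KC.card_units_mul_sq_pow_le_sum_normSq_contrib`)
-/

set_option autoImplicit false

namespace Cfsg.Agent.Lib.H22.KY

open scoped ComplexConjugate

open Cfsg MonoidAlgebra Cfsg.Agent.Lib.H23 Cfsg.Agent.Lib.H24 Cfsg.Agent.Lib.L0
  Cfsg.Agent.Lib.H23.Contrib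

theorem card_units_mul_pow_sq_le_sum_contrib {G : Type*} [Group G] [Fintype G] {p : ℕ} [Fact p.Prime]
    {M : Ideal AlgInt} [Fintype (IrrCharacter G)] (hM : IsPModular p M)
    (H : Subgroup G) [Fintype H] [Fintype (IrrCharacter H)] (ξ₁ : IrrCharacter H)
    [DecidablePred (· ∈ blockOf M (ξ₁ : H → ℂ))] {B : Set (IrrCharacter G)}
    (hind : IsInducedBlock M H (blockOf M (ξ₁ : H → ℂ)) B)
    (hdef : blockDefect p (blockOf M (ξ₁ : H → ℂ)) = blockDefect p B) (y : H)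
    (hyc : y ∈ Subgroup.center H) (hy : ∃ k : ℕ, orderOf y = p ^ k)
    (hC : ∀ g : G, g * (y : G) * g⁻¹ = (y : G) → g ∈ H) {ψ₀ χ : IrrCharacter G}
    (hψ₀ : ψ₀ ∈ B) (h0 : blockHeight p B (ψ₀ : G → ℂ) = 0) (hχ : χ ∈ B)
    (m : ℕ) [NeZero m] (hm : m = Nat.card G) :
    (Fintype.card (ZMod m)ˣ : ℝ) * ((p : ℝ) ^ blockHeight p B (χ : G → ℂ)) ^ 2 ≤
      ∑ k : (ZMod m)ˣ, ‖(p : ℂ) ^ blockDefect p B *
        contrib p H (blockOf M (ξ₁ : H → ℂ)) (y ^ (k : ZMod m).val) (ψ₀ : G → ℂ) (χ : G → ℂ)‖ ^ 2 := by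
  have _ := hC
  exact Cfsg.Agent.Lib.H22.KC.card_units_mul_sq_pow_le_sum_normSq_contrib hM H ξ₁ hind hdef y hyc hy
    hψ₀ h0 hχ m hm

end Cfsg.Agent.Lib.H22.KY
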