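/-
S3702 (helper18's side), piece MONO-A: the data `mOne`, `mSgn`, `mC2` satisfy `MonoOK`.
-/
import Mathlib
import Cfsg.Agent.Lib.H7.T648Defs
import Cfsg.Agent.Lib.H7.T648Model
import Cfsg.Agent.Lib.H18.L648Defs

set_option autoImplicit false

namespace Cfsg.Agent.Lib.H22.L648

open Cfsg Cfsg.Agent.Lib.H7.T648 Cfsg.Agent.Lib.H18 Cfsg.Agent.Lib.H18.L648
open scoped ComplexConjugate

theorem monoOK_one : MonoOK mOne := by
  refine ⟨fun _ => rfl, rfl, fun _ _ _ _ => rfl, rfl, fun _ _ _ _ => rfl, ?_⟩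
  decide

theorem sgm_mul_aux : ∀ p q : Equiv.Perm (Fin 3), (6 * sgm (p * q)) % 12 = (6 * sgm p + 6 * sgm q) % 12 := by
  decide

theorem monoOK_sgn : MonoOK mSgn := by
  refine ⟨fun _ => rfl, rfl, fun _ _ _ _ => rfl, by decide, fun x y _ _ => ?_, by decide⟩
  exact sgm_mul_aux x.p y.p

theorem c2_mul_aux : ∀ p q : Equiv.Perm (Fin 3), Equiv.Perm.sign p = 1 → Equiv.Perm.sign q = 1 →
    (4 * ((p * q) 0).val) % 12 = (4 * (p 0).val + 4 * (q 0).val) % 12 := by
  decide

theorem monoOK_c2 : MonoOK mC2 := by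
  refine ⟨fun _ => rfl, by decide, fun x y hx hy => ?_, by decide, fun x y hx hy => ?_, by decide⟩
  · have hx' : Equiv.Perm.sign x.p = 1 := of_decide_eq_true hx
    have hy' : Equiv.Perm.sign y.p = 1 := of_decide_eq_true hy
    show decide (Equiv.Perm.sign (x * y).p = 1) = true
    rw [M648.mul_p, map_mul, hx', hy', mul_one]
    rfl
  · have hx' : Equiv.Perm.sign x.p = 1 := of_decide_eq_true hx
    have hy' : Equiv.Perm.sign y.p = 1 := of_decide_eq_true hy
    exact c2_mul_aux x.p y.p hx' hy'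

end Cfsg.Agent.Lib.H22.L648
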