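/-
S3702 (helper18's side), piece TABF: from the tables of the `psiZ (monoL d)` to the tables of the `FZ i`.
-/
import Mathlib
import Cfsg.Agent.Lib.H7.T648Defs
import Cfsg.Agent.Lib.H7.T648Model
import Cfsg.Agent.Lib.H18.L648Defs

set_option autoImplicit false

namespace Cfsg.Agent.Lib.H22.L648

open Cfsg Cfsg.Agent.Lib.H7.T648 Cfsg.Agent.Lib.H18 Cfsg.Agent.Lib.H18.L648
open scoped ComplexConjugate

theorem tabF_aux0 : ∀ c : Fin 14, 6 * Ptab 6 c - 6 * Ptab 8 c = Ftab 0 c := by decide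
theorem tabF_aux1 : ∀ c : Fin 14, 8 * Ptab 12 c - 8 * Ptab 13 c = Ftab 1 c := by decide
theorem tabF_aux2 : ∀ c : Fin 14, 6 * Ptab 6 c - 3 * Ptab 4 c - 3 * Ptab 3 c = Ftab 2 c := by decide
theorem tabF_aux3 : ∀ c : Fin 14, 8 * Ptab 12 c - 2 * Ptab 2 c - 3 * Ptab 4 c - 3 * Ptab 3 c = Ftab 3 c := by decide
theorem tabF_aux4 : ∀ c : Fin 14, 6 * Ptab 5 c - Ptab 0 c - 2 * Ptab 2 c - 3 * Ptab 3 c = Ftab 4 c := by decide
theorem tabF_aux5 : ∀ c : Fin 14, 6 * Ptab 7 c - Ptab 1 c - 2 * Ptab 2 c - 3 * Ptab 4 c = Ftab 5 c := by decide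
theorem tabF_aux6 : ∀ c : Fin 14, 8 * Ptab 11 c - Ptab 0 c - Ptab 1 c - 3 * Ptab 4 c - 3 * Ptab 3 c = Ftab 6 c := by
  decide
theorem tabF_aux7 : ∀ c : Fin 14, 12 * Ptab 9 c - 8 * Ptab 12 c - Ptab 0 c - 3 * Ptab 4 c = Ftab 7 c := by decide
theorem tabF_aux8 : ∀ c : Fin 14, 12 * Ptab 10 c - 8 * Ptab 12 c - Ptab 1 c - 3 * Ptab 3 c = Ftab 8 c := by decide

theorem tabF (hP : ∀ (d : Fin 14) (x : M648), psiZ (monoL d) x = Ptab d (cls x)) (i : Fin 9)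
    (x : M648) : FZ i x = Ftab i (cls x) := by
  have h0 : psiZ mOne x = Ptab 0 (cls x) := hP 0 x
  have h1 : psiZ mSgn x = Ptab 1 (cls x) := hP 1 x
  have h2 : psiZ mC2 x = Ptab 2 (cls x) := hP 2 x
  have h3 : psiZ mC3p x = Ptab 3 (cls x) := hP 3 x
  have h4 : psiZ mC3 x = Ptab 4 (cls x) := hP 4 x
  have h5 : psiZ (mP 0) x = Ptab 5 (cls x) := hP 5 x
  have h6 : psiZ (mP 1) x = Ptab 6 (cls x) := hP 6 x
  have h7 : psiZ (mP 2) x = Ptab 7 (cls x) := hP 7 x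
  have h8 : psiZ (mP 3) x = Ptab 8 (cls x) := hP 8 x
  have h9 : psiZ (mF 0) x = Ptab 9 (cls x) := hP 9 x
  have h10 : psiZ (mF 1) x = Ptab 10 (cls x) := hP 10 x
  have h11 : psiZ (mT 0) x = Ptab 11 (cls x) := hP 11 x
  have h12 : psiZ (mT 1) x = Ptab 12 (cls x) := hP 12 x
  have h13 : psiZ (mT 2) x = Ptab 13 (cls x) := hP 13 x
  fin_cases i
  · show 6 * psiZ (mP 1) x - 6 * psiZ (mP 3) x = _
    rw [h6, h8]; exact tabF_aux0 _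
  · show 8 * psiZ (mT 1) x - 8 * psiZ (mT 2) x = _
    rw [h12, h13]; exact tabF_aux1 _
  · show 6 * psiZ (mP 1) x - 3 * psiZ mC3 x - 3 * psiZ mC3p x = _
    rw [h6, h4, h3]; exact tabF_aux2 _
  · show 8 * psiZ (mT 1) x - 2 * psiZ mC2 x - 3 * psiZ mC3 x - 3 * psiZ mC3p x = _
    rw [h12, h2, h4, h3]; exact tabF_aux3 _
  · show 6 * psiZ (mP 0) x - psiZ mOne x - 2 * psiZ mC2 x - 3 * psiZ mC3p x = _
    rw [h5, h0, h2, h3]; exact tabF_aux4 _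
  · show 6 * psiZ (mP 2) x - psiZ mSgn x - 2 * psiZ mC2 x - 3 * psiZ mC3 x = _
    rw [h7, h1, h2, h4]; exact tabF_aux5 _
  · show 8 * psiZ (mT 0) x - psiZ mOne x - psiZ mSgn x - 3 * psiZ mC3 x - 3 * psiZ mC3p x = _
    rw [h11, h0, h1, h4, h3]; exact tabF_aux6 _
  · show 12 * psiZ (mF 0) x - 8 * psiZ (mT 1) x - psiZ mOne x - 3 * psiZ mC3 x = _
    rw [h9, h12, h0, h4]; exact tabF_aux7 _
  · show 12 * psiZ (mF 1) x - 8 * psiZ (mT 1) x - psiZ mSgn x - 3 * psiZ mC3p x = _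
    rw [h10, h12, h1, h3]; exact tabF_aux8 _

end Cfsg.Agent.Lib.H22.L648
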