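import Mathlib
import Cfsg.Prelude.Def_Amalgam
import Cfsg.Prelude.Def_Transfer
import Cfsg.Agent.Lib.H15.PCoreOf
import Cfsg.Agent.Lib.H27.Extraspecial

/-!
helper22 library: large extraspecial 2-subgroups `Q_x = O_2(C_G(x))`, elementwise toolkit.
-/

set_option autoImplicit false

namespace Cfsg.Agent.Lib.H22.LargeExtra

open Cfsg.Agent.Lib.H15
open scoped commutatorElement

variable {G : Type*} [Group G]

/-- `Q_x = O_2(C_G(x))` inside `G`. -/
abbrev QQ (x : G) : Subgroup G := Cfsg.pCoreOf 2 (Subgroup.centralizer ({x} : Set G))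

theorem centralizer_conj (g x : G) :
    Subgroup.centralizer ({g * x * g⁻¹} : Set G) = cj g (Subgroup.centralizer ({x} : Set G)) := by
  ext y
  rw [mem_cj_iff, Subgroup.mem_centralizer_singleton_iff, Subgroup.mem_centralizer_singleton_iff]
  constructor
  · intro h
    have := congrArg (fun t => g⁻¹ * t * g) h
    simpa [mul_assoc] using this
  · intro h
    have := congrArg (fun t => g * t * g⁻¹) h
    simpa [mul_assoc] using this

theorem pcoreOf_cj (p : ℕ) [Fact p.Prime] (g : G) (H : Subgroup G) :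
    Cfsg.pCoreOf p (cj g H) = cj g (Cfsg.pCoreOf p H) := by
  have key : ∀ (K : Subgroup G) (a : G), cj a (Cfsg.pCoreOf p K) ≤ Cfsg.pCoreOf p (cj a K) := by
    intro K a
    apply le_pcoreOf (cj_mono a (pcoreOf_le p K))
    · intro h hh
      rw [mem_normalizer_iff_cj_eq]
      have hh' : a⁻¹ * h * a ∈ K := mem_cj_iff.mp hh
      have h1 := pcoreOf_normalized p K hh'
      rw [mem_normalizer_iff_cj_eq] at h1
      have : cj h (cj a (Cfsg.pCoreOf p K)) = cj a (cj (a⁻¹ * h * a) (Cfsg.pCoreOf p K)) := by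
        rw [cj_cj, cj_cj]; congr 1; group
      rw [this, h1]
    · exact (pcoreOf_isPGroup p K).map _
  apply le_antisymm
  · have h := key (cj g H) g⁻¹
    rw [cj_inv_cj] at h
    have h2 := (cj_le_iff g⁻¹).mp h
    rwa [inv_inv] at h2
  · exact key H g

theorem QQ_conj (g x : G) : QQ (g * x * g⁻¹) = cj g (QQ x) := by
  unfold QQ
  rw [centralizer_conj, pcoreOf_cj]

theorem QQ_le_centralizer (x : G) : QQ x ≤ Subgroup.centralizer ({x} : Set G) := pcoreOf_le 2 _

theorem comm_of_mem_QQ {x a : G} (ha : a ∈ QQ x) : a * x = x * a := by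
  have := QQ_le_centralizer x ha
  rw [Subgroup.mem_centralizer_singleton_iff] at this
  exact this

/-- conjugation by an element of `C_G(x)` preserves `Q_x`. -/
theorem conj_mem_QQ {x c a : G} (hc : c * x = x * c) (ha : a ∈ QQ x) : c * a * c⁻¹ ∈ QQ x := by
  have hc' : c ∈ Subgroup.centralizer ({x} : Set G) := by
    rw [Subgroup.mem_centralizer_singleton_iff]; exact hc
  have := pcoreOf_normalized 2 (Subgroup.centralizer ({x} : Set G)) hc'
  rw [Subgroup.mem_normalizer_iff] at this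
  exact (this a).mp ha

/-- The elementwise data of a large extraspecial `Q_z`. -/
structure Large (z : G) : Prop where
  ne_one : z ≠ 1
  sq_one : z * z = 1
  mem : z ∈ QQ z
  comm : ∀ a ∈ QQ z, ∀ b ∈ QQ z, a * b * a⁻¹ * b⁻¹ = 1 ∨ a * b * a⁻¹ * b⁻¹ = z
  sq : ∀ a ∈ QQ z, a * a = 1 ∨ a * a = z
  center : ∀ c ∈ QQ z, (∀ a ∈ QQ z, a * c = c * a) → c = 1 ∨ c = z
  cent : ∀ c : G, (∀ a ∈ QQ z, a * c = c * a) → c ∈ QQ z

theorem Large.conj {z : G} (h : Large z) (g : G) : Large (g * z * g⁻¹) := by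
  have hQ : QQ (g * z * g⁻¹) = cj g (QQ z) := QQ_conj g z
  have hmem : ∀ a, a ∈ QQ (g * z * g⁻¹) ↔ g⁻¹ * a * g ∈ QQ z := by
    intro a; rw [hQ, mem_cj_iff]
  have e1 : ∀ y : G, g * y * g⁻¹ = 1 ↔ y = 1 := by
    intro y
    constructor
    · intro hy
      have := congrArg (fun t => g⁻¹ * t * g) hy
      simpa [mul_assoc] using this
    · rintro rfl; simp
  have e2 : ∀ y w : G, g⁻¹ * y * g = w ↔ y = g * w * g⁻¹ := by
    intro y w
    constructor
    · intro hy; rw [← hy]; group
    · intro hy; rw [hy]; group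
  refine ⟨?_, ?_, ?_, ?_, ?_, ?_, ?_⟩
  · intro hz; exact h.ne_one ((e1 z).mp hz)
  · have : g * z * g⁻¹ * (g * z * g⁻¹) = g * (z * z) * g⁻¹ := by group
    rw [this, h.sq_one]; simp
  · rw [hmem]
    have : g⁻¹ * (g * z * g⁻¹) * g = z := by group
    rw [this]; exact h.mem
  · intro a ha b hb
    rw [hmem] at ha hb
    have := h.comm _ ha _ hb
    have e : g⁻¹ * a * g * (g⁻¹ * b * g) * (g⁻¹ * a * g)⁻¹ * (g⁻¹ * b * g)⁻¹
        = g⁻¹ * (a * b * a⁻¹ * b⁻¹) * g := by group
    rw [e] at this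
    rcases this with h1 | h1
    · left
      rw [e2] at h1
      rw [h1]; group
    · right
      rw [e2] at h1
      exact h1
  · intro a ha
    rw [hmem] at ha
    have := h.sq _ ha
    have e : g⁻¹ * a * g * (g⁻¹ * a * g) = g⁻¹ * (a * a) * g := by group
    rw [e] at this
    rcases this with h1 | h1
    · left
      rw [e2] at h1
      rw [h1]; group
    · right
      rw [e2] at h1
      exact h1
  · intro c hc hcomm
    rw [hmem] at hc
    have hc2 : ∀ a ∈ QQ z, a * (g⁻¹ * c * g) = (g⁻¹ * c * g) * a := by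
      intro a ha
      have ha' : g * a * g⁻¹ ∈ QQ (g * z * g⁻¹) := by
        rw [hmem]
        have : g⁻¹ * (g * a * g⁻¹) * g = a := by group
        rw [this]; exact ha
      have := hcomm _ ha'
      have e := congrArg (fun t => g⁻¹ * t * g) this
      simpa [mul_assoc] using e
    rcases h.center _ hc hc2 with h1 | h1
    · left
      rw [e2] at h1
      rw [h1]; group
    · right
      rw [e2] at h1
      exact h1
  · intro c hcomm
    rw [hmem]
    apply h.cent
    intro a ha
    have ha' : g * a * g⁻¹ ∈ QQ (g * z * g⁻¹) := by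
      rw [hmem]
      have : g⁻¹ * (g * a * g⁻¹) * g = a := by group
      rw [this]; exact ha
    have := hcomm _ ha'
    have e := congrArg (fun t => g⁻¹ * t * g) this
    simpa [mul_assoc] using e

/-- The hypotheses of the statements give `Large z`. -/
theorem large_of_hyp [Finite G] (z : G) (hz : orderOf z = 2)
    (hE : Cfsg.IsExtraspecial 2 ↥(QQ z))
    (hC : Subgroup.centralizer ((QQ z : Subgroup G) : Set G) ≤ QQ z) : Large z := by
  obtain ⟨_, hZle, hZcard, hZeq, hcomm, hpow⟩ := Cfsg.Agent.Lib.H27.extraspecial_data 2 (QQ z) hE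
  set Z : Subgroup G := (Subgroup.center ↥(QQ z)).map (QQ z).subtype with hZ
  have hz1 : z ≠ 1 := by
    intro h; rw [h, orderOf_one] at hz; omega
  have hzz : z * z = 1 := by
    have := pow_orderOf_eq_one z
    rw [hz, pow_two] at this; exact this
  have hzC : z ∈ Subgroup.centralizer ((QQ z : Subgroup G) : Set G) := by
    rw [Subgroup.mem_centralizer_iff]
    intro a ha
    exact comm_of_mem_QQ ha
  have hzQ : z ∈ QQ z := hC hzC
  have hzZ : z ∈ Z := by
    rw [← hZeq]; exact ⟨hzQ, hzC⟩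
  have hZ2 : ∀ c ∈ Z, c = 1 ∨ c = z := by
    intro c hc
    by_contra hne
    rw [not_or] at hne
    have h3 := (Nat.card_eq_two_iff' (⟨z, hzZ⟩ : Z)).mp hZcard
    obtain ⟨y, _, hy2⟩ := h3
    have e1 : (1 : Z) = y := hy2 1 (by
      intro h; apply hz1; exact (congrArg Subtype.val h).symm)
    have e2 : (⟨c, hc⟩ : Z) = y := hy2 ⟨c, hc⟩ (by
      intro h; apply hne.2; exact congrArg Subtype.val h)
    apply hne.1
    have := e2.trans e1.symm
    exact congrArg Subtype.val this
  refine ⟨hz1, hzz, hzQ, ?_, ?_, ?_, ?_⟩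
  · intro a ha b hb
    apply hZ2
    rw [← hcomm]
    have := Subgroup.commutator_mem_commutator ha hb
    rwa [commutatorElement_def] at this
  · intro a ha
    apply hZ2
    have := hpow a ha
    rwa [pow_two] at this
  · intro c hc hcc
    apply hZ2
    rw [← hZeq]
    refine Subgroup.mem_inf.mpr ⟨hc, ?_⟩
    rw [Subgroup.mem_centralizer_iff]
    intro a ha
    exact hcc a ha
  · intro c hcc
    apply hC
    rw [Subgroup.mem_centralizer_iff]
    intro a ha
    exact hcc a ha

/-- `z` is central in `Q_z`. -/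
theorem Large.comm_z {z : G} (_h : Large z) {a : G} (ha : a ∈ QQ z) : a * z = z * a :=
  comm_of_mem_QQ ha

/-- noncommuting elements of `Q_z`: conjugation multiplies by `z`. -/
theorem Large.conj_eq {z : G} (h : Large z) {a b : G} (ha : a ∈ QQ z) (hb : b ∈ QQ z)
    (hab : a * b ≠ b * a) : a * b * a⁻¹ = z * b := by
  rcases h.comm a ha b hb with h1 | h1
  · exfalso; apply hab
    have : a * b = (a * b * a⁻¹ * b⁻¹) * (b * a) := by group
    rw [this, h1, one_mul]
  · have : a * b * a⁻¹ = (a * b * a⁻¹ * b⁻¹) * b := by group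
    rw [this, h1]

/-- a noncentral element `v` of `Q_u` is conjugate in `Q_u` to `u v`. -/
theorem Large.exists_conj_mul {u : G} (h : Large u) {v : G} (hv : v ∈ QQ u) (hv1 : v ≠ 1)
    (hvu : v ≠ u) : ∃ q ∈ QQ u, q * v * q⁻¹ = u * v := by
  by_contra hcon
  have hall : ∀ a ∈ QQ u, a * v = v * a := by
    intro a ha
    by_contra hne
    exact hcon ⟨a, ha, h.conj_eq ha hv hne⟩
  rcases h.center v hv hall with h1 | h1
  · exact hv1 h1
  · exact hvu h1

/-- Key lemma for the joint cores: `Q_u ∩ Q_v ≤ Q_{uv}` for orthogonal singular `u, v`. -/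
theorem Large.inf_le_mul {u : G} (h : Large u) {v : G} (hv : v ∈ QQ u) (hv1 : v ≠ 1)
    (hvu : v ≠ u) (huv : u ∈ QQ (u * v)) : QQ u ⊓ QQ v ≤ QQ (u * v) := by
  obtain ⟨q, hq, hqv⟩ := h.exists_conj_mul hv hv1 hvu
  have hQ : QQ (u * v) = cj q (QQ v) := by rw [← hqv, QQ_conj]
  intro d hd
  obtain ⟨hdu, hdv⟩ := Subgroup.mem_inf.mp hd
  have h1 : q * d * q⁻¹ ∈ QQ (u * v) := by rw [hQ]; exact conj_mem_cj hdv
  have h2 : q * d * q⁻¹ * d⁻¹ ∈ QQ (u * v) := by
    rcases h.comm q hq d hdu with h3 | h3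
    · rw [h3]; exact Subgroup.one_mem _
    · rw [h3]; exact huv
  have : d = (q * d * q⁻¹ * d⁻¹)⁻¹ * (q * d * q⁻¹) := by group
  rw [this]
  exact Subgroup.mul_mem _ (Subgroup.inv_mem _ h2) h1

end Cfsg.Agent.Lib.H22.LargeExtra
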