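import Cfsg.Agent.Lib.H22.LargeExtra

/-!
helper22 library: double-centralizer lemma for abelian subgroups of groups with commutators in
`{1,u}` (`u` a central involution), by induction on the order.
-/

set_option autoImplicit false

namespace Cfsg.Agent.Lib.H22.LargeExtra

variable {G : Type*} [Group G]

/-- `E` has all commutators in `{1,u}`, `u` an involution (or 1) centralized by `E`. -/
structure C2 (E : Subgroup G) (u : G) : Prop where
  sq_one : u * u = 1
  cent : ∀ a ∈ E, a * u = u * a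
  comm : ∀ a ∈ E, ∀ b ∈ E, a * b * a⁻¹ * b⁻¹ = 1 ∨ a * b * a⁻¹ * b⁻¹ = u

theorem C2.mono {E E' : Subgroup G} {u : G} (h : C2 E u) (hle : E' ≤ E) : C2 E' u :=
  ⟨h.sq_one, fun a ha => h.cent a (hle ha), fun a ha b hb => h.comm a (hle ha) b (hle hb)⟩

theorem Large.c2 {z : G} (h : Large z) : C2 (QQ z) z :=
  ⟨h.sq_one, fun _ ha => comm_of_mem_QQ ha, h.comm⟩

theorem C2.conj_eq {E : Subgroup G} {u : G} (h : C2 E u) {a b : G} (ha : a ∈ E) (hb : b ∈ E)
    (hab : a * b ≠ b * a) : a * b * a⁻¹ = u * b := by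
  rcases h.comm a ha b hb with h1 | h1
  · exfalso; apply hab
    have : a * b = (a * b * a⁻¹ * b⁻¹) * (b * a) := by group
    rw [this, h1, one_mul]
  · have : a * b * a⁻¹ = (a * b * a⁻¹ * b⁻¹) * b := by group
    rw [this, h1]

theorem conj_eq_self_iff {a t : G} : a * t * a⁻¹ = t ↔ a * t = t * a := mul_inv_eq_iff_eq_mul

theorem C2.inv_eq {E : Subgroup G} {u : G} (h : C2 E u) : u⁻¹ = u :=
  inv_eq_of_mul_eq_one_right h.sq_one

/-- If `c ∈ C_E(t)` centralizes `C_E(t)` then `c` or `c t⁻¹` is central in `E`. -/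
theorem C2.center_centralizer {E : Subgroup G} {u : G} (h : C2 E u) {t c : G} (ht : t ∈ E)
    (hc : c ∈ E) (hcc : ∀ e ∈ E, e * t = t * e → e * c = c * e) :
    (∀ e ∈ E, e * c = c * e) ∨ (∀ e ∈ E, e * (c * t⁻¹) = (c * t⁻¹) * e) := by
  by_cases hcen : ∀ e ∈ E, e * c = c * e
  · left; exact hcen
  right
  have : ∃ e0 ∈ E, e0 * c ≠ c * e0 := by
    by_contra hcon
    apply hcen
    intro e he
    by_contra hne
    exact hcon ⟨e, he, hne⟩
  obtain ⟨e0, he0, hne0⟩ := this
  have he0t : e0 * t ≠ t * e0 := fun hh => hne0 (hcc e0 he0 hh)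
  have h_e0t : e0 * t * e0⁻¹ = u * t := h.conj_eq he0 ht he0t
  have h_e0c : e0 * c * e0⁻¹ = u * c := h.conj_eq he0 hc hne0
  intro e he
  by_cases het : e * t = t * e
  · have hec : e * c = c * e := hcc e he het
    have het' : e * t⁻¹ = t⁻¹ * e := by
      have : Commute e t := het
      exact this.inv_right
    calc e * (c * t⁻¹) = (e * c) * t⁻¹ := by group
      _ = c * (e * t⁻¹) := by rw [hec]; group
      _ = c * t⁻¹ * e := by rw [het']; group
  · have h_et : e * t * e⁻¹ = u * t := h.conj_eq he ht het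
    have h_eu : e * u * e⁻¹ = u := conj_eq_self_iff.mpr (h.cent e he)
    have s1 : (e * e0) * t * (e * e0)⁻¹ = t := by
      calc (e * e0) * t * (e * e0)⁻¹ = e * (e0 * t * e0⁻¹) * e⁻¹ := by group
        _ = e * (u * t) * e⁻¹ := by rw [h_e0t]
        _ = (e * u * e⁻¹) * (e * t * e⁻¹) := by group
        _ = u * (u * t) := by rw [h_eu, h_et]
        _ = t := by rw [← mul_assoc, h.sq_one, one_mul]
    have s2 : (e * e0) * c = c * (e * e0) :=
      hcc (e * e0) (E.mul_mem he he0) (conj_eq_self_iff.mp s1)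
    have s3 : u * (e * c * e⁻¹) = c := by
      calc u * (e * c * e⁻¹) = (e * u * e⁻¹) * (e * c * e⁻¹) := by rw [h_eu]
        _ = e * (u * c) * e⁻¹ := by group
        _ = e * (e0 * c * e0⁻¹) * e⁻¹ := by rw [h_e0c]
        _ = (e * e0) * c * (e * e0)⁻¹ := by group
        _ = c := conj_eq_self_iff.mpr s2
    have s4 : e * c * e⁻¹ = u * c := by
      have : e * c * e⁻¹ = u⁻¹ * (u * (e * c * e⁻¹)) := by group
      rw [this, s3, h.inv_eq]
    have huc : Commute u c := (h.cent c hc).symm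
    have hut : Commute u t := (h.cent t ht).symm
    have huct : Commute u (c * t⁻¹) := huc.mul_right hut.inv_right
    have s5 : e * (c * t⁻¹) * e⁻¹ = c * t⁻¹ := by
      calc e * (c * t⁻¹) * e⁻¹ = (e * c * e⁻¹) * (e * t * e⁻¹)⁻¹ := by group
        _ = (u * c) * (u * t)⁻¹ := by rw [s4, h_et]
        _ = u * (c * t⁻¹) * u⁻¹ := by group
        _ = c * t⁻¹ := huct.mul_inv_cancel
    exact conj_eq_self_iff.mp s5

/-- Double centralizer lemma: `U` abelian containing the centre of `E`, `x ∈ E ∖ U`: some element of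
`C_E(U)` does not commute with `x`. -/
theorem C2.exists_centralizing [Finite G] {u : G} :
    ∀ (n : ℕ) (E : Subgroup G), Nat.card E ≤ n → C2 E u →
    ∀ (U : Subgroup G), U ≤ E → (∀ a ∈ U, ∀ b ∈ U, a * b = b * a) →
    (∀ c ∈ E, (∀ a ∈ E, a * c = c * a) → c ∈ U) →
    ∀ x ∈ E, x ∉ U → ∃ g ∈ E, (∀ a ∈ U, g * a = a * g) ∧ g * x ≠ x * g := by
  intro n
  induction n with
  | zero =>
    intro E hE
    exfalso
    have := Nat.card_pos (α := E)
    omega
  | succ n ih =>
    intro E hcard hE U hUE hUab hcen x hxE hxU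
    by_cases h1 : ∃ t ∈ U, t * x ≠ x * t
    · obtain ⟨t, ht, htx⟩ := h1
      exact ⟨t, hUE ht, fun a ha => hUab t ht a ha, htx⟩
    have h1' : ∀ t ∈ U, t * x = x * t := by
      intro t ht; by_contra h; exact h1 ⟨t, ht, h⟩
    by_cases h2 : ∀ t ∈ U, ∀ a ∈ E, a * t = t * a
    · have hnc : ¬ (∀ a ∈ E, a * x = x * a) := fun h => hxU (hcen x hxE h)
      by_contra hcon
      apply hnc
      intro a ha
      by_contra hne
      exact hcon ⟨a, ha, fun t ht => h2 t ht a ha, hne⟩
    · have hex : ∃ t ∈ U, ∃ a0 ∈ E, a0 * t ≠ t * a0 := by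
        by_contra hcon
        apply h2
        intro t ht a ha
        by_contra hne
        exact hcon ⟨t, ht, a, ha, hne⟩
      obtain ⟨t, ht, a0, ha0, hne⟩ := hex
      have htE : t ∈ E := hUE ht
      have hmemE1 : ∀ e, e ∈ E ⊓ Subgroup.centralizer ({t} : Set G) ↔ e ∈ E ∧ e * t = t * e := by
        intro e; rw [Subgroup.mem_inf, Subgroup.mem_centralizer_singleton_iff]
      have hE1le : E ⊓ Subgroup.centralizer ({t} : Set G) ≤ E := inf_le_left
      have hlt : Nat.card ↥(E ⊓ Subgroup.centralizer ({t} : Set G)) < Nat.card E := by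
        rcases lt_or_eq_of_le (Subgroup.card_le_of_le hE1le) with h | h
        · exact h
        · exfalso
          have := Subgroup.eq_of_le_of_card_ge hE1le h.ge
          have ha0' : a0 ∈ E ⊓ Subgroup.centralizer ({t} : Set G) := by rw [this]; exact ha0
          exact hne ((hmemE1 a0).mp ha0').2
      have hcard1 : Nat.card ↥(E ⊓ Subgroup.centralizer ({t} : Set G)) ≤ n := by omega
      have hU1 : U ≤ E ⊓ Subgroup.centralizer ({t} : Set G) := by
        intro a ha
        exact (hmemE1 a).mpr ⟨hUE ha, hUab a ha t ht⟩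
      have hcen1 : ∀ c ∈ E ⊓ Subgroup.centralizer ({t} : Set G),
          (∀ a ∈ E ⊓ Subgroup.centralizer ({t} : Set G), a * c = c * a) → c ∈ U := by
        intro c hc hcc
        have hcE : c ∈ E := ((hmemE1 c).mp hc).1
        have hcc' : ∀ e ∈ E, e * t = t * e → e * c = c * e :=
          fun e he het => hcc e ((hmemE1 e).mpr ⟨he, het⟩)
        rcases hE.center_centralizer htE hcE hcc' with h3 | h3
        · exact hcen c hcE h3
        · have h4 : c * t⁻¹ ∈ U := hcen _ (E.mul_mem hcE (E.inv_mem htE)) h3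
          have : c = (c * t⁻¹) * t := by group
          rw [this]
          exact U.mul_mem h4 ht
      have hx1 : x ∈ E ⊓ Subgroup.centralizer ({t} : Set G) :=
        (hmemE1 x).mpr ⟨hxE, (h1' t ht).symm⟩
      obtain ⟨g, hg, hgU, hgx⟩ := ih _ hcard1 (hE.mono hE1le) U hU1 hUab hcen1 x hx1 hxU
      exact ⟨g, hE1le hg, hgU, hgx⟩

end Cfsg.Agent.Lib.H22.LargeExtra
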