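import Cfsg.Agent.Lib.H22.LargeExtra2

/-!
helper22 library: abstract large-extraspecial-like pairs `(Q, z)` (structure `LX`), conjugation,
and the symmetry of orthogonality `LX.symm_core` in this generality
(Aschbacher, Sporadic Groups, Lemma 8.7.1).
-/

set_option autoImplicit false

namespace Cfsg.Agent.Lib.H22.LargeExtra

open Cfsg.Agent.Lib.H15

variable {G : Type*} [Group G]

/-- `Q` is "large-extraspecial-like" with central involution `z`: elementwise data. -/
structure LX (Q : Subgroup G) (z : G) : Prop where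
  ne_one : z ≠ 1
  sq_one : z * z = 1
  mem : z ∈ Q
  cz : ∀ a ∈ Q, a * z = z * a
  comm : ∀ a ∈ Q, ∀ b ∈ Q, a * b * a⁻¹ * b⁻¹ = 1 ∨ a * b * a⁻¹ * b⁻¹ = z
  sq : ∀ a ∈ Q, a * a = 1 ∨ a * a = z
  center : ∀ c ∈ Q, (∀ a ∈ Q, a * c = c * a) → c = 1 ∨ c = z
  cent : ∀ c : G, (∀ a ∈ Q, a * c = c * a) → c ∈ Q
  normal : ∀ c : G, c * z = z * c → ∀ a ∈ Q, c * a * c⁻¹ ∈ Q

theorem Large.lx {z : G} (h : Large z) : LX (QQ z) z :=
  ⟨h.ne_one, h.sq_one, h.mem, fun _ ha => comm_of_mem_QQ ha, h.comm, h.sq, h.center, h.cent,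
    fun _ hc _ ha => conj_mem_QQ hc ha⟩

theorem LX.c2 {Q : Subgroup G} {z : G} (h : LX Q z) : C2 Q z :=
  ⟨h.sq_one, h.cz, h.comm⟩

theorem LX.conj_eq {Q : Subgroup G} {z : G} (h : LX Q z) {a b : G} (ha : a ∈ Q) (hb : b ∈ Q)
    (hab : a * b ≠ b * a) : a * b * a⁻¹ = z * b := h.c2.conj_eq ha hb hab

theorem LX.exists_conj_mul {Q : Subgroup G} {u : G} (h : LX Q u) {v : G} (hv : v ∈ Q)
    (hv1 : v ≠ 1) (hvu : v ≠ u) : ∃ q ∈ Q, q * v * q⁻¹ = u * v := by
  by_contra hcon
  have hall : ∀ a ∈ Q, a * v = v * a := by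
    intro a ha
    by_contra hne
    exact hcon ⟨a, ha, h.conj_eq ha hv hne⟩
  rcases h.center v hv hall with h1 | h1
  · exact hv1 h1
  · exact hvu h1

theorem LX.conj {Q : Subgroup G} {z : G} (h : LX Q z) (g : G) : LX (cj g Q) (g * z * g⁻¹) := by
  have hmem : ∀ a, a ∈ cj g Q ↔ g⁻¹ * a * g ∈ Q := fun a => mem_cj_iff
  have e1 : ∀ y : G, g * y * g⁻¹ = 1 ↔ y = 1 := by
    intro y
    constructor
    · intro hy
      have := congrArg (fun t => g⁻¹ * t * g) hy
      simpa [mul_assoc] using this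
    · rintro rfl; simp
  have e2 : ∀ y w : G, g⁻¹ * y * g = w ↔ y = g * w * g⁻¹ := by
    intro y w
    constructor
    · intro hy; rw [← hy]; group
    · intro hy; rw [hy]; group
  have hback : ∀ a ∈ Q, g * a * g⁻¹ ∈ cj g Q := fun a ha => conj_mem_cj ha
  refine ⟨?_, ?_, ?_, ?_, ?_, ?_, ?_, ?_, ?_⟩
  · intro hz; exact h.ne_one ((e1 z).mp hz)
  · have : g * z * g⁻¹ * (g * z * g⁻¹) = g * (z * z) * g⁻¹ := by group
    rw [this, h.sq_one]; simp
  · exact hback z h.mem
  · intro a ha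
    rw [hmem] at ha
    have := h.cz _ ha
    have e := congrArg (fun t => g * t * g⁻¹) this
    simpa [mul_assoc] using e
  · intro a ha b hb
    rw [hmem] at ha hb
    have := h.comm _ ha _ hb
    have e : g⁻¹ * a * g * (g⁻¹ * b * g) * (g⁻¹ * a * g)⁻¹ * (g⁻¹ * b * g)⁻¹
        = g⁻¹ * (a * b * a⁻¹ * b⁻¹) * g := by group
    rw [e] at this
    rcases this with h1 | h1
    · left
      rw [e2] at h1
      rw [h1]; group
    · right
      rw [e2] at h1
      exact h1
  · intro a ha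
    rw [hmem] at ha
    have := h.sq _ ha
    have e : g⁻¹ * a * g * (g⁻¹ * a * g) = g⁻¹ * (a * a) * g := by group
    rw [e] at this
    rcases this with h1 | h1
    · left
      rw [e2] at h1
      rw [h1]; group
    · right
      rw [e2] at h1
      exact h1
  · intro c hc hcomm
    rw [hmem] at hc
    have hc2 : ∀ a ∈ Q, a * (g⁻¹ * c * g) = (g⁻¹ * c * g) * a := by
      intro a ha
      have := hcomm _ (hback a ha)
      have e := congrArg (fun t => g⁻¹ * t * g) this
      simpa [mul_assoc] using e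
    rcases h.center _ hc hc2 with h1 | h1
    · left
      rw [e2] at h1
      rw [h1]; group
    · right
      rw [e2] at h1
      exact h1
  · intro c hcomm
    rw [hmem]
    apply h.cent
    intro a ha
    have := hcomm _ (hback a ha)
    have e := congrArg (fun t => g⁻¹ * t * g) this
    simpa [mul_assoc] using e
  · intro c hc a ha
    rw [hmem] at ha ⊢
    have hc' : (g⁻¹ * c * g) * z = z * (g⁻¹ * c * g) := by
      have e := congrArg (fun t => g⁻¹ * t * g) hc
      simpa [mul_assoc] using e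
    have := h.normal _ hc' _ ha
    have e : g⁻¹ * c * g * (g⁻¹ * a * g) * (g⁻¹ * c * g)⁻¹ = g⁻¹ * (c * a * c⁻¹) * g := by group
    rwa [e] at this

/-- the subgroup `{1, x}` for an involution `x`. -/
def pairSub (x : G) (hx : x * x = 1) : Subgroup G where
  carrier := {y | y = 1 ∨ y = x}
  one_mem' := Or.inl rfl
  mul_mem' := by
    rintro a b (rfl | rfl) (rfl | rfl)
    · left; simp
    · right; simp
    · right; simp
    · left; exact hx
  inv_mem' := by
    rintro a (rfl | rfl)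
    · left; simp
    · right; exact inv_eq_of_mul_eq_one_right hx

theorem mem_pairSub {x : G} (hx : x * x = 1) {y : G} :
    y ∈ pairSub x hx ↔ (y = 1 ∨ y = x) := Iff.rfl

set_option maxHeartbeats 1600000 in
/-- Abstract symmetry of orthogonality: `Q`, `Qx` large-extraspecial-like for `z`, `x`, with `x ∈ Q`
and every `k` carrying `z` to `x` carrying `Q` into `Qx`. Then `z ∈ Qx`. -/
theorem LX.symm_core {G : Type*} [Group G] [Finite G] {Q Qx : Subgroup G} {z x : G}
    (hL : LX Q z) (hLx : LX Qx x) (hx0 : x ∈ Q)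
    (hconj : ∀ k : G, k * z * k⁻¹ = x → ∀ a ∈ Q, k * a * k⁻¹ ∈ Qx) : z ∈ Qx := by
  have hx : x ∈ Q := hx0
  by_cases hxz : x = z
  · rw [← hxz]; exact hLx.mem
  have hx1 : x ≠ 1 := hLx.ne_one
  by_contra hzx
  have hzz := hL.sq_one
  have hxx := hLx.sq_one
  have hzinv : z⁻¹ = z := inv_eq_of_mul_eq_one_right hzz
  have hxinv : x⁻¹ = x := inv_eq_of_mul_eq_one_right hxx
  have hxz_comm : x * z = z * x := hL.cz _ hx
  have hxQx : x ∈ Qx := hLx.mem
  -- F3
  have hD : ∀ d ∈ Q, d ∈ Qx → d = 1 ∨ d = x := by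
    intro d hdz hdx
    have hcc : ∀ e ∈ Q, e * x = x * e → e * d = d * e := by
      intro e he hex
      rcases hL.comm e he d hdz with h1 | h1
      · have : e * d = (e * d * e⁻¹ * d⁻¹) * (d * e) := by group
        rw [this, h1, one_mul]
      · exfalso; apply hzx
        rw [← h1]
        have h2 : e * d * e⁻¹ ∈ Qx := hLx.normal _ hex _ hdx
        exact Subgroup.mul_mem _ h2 (Subgroup.inv_mem _ hdx)
    rcases hL.c2.center_centralizer hx hdz hcc with h3 | h3
    · rcases hL.center d hdz h3 with h4 | h4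
      · left; exact h4
      · exfalso; apply hzx; rw [← h4]; exact hdx
    · have hdx' : d * x⁻¹ ∈ Q := Subgroup.mul_mem _ hdz (Subgroup.inv_mem _ hx)
      rcases hL.center _ hdx' h3 with h4 | h4
      · right
        have : d = (d * x⁻¹) * x := by group
        rw [this, h4, one_mul]
      · exfalso; apply hzx
        rw [← h4]
        exact Subgroup.mul_mem _ hdx (Subgroup.inv_mem _ hxQx)
  -- F4
  have hAB : ∀ a ∈ Q, a * x = x * a → ∀ b ∈ Qx, b * z = z * b →
      (a * b * a⁻¹ * b⁻¹ = 1 ∨ a * b * a⁻¹ * b⁻¹ = x) := by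
    intro a ha hax b hb hbz
    apply hD
    · have h1 : b * a⁻¹ * b⁻¹ ∈ Q := hL.normal _ hbz _ (Subgroup.inv_mem _ ha)
      have : a * b * a⁻¹ * b⁻¹ = a * (b * a⁻¹ * b⁻¹) := by group
      rw [this]; exact Subgroup.mul_mem _ ha h1
    · have h1 : a * b * a⁻¹ ∈ Qx := hLx.normal _ hax _ hb
      exact Subgroup.mul_mem _ h1 (Subgroup.inv_mem _ hb)
  by_cases hI : ∃ q' ∈ Qx, q' * z * q'⁻¹ = x * z
  · -- Case I
    obtain ⟨q', hq', hq'z⟩ := hI
    obtain ⟨q, hq, hqx⟩ := hL.exists_conj_mul hx hx1 hxz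
    have hqz : q * z * q⁻¹ = z := conj_eq_self_iff.mpr (hL.cz _ hq)
    have hq'x : q' * x * q'⁻¹ = x := conj_eq_self_iff.mpr (hLx.cz _ hq')
    have k1 : (q * q') * z * (q * q')⁻¹ = x := by
      calc (q * q') * z * (q * q')⁻¹ = q * (q' * z * q'⁻¹) * q⁻¹ := by group
        _ = q * (x * z) * q⁻¹ := by rw [hq'z]
        _ = (q * x * q⁻¹) * (q * z * q⁻¹) := by group
        _ = (z * x) * z := by rw [hqx, hqz]
        _ = x := by rw [← hxz_comm, mul_assoc, hzz, mul_one]
    have k2 : (q * q') * x * (q * q')⁻¹ = z * x := by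
      calc (q * q') * x * (q * q')⁻¹ = q * (q' * x * q'⁻¹) * q⁻¹ := by group
        _ = z * x := by rw [hq'x, hqx]
    have k3 : z * x ∈ Qx := by
      rw [← k2]
      exact hconj (q * q') k1 x hx
    apply hzx
    have : z = (z * x) * x⁻¹ := by group
    rw [this]
    exact Subgroup.mul_mem _ k3 (Subgroup.inv_mem _ hxQx)
  -- Case II
  have hII : ∀ q ∈ Qx, q * z * q⁻¹ * z⁻¹ ≠ x := by
    intro q hq h
    apply hI
    refine ⟨q, hq, ?_⟩
    have : q * z * q⁻¹ = (q * z * q⁻¹ * z⁻¹) * z := by group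
    rw [this, h]
  have hcQ : ∀ q ∈ Qx, q * z * q⁻¹ * z⁻¹ ∈ Qx := by
    intro q hq
    have h1 : z * q⁻¹ * z⁻¹ ∈ Qx := hLx.normal _ hxz_comm.symm _ (Subgroup.inv_mem _ hq)
    have : q * z * q⁻¹ * z⁻¹ = q * (z * q⁻¹ * z⁻¹) := by group
    rw [this]; exact Subgroup.mul_mem _ hq h1
  have hstar : ∀ q ∈ Qx, (q * z * q⁻¹ * z⁻¹ = 1 ∨ q * z * q⁻¹ * z⁻¹ = x) → q * z = z * q := by
    intro q hq h
    rcases h with h | h
    · have : q * z = (q * z * q⁻¹ * z⁻¹) * (z * q) := by group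
      rw [this, h, one_mul]
    · exact absurd h (hII q hq)
  -- II.a
  have hIIa : ∀ q ∈ Qx, (q * z * q⁻¹ * z⁻¹) * z = z * (q * z * q⁻¹ * z⁻¹) := by
    intro q hq
    obtain ⟨m, hm⟩ : ∃ m, m = q * z * q⁻¹ * z⁻¹ := ⟨_, rfl⟩
    rw [← hm]
    have hmQ : m ∈ Qx := by rw [hm]; exact hcQ q hq
    apply hstar m hmQ
    have h0 : z * m⁻¹ * z⁻¹ = m := by
      rw [hm]
      have e : z * (q * z * q⁻¹ * z⁻¹)⁻¹ * z⁻¹ = (z * z) * q * z⁻¹ * q⁻¹ * z⁻¹ := by group
      rw [e, hzz, one_mul, hzinv]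
    have h1 : m * z * m⁻¹ * z⁻¹ = m * m := by
      calc m * z * m⁻¹ * z⁻¹ = m * (z * m⁻¹ * z⁻¹) := by group
        _ = m * m := by rw [h0]
    rw [h1]
    exact hLx.sq m hmQ
  -- II.b
  have hIIb : ∀ a ∈ Q, a * x = x * a → ∀ q ∈ Qx,
      (a * q * a⁻¹ * q⁻¹) ∈ Qx ∧ (a * q * a⁻¹ * q⁻¹) * z = z * (a * q * a⁻¹ * q⁻¹) := by
    intro a ha hax q hq
    have haz : a * z = z * a := hL.cz _ ha
    obtain ⟨m, hm⟩ : ∃ m, m = a * q * a⁻¹ * q⁻¹ := ⟨_, rfl⟩
    rw [← hm]
    have hmQ : m ∈ Qx := by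
      rw [hm]; exact Subgroup.mul_mem _ (hLx.normal _ hax _ hq) (Subgroup.inv_mem _ hq)
    refine ⟨hmQ, ?_⟩
    apply hstar m hmQ
    obtain ⟨c, hc⟩ : ∃ c, c = q * z * q⁻¹ * z⁻¹ := ⟨_, rfl⟩
    have hcQx : c ∈ Qx := by rw [hc]; exact hcQ q hq
    have hcz : c * z = z * c := by rw [hc]; exact hIIa q hq
    have hcx : c * x = x * c := hLx.cz _ hcQx
    have he1 := hAB a ha hax c hcQx hcz
    have he2 := hLx.comm m hmQ c hcQx
    have h_az1 : a⁻¹ * z * a = z := by
      have : Commute a z := haz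
      exact this.inv_mul_cancel
    have h_az2 : a⁻¹ * z⁻¹ * a = z⁻¹ := by
      have : Commute a z⁻¹ := (show Commute a z from haz).inv_right
      exact this.inv_mul_cancel
    have i1 : (a * q * a⁻¹) * z * (a * q * a⁻¹)⁻¹ * z⁻¹ = a * c * a⁻¹ := by
      calc (a * q * a⁻¹) * z * (a * q * a⁻¹)⁻¹ * z⁻¹
          = a * q * (a⁻¹ * z * a) * q⁻¹ * (a⁻¹ * z⁻¹ * a) * a⁻¹ := by group
        _ = a * q * z * q⁻¹ * z⁻¹ * a⁻¹ := by rw [h_az1, h_az2]
        _ = a * c * a⁻¹ := by rw [hc]; group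
    have i3 : a * q * a⁻¹ = m * q := by rw [hm]; group
    have i2 : (m * q) * z * (m * q)⁻¹ * z⁻¹ = (m * c * m⁻¹) * (m * z * m⁻¹ * z⁻¹) := by
      rw [hc]; group
    have i4 : m * z * m⁻¹ * z⁻¹ = (m * c * m⁻¹)⁻¹ * (a * c * a⁻¹) := by
      rw [← i1, i3, i2]; group
    have f1 : a * c * a⁻¹ = (a * c * a⁻¹ * c⁻¹) * c := by group
    have f2 : m * c * m⁻¹ = (m * c * m⁻¹ * c⁻¹) * c := by group
    have hcxc : c⁻¹ * x * c = x := by
      have : Commute c x := hcx
      exact this.inv_mul_cancel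
    rw [i4, f1, f2]
    rcases he1 with h1 | h1 <;> rcases he2 with h2 | h2
    · left; rw [h1, h2]; group
    · right; rw [h1, h2]
      calc (x * c)⁻¹ * (1 * c) = (c⁻¹ * x * c)⁻¹ := by group
        _ = x := by rw [hcxc, hxinv]
    · right; rw [h1, h2]
      calc (1 * c)⁻¹ * (x * c) = c⁻¹ * x * c := by group
        _ = x := hcxc
    · left; rw [h1, h2]; group
  -- II.c
  have hIIc : ∀ a1 ∈ Q, a1 * x = x * a1 → ∀ a2 ∈ Q, a2 * x = x * a2 →
      a1 * a2 = a2 * a1 := by
    intro a1 h1 h1x a2 h2 h2x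
    by_contra hne
    have hz_eq : a1 * a2 * a1⁻¹ * a2⁻¹ = z := by
      rcases hL.comm a1 h1 a2 h2 with h | h
      · exfalso; apply hne
        have : a1 * a2 = (a1 * a2 * a1⁻¹ * a2⁻¹) * (a2 * a1) := by group
        rw [this, h, one_mul]
      · exact h
    apply hzx
    apply hLx.cent
    intro q hq
    apply hstar q hq
    -- p := a1⁻¹ a2⁻¹ q a2 a1
    obtain ⟨p, hp⟩ : ∃ p, p = a1⁻¹ * a2⁻¹ * q * a2 * a1 := ⟨_, rfl⟩
    have hpQ : p ∈ Qx := by
      have hcm : (a1⁻¹ * a2⁻¹) * x = x * (a1⁻¹ * a2⁻¹) := by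
        have c1 : Commute a1 x := h1x
        have c2 : Commute a2 x := h2x
        exact (c1.inv_left.mul_left c2.inv_left)
      have := hLx.normal _ hcm _ hq
      have e : a1⁻¹ * a2⁻¹ * q * (a1⁻¹ * a2⁻¹)⁻¹ = a1⁻¹ * a2⁻¹ * q * a2 * a1 := by group
      rw [e] at this
      rw [hp]; exact this
    obtain ⟨hm1Q, hm1z⟩ := hIIb a1 h1 h1x p hpQ
    obtain ⟨hm2Q, hm2z⟩ := hIIb a2 h2 h2x p hpQ
    have e1 := hAB a1 h1 h1x _ hm2Q hm2z
    have e2 := hAB a2 h2 h2x _ hm1Q hm1z
    have e3 := hLx.comm _ hm2Q _ hm1Q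
    have hid : (a1 * a2 * p * a2⁻¹ * a1⁻¹) * (a2 * a1 * p * a1⁻¹ * a2⁻¹)⁻¹
        = (a1 * (a2 * p * a2⁻¹ * p⁻¹) * a1⁻¹ * (a2 * p * a2⁻¹ * p⁻¹)⁻¹)
          * ((a2 * p * a2⁻¹ * p⁻¹) * (a1 * p * a1⁻¹ * p⁻¹) * (a2 * p * a2⁻¹ * p⁻¹)⁻¹
              * (a1 * p * a1⁻¹ * p⁻¹)⁻¹)
          * (a2 * (a1 * p * a1⁻¹ * p⁻¹) * a2⁻¹ * (a1 * p * a1⁻¹ * p⁻¹)⁻¹)⁻¹ := by group
    have hmemX : (a1 * a2 * p * a2⁻¹ * a1⁻¹) * (a2 * a1 * p * a1⁻¹ * a2⁻¹)⁻¹ ∈ pairSub x hxx := by
      rw [hid]
      exact Subgroup.mul_mem _ (Subgroup.mul_mem _ e1 e3) (Subgroup.inv_mem _ e2)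
    have hzq : z * q * z⁻¹ * q⁻¹ = (a1 * a2 * p * a2⁻¹ * a1⁻¹) * (a2 * a1 * p * a1⁻¹ * a2⁻¹)⁻¹ := by
      rw [← hz_eq, hp]; group
    have hfin : q * z * q⁻¹ * z⁻¹ ∈ pairSub x hxx := by
      have : q * z * q⁻¹ * z⁻¹ = (z * q * z⁻¹ * q⁻¹)⁻¹ := by group
      rw [this, hzq]
      exact Subgroup.inv_mem _ hmemX
    exact hfin
  -- II.d
  have hIId : ∀ a ∈ Q, a * x = x * a → a = 1 ∨ a = x ∨ a = z ∨ a = z * x := by
    intro a ha hax
    have hcc : ∀ e ∈ Q, e * x = x * e → e * a = a * e :=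
      fun e he hex => hIIc e he hex a ha hax
    rcases hL.c2.center_centralizer hx ha hcc with h3 | h3
    · rcases hL.center a ha h3 with h | h
      · left; exact h
      · right; right; left; exact h
    · have hax' : a * x⁻¹ ∈ Q := Subgroup.mul_mem _ ha (Subgroup.inv_mem _ hx)
      have e : a = (a * x⁻¹) * x := by group
      rcases hL.center _ hax' h3 with h | h
      · right; left; rw [e, h, one_mul]
      · right; right; right; rw [e, h]
  -- II.e
  have hIIe : ∀ b ∈ Qx, b * z = z * b → b ∈ Q := by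
    intro b hb hbz
    have hbx : b * x = x * b := hLx.cz _ hb
    have hbA : ∀ a ∈ Q, a * x = x * a → a * b = b * a := by
      intro a ha hax
      rcases hIId a ha hax with h | h | h | h
      · rw [h]; simp
      · rw [h]; exact hbx.symm
      · rw [h]; exact hbz.symm
      · rw [h]
        have c1 : Commute z b := hbz.symm
        have c2 : Commute x b := hbx.symm
        exact c1.mul_left c2
    obtain ⟨q0, hq0, hq0x⟩ : ∃ q0 ∈ Q, q0 * x ≠ x * q0 := by
      by_contra hcon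
      have : ∀ a ∈ Q, a * x = x * a := by
        intro a ha; by_contra h; exact hcon ⟨a, ha, h⟩
      rcases hL.center x hx this with h | h
      · exact hx1 h
      · exact hxz h
    have hq0c : q0 * x * q0⁻¹ = z * x := hL.conj_eq hq0 hx hq0x
    have hxq0 : x * q0 * x⁻¹ = z * q0 := hL.conj_eq hx hq0 (fun h => hq0x h.symm)
    have hq0z : q0 * z = z * q0 := hL.cz _ hq0
    have hq0zi : q0⁻¹ * z * q0 = z := by
      have : Commute q0 z := hq0z
      exact this.inv_mul_cancel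
    have hq0i : q0⁻¹ * (z * x) * q0 = x := by
      rw [← hq0c]; group
    have hdec : ∀ q ∈ Q, q * x ≠ x * q → (q0⁻¹ * q) * x = x * (q0⁻¹ * q) := by
      intro q hq hqx
      have hqc : q * x * q⁻¹ = z * x := hL.conj_eq hq hx hqx
      apply conj_eq_self_iff.mp
      calc (q0⁻¹ * q) * x * (q0⁻¹ * q)⁻¹ = q0⁻¹ * (q * x * q⁻¹) * q0 := by group
        _ = q0⁻¹ * (z * x) * q0 := by rw [hqc]
        _ = x := hq0i
    have hcrit : ∀ y : G, (∀ a ∈ Q, a * x = x * a → a * y = y * a) → q0 * y = y * q0 →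
        y ∈ Q := by
      intro y hyA hyq0
      apply hL.cent
      intro q hq
      by_cases hqx : q * x = x * q
      · exact hyA q hq hqx
      · have h1 := hdec q hq hqx
        have h2 : q0⁻¹ * q ∈ Q := Subgroup.mul_mem _ (Subgroup.inv_mem _ hq0) hq
        have h3 := hyA _ h2 h1
        calc q * y = q0 * ((q0⁻¹ * q) * y) := by group
          _ = q0 * (y * (q0⁻¹ * q)) := by rw [h3]
          _ = (q0 * y) * (q0⁻¹ * q) := by group
          _ = (y * q0) * (q0⁻¹ * q) := by rw [hyq0]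
          _ = y * q := by group
    -- r := b q0 b⁻¹
    obtain ⟨r, hr⟩ : ∃ r, r = b * q0 * b⁻¹ := ⟨_, rfl⟩
    have hrQ : r ∈ Q := by rw [hr]; exact hL.normal _ hbz _ hq0
    have hbxi : b⁻¹ * x * b = x := by
      have : Commute b x := hbx
      exact this.inv_mul_cancel
    have hbzx : b * (z * x) * b⁻¹ = z * x := by
      have c1 : Commute b z := hbz
      have c2 : Commute b x := hbx
      exact (c1.mul_right c2).mul_inv_cancel
    have hrx : r * x * r⁻¹ = z * x := by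
      calc r * x * r⁻¹ = b * (q0 * (b⁻¹ * x * b) * q0⁻¹) * b⁻¹ := by rw [hr]; group
        _ = b * (z * x) * b⁻¹ := by rw [hbxi, hq0c]
        _ = z * x := hbzx
    have hrne : r * x ≠ x * r := by
      intro h
      have h1 := conj_eq_self_iff.mpr h
      rw [hrx] at h1
      have : z = 1 := by
        have e : z = (z * x) * x⁻¹ := by group
        rw [e, h1]; group
      exact hL.ne_one this
    have hmA := hdec r hrQ hrne
    obtain ⟨m, hm⟩ : ∃ m, m = q0⁻¹ * r := ⟨_, rfl⟩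
    rw [← hm] at hmA
    have hmQ : m ∈ Q := by rw [hm]; exact Subgroup.mul_mem _ (Subgroup.inv_mem _ hq0) hrQ
    have hrm : r = q0 * m := by rw [hm]; group
    -- squares
    have hq0sq : b * (q0 * q0) * b⁻¹ = q0 * q0 := by
      rcases hL.sq q0 hq0 with h | h
      · rw [h]; group
      · rw [h]
        have : Commute b z := hbz
        exact this.mul_inv_cancel
    have hrr : r * r = q0 * q0 := by
      calc r * r = b * (q0 * q0) * b⁻¹ := by rw [hr]; group
        _ = q0 * q0 := hq0sq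
    have hmq : m * q0 * m = q0 := by
      have h1 : q0 * m * (q0 * m) = q0 * q0 := by rw [← hrm]; exact hrr
      calc m * q0 * m = q0⁻¹ * (q0 * m * (q0 * m)) := by group
        _ = q0⁻¹ * (q0 * q0) := by rw [h1]
        _ = q0 := by group
    have hxq0x : x * q0 * x ≠ q0 := by
      intro h
      have : x * q0 * x⁻¹ = q0 := by rw [hxinv]; exact h
      rw [hxq0] at this
      apply hL.ne_one
      calc z = (z * q0) * q0⁻¹ := by group
        _ = q0 * q0⁻¹ := by rw [this]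
        _ = 1 := by group
    rcases hIId m hmQ hmA with h | h | h | h
    · -- m = 1 : b commutes with q0
      apply hcrit b hbA
      have : r = q0 := by rw [hrm, h, mul_one]
      rw [hr] at this
      exact (conj_eq_self_iff.mp this).symm
    · exfalso; apply hxq0x; rw [← h]; exact hmq
    · -- m = z : r = q0 z
      have hr2 : b * q0 * b⁻¹ = z * q0 := by
        rw [← hr, hrm, h]; exact hq0z
      have hxb : (x * b) ∈ Q := by
        apply hcrit (x * b)
        · intro a ha hax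
          have c1 : Commute a x := hax
          have c2 : Commute a b := hbA a ha hax
          exact c1.mul_right c2
        · apply (conj_eq_self_iff.mp _).symm
          calc (x * b) * q0 * (x * b)⁻¹ = x * (b * q0 * b⁻¹) * x⁻¹ := by group
            _ = x * (z * q0) * x⁻¹ := by rw [hr2]
            _ = (x * z * x⁻¹) * (x * q0 * x⁻¹) := by group
            _ = z * (z * q0) := by
                rw [hxq0]
                have : Commute x z := hxz_comm
                rw [this.mul_inv_cancel]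
            _ = q0 := by rw [← mul_assoc, hzz, one_mul]
      have : b = x⁻¹ * (x * b) := by group
      rw [this]
      exact Subgroup.mul_mem _ (Subgroup.inv_mem _ hx) hxb
    · exfalso; apply hxq0x
      have h1 : (z * x) * q0 * (z * x) = q0 := by rw [← h]; exact hmq
      have c1 : Commute z x := hxz_comm.symm
      have c2 : Commute z q0 := hq0z.symm
      calc x * q0 * x = (z * z) * (x * q0 * x) := by rw [hzz, one_mul]
        _ = z * (x * q0 * x) * z := by
            have : Commute z (x * q0 * x) := (c1.mul_right c2).mul_right c1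
            calc (z * z) * (x * q0 * x) = z * (z * (x * q0 * x)) := by group
              _ = z * ((x * q0 * x) * z) := by rw [this.eq]
              _ = z * (x * q0 * x) * z := by group
        _ = (z * x) * q0 * (x * z) := by group
        _ = (z * x) * q0 * (z * x) := by rw [hxz_comm]
        _ = q0 := h1
  -- II.f
  apply hzx
  apply hLx.cent
  intro q hq
  apply hstar q hq
  have h1 := hIIe _ (hcQ q hq) (hIIa q hq)
  exact hD _ h1 (hcQ q hq)


end Cfsg.Agent.Lib.H22.LargeExtra
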