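import Cfsg.Agent.Lib.H22.LargeExtra4
import Cfsg.Agent.S5422

/-!
helper22 library: from the hypotheses of Aschbacher SG 8.7 (large extraspecial `Q`, `Z(Q) = ⟨z⟩`,
`g ∉ C(z)`, `g z g⁻¹ ∈ Q`) to the abstract pair `LXP Q (g Q g⁻¹) z (g z g⁻¹)`.
-/

set_option autoImplicit false

namespace Cfsg.Agent.Lib.H22.LargeExtra

open Cfsg.Agent.Lib.H15

theorem lxp_of_hyp {G : Type*} [Group G] [Finite G] (Q : Subgroup G)
    (hQ : Cfsg.IsLargeExtraspecial Q) (z : G)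
    (hz : ((Subgroup.center ↥Q).map Q.subtype) = Subgroup.zpowers z) (hz2 : orderOf z = 2)
    (g : G) (hgH : g ∉ Subgroup.centralizer ({z} : Set G)) (hgQ : g * z * g⁻¹ ∈ Q) :
    LXP Q (cj g Q) z (g * z * g⁻¹) := by
  obtain ⟨z0, hZmem, hLX0⟩ := Cfsg.Agent.S5422.lx_of_extraspecial Q hQ.1 hQ.2.1 hQ.2.2.1
  have hz1 : z ≠ 1 := by
    intro h
    rw [h, orderOf_one] at hz2
    omega
  have hzz0 : z = z0 := by
    have : z ∈ ((Subgroup.center ↥Q).map Q.subtype) := by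
      rw [hz]; exact Subgroup.mem_zpowers z
    rcases (hZmem z).mp this with h | h
    · exact absurd h hz1
    · exact h
  have hLX : LX Q z := by rw [hzz0]; exact hLX0
  have hLXx : LX (cj g Q) (g * z * g⁻¹) := hLX.conj g
  have hne : g * z * g⁻¹ ≠ z := by
    intro h
    apply hgH
    rw [Subgroup.mem_centralizer_singleton_iff]
    exact conj_eq_self_iff.mp h
  have hconj : ∀ k : G, k * z * k⁻¹ = g * z * g⁻¹ → ∀ a ∈ Q, k * a * k⁻¹ ∈ cj g Q := by
    intro k hk a ha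
    rw [mem_cj_iff]
    have hc : (g⁻¹ * k) * z = z * (g⁻¹ * k) := by
      apply conj_eq_self_iff.mp
      calc (g⁻¹ * k) * z * (g⁻¹ * k)⁻¹ = g⁻¹ * (k * z * k⁻¹) * g := by group
        _ = g⁻¹ * (g * z * g⁻¹) * g := by rw [hk]
        _ = z := by group
    have := hLX.normal _ hc a ha
    have e : g⁻¹ * k * a * (g⁻¹ * k)⁻¹ = g⁻¹ * (k * a * k⁻¹) * g := by group
    rwa [e] at this
  have hconj' : ∀ k : G, k * (g * z * g⁻¹) * k⁻¹ = z → ∀ a ∈ cj g Q, k * a * k⁻¹ ∈ Q := by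
    intro k hk a ha
    rw [mem_cj_iff] at ha
    have hc : (k * g) * z = z * (k * g) := by
      apply conj_eq_self_iff.mp
      calc (k * g) * z * (k * g)⁻¹ = k * (g * z * g⁻¹) * k⁻¹ := by group
        _ = z := hk
    have := hLX.normal _ hc _ ha
    have e : k * g * (g⁻¹ * a * g) * (k * g)⁻¹ = k * a * k⁻¹ := by group
    rwa [e] at this
  exact ⟨hLX, hLXx, hgQ, LX.symm_core hLX hLXx hgQ hconj, hne, hconj, hconj'⟩

end Cfsg.Agent.Lib.H22.LargeExtra
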