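import Cfsg.Agent.Lib.H22.LargeExtra4

/-!
helper22 library: tools for `X/R ≅ S₃` (Aschbacher, Sporadic Groups, Lemma 8.7):
* `cover6`: a group generated modulo a normal subgroup `N` by two "involutions mod N" `s`, `t` with
  `sts ≡ tst` is covered by six cosets;
* facts about `Equiv.Perm (Fin 3)`;
* the permutation representation of `N(V)` on `{z, x, zx}`.
-/

set_option autoImplicit false

namespace Cfsg.Agent.Lib.H22.LargeExtra

open Cfsg.Agent.Lib.H15

/-- six-coset covering. -/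
theorem cover6 {H : Type*} [Group H] (N : Subgroup H) [N.Normal] (s t : H)
    (hs : s * s ∈ N) (ht : t * t ∈ N) (hst : (t * s * t)⁻¹ * (s * t * s) ∈ N)
    (S₁ S₂ : Subgroup H) (hgen : S₁ ⊔ S₂ = ⊤)
    (h1 : ∀ a ∈ S₁, a ∈ N ∨ s⁻¹ * a ∈ N) (h2 : ∀ a ∈ S₂, a ∈ N ∨ t⁻¹ * a ∈ N) (y : H) :
    y ∈ N ∨ s⁻¹ * y ∈ N ∨ t⁻¹ * y ∈ N ∨ (s * t)⁻¹ * y ∈ N ∨ (t * s)⁻¹ * y ∈ N ∨
      (s * t * s)⁻¹ * y ∈ N := by
  obtain ⟨S, hSdef⟩ : ∃ S : H ⧸ N, S = (s : H ⧸ N) := ⟨_, rfl⟩
  obtain ⟨T, hTdef⟩ : ∃ T : H ⧸ N, T = (t : H ⧸ N) := ⟨_, rfl⟩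
  have hS : S * S = 1 := by
    rw [hSdef, ← QuotientGroup.mk_mul]
    exact (QuotientGroup.eq_one_iff _).mpr hs
  have hT : T * T = 1 := by
    rw [hTdef, ← QuotientGroup.mk_mul]
    exact (QuotientGroup.eq_one_iff _).mpr ht
  have hTST : T * S * T = S * T * S := by
    rw [hSdef, hTdef, ← QuotientGroup.mk_mul, ← QuotientGroup.mk_mul, ← QuotientGroup.mk_mul,
      ← QuotientGroup.mk_mul]
    exact QuotientGroup.eq.mpr hst
  -- the six-element list is closed under left multiplication by S and T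
  have hSstep : ∀ l : H ⧸ N,
      (l = 1 ∨ l = S ∨ l = T ∨ l = S * T ∨ l = T * S ∨ l = S * T * S) →
      (S * l = 1 ∨ S * l = S ∨ S * l = T ∨ S * l = S * T ∨ S * l = T * S ∨ S * l = S * T * S) := by
    rintro l (rfl | rfl | rfl | rfl | rfl | rfl)
    · right; left; rw [mul_one]
    · left; exact hS
    · right; right; right; left; rfl
    · right; right; left; rw [← mul_assoc, hS, one_mul]
    · right; right; right; right; right; rw [mul_assoc]
    · right; right; right; right; left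
      rw [← mul_assoc, ← mul_assoc, hS, one_mul]
  have hTstep : ∀ l : H ⧸ N,
      (l = 1 ∨ l = S ∨ l = T ∨ l = S * T ∨ l = T * S ∨ l = S * T * S) →
      (T * l = 1 ∨ T * l = S ∨ T * l = T ∨ T * l = S * T ∨ T * l = T * S ∨ T * l = S * T * S) := by
    rintro l (rfl | rfl | rfl | rfl | rfl | rfl)
    · right; right; left; rw [mul_one]
    · right; right; right; right; left; rfl
    · left; exact hT
    · right; right; right; right; right; rw [← mul_assoc, hTST]
    · right; left; rw [← mul_assoc, hT, one_mul]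
    · right; right; right; left
      rw [← hTST, ← mul_assoc, ← mul_assoc, hT, one_mul]
  have hS₁ : ∀ a ∈ S₁, ((a : H ⧸ N) = 1 ∨ (a : H ⧸ N) = S) := by
    intro a ha
    rcases h1 a ha with h | h
    · left; exact (QuotientGroup.eq_one_iff _).mpr h
    · right; rw [hSdef]; exact (QuotientGroup.eq.mpr h).symm
  have hS₂ : ∀ a ∈ S₂, ((a : H ⧸ N) = 1 ∨ (a : H ⧸ N) = T) := by
    intro a ha
    rcases h2 a ha with h | h
    · left; exact (QuotientGroup.eq_one_iff _).mpr h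
    · right; rw [hTdef]; exact (QuotientGroup.eq.mpr h).symm
  have hgenstep : ∀ a ∈ (S₁ : Set H) ∪ (S₂ : Set H), ∀ l : H ⧸ N,
      (l = 1 ∨ l = S ∨ l = T ∨ l = S * T ∨ l = T * S ∨ l = S * T * S) →
      ((a : H ⧸ N) * l = 1 ∨ (a : H ⧸ N) * l = S ∨ (a : H ⧸ N) * l = T ∨
        (a : H ⧸ N) * l = S * T ∨ (a : H ⧸ N) * l = T * S ∨ (a : H ⧸ N) * l = S * T * S) := by
    intro a ha l hl
    rcases ha with ha | ha
    · rcases hS₁ a ha with h | h
      · rw [h, one_mul]; exact hl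
      · rw [h]; exact hSstep l hl
    · rcases hS₂ a ha with h | h
      · rw [h, one_mul]; exact hl
      · rw [h]; exact hTstep l hl
  have key : ∀ y : H, ((y : H ⧸ N) = 1 ∨ (y : H ⧸ N) = S ∨ (y : H ⧸ N) = T ∨
      (y : H ⧸ N) = S * T ∨ (y : H ⧸ N) = T * S ∨ (y : H ⧸ N) = S * T * S) := by
    intro y
    have hy : y ∈ Subgroup.closure ((S₁ : Set H) ∪ (S₂ : Set H)) := by
      rw [← Subgroup.sup_eq_closure, hgen]; exact Subgroup.mem_top y
    induction hy using Subgroup.closure_induction_left with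
    | one => left; rfl
    | mul_left a ha b _ ih =>
      rw [QuotientGroup.mk_mul]
      exact hgenstep a ha _ ih
    | inv_mul_cancel a ha b _ ih =>
      rw [QuotientGroup.mk_mul]
      have ha' : a⁻¹ ∈ (S₁ : Set H) ∪ (S₂ : Set H) := by
        rcases ha with ha | ha
        · left; exact S₁.inv_mem ha
        · right; exact S₂.inv_mem ha
      exact hgenstep a⁻¹ ha' _ ih
  rcases key y with h | h | h | h | h | h
  · left; exact (QuotientGroup.eq_one_iff _).mp h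
  · right; left
    rw [hSdef] at h
    exact QuotientGroup.eq.mp h.symm
  · right; right; left
    rw [hTdef] at h
    exact QuotientGroup.eq.mp h.symm
  · right; right; right; left
    rw [hSdef, hTdef, ← QuotientGroup.mk_mul] at h
    exact QuotientGroup.eq.mp h.symm
  · right; right; right; right; left
    rw [hSdef, hTdef, ← QuotientGroup.mk_mul] at h
    exact QuotientGroup.eq.mp h.symm
  · right; right; right; right; right
    rw [hSdef, hTdef, ← QuotientGroup.mk_mul, ← QuotientGroup.mk_mul] at h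
    exact QuotientGroup.eq.mp h.symm

/-! ### `Equiv.Perm (Fin 3)` -/

set_option maxRecDepth 100000 in
theorem perm3_list (σ : Equiv.Perm (Fin 3)) :
    σ = 1 ∨ σ = Equiv.swap 1 2 ∨ σ = Equiv.swap 0 2 ∨ σ = Equiv.swap 1 2 * Equiv.swap 0 2 ∨
      σ = Equiv.swap 0 2 * Equiv.swap 1 2 ∨
      σ = Equiv.swap 1 2 * Equiv.swap 0 2 * Equiv.swap 1 2 := by
  revert σ; decide

set_option maxRecDepth 100000 in
theorem perm3_ne : (Equiv.swap 1 2 : Equiv.Perm (Fin 3)) ≠ 1 ∧
    (Equiv.swap 0 2 : Equiv.Perm (Fin 3)) ≠ 1 ∧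
    (Equiv.swap 1 2 * Equiv.swap 0 2 : Equiv.Perm (Fin 3)) ≠ 1 ∧
    (Equiv.swap 0 2 * Equiv.swap 1 2 : Equiv.Perm (Fin 3)) ≠ 1 ∧
    (Equiv.swap 1 2 * Equiv.swap 0 2 * Equiv.swap 1 2 : Equiv.Perm (Fin 3)) ≠ 1 := by
  decide

set_option maxRecDepth 100000 in
theorem perm3_order3 (σ : Equiv.Perm (Fin 3)) (hσ : σ ≠ 1) :
    ∃ τ : Equiv.Perm (Fin 3), σ * (τ * σ * τ⁻¹) ≠ 1 ∧ (σ * (τ * σ * τ⁻¹)) ^ 3 = 1 := by
  revert σ; decide

/-- a normal 2-subgroup of `S₃` is trivial. -/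
theorem perm3_normal_two_group (N : Subgroup (Equiv.Perm (Fin 3))) (hN : N.Normal)
    (h2 : IsPGroup 2 N) : N = ⊥ := by
  rw [Subgroup.eq_bot_iff_forall]
  intro σ hσ
  by_contra hne
  obtain ⟨τ, h1, h3⟩ := perm3_order3 σ hne
  have hmem : σ * (τ * σ * τ⁻¹) ∈ N := N.mul_mem hσ (hN.conj_mem σ hσ τ)
  obtain ⟨k, hk⟩ := h2 ⟨_, hmem⟩
  have hk' : (σ * (τ * σ * τ⁻¹)) ^ (2 ^ k) = 1 := by
    have := congrArg Subtype.val hk
    simpa using this
  have hd1 : orderOf (σ * (τ * σ * τ⁻¹)) ∣ 3 := orderOf_dvd_of_pow_eq_one h3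
  have hd2 : orderOf (σ * (τ * σ * τ⁻¹)) ∣ 2 ^ k := orderOf_dvd_of_pow_eq_one hk'
  have hcop : Nat.Coprime 3 (2 ^ k) := Nat.Coprime.pow_right _ (by norm_num)
  have : orderOf (σ * (τ * σ * τ⁻¹)) = 1 := Nat.eq_one_of_dvd_coprimes hcop hd1 hd2
  exact h1 (orderOf_eq_one_iff.mp this)

/-! ### the action of `N(V)` on `{z, x, zx}` -/

variable {G : Type*} [Group G] {Q Qx : Subgroup G} {z x : G}

/-- the three involutions of `V`. -/
def vv (z x : G) : Fin 3 → G := ![z, x, z * x]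

theorem vv_zero (z x : G) : vv z x 0 = z := rfl

theorem vv_one (z x : G) : vv z x 1 = x := rfl

theorem vv_two (z x : G) : vv z x 2 = z * x := rfl

theorem LXP.vv_injective (h : LXP Q Qx z x) : Function.Injective (vv z x) := by
  have h01 : z ≠ x := h.ne.symm
  have h02 : z ≠ z * x := fun e => h.lx.ne_one (left_eq_mul.mp e)
  have h12 : x ≠ z * x := fun e => h.l.ne_one (right_eq_mul.mp e)
  have key : ∀ i j : Fin 3, i ≠ j → vv z x i ≠ vv z x j := by
    intro i j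
    fin_cases i <;> fin_cases j
    · intro hne; exact absurd rfl hne
    · intro _; exact h01
    · intro _; exact h02
    · intro _; exact h01.symm
    · intro hne; exact absurd rfl hne
    · intro _; exact h12
    · intro _; exact h02.symm
    · intro _; exact h12.symm
    · intro hne; exact absurd rfl hne
  intro i j hij
  by_contra hne
  exact key i j hne hij

theorem LXP.vv_mem (h : LXP Q Qx z x) (i : Fin 3) : vv z x i ∈ h.V := by
  fin_cases i
  · exact h.z_mem_V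
  · exact h.x_mem_V
  · exact h.V.mul_mem h.z_mem_V h.x_mem_V

theorem LXP.zx_ne_one (h : LXP Q Qx z x) : z * x ≠ 1 := by
  intro e
  apply h.ne
  have : x = z⁻¹ := (inv_eq_of_mul_eq_one_right e).symm
  rw [this, h.zinv]

theorem LXP.vv_ne_one (h : LXP Q Qx z x) (i : Fin 3) : vv z x i ≠ 1 := by
  fin_cases i
  · exact h.l.ne_one
  · exact h.lx.ne_one
  · exact h.zx_ne_one

theorem LXP.exists_vv (h : LXP Q Qx z x) {u : G} (hu : u ∈ h.V) (hu1 : u ≠ 1) :
    ∃ j, u = vv z x j := by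
  rcases h.mem_V.mp hu with h1 | h1 | h1 | h1
  · exact absurd h1 hu1
  · exact ⟨0, h1⟩
  · exact ⟨1, h1⟩
  · exact ⟨2, h1⟩

/-- the permutation representation of `N(V)` on the three involutions of `V`. -/
theorem LXP.exists_perm_hom (h : LXP Q Qx z x) :
    ∃ ψ : ↥(Subgroup.normalizer (h.V : Set G)) →* Equiv.Perm (Fin 3),
      ∀ (n : ↥(Subgroup.normalizer (h.V : Set G))) (i : Fin 3),
      (n : G) * vv z x i * (n : G)⁻¹ = vv z x (ψ n i) := by
  have hex : ∀ (n : ↥(Subgroup.normalizer (h.V : Set G))) (i : Fin 3),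
      ∃ j, (n : G) * vv z x i * (n : G)⁻¹ = vv z x j := by
    intro n i
    apply h.exists_vv
    · exact (Subgroup.mem_normalizer_iff.mp n.2 _).mp (h.vv_mem i)
    · intro e
      apply h.vv_ne_one i
      have := congrArg (fun t => (n : G)⁻¹ * t * n) e
      simpa [mul_assoc] using this
  choose σ hσ using hex
  have hinj := h.vv_injective
  have hone : ∀ i, σ 1 i = i := by
    intro i; apply hinj; rw [← hσ]; simp
  have hmul : ∀ n m i, σ (n * m) i = σ n (σ m i) := by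
    intro n m i
    apply hinj
    rw [← hσ, ← hσ, ← hσ]
    simp [mul_assoc]
  have hinv : ∀ n i, σ n⁻¹ (σ n i) = i := by
    intro n i; rw [← hmul, inv_mul_cancel, hone]
  have hinv' : ∀ n i, σ n (σ n⁻¹ i) = i := by
    intro n i; rw [← hmul, mul_inv_cancel, hone]
  exact ⟨{ toFun := fun n => ⟨σ n, σ n⁻¹, hinv n, hinv' n⟩
           map_one' := Equiv.ext hone
           map_mul' := fun n m => Equiv.ext (hmul n m) }, fun n i => hσ n i⟩

theorem LXP.perm_hom_eq_one_iff (h : LXP Q Qx z x)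
    (ψ : ↥(Subgroup.normalizer (h.V : Set G)) →* Equiv.Perm (Fin 3))
    (hψ : ∀ (n : ↥(Subgroup.normalizer (h.V : Set G))) (i : Fin 3),
      (n : G) * vv z x i * (n : G)⁻¹ = vv z x (ψ n i))
    (n : ↥(Subgroup.normalizer (h.V : Set G))) :
    ψ n = 1 ↔ ((n : G) * z = z * n ∧ (n : G) * x = x * n) := by
  constructor
  · intro hn
    have h0 := hψ n 0
    have h1 := hψ n 1
    rw [hn] at h0 h1
    exact ⟨conj_eq_self_iff.mp h0, conj_eq_self_iff.mp h1⟩
  · rintro ⟨h1, h2⟩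
    apply Equiv.ext
    intro i
    apply h.vv_injective
    rw [← hψ]
    exact conj_eq_self_iff.mpr (h.comm_V h1 h2 (h.vv_mem i))

theorem LXP.perm_hom_Q (h : LXP Q Qx z x)
    (ψ : ↥(Subgroup.normalizer (h.V : Set G)) →* Equiv.Perm (Fin 3))
    (hψ : ∀ (n : ↥(Subgroup.normalizer (h.V : Set G))) (i : Fin 3),
      (n : G) * vv z x i * (n : G)⁻¹ = vv z x (ψ n i))
    {q : G} (hq : q ∈ Q) (hqx : q * x ≠ x * q) (hqN : q ∈ Subgroup.normalizer (h.V : Set G)) :
    ψ ⟨q, hqN⟩ = Equiv.swap 1 2 := by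
  have e0 : Equiv.swap (1 : Fin 3) 2 0 = 0 := by decide
  have e1 : Equiv.swap (1 : Fin 3) 2 1 = 2 := by decide
  have e2 : Equiv.swap (1 : Fin 3) 2 2 = 1 := by decide
  apply Equiv.ext
  intro i
  apply h.vv_injective
  rw [← hψ]
  fin_cases i
  · show q * z * q⁻¹ = vv z x (Equiv.swap 1 2 0)
    rw [e0]; exact h.conj_z hq
  · show q * x * q⁻¹ = vv z x (Equiv.swap 1 2 1)
    rw [e1]; exact h.conj_x_of_not hq hqx
  · show q * (z * x) * q⁻¹ = vv z x (Equiv.swap 1 2 2)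
    rw [e2]; exact h.conj_zx_of_not hq hqx

theorem LXP.perm_hom_Qx (h : LXP Q Qx z x)
    (ψ : ↥(Subgroup.normalizer (h.V : Set G)) →* Equiv.Perm (Fin 3))
    (hψ : ∀ (n : ↥(Subgroup.normalizer (h.V : Set G))) (i : Fin 3),
      (n : G) * vv z x i * (n : G)⁻¹ = vv z x (ψ n i))
    {q : G} (hq : q ∈ Qx) (hqz : q * z ≠ z * q) (hqN : q ∈ Subgroup.normalizer (h.V : Set G)) :
    ψ ⟨q, hqN⟩ = Equiv.swap 0 2 := by
  have e0 : Equiv.swap (0 : Fin 3) 2 0 = 2 := by decide
  have e1 : Equiv.swap (0 : Fin 3) 2 1 = 1 := by decide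
  have e2 : Equiv.swap (0 : Fin 3) 2 2 = 0 := by decide
  apply Equiv.ext
  intro i
  apply h.vv_injective
  rw [← hψ]
  fin_cases i
  · show q * z * q⁻¹ = vv z x (Equiv.swap 0 2 0)
    rw [e0, vv_two, h.comm_zx]; exact h.symm.conj_x_of_not hq hqz
  · show q * x * q⁻¹ = vv z x (Equiv.swap 0 2 1)
    rw [e1]; exact h.symm.conj_z hq
  · show q * (z * x) * q⁻¹ = vv z x (Equiv.swap 0 2 2)
    rw [e2, h.comm_zx]; exact h.symm.conj_zx_of_not hq hqz

theorem LXP.X_le_normalizer (h : LXP Q Qx z x) :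
    Q ⊔ Qx ≤ Subgroup.normalizer (h.V : Set G) := by
  intro g hg
  have hact := (h.X_act hg).1
  rw [Subgroup.mem_normalizer_iff]
  intro v
  constructor
  · intro hv; exact (hact v hv).1
  · intro hv
    have := (hact _ hv).2
    have e : g⁻¹ * (g * v * g⁻¹) * g = v := by group
    rwa [e] at this

end Cfsg.Agent.Lib.H22.LargeExtra
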