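import Mathlib
import Cfsg.Prelude.Def_Characters
import Cfsg.Agent.Lib.H24.CodegreeDvd
import Cfsg.Agent.Lib.H24.CharBasic

/-!
helper22 library (S4429, piece (F12b)): the counting form of the conclusion from an explicit injective list of ten
irreducible characters whose squared degrees sum to `7920`.  Exact signature of `tools/blueprints/S4429_sigs.lean`.
-/

set_option autoImplicit false

namespace Cfsg.Agent.Lib.H22.M7920
open Cfsg
universe u

/-- an injective family of irreducible characters whose squared degrees sum to `|G|` is everything. -/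
theorem surjective_of_sum_sq {G : Type u} [Group G] [Finite G] {n : ℕ}
    (f : Fin n → IrrCharacter G) (hf : Function.Injective f)
    (hsum : ∑ i, Cfsg.charDegree (f i : G → ℂ) ^ 2 = Nat.card G) : Function.Surjective f := by
  classical
  haveI : Fintype (IrrCharacter G) := Fintype.ofFinite _
  intro χ
  by_contra hno
  push_neg at hno
  have htot := Cfsg.Agent.Lib.H24.sum_charDegree_sq (G := G)
  have himg : ∑ ψ ∈ Finset.univ.image f, Cfsg.charDegree (ψ : G → ℂ) ^ 2 = Nat.card G := by
    rw [Finset.sum_image (fun a _ b _ h => hf h)]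
    exact hsum
  have hχ : χ ∉ Finset.univ.image f := by
    intro h
    obtain ⟨i, -, hi⟩ := Finset.mem_image.1 h
    exact hno i hi
  have hlt : ∑ ψ ∈ Finset.univ.image f, Cfsg.charDegree (ψ : G → ℂ) ^ 2 <
      ∑ ψ : IrrCharacter G, Cfsg.charDegree (ψ : G → ℂ) ^ 2 := by
    apply Finset.sum_lt_sum_of_subset (Finset.subset_univ _) (Finset.mem_univ χ) hχ
    · exact pow_pos (Cfsg.Agent.Lib.H24.charDegree_pos χ) 2
    · intro j _ _
      exact Nat.zero_le _
  omega

theorem count_final {G : Type u} [Group G] [Finite G] (hG : Nat.card G = 7920)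
    (f : Fin 10 → IrrCharacter G) (hf : Function.Injective f)
    (hdeg : ∀ i, Cfsg.charDegree (f i : G → ℂ) = ![1, 10, 10, 10, 11, 16, 16, 44, 45, 55] i) :
    Nat.card (Cfsg.IrrCharacter G) = 10 ∧ ∀ n : ℕ,
      Nat.card {χ : Cfsg.IrrCharacter G // Cfsg.charDegree (χ : G → ℂ) = n} =
        (if n = 1 ∨ n = 11 ∨ n = 44 ∨ n = 45 ∨ n = 55 then 1 else if n = 10 then 3 else if n = 16 then 2 else 0) := by
  classical
  have hsum : ∑ i, Cfsg.charDegree (f i : G → ℂ) ^ 2 = Nat.card G := by
    rw [hG]
    simp only [hdeg]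
    decide
  have hsurj := surjective_of_sum_sq f hf hsum
  let e : Fin 10 ≃ IrrCharacter G := Equiv.ofBijective f ⟨hf, hsurj⟩
  refine ⟨?_, ?_⟩
  · rw [← Nat.card_congr e]
    simp
  · intro n
    have hcongr : Nat.card {χ : Cfsg.IrrCharacter G // Cfsg.charDegree (χ : G → ℂ) = n} =
        Nat.card {i : Fin 10 // (![1, 10, 10, 10, 11, 16, 16, 44, 45, 55] : Fin 10 → ℕ) i = n} := by
      symm
      refine Nat.card_congr (e.subtypeEquiv ?_)
      intro i
      show _ ↔ Cfsg.charDegree (f i : G → ℂ) = n
      rw [hdeg i]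
    rw [hcongr, Nat.card_eq_fintype_card, Fintype.card_subtype]
    by_cases h1 : n = 1
    · subst h1; decide
    by_cases h10 : n = 10
    · subst h10; decide
    by_cases h11 : n = 11
    · subst h11; decide
    by_cases h16 : n = 16
    · subst h16; decide
    by_cases h44 : n = 44
    · subst h44; decide
    by_cases h45 : n = 45
    · subst h45; decide
    by_cases h55 : n = 55
    · subst h55; decide
    rw [if_neg (by omega), if_neg h10, if_neg h16]
    rw [Finset.card_eq_zero, Finset.filter_eq_empty_iff]
    intro i _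
    fin_cases i <;> simp <;> omega

end Cfsg.Agent.Lib.H22.M7920
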