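import Mathlib
import Cfsg.Agent.Lib.H26.MC3Defs
import Cfsg.Agent.Lib.H22.SuzukiMaxClass
import Cfsg.Agent.Lib.H22.PPrimeCore

/-!
helper22: piece A7 of helper26's S4079 farm-out (blueprint `tools/blueprints/S4079.md`):
a `p`-group of order `p^(m+1)` in which `Z0 ⊔ ⟨s⟩` (central `Z0` of order `p`, `s` of order `p` outside)
is self-centralizing has class `m` (Suzuki).
-/

set_option autoImplicit false

namespace Cfsg.Agent.Lib.H22.MC3

open Cfsg.Agent.Lib.H26.MC3

universe u

variable {p : ℕ} [Fact p.Prime]

/-- A7 -/
theorem class_eq_of_centralizer {S : Type u} [Group S] [Finite S] {m : ℕ}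
    (hcard : Nat.card S = p ^ (m + 1)) (Z0 : Subgroup S) (hZ0 : Nat.card ↥Z0 = p)
    (hZc : Z0 ≤ Subgroup.center S) (s : S) (hsp : s ^ p = 1) (hs1 : s ≠ 1)
    (hsZ : ∀ k : ℕ, s ^ k ∈ Z0 → s ^ k = 1)
    (hC : ∀ t : S, t * s = s * t → t ∈ Z0 ⊔ Subgroup.zpowers s) :
    Group.nilpotencyClass S = m := by
  have hp : p.Prime := Fact.out
  have hp1 : 1 < p := hp.one_lt
  -- Z0 is normal
  have hZn : Z0.Normal := by
    constructor
    intro z hz g
    have hzc := hZc hz
    rw [Subgroup.mem_center_iff] at hzc
    have : g * z * g⁻¹ = z := by rw [hzc g]; group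
    rw [this]; exact hz
  set A : Subgroup S := Z0 ⊔ Subgroup.zpowers s with hA
  -- s ∉ Z0
  have hsn : s ∉ Z0 := by
    intro h
    have := hsZ 1 (by simpa using h)
    exact hs1 (by simpa using this)
  have hsA : s ∈ A := (le_sup_right : Subgroup.zpowers s ≤ A) (Subgroup.mem_zpowers s)
  have hZA : Z0 ≤ A := le_sup_left
  -- order of s
  have hos : orderOf s = p := by
    have hd : orderOf s ∣ p := orderOf_dvd_of_pow_eq_one hsp
    rcases (Nat.dvd_prime hp).mp hd with h | h
    · exact absurd (orderOf_eq_one_iff.mp h) hs1
    · exact h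
  have hcz : Nat.card (Subgroup.zpowers s) = p := by rw [Nat.card_zpowers, hos]
  -- card A = p^2
  have hdvd : Nat.card A ∣ p * p := by
    have := Cfsg.Agent.Lib.H22.card_sup_dvd_mul (Subgroup.zpowers s) Z0
    rw [sup_comm] at this
    rwa [hcz, hZ0] at this
  have hcA : Nat.card A = p ^ 2 := by
    rw [← sq] at hdvd
    obtain ⟨i, hi, hci⟩ := (Nat.dvd_prime_pow hp).mp hdvd
    have hle : Nat.card Z0 ∣ Nat.card A := Subgroup.card_dvd_of_le hZA
    rw [hZ0, hci] at hle
    have hi1 : 1 ≤ i := by
      rcases Nat.eq_zero_or_pos i with h0 | h0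
      · subst h0
        rw [pow_zero] at hle
        have := Nat.le_of_dvd (by norm_num) hle
        omega
      · exact h0
    rcases Nat.lt_or_ge i 2 with h2 | h2
    · exfalso
      have hi' : i = 1 := by omega
      subst hi'
      rw [pow_one] at hci
      have heq : Z0 = A := by
        apply Subgroup.eq_of_le_of_card_ge hZA
        rw [hci, hZ0]
      exact hsn (heq ▸ hsA)
    · have : i = 2 := by omega
      rw [hci, this]
  -- A is self-centralizing
  have hcomm : ∀ a ∈ A, ∀ b ∈ A, a * b = b * a := by
    -- A is generated by central elements and s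
    intro a ha
    have hacs : a * s = s * a := by
      -- a ∈ Z0 ⊔ zpowers s commutes with s
      have : A ≤ Subgroup.centralizer ({s} : Set S) := by
        rw [hA, sup_le_iff]
        constructor
        · intro z hz
          rw [Subgroup.mem_centralizer_iff]
          intro t ht
          rw [Set.mem_singleton_iff] at ht
          subst ht
          have hzc := hZc hz
          rw [Subgroup.mem_center_iff] at hzc
          exact hzc t
        · rw [Subgroup.zpowers_le]
          rw [Subgroup.mem_centralizer_iff]
          intro t ht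
          rw [Set.mem_singleton_iff] at ht
          subst ht
          rfl
      have h := this ha
      rw [Subgroup.mem_centralizer_iff] at h
      exact (h s (Set.mem_singleton s)).symm
    have : A ≤ Subgroup.centralizer ({a} : Set S) := by
      rw [hA, sup_le_iff]
      constructor
      · intro z hz
        rw [Subgroup.mem_centralizer_iff]
        intro t ht
        rw [Set.mem_singleton_iff] at ht
        subst ht
        have hzc := hZc hz
        rw [Subgroup.mem_center_iff] at hzc
        exact hzc t
      · rw [Subgroup.zpowers_le]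
        rw [Subgroup.mem_centralizer_iff]
        intro t ht
        rw [Set.mem_singleton_iff] at ht
        subst ht
        exact hacs
    intro b hb
    have h := this hb
    rw [Subgroup.mem_centralizer_iff] at h
    exact h a (Set.mem_singleton a)
  have hCA : Subgroup.centralizer (A : Set S) = A := by
    apply le_antisymm
    · intro t ht
      rw [Subgroup.mem_centralizer_iff] at ht
      exact hC t (ht s hsA).symm
    · intro a ha
      rw [Subgroup.mem_centralizer_iff]
      intro b hb
      exact hcomm b hb a ha
  have := nilpotencyClass_of_selfCentralizing_sq (p := p) (m + 1) S hcard ⟨A, hcA, hCA⟩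
  simpa using this

end Cfsg.Agent.Lib.H22.MC3
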