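import Mathlib
import Cfsg.Agent.Lib.H26.MC3Defs
import Cfsg.Agent.Lib.H1.NilpotentBasic
import Cfsg.Agent.Lib.H1.QuotientBasic
import Cfsg.Agent.Lib.H18.PGroupP4

/-!
helper22: piece B1 of helper26's S4079 farm-out (blueprint `tools/blueprints/S4079.md`):
in a `p`-group `S` of maximal class with a normal subgroup `L` of index `p` (`|L| = p^m`, `m ≥ 4`,
`L'` cyclic, `|L| = |Z(L)|·|L'|²`), every element outside `L` moves some element of a normal
elementary abelian subgroup `E ≤ L` of order `p²`.
-/

set_option autoImplicit false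

namespace Cfsg.Agent.Lib.H22.MC3

open Cfsg.Agent.Lib.H26.MC3

universe u

variable {p : ℕ} [Fact p.Prime]

/-- the centre of a `p`-group of maximal class (order `p^(n+1)`, class `n ≥ 3`) has order `p`. -/
theorem card_center_of_maxclass {G : Type u} [Group G] [Finite G] {n : ℕ} (hn : 3 ≤ n)
    (hcard : Nat.card G = p ^ (n + 1)) (hclass : Group.nilpotencyClass G = n) :
    Nat.card ↥(Subgroup.center G) = p := by
  have hp : p.Prime := Fact.out
  have hpG : IsPGroup p G := IsPGroup.of_card hcard
  haveI : Group.IsNilpotent G := hpG.isNilpotent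
  obtain ⟨k, hk⟩ := IsPGroup.iff_card.mp (hpG.to_subgroup (Subgroup.center G))
  have hnt : Nontrivial G := by
    rw [← Finite.one_lt_card_iff_nontrivial, hcard]
    exact Nat.one_lt_pow (by omega) hp.one_lt
  have hk1 : 1 ≤ k := by
    by_contra h
    have hk0 : k = 0 := by omega
    rw [hk0, pow_zero] at hk
    have hbot : Subgroup.center G = ⊥ := Subgroup.card_eq_one.mp hk
    exact (hpG.bot_lt_center).ne' hbot
  have hkm : k ≤ n + 1 := by
    have hdvd : p ^ k ∣ p ^ (n + 1) := by
      rw [← hk, ← hcard]; exact Subgroup.card_subgroup_dvd_card _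
    exact (Nat.pow_dvd_pow_iff_le_right hp.one_lt).mp hdvd
  have hquot : Nat.card (G ⧸ Subgroup.center G) * p ^ k = p ^ (n + 1) := by
    rw [← hk, ← hcard]
    exact (Subgroup.card_eq_card_quotient_mul_card_subgroup (Subgroup.center G)).symm
  have hq : Nat.card (G ⧸ Subgroup.center G) = p ^ (n + 1 - k) := by
    have : p ^ (n + 1) = p ^ (n + 1 - k) * p ^ k := by rw [← pow_add]; congr 1; omega
    rw [this] at hquot
    exact Nat.eq_of_mul_eq_mul_right (pow_pos hp.pos k) hquot
  have h1 := Cfsg.Agent.Lib.H1.nilpotencyClass_le_of_card_eq_prime_pow (p := p) (n + 1 - k)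
    (G ⧸ Subgroup.center G) hq
  rw [Group.nilpotencyClass_quotient_center, hclass] at h1
  have hk' : k = 1 := by
    rcases le_max_iff.mp h1 with h | h <;> omega
  rw [hk, hk', pow_one]

/-- In a `p`-group whose centre and second centre factor both have order `p`, every normal subgroup
of order `> p` contains the second centre. -/
theorem comap_center_le_of_normal {G : Type u} [Group G] [Finite G] (hG : IsPGroup p G)
    (hZ : Nat.card ↥(Subgroup.center G) = p)
    (hZ2 : Nat.card ↥(Subgroup.center (G ⧸ Subgroup.center G)) = p)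
    (N : Subgroup G) [N.Normal] (hN : p < Nat.card ↥N) :
    (Subgroup.center (G ⧸ Subgroup.center G)).comap (QuotientGroup.mk' (Subgroup.center G)) ≤ N := by
  have hp : p.Prime := Fact.out
  haveI : Group.IsNilpotent G := hG.isNilpotent
  have hNb : N ≠ ⊥ := by
    intro h
    rw [h, Subgroup.card_bot] at hN
    exact absurd hN (by have := hp.one_lt; omega)
  -- Z ≤ N
  have hZN : Subgroup.center G ≤ N := by
    have h1 := Cfsg.Agent.Lib.H1.normal_inf_center_ne_bot N hNb
    have h2 : Nat.card ↥(N ⊓ Subgroup.center G) ∣ p := by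
      rw [← hZ]; exact Subgroup.card_dvd_of_le inf_le_right
    rcases (Nat.dvd_prime hp).mp h2 with h | h
    · exact absurd (Subgroup.card_eq_one.mp h) h1
    · have : N ⊓ Subgroup.center G = Subgroup.center G :=
        Subgroup.eq_of_le_of_card_ge inf_le_right (by rw [h, hZ])
      rw [← this]; exact inf_le_left
  -- the image of N
  set Q := G ⧸ Subgroup.center G
  set π := QuotientGroup.mk' (Subgroup.center G) with hπ
  have hQ : IsPGroup p Q := hG.to_quotient _
  haveI : Group.IsNilpotent Q := hQ.isNilpotent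
  haveI hNn : (N.map π).Normal :=
    Subgroup.Normal.map inferInstance π (QuotientGroup.mk'_surjective _)
  have hcN := Cfsg.Agent.Lib.H1.card_map_mk'_mul_of_le hZN
  have hNb' : N.map π ≠ ⊥ := by
    intro h
    rw [h, Subgroup.card_bot, one_mul, hZ] at hcN
    omega
  have h1 := Cfsg.Agent.Lib.H1.normal_inf_center_ne_bot (N.map π) hNb'
  have h2 : Nat.card ↥(N.map π ⊓ Subgroup.center Q) ∣ p := by
    rw [← hZ2]; exact Subgroup.card_dvd_of_le inf_le_right
  have h3 : Subgroup.center Q ≤ N.map π := by
    rcases (Nat.dvd_prime hp).mp h2 with h | h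
    · exact absurd (Subgroup.card_eq_one.mp h) h1
    · have : N.map π ⊓ Subgroup.center Q = Subgroup.center Q :=
        Subgroup.eq_of_le_of_card_ge inf_le_right (by rw [h, hZ2])
      rw [← this]; exact inf_le_left
  calc (Subgroup.center Q).comap π ≤ (N.map π).comap π := Subgroup.comap_mono h3
    _ = N := Cfsg.Agent.Lib.H1.comap_map_mk'_of_le hZN

/-- B1 -/
theorem moves_of_class {S : Type u} [Group S] [Finite S] (hS : IsPGroup p S)
    (L : Subgroup S) [L.Normal] (hidx : L.index = p) {m : ℕ} (hcard : Nat.card ↥L = p ^ m)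
    (hm : 4 ≤ m) (hclass : Group.nilpotencyClass S = m)
    (E : Subgroup S) (hEL : E ≤ L) [E.Normal] (hEc : Nat.card ↥E = p ^ 2) (hEe : ∀ e ∈ E, e ^ p = 1)
    (hcyc : IsCyclic ↥⁅L, L⁆)
    (hic : Nat.card ↥L = Nat.card ↥(L ⊓ Subgroup.centralizer (L : Set S)) * Nat.card ↥⁅L, L⁆ ^ 2)
    (s : S) (hs : s ∉ L) : ∃ e ∈ E, s * e * s⁻¹ ≠ e := by
  have hp : p.Prime := Fact.out
  have hp1 : 1 < p := hp.one_lt
  by_contra hcon
  push Not at hcon
  haveI : Group.IsNilpotent S := hS.isNilpotent
  -- |S| = p^(m+1)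
  have hScard : Nat.card S = p ^ (m + 1) := by
    rw [← Subgroup.card_mul_index L, hidx, hcard, pow_succ]
  -- the centre has order p
  have hZ : Nat.card ↥(Subgroup.center S) = p :=
    card_center_of_maxclass (by omega) hScard hclass
  -- the quotient by the centre
  have hQcard : Nat.card (S ⧸ Subgroup.center S) = p ^ (m - 1 + 1) := by
    have h1 := Subgroup.card_eq_card_quotient_mul_card_subgroup (Subgroup.center S)
    rw [hScard, hZ] at h1
    have h2 : p ^ (m + 1) = p ^ (m - 1 + 1) * p := by rw [← pow_succ]; congr 1; omega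
    rw [h2] at h1
    exact (Nat.eq_of_mul_eq_mul_right hp.pos h1).symm
  have hQclass : Group.nilpotencyClass (S ⧸ Subgroup.center S) = m - 1 := by
    rw [Group.nilpotencyClass_quotient_center, hclass]
  have hZ2 : Nat.card ↥(Subgroup.center (S ⧸ Subgroup.center S)) = p :=
    card_center_of_maxclass (by omega) hQcard hQclass
  set Z2 : Subgroup S :=
    (Subgroup.center (S ⧸ Subgroup.center S)).comap (QuotientGroup.mk' (Subgroup.center S)) with hZ2def
  have hZ2card : Nat.card ↥Z2 = p ^ 2 := by
    rw [hZ2def, Cfsg.Agent.Lib.H1.card_comap_mk', hZ2, hZ, sq]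
  -- E = Z2
  have hpp : p < p ^ 2 := by
    rw [sq]; exact lt_mul_of_one_lt_left hp.pos hp1
  have hZ2E : Z2 ≤ E := comap_center_le_of_normal hS hZ hZ2 E (by rw [hEc]; exact hpp)
  have hEZ2 : Z2 = E := Subgroup.eq_of_le_of_card_ge hZ2E (by rw [hEc, hZ2card])
  -- |L'| ≤ p
  haveI hLn' : (⁅L, L⁆ : Subgroup S).Normal := Subgroup.commutator_normal L L
  have hL'le : Nat.card ↥⁅L, L⁆ ≤ p := by
    by_contra hlt
    push Not at hlt
    have hle : Z2 ≤ ⁅L, L⁆ := comap_center_le_of_normal hS hZ hZ2 ⁅L, L⁆ hlt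
    rw [hEZ2] at hle
    -- E is cyclic
    haveI : IsCyclic ↥E :=
      isCyclic_of_injective (Subgroup.inclusion hle) (Subgroup.inclusion_injective hle)
    obtain ⟨g, hg⟩ := IsCyclic.exists_generator (α := ↥E)
    have hog : orderOf g = p ^ 2 := by
      rw [orderOf_eq_card_of_forall_mem_zpowers hg, hEc]
    have hgp : g ^ p = 1 := by
      apply Subtype.ext
      rw [Subgroup.coe_pow, Subgroup.coe_one]
      exact hEe g g.2
    have hdvd : p ^ 2 ∣ p := by
      rw [← hog]; exact orderOf_dvd_of_pow_eq_one hgp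
    have := Nat.le_of_dvd hp.pos hdvd
    omega
  -- |Z(L)| ≥ p²
  set ZL : Subgroup S := L ⊓ Subgroup.centralizer (L : Set S) with hZLdef
  haveI hZLn : ZL.Normal := by
    rw [hZLdef]; infer_instance
  have hZLcard : p < Nat.card ↥ZL := by
    obtain ⟨j, hj⟩ := IsPGroup.iff_card.mp (hS.to_subgroup ⁅L, L⁆)
    have hj1 : j ≤ 1 := by
      by_contra h
      have h2 : 2 ≤ j := by omega
      have : p ^ 2 ≤ p ^ j := Nat.pow_le_pow_right hp.pos h2
      rw [← hj] at this
      omega
    obtain ⟨i, hi⟩ := IsPGroup.iff_card.mp (hS.to_subgroup ZL)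
    rw [hcard, hi, hj, ← pow_mul, ← pow_add] at hic
    have him : m = i + j * 2 := Nat.pow_right_injective hp.two_le hic
    have hi2 : 2 ≤ i := by omega
    rw [hi]
    calc p < p ^ 2 := hpp
      _ ≤ p ^ i := Nat.pow_le_pow_right hp.pos hi2
  have hEZL : E ≤ ZL := by
    rw [← hEZ2]; exact comap_center_le_of_normal hS hZ hZ2 ZL hZLcard
  -- the centralizer of E is everything
  set H : Subgroup S := Subgroup.centralizer (E : Set S) with hH
  have hLH : L ≤ H := by
    intro l hl
    rw [hH, Subgroup.mem_centralizer_iff]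
    intro e he
    have hec : e ∈ Subgroup.centralizer (L : Set S) := (hEZL he).2
    rw [Subgroup.mem_centralizer_iff] at hec
    exact (hec l hl).symm
  have hsH : s ∈ H := by
    rw [hH, Subgroup.mem_centralizer_iff]
    intro e he
    have := hcon e he
    -- s e s⁻¹ = e  →  e s = s e
    calc e * s = (s * e * s⁻¹) * s := by rw [this]
      _ = s * e := by group
  have hHtop : H = ⊤ := by
    have hdvd : H.index ∣ L.index := Subgroup.index_dvd_of_le hLH
    rw [hidx] at hdvd
    rcases (Nat.dvd_prime hp).mp hdvd with h | h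
    · exact Subgroup.index_eq_one.mp h
    · exfalso
      have hcH : Nat.card ↥H = Nat.card ↥L := by
        have h1 := Subgroup.card_mul_index H
        have h2 := Subgroup.card_mul_index L
        rw [h] at h1
        rw [hidx] at h2
        rw [← h2] at h1
        exact Nat.eq_of_mul_eq_mul_right hp.pos h1
      have : L = H := Subgroup.eq_of_le_of_card_ge hLH (by rw [hcH])
      exact hs (this ▸ hsH)
  have hEcen : E ≤ Subgroup.center S := by
    intro e he
    rw [Subgroup.mem_center_iff]
    intro g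
    have hg : g ∈ H := by rw [hHtop]; exact Subgroup.mem_top g
    rw [hH, Subgroup.mem_centralizer_iff] at hg
    exact (hg e he).symm
  have := Subgroup.card_dvd_of_le hEcen
  rw [hEc, hZ] at this
  have := Nat.le_of_dvd hp.pos this
  omega

end Cfsg.Agent.Lib.H22.MC3
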