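import Mathlib
import Cfsg.Prelude.Def_CaseTheorems

/-!
# S3806 piece SEC: a section that is abelian of exponent `p` is bounded by the sectional rank (helper22)
-/

set_option autoImplicit false

namespace Cfsg.Agent.Lib.H22.MCS

open scoped commutatorElement

/-- SEC. -/
theorem relIndex_le_of_sectionalPRankLE {S : Type*} [Group S] [Finite S] {p k : ℕ}
    (hs : Cfsg.SectionalPRankLE p k S) (H K : Subgroup S) (hKH : K ≤ H) [K.Normal]
    (hcomm : ∀ x ∈ H, ∀ y ∈ H, ⁅x, y⁆ ∈ K) (hpow : ∀ x ∈ H, x ^ p ∈ K) : K.relIndex H ≤ p ^ k := by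
  have hq := hs H (K.subgroupOf H)
  have hmul : ∀ a b : ↥H ⧸ K.subgroupOf H, a * b = b * a := by
    intro a b
    obtain ⟨x, rfl⟩ := QuotientGroup.mk'_surjective _ a
    obtain ⟨y, rfl⟩ := QuotientGroup.mk'_surjective _ b
    rw [← commutatorElement_eq_one_iff_mul_comm, ← map_commutatorElement, QuotientGroup.mk'_apply,
      QuotientGroup.eq_one_iff, Subgroup.mem_subgroupOf]
    exact hcomm x x.2 y y.2
  have hexp : ∀ a : ↥H ⧸ K.subgroupOf H, a ^ p = 1 := by
    intro a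
    obtain ⟨x, rfl⟩ := QuotientGroup.mk'_surjective _ a
    rw [← map_pow, QuotientGroup.mk'_apply, QuotientGroup.eq_one_iff, Subgroup.mem_subgroupOf]
    exact hpow x x.2
  have hc : IsMulCommutative ↥(⊤ : Subgroup (↥H ⧸ K.subgroupOf H)) :=
    ⟨⟨fun a b => Subtype.ext (hmul a b)⟩⟩
  have h1 := hq ⊤ hc (fun a _ => hexp a)
  rw [Subgroup.card_top, ← Subgroup.index_eq_card] at h1
  exact h1

end Cfsg.Agent.Lib.H22.MCS
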