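import Mathlib
import Cfsg.Agent.Lib.H5.Ord.SylPrime
import Cfsg.Agent.Lib.H20.SylowExtra

set_option autoImplicit false

/-! # Order 5040: generic fixed point lemmas and the "no overgroup of order 240" lemma -/

namespace Cfsg.Agent.Lib.H22.O5040

open Subgroup MulAction

variable {G : Type*} [Group G]

/-- An element of `zpowers x` fixing a point is trivial when `x` has prime order and no fixed
point. -/
theorem eq_one_of_smul_eq {Ω : Type*} [MulAction G Ω] {p : ℕ} [Fact p.Prime] {x : G}
    (hx : orderOf x = p) (hfree : ∀ ω : Ω, x • ω ≠ ω) {h : G} (hh : h ∈ zpowers x) {ω : Ω}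
    (hω : h • ω = ω) : h = 1 := by
  have hp : p.Prime := Fact.out
  have hfin : IsOfFinOrder x := by
    rw [← orderOf_pos_iff, hx]; exact hp.pos
  obtain ⟨n, hn⟩ := (hfin.mem_powers_iff_mem_zpowers.mpr hh)
  have hn' : x ^ n = h := hn
  subst hn'
  by_cases hpn : p ∣ n
  · obtain ⟨k, rfl⟩ := hpn
    rw [pow_mul, ← hx, pow_orderOf_eq_one, one_pow]
  · exfalso
    have hcop : n.Coprime (orderOf x) := by
      rw [hx]
      exact ((Nat.Prime.coprime_iff_not_dvd hp).mpr hpn).symm
    obtain ⟨m, hm⟩ := exists_pow_eq_self_of_coprime hcop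
    apply hfree ω
    have : (x ^ n) ^ m • ω = ω := by
      clear hm
      induction m with
      | zero => simp
      | succ m ih => rw [pow_succ, mul_smul, hω, ih]
    rw [hm] at this
    exact this

/-- If `s` inverts `x` of odd prime order `p` acting without fixed points, then
`p * fix(s) ≤ |Ω|`. -/
theorem card_fixedBy_mul_le_of_invert {Ω : Type*} [MulAction G Ω] [Finite Ω] {p : ℕ}
    [Fact p.Prime] (hp2 : p ≠ 2) {x s : G} (hx : orderOf x = p) (hinv : s * x * s⁻¹ = x⁻¹)
    (hfree : ∀ ω : Ω, x • ω ≠ ω) : p * Nat.card (fixedBy Ω s) ≤ Nat.card Ω := by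
  have hp : p.Prime := Fact.out
  have hcardH : Nat.card (zpowers x) = p := by rw [Nat.card_zpowers, hx]
  have hsinv : ∀ h ∈ zpowers x, s * h * s⁻¹ = h⁻¹ := by
    intro h hh
    obtain ⟨k, rfl⟩ := mem_zpowers_iff.mp hh
    rw [← zpow_neg, ← inv_zpow', ← hinv]
    exact (MulAut.conj s).toMonoidHom.map_zpow x k |>.symm ▸ rfl
  have hodd : ∀ k ∈ zpowers x, k * k = 1 → k = 1 := by
    intro k hk hkk
    have h1 : orderOf k ∣ 2 := orderOf_dvd_of_pow_eq_one (by rw [pow_two, hkk])
    have h2 : orderOf k ∣ p := by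
      have := orderOf_dvd_natCard (⟨k, hk⟩ : zpowers x)
      rw [hcardH, Subgroup.orderOf_mk] at this
      exact this
    have h3 : orderOf k ∣ Nat.gcd 2 p := Nat.dvd_gcd h1 h2
    have h4 : Nat.gcd 2 p = 1 := by
      rw [Nat.coprime_primes Nat.prime_two hp |>.mpr (Ne.symm hp2)]
    rw [h4, Nat.dvd_one] at h3
    exact orderOf_eq_one_iff.mp h3
  let f : fixedBy Ω s × zpowers x → Ω := fun a => (a.2 : G) • (a.1 : Ω)
  have hf : Function.Injective f := by
    rintro ⟨⟨ω, hω⟩, ⟨h, hh⟩⟩ ⟨⟨ω', hω'⟩, ⟨h', hh'⟩⟩ heq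
    have heq' : h • ω = h' • ω' := heq
    have hω1 : s • ω = ω := hω
    have hω2 : s • ω' = ω' := hω'
    set k := h'⁻¹ * h with hk
    have hkH : k ∈ zpowers x := (zpowers x).mul_mem ((zpowers x).inv_mem hh') hh
    have hkω : k • ω = ω' := by
      rw [hk, mul_smul, heq', ← mul_smul, inv_mul_cancel, one_smul]
    have hsk : s * k = k⁻¹ * s := by
      have := hsinv k hkH
      calc s * k = (s * k * s⁻¹) * s := by group
        _ = k⁻¹ * s := by rw [this]
    have h1 : k⁻¹ • ω = k • ω := by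
      have : s • (k • ω) = k • ω := by rw [hkω]; exact hω2
      rw [← mul_smul, hsk, mul_smul, hω1] at this
      exact this
    have h2 : (k * k) • ω = ω := by
      rw [mul_smul, ← h1, ← mul_smul, mul_inv_cancel, one_smul]
    have h3 : k * k = 1 :=
      eq_one_of_smul_eq hx hfree ((zpowers x).mul_mem hkH hkH) h2
    have h4 : k = 1 := hodd k hkH h3
    have h5 : h = h' := by
      have : h'⁻¹ * h = 1 := h4
      calc h = h' * (h'⁻¹ * h) := by group
        _ = h' := by rw [this, mul_one]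
    have h6 : ω = ω' := by
      rw [← hkω, h4, one_smul]
    subst h5 h6
    rfl
  have := Nat.card_le_card_of_injective f hf
  rw [Nat.card_prod, hcardH] at this
  linarith [this, Nat.mul_comm p (Nat.card (fixedBy Ω s))]

/-- If `y` of prime order `p` commutes with `s` and fixes no fixed point of `s`, then
`p ∣ fix(s)`. -/
theorem dvd_card_fixedBy_of_commute {Ω : Type*} [MulAction G Ω] [Finite Ω] {p : ℕ}
    [Fact p.Prime] {y s : G} (hy : orderOf y = p) (hys : Commute y s)
    (hfree : ∀ ω : Ω, s • ω = ω → y • ω ≠ ω) : p ∣ Nat.card (fixedBy Ω s) := by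
  let H : Subgroup G := zpowers y
  have hHs : ∀ h ∈ H, Commute h s := by
    intro h hh
    obtain ⟨k, rfl⟩ := mem_zpowers_iff.mp hh
    exact hys.zpow_left k
  let S : SubMulAction H Ω :=
    { carrier := fixedBy Ω s
      smul_mem' := by
        intro h ω hω
        have hω' : s • ω = ω := hω
        show s • ((h : G) • ω) = (h : G) • ω
        rw [← mul_smul, ← (hHs h h.2).eq, mul_smul, hω'] }
  have hpg : IsPGroup p H := by
    apply IsPGroup.of_card (n := 1)
    rw [pow_one, Nat.card_zpowers, hy]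
  have key := hpg.card_modEq_card_fixedPoints S
  have hcard : Nat.card S = Nat.card (fixedBy Ω s) := rfl
  have hfp : Nat.card (fixedPoints H S) = 0 := by
    haveI : IsEmpty (fixedPoints H S) := by
      constructor
      rintro ⟨⟨a, ha⟩, ha'⟩
      have h1 : y • a = a := by
        have := ha' ⟨y, mem_zpowers y⟩
        exact congrArg Subtype.val this
      exact hfree a ha h1
    exact Nat.card_of_isEmpty
  rw [hfp, hcard] at key
  exact (Nat.modEq_zero_iff_dvd).mp key

/-- If `s ∈ M` fixes exactly one coset of `M`, then `C(s) ≤ M`. -/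
theorem centralizer_le_of_card_fixedBy_eq_one (M : Subgroup G) {s : G} (hs : s ∈ M)
    (h1 : Nat.card (fixedBy (G ⧸ M) s) = 1) : centralizer ({s} : Set G) ≤ M := by
  intro c hc
  have hcs : c * s = s * c := by
    rw [mem_centralizer_iff] at hc
    exact (hc s (Set.mem_singleton s)).symm
  have hbase : ((1 : G) : G ⧸ M) ∈ fixedBy (G ⧸ M) s := by
    rw [mem_fixedBy, MulAction.Quotient.smul_mk, smul_eq_mul, mul_one, QuotientGroup.eq]
    simpa using M.inv_mem hs
  have hcfix : ((c : G) : G ⧸ M) ∈ fixedBy (G ⧸ M) s := by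
    rw [mem_fixedBy, MulAction.Quotient.smul_mk, smul_eq_mul, ← hcs, QuotientGroup.eq]
    have : (c * s)⁻¹ * c = s⁻¹ := by group
    rw [this]
    exact M.inv_mem hs
  haveI : Subsingleton (fixedBy (G ⧸ M) s) := (Nat.card_eq_one_iff_unique.mp h1).1
  have := Subsingleton.elim (⟨_, hbase⟩ : fixedBy (G ⧸ M) s) ⟨_, hcfix⟩
  have h2 : ((1 : G) : G ⧸ M) = ((c : G) : G ⧸ M) := congrArg Subtype.val this
  rw [QuotientGroup.eq] at h2
  simpa using h2

end Cfsg.Agent.Lib.H22.O5040
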