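import Mathlib
import Cfsg.Agent.Lib.H22.O5040A
import Cfsg.Agent.Lib.H5.Ord.SylPrime2

set_option autoImplicit false
set_option maxHeartbeats 400000

/-! # Order 5040: no subgroup of order 240 contains the normalizer of a Sylow 5-subgroup -/

namespace Cfsg.Agent.Lib.H22.O5040

open Subgroup MulAction Cfsg.Agent.Lib.H5.SylPrime

variable {G : Type*} [Group G]

/-- all cosets fixed when the number of fixed cosets equals the index -/
theorem conj_mem_of_card_fixedBy_eq [Finite G] (H : Subgroup G) {y : G}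
    (hy : Nat.card (fixedBy (G ⧸ H) y) = H.index) : ∀ g : G, g⁻¹ * y * g ∈ H := by
  have huniv : fixedBy (G ⧸ H) y = Set.univ := by
    have h1 : (fixedBy (G ⧸ H) y).ncard = (Set.univ : Set (G ⧸ H)).ncard := by
      rw [← Nat.card_coe_set_eq, hy, Subgroup.index_eq_card, Set.ncard_univ]
    exact Set.eq_of_subset_of_ncard_le (Set.subset_univ _) h1.ge Set.finite_univ
  intro g
  have : ((g : G) : G ⧸ H) ∈ fixedBy (G ⧸ H) y := by rw [huniv]; exact Set.mem_univ _
  rw [mem_fixedBy, MulAction.Quotient.smul_mk, smul_eq_mul, QuotientGroup.eq] at this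
  have h2 := H.inv_mem this
  have e : ((y * g)⁻¹ * g)⁻¹ = g⁻¹ * y * g := by group
  rwa [e] at h2

/-- a fixed coset gives a conjugate in the subgroup -/
theorem conj_mem_of_smul_eq (H : Subgroup G) {y g : G}
    (h : y • ((g : G) : G ⧸ H) = ((g : G) : G ⧸ H)) : g⁻¹ * y * g ∈ H := by
  rw [MulAction.Quotient.smul_mk, smul_eq_mul, QuotientGroup.eq] at h
  have h2 := H.inv_mem h
  have e : ((y * g)⁻¹ * g)⁻¹ = g⁻¹ * y * g := by group
  rwa [e] at h2

theorem orderOf_conj' (g y : G) : orderOf (g⁻¹ * y * g) = orderOf y := by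
  have : g⁻¹ * y * g = (MulAut.conj g⁻¹) y := by simp
  rw [this, MulEquiv.orderOf_eq]

/-- **Lemma X.** -/
theorem no_overgroup_240 [Finite G] [IsSimpleGroup G] (hG : Nat.card G = 5040)
    [Fact (Nat.Prime 5)] (P : Sylow 5 G) (hP : Nat.card (P : Subgroup G) = 5)
    (hN : Nat.card (normalizer ((P : Subgroup G) : Set G)) = 40)
    (M : Subgroup G) (hNM : normalizer ((P : Subgroup G) : Set G) ≤ M) (hM : Nat.card M = 240)
    {x s y : G} (hx : orderOf x = 7) (hs : orderOf s = 2) (hy : orderOf y = 3)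
    (hinv : s * x * s⁻¹ = x⁻¹) (hsN : s ∈ normalizer ((P : Subgroup G) : Set G))
    (hsC : s ∉ centralizer ((P : Subgroup G) : Set G)) (hys : Commute y s) : False := by
  haveI : Fact (Nat.Prime 7) := ⟨by norm_num⟩
  haveI : Fact (Nat.Prime 3) := ⟨by norm_num⟩
  haveI : Fact (Nat.Prime 2) := ⟨Nat.prime_two⟩
  set N := normalizer ((P : Subgroup G) : Set G) with hNdef
  have hsM : s ∈ M := hNM hsN
  have hss : s * s = 1 := by rw [← pow_two, ← hs, pow_orderOf_eq_one]
  have hsinv : s⁻¹ = s := inv_eq_of_mul_eq_one_left hss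
  have hidx : M.index = 21 := by
    have := M.card_mul_index
    rw [hM, hG] at this
    omega
  -- x acts freely on G ⧸ M
  have hfreex : ∀ q : G ⧸ M, x • q ≠ q := by
    intro q
    induction q using QuotientGroup.induction_on with
    | H g =>
      intro heq
      have h1 := conj_mem_of_smul_eq M heq
      have h2 : orderOf (g⁻¹ * x * g) = 7 := by rw [orderOf_conj', hx]
      have h3 : 7 ∣ 240 := by
        rw [← hM, ← h2]
        have := orderOf_dvd_natCard (⟨_, h1⟩ : M)
        rwa [Subgroup.orderOf_mk] at this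
      omega
  have h7 := card_fixedBy_mul_le_of_invert (Ω := G ⧸ M) (p := 7) (by norm_num) hx hinv hfreex
  have hcardΩ : Nat.card (G ⧸ M) = 21 := by rw [← Subgroup.index_eq_card, hidx]
  have hpar := four_dvd_index_sub_card_fixedBy (by rw [hG]; norm_num) M hs
  have hpos : 1 ≤ Nat.card (fixedBy (G ⧸ M) s) := by
    apply Nat.card_pos_iff.mpr
    refine ⟨⟨⟨((1 : G) : G ⧸ M), ?_⟩⟩, inferInstance⟩
    rw [mem_fixedBy, MulAction.Quotient.smul_mk, smul_eq_mul, mul_one, QuotientGroup.eq]
    simpa using M.inv_mem hsM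
  rw [hidx] at hpar
  rw [hcardΩ] at h7
  have hf1 : Nat.card (fixedBy (G ⧸ M) s) = 1 := by omega
  have hyM : y ∈ M := by
    apply centralizer_le_of_card_fixedBy_eq_one M hsM hf1
    rw [mem_centralizer_iff]
    intro z hz
    rw [Set.mem_singleton_iff] at hz
    rw [hz]
    exact hys.eq.symm
  -- now work inside `M`
  set Nm : Subgroup M := N.subgroupOf M with hNm
  have hNmcard : Nat.card Nm = 40 := by
    rw [← hN]
    exact Nat.card_congr (Subgroup.subgroupOfEquivOfLe hNM).toEquiv
  have hNmidx : Nm.index = 6 := by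
    have := Nm.card_mul_index
    rw [hNmcard, hM] at this
    omega
  set s' : M := ⟨s, hsM⟩ with hs'
  set y' : M := ⟨y, hyM⟩ with hy'
  have hs'ord : orderOf s' = 2 := by rw [hs', Subgroup.orderOf_mk, hs]
  have hy'ord : orderOf y' = 3 := by rw [hy', Subgroup.orderOf_mk, hy]
  have hcomm' : Commute y' s' := Subtype.ext hys.eq
  have hmod := card_modEq_card_fixedBy (Ω := M ⧸ Nm) (r := 2) (k := 1) (y := s')
    (by rw [pow_one, hs'ord])
  have hcardΩ' : Nat.card (M ⧸ Nm) = 6 := by rw [← Subgroup.index_eq_card, hNmidx]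
  rw [hcardΩ'] at hmod
  have hfree' : ∀ q : M ⧸ Nm, s' • q = q → y' • q ≠ q := by
    intro q _
    induction q using QuotientGroup.induction_on with
    | H m =>
      intro heq
      have h1 := conj_mem_of_smul_eq Nm heq
      have h2 : orderOf (m⁻¹ * y' * m) = 3 := by rw [orderOf_conj', hy'ord]
      have h3 : 3 ∣ 40 := by
        rw [← hNmcard, ← h2]
        have := orderOf_dvd_natCard (⟨_, h1⟩ : Nm)
        rwa [Subgroup.orderOf_mk] at this
      omega
  have h3dvd := dvd_card_fixedBy_of_commute (Ω := M ⧸ Nm) (p := 3) hy'ord hcomm' hfree'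
  have hle := card_fixedBy_le_index Nm s'
  rw [hNmidx] at hle
  have hpos' : 1 ≤ Nat.card (fixedBy (M ⧸ Nm) s') := by
    apply Nat.card_pos_iff.mpr
    refine ⟨⟨⟨((1 : M) : M ⧸ Nm), ?_⟩⟩, inferInstance⟩
    rw [mem_fixedBy, MulAction.Quotient.smul_mk, smul_eq_mul, mul_one, QuotientGroup.eq]
    have : s' ∈ Nm := by rw [hNm, Subgroup.mem_subgroupOf]; exact hsN
    simpa using Nm.inv_mem this
  have hf6 : Nat.card (fixedBy (M ⧸ Nm) s') = Nm.index := by
    rw [hNmidx]
    obtain ⟨c, hc⟩ := h3dvd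
    have hmod' := hmod
    unfold Nat.ModEq at hmod'
    omega
  have hall' := conj_mem_of_card_fixedBy_eq Nm hf6
  have hall : ∀ m ∈ M, m⁻¹ * s * m ∈ N := by
    intro m hm
    have := hall' ⟨m, hm⟩
    rw [hNm, Subgroup.mem_subgroupOf] at this
    exact this
  -- `s` inverts `P`
  have hPinv := conj_eq_inv_of_not_mem_centralizer (P : Subgroup G) hP hsN
    (by rw [hss]; exact Subgroup.one_mem _) hsC
  have hPN : (P : Subgroup G) ≤ N := le_normalizer
  -- every element of `M` normalizes `P`
  have hMN : M ≤ N := by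
    intro m hm
    apply mem_normalizer_fintype
    intro a ha
    have haP : a ∈ (P : Subgroup G) := ha
    have haM : a ∈ M := hNM (hPN haP)
    have ha5 : a ^ 5 = 1 := by
      have := pow_card_eq_one' (G := (P : Subgroup G)) (x := ⟨a, haP⟩)
      rw [hP] at this
      exact congrArg Subtype.val this
    set b := m * a * m⁻¹ with hb
    have hbb : b * b ∈ N := by
      have h1 : m * s * m⁻¹ ∈ N := by
        have := hall m⁻¹ (M.inv_mem hm)
        simpa using this
      have h2 : (a * m⁻¹)⁻¹ * s * (a * m⁻¹) ∈ N := hall _ (M.mul_mem haM (M.inv_mem hm))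
      have h3 : s * a⁻¹ * s = a := by
        have := hPinv a⁻¹ ((P : Subgroup G).inv_mem haP)
        rw [inv_inv, hsinv] at this
        exact this
      have e : b * b = (m * s * m⁻¹) * ((a * m⁻¹)⁻¹ * s * (a * m⁻¹)) := by
        calc b * b = m * (a * a) * m⁻¹ := by rw [hb]; group
          _ = m * ((s * a⁻¹ * s) * a) * m⁻¹ := by rw [h3]
          _ = _ := by group
      rw [e]
      exact N.mul_mem h1 h2
    have hb5 : b ^ 5 = 1 := by
      rw [hb, conj_pow, ha5]; group
    have hbN : b ∈ N := by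
      have e : b = (b * b) ^ 3 := by
        calc b = b ^ 5 * b := by rw [hb5, one_mul]
          _ = b ^ 6 := (pow_succ b 5).symm
          _ = (b * b) ^ 3 := by rw [← pow_two, ← pow_mul]
      rw [e]
      exact N.pow_mem hbb 3
    have hbord : orderOf b ∣ 5 := orderOf_dvd_of_pow_eq_one hb5
    rcases (Nat.dvd_prime (by norm_num : Nat.Prime 5)).mp hbord with h1 | h5
    · exact Cfsg.Agent.Lib.H20.mem_sylow_of_mem_normalizer P (e := 0) (by rw [h1, pow_zero]) hbN
    · exact Cfsg.Agent.Lib.H20.mem_sylow_of_mem_normalizer P (e := 1) (by rw [h5, pow_one]) hbN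
  have := Subgroup.card_le_of_le hMN
  rw [hM, hN] at this
  omega

end Cfsg.Agent.Lib.H22.O5040
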