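import Mathlib
import Cfsg.Agent.Lib.H22.O5040B
import Cfsg.Agent.Lib.H5.Ord.GenTests

set_option autoImplicit false
set_option maxHeartbeats 400000

/-! # Order 5040: overgroups of `N(P₅)` and Sylow numerics -/

namespace Cfsg.Agent.Lib.H22.O5040

open Subgroup MulAction Cfsg.Agent.Lib.H5 Cfsg.Agent.Lib.H5.SylPrime

variable {G : Type*} [Group G]

theorem not_comm [Finite G] [IsSimpleGroup G] (hG : Nat.card G = 5040) : ¬ IsMulCommutative G :=
  not_isMulCommutative_of_card_not_prime (by rw [hG]; norm_num)

/-- a proper overgroup of `N(P₅)` has order 240 -/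
theorem card_overgroup [Finite G] [IsSimpleGroup G] (hG : Nat.card G = 5040)
    [Fact (Nat.Prime 5)] (P : Sylow 5 G)
    (hN : Nat.card (normalizer ((P : Subgroup G) : Set G)) = 40)
    (M : Subgroup G) (hNM : normalizer ((P : Subgroup G) : Set G) ≤ M)
    (hne : M ≠ normalizer ((P : Subgroup G) : Set G)) (htop : M ≠ ⊤) : Nat.card M = 240 := by
  set N := normalizer ((P : Subgroup G) : Set G) with hNdef
  have hPM : (P : Subgroup G) ≤ M := le_normalizer.trans hNM
  have hmod := relIndex_normalizer_modEq_one' P hPM
  rw [← hNdef] at hmod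
  have hNidx : N.index = 126 := by
    have := N.card_mul_index
    rw [hN, hG] at this
    omega
  have h1 := Subgroup.relIndex_mul_index hNM
  rw [hNidx] at h1
  have hk1 : N.relIndex M ≠ 1 := by
    intro h
    apply hne
    exact le_antisymm (Subgroup.relIndex_eq_one.mp h) hNM
  have hi1 : M.index ≠ 1 := by
    intro h
    exact htop (Subgroup.index_eq_one.mp h)
  have hi6 : M.index ≠ 6 := by
    intro h
    have := two_mul_card_dvd_factorial_index (not_comm hG) M htop
    rw [h, hG] at this
    norm_num at this
  have hMcard := M.card_mul_index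
  rw [hG] at hMcard
  set k := N.relIndex M
  set i := M.index
  have hk : k ∣ 126 := ⟨i, h1.symm⟩
  have hk126 : k ≤ 126 := Nat.le_of_dvd (by norm_num) hk
  unfold Nat.ModEq at hmod
  have hi : i = 21 := by
    interval_cases k <;> omega
  rw [hi] at hMcard
  omega

end Cfsg.Agent.Lib.H22.O5040
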