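import Mathlib
import Cfsg.Agent.Lib.H22.O5040C
import Cfsg.Agent.Lib.H5.Ord.NCInv
import Cfsg.Agent.Lib.H2.SimpleIndex

set_option autoImplicit false
set_option maxHeartbeats 400000

/-! # Order 5040: the centralizer of the central involution of `N(P₅)` when `|C(P₅)| = 10` -/

namespace Cfsg.Agent.Lib.H22.O5040

open Subgroup MulAction Cfsg.Agent.Lib.H5 Cfsg.Agent.Lib.H5.SylPrime

variable {G : Type*} [Group G]

theorem sq_eq_one_of_orderOf_two {a : G} (ha : orderOf a = 2) : a * a = 1 := by
  rw [← pow_two, ← ha, pow_orderOf_eq_one]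

theorem ne_one_of_orderOf_two {a : G} (ha : orderOf a = 2) : a ≠ 1 := by
  intro h
  rw [h, orderOf_one] at ha
  omega

theorem orderOf_two_of_sq {a : G} (ha : a * a = 1) (ha1 : a ≠ 1) : orderOf a = 2 := by
  have h1 : orderOf a ∣ 2 := orderOf_dvd_of_pow_eq_one (by rw [pow_two, ha])
  have h2 : orderOf a ≠ 1 := fun h => ha1 (orderOf_eq_one_iff.mp h)
  have h3 : orderOf a ≤ 2 := Nat.le_of_dvd (by norm_num) h1
  have h4 : 0 < orderOf a := Nat.pos_of_dvd_of_pos h1 (by norm_num)
  omega

/-- an abelian group of order 10 has a unique involution -/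
theorem involution_unique [Finite G] (C : Subgroup G) (hcomm : ∀ a ∈ C, ∀ b ∈ C, a * b = b * a)
    (hC : Nat.card C = 10) {a b : G} (ha : a ∈ C) (hb : b ∈ C) (ha2 : orderOf a = 2)
    (hb2 : orderOf b = 2) : a = b := by
  obtain ⟨j, hj, hjd⟩ := card_invSub C hcomm
  rw [hC] at hjd
  have hj1 : j ≤ 1 := by
    by_contra h
    push Not at h
    have h4 : 2 ^ 2 ∣ 2 ^ j := pow_dvd_pow 2 h
    have := h4.trans hjd
    norm_num at this
  have hcard : Nat.card (invSub C hcomm) ≤ 2 := by
    rw [hj]
    calc 2 ^ j ≤ 2 ^ 1 := Nat.pow_le_pow_right (by norm_num) hj1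
      _ = 2 := by norm_num
  by_contra hab
  have haa := sq_eq_one_of_orderOf_two ha2
  have hbb := sq_eq_one_of_orderOf_two hb2
  have ha1 := ne_one_of_orderOf_two ha2
  have hb1 := ne_one_of_orderOf_two hb2
  have hsub : ({1, a, b} : Set G) ⊆ ((invSub C hcomm : Subgroup G) : Set G) := by
    intro g hg
    rcases hg with rfl | rfl | rfl
    · exact one_mem _
    · exact ⟨ha, haa⟩
    · exact ⟨hb, hbb⟩
  have h3 : ({1, a, b} : Set G).ncard = 3 :=
    Set.ncard_eq_three.mpr ⟨1, a, b, ha1.symm, hb1.symm, hab, rfl⟩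
  have h4 := Set.ncard_le_ncard hsub (Set.toFinite _)
  rw [h3] at h4
  have h5 : (((invSub C hcomm : Subgroup G) : Set G)).ncard = Nat.card (invSub C hcomm) := by
    rw [← Nat.card_coe_set_eq]; rfl
  omega

theorem card_centralizer_eq_of_isConj [Finite G] {a b : G} (hab : IsConj a b) :
    Nat.card (centralizer ({a} : Set G)) = Nat.card (centralizer ({b} : Set G)) := by
  have h1 := card_conj_mul_card_centralizer a
  have h2 := card_conj_mul_card_centralizer b
  have e : Nat.card {g : G // IsConj a g} = Nat.card {g : G // IsConj b g} := by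
    apply Nat.card_congr
    exact Equiv.subtypeEquivRight (fun g => ⟨fun h => hab.symm.trans h, fun h => hab.trans h⟩)
  have hpos : 0 < Nat.card {g : G // IsConj b g} := by
    apply Nat.card_pos_iff.mpr
    exact ⟨⟨⟨b, IsConj.refl b⟩⟩, inferInstance⟩
  rw [e] at h1
  exact Nat.eq_of_mul_eq_mul_left hpos (h1.trans h2.symm)

theorem isConj_conj_inv_mul (g z : G) : IsConj z (g⁻¹ * z * g) := by
  rw [isConj_iff]
  exact ⟨g⁻¹, by group⟩

/-- `C(u) = N(P)` for the involution `u` of `C(P)`. -/
theorem centralizer_involution_eq [Finite G] [IsSimpleGroup G] (hG : Nat.card G = 5040)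
    [Fact (Nat.Prime 5)] (P : Sylow 5 G) (hP : Nat.card (P : Subgroup G) = 5)
    (hN : Nat.card (normalizer ((P : Subgroup G) : Set G)) = 40)
    (hC : Nat.card (centralizer ((P : Subgroup G) : Set G)) = 10)
    {x s y : G} (hx : orderOf x = 7) (hs : orderOf s = 2) (hy : orderOf y = 3)
    (hinv : s * x * s⁻¹ = x⁻¹) (hsN : s ∈ normalizer ((P : Subgroup G) : Set G))
    (hsC : s ∉ centralizer ((P : Subgroup G) : Set G)) (hys : Commute y s)
    {u : G} (hu : orderOf u = 2) (huC : u ∈ centralizer ((P : Subgroup G) : Set G)) :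
    centralizer ({u} : Set G) = normalizer ((P : Subgroup G) : Set G) := by
  haveI : Fact (Nat.Prime 2) := ⟨Nat.prime_two⟩
  have hcomm := centralizer_comm_of_card (p := 5) (q := 2) (j := 1) (P : Subgroup G) hP
    (by norm_num) (by norm_num) (by rw [hC]; norm_num)
  have hNle : normalizer ((P : Subgroup G) : Set G) ≤ centralizer ({u} : Set G) := by
    intro g hg
    have h1 := conj_mem_centralizer_of_mem_normalizer (P : Subgroup G) hg huC
    have h2 : orderOf (g * u * g⁻¹) = 2 := by
      have : g * u * g⁻¹ = (MulAut.conj g) u := by simp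
      rw [this, MulEquiv.orderOf_eq, hu]
    have h3 := involution_unique _ hcomm hC h1 huC h2 hu
    rw [mem_centralizer_iff]
    intro m hm
    rw [Set.mem_singleton_iff] at hm
    subst hm
    calc m * g = (g * m * g⁻¹) * g := by rw [h3]
      _ = g * m := by group
  by_contra hne
  have htop : centralizer ({u} : Set G) ≠ ⊤ := by
    intro htop
    have hcen : u ∈ center G := by
      rw [mem_center_iff]
      intro g
      have : g ∈ centralizer ({u} : Set G) := by rw [htop]; exact mem_top g
      rw [mem_centralizer_iff] at this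
      exact (this u (Set.mem_singleton u)).symm
    rcases Cfsg.Agent.Lib.H2.simple_dichotomy hu with h2 | ⟨hbot, -⟩
    · rw [hG] at h2; omega
    · rw [hbot, mem_bot] at hcen
      exact ne_one_of_orderOf_two hu hcen
  have h240 := card_overgroup hG P hN _ hNle hne htop
  exact no_overgroup_240 hG P hP hN _ hNle h240 hx hs hy hinv hsN hsC hys

end Cfsg.Agent.Lib.H22.O5040
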