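import Mathlib
import Cfsg.Agent.Lib.H5.Ord.NCInv

set_option autoImplicit false
set_option maxHeartbeats 400000

/-! # Order 5040: two classes of involutions in `N(P) \ C(P)`; commuting conjugates -/

namespace Cfsg.Agent.Lib.H22.O5040

open Subgroup MulAction Cfsg.Agent.Lib.H5 Cfsg.Agent.Lib.H5.SylPrime

variable {G : Type*} [Group G]

/-- the involutions of `N(P) \ C(P)` -/
def outerInvols (P : Subgroup G) : Set G :=
  {g | g ∈ normalizer (P : Set G) ∧ g ∉ centralizer (P : Set G) ∧ g * g = 1}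

theorem ncard_outerInvols_le [Finite G] {p : ℕ} [Fact p.Prime] (P : Subgroup G)
    (hP : Nat.card P = p) : (outerInvols P).ncard ≤ Nat.card (centralizer (P : Set G)) := by
  rcases Set.eq_empty_or_nonempty (outerInvols P) with h | ⟨g, hg⟩
  · rw [h, Set.ncard_empty]; exact Nat.zero_le _
  · rw [← Nat.card_coe_set_eq]
    let f : outerInvols P → centralizer (P : Set G) :=
      fun z => ⟨g⁻¹ * z, inv_mul_mem_centralizer P hP hg.1 z.2.1 hg.2.2 z.2.2.2 hg.2.1 z.2.2.1⟩
    apply Nat.card_le_card_of_injective f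
    intro a b hab
    have := congrArg Subtype.val hab
    simp only [f] at this
    exact Subtype.ext (mul_left_cancel this)

theorem A2_subset_outerInvols {y : G} (hy : orderOf y = 2) (P : Subgroup G) :
    A2 y (normalizer (P : Set G)) (centralizer (P : Set G)) ⊆ outerInvols P := by
  rintro g ⟨h1, h2, h3⟩
  exact ⟨h2, h3, (orderOf_eq_two_of_isConj hy h1).1⟩

theorem A2_disjoint {y z : G} (hyz : ¬ IsConj y z) (N C : Subgroup G) :
    Disjoint (A2 y N C) (A2 z N C) := by
  rw [Set.disjoint_left]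
  rintro g ⟨h1, -, -⟩ ⟨h2, -, -⟩
  exact hyz (h1.trans h2.symm)

/-- A3 -/
theorem ncard_A2_add_le [Finite G] {p : ℕ} [Fact p.Prime] (P : Subgroup G) (hP : Nat.card P = p)
    {y z : G} (hy : orderOf y = 2) (hz : orderOf z = 2) (hyz : ¬ IsConj y z) :
    (A2 y (normalizer (P : Set G)) (centralizer (P : Set G))).ncard +
      (A2 z (normalizer (P : Set G)) (centralizer (P : Set G))).ncard ≤
        Nat.card (centralizer (P : Set G)) := by
  rw [← Set.ncard_union_eq (A2_disjoint hyz _ _) (Set.toFinite _) (Set.toFinite _)]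
  refine le_trans (Set.ncard_le_ncard ?_ (Set.toFinite _)) (ncard_outerInvols_le P hP)
  exact Set.union_subset (A2_subset_outerInvols hy P) (A2_subset_outerInvols hz P)

/-- A3' -/
theorem isConj_of_ncard_A2_add_eq [Finite G] {p : ℕ} [Fact p.Prime] (P : Subgroup G)
    (hP : Nat.card P = p) {y z : G} (hy : orderOf y = 2) (hz : orderOf z = 2) (hyz : ¬ IsConj y z)
    (hsum : (A2 y (normalizer (P : Set G)) (centralizer (P : Set G))).ncard +
      (A2 z (normalizer (P : Set G)) (centralizer (P : Set G))).ncard =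
        Nat.card (centralizer (P : Set G)))
    {g : G} (hgN : g ∈ normalizer (P : Set G)) (hgC : g ∉ centralizer (P : Set G))
    (hg2 : g * g = 1) : IsConj y g ∨ IsConj z g := by
  rw [← Set.ncard_union_eq (A2_disjoint hyz _ _) (Set.toFinite _) (Set.toFinite _)] at hsum
  have hsub : A2 y (normalizer (P : Set G)) (centralizer (P : Set G)) ∪
      A2 z (normalizer (P : Set G)) (centralizer (P : Set G)) ⊆ outerInvols P :=
    Set.union_subset (A2_subset_outerInvols hy P) (A2_subset_outerInvols hz P)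
  have hle : (outerInvols P).ncard ≤ (A2 y (normalizer (P : Set G)) (centralizer (P : Set G)) ∪
      A2 z (normalizer (P : Set G)) (centralizer (P : Set G))).ncard := by
    rw [hsum]; exact ncard_outerInvols_le P hP
  have heq := Set.eq_of_subset_of_ncard_le hsub hle (Set.toFinite _)
  have hg : g ∈ outerInvols P := ⟨hgN, hgC, hg2⟩
  rw [← heq] at hg
  rcases hg with h | h
  · exact Or.inl h.1
  · exact Or.inr h.1

/-- A4 -/
theorem card_conj_commute_le_card_fixedBy [Finite G] (u s : G) :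
    Nat.card {p : G // IsConj u p ∧ Commute p s} ≤
      Nat.card (fixedBy (G ⧸ centralizer ({u} : Set G)) s) := by
  classical
  have hch : ∀ p : {p : G // IsConj u p ∧ Commute p s}, ∃ g : G, g * u * g⁻¹ = p.1 :=
    fun p => isConj_iff.mp p.2.1
  choose γ hγ using hch
  have hmem : ∀ p : {p : G // IsConj u p ∧ Commute p s},
      ((γ p : G) : G ⧸ centralizer ({u} : Set G)) ∈ fixedBy (G ⧸ centralizer ({u} : Set G)) s := by
    intro p
    rw [mem_fixedBy, MulAction.Quotient.smul_mk, smul_eq_mul, QuotientGroup.eq,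
      mem_centralizer_iff]
    intro m hm
    rw [Set.mem_singleton_iff] at hm
    subst hm
    have hc : (γ p * m * (γ p)⁻¹) * s = s * (γ p * m * (γ p)⁻¹) := by
      rw [hγ p]; exact p.2.2.eq
    -- m commutes with g⁻¹ s g hence with its inverse
    have h1 : m * ((γ p)⁻¹ * s * γ p) = ((γ p)⁻¹ * s * γ p) * m := by
      calc m * ((γ p)⁻¹ * s * γ p) = (γ p)⁻¹ * ((γ p * m * (γ p)⁻¹) * s) * γ p := by group
        _ = (γ p)⁻¹ * (s * (γ p * m * (γ p)⁻¹)) * γ p := by rw [hc]
        _ = ((γ p)⁻¹ * s * γ p) * m := by group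
    have h2 : (s * γ p)⁻¹ * γ p = ((γ p)⁻¹ * s * γ p)⁻¹ := by group
    rw [h2]
    have h3 : Commute m ((γ p)⁻¹ * s * γ p) := h1
    exact h3.inv_right.eq
  apply Nat.card_le_card_of_injective (fun p => (⟨_, hmem p⟩ :
    fixedBy (G ⧸ centralizer ({u} : Set G)) s))
  intro p q hpq
  have h1 : ((γ p : G) : G ⧸ centralizer ({u} : Set G)) = ((γ q : G) : G ⧸ _) :=
    congrArg Subtype.val hpq
  rw [QuotientGroup.eq, mem_centralizer_iff] at h1
  have h2 := h1 u (Set.mem_singleton u)
  apply Subtype.ext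
  rw [← hγ p, ← hγ q]
  calc γ p * u * (γ p)⁻¹ = γ p * (u * ((γ p)⁻¹ * γ q)) * (γ q)⁻¹ := by group
    _ = γ p * (((γ p)⁻¹ * γ q) * u) * (γ q)⁻¹ := by rw [h2]
    _ = γ q * u * (γ q)⁻¹ := by group

end Cfsg.Agent.Lib.H22.O5040
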