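import Mathlib
import Cfsg.Agent.Lib.H22.O5040D
import Cfsg.Agent.Lib.H22.O5040G
import Cfsg.Agent.Lib.H26.O5040L1
import Cfsg.Agent.Lib.H4.O5040A5

set_option autoImplicit false
set_option maxHeartbeats 800000

/-! # Order 5040: the case `|C(P₅)| = 10` -/

namespace Cfsg.Agent.Lib.H22.O5040

open Subgroup MulAction Cfsg.Agent.Lib.H5 Cfsg.Agent.Lib.H5.SylPrime

variable {G : Type*} [Group G]


theorem card_subtype_le_ncard [Finite G] (Q : G → Prop) (S : Set G) (h : ∀ g, Q g → g ∈ S) :
    Nat.card {g : G // Q g} ≤ S.ncard := by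
  rw [← Nat.card_coe_set_eq]
  exact Nat.card_le_card_of_injective (fun g => (⟨g.1, h g.1 g.2⟩ : S))
    (fun a b hab => Subtype.ext (congrArg (fun z : S => (z : G)) hab))

/-- **Case A**: `|C(P₅)| = 10` is impossible. -/
theorem caseA [Finite G] [IsSimpleGroup G] (hG : Nat.card G = 5040)
    [Fact (Nat.Prime 5)] (P : Sylow 5 G) (hP : Nat.card (P : Subgroup G) = 5)
    (hN : Nat.card (normalizer ((P : Subgroup G) : Set G)) = 40)
    (hC : Nat.card (centralizer ((P : Subgroup G) : Set G)) = 10)
    {x s y : G} (hx : orderOf x = 7) (hs : orderOf s = 2) (hy : orderOf y = 3)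
    (hinv : s * x * s⁻¹ = x⁻¹) (hsN : s ∈ normalizer ((P : Subgroup G) : Set G))
    (hsC : s ∉ centralizer ((P : Subgroup G) : Set G)) (hys : Commute y s)
    (hh : Nat.card (centralizer ({s} : Set G)) = 24 ∨ Nat.card (centralizer ({s} : Set G)) = 48 ∨
      Nat.card (centralizer ({s} : Set G)) = 72) : False := by
  haveI : Fact (Nat.Prime 2) := ⟨Nat.prime_two⟩
  have hG2 : 2 < Nat.card G := by rw [hG]; norm_num
  set N := normalizer ((P : Subgroup G) : Set G) with hNdef
  set C := centralizer ((P : Subgroup G) : Set G) with hCdef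
  have hCN : C ≤ N := centralizer_le_normalizer _
  have hcomm := centralizer_comm_of_card (p := 5) (q := 2) (j := 1) (P : Subgroup G) hP
    (by norm_num) (by norm_num) (by rw [← hCdef, hC]; norm_num)
  rw [← hCdef] at hcomm
  -- the involution u of C
  obtain ⟨u, huC, hu⟩ : ∃ u ∈ C, orderOf u = 2 := by
    have hd : 2 ∣ Nat.card C := by rw [hC]; norm_num
    obtain ⟨u', hu'⟩ := exists_prime_orderOf_dvd_card' (G := C) 2 hd
    exact ⟨u', u'.2, by rw [Subgroup.orderOf_coe]; exact hu'⟩
  have huN : u ∈ N := hCN huC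
  have hCu : centralizer ({u} : Set G) = N :=
    centralizer_involution_eq hG P hP hN hC hx hs hy hinv hsN hsC hys hu huC
  have hcardCu : Nat.card (centralizer ({u} : Set G)) = 40 := by rw [hCu, hN]
  have hNidx : N.index = 126 := by
    have := N.card_mul_index
    rw [hN, hG] at this
    omega
  -- uniqueness of u
  have huniq : ∀ g ∈ C, orderOf g = 2 → g = u := fun g hg hg2 =>
    involution_unique C hcomm hC hg huC hg2 hu
  have hord : ∀ {a g : G}, orderOf a = 2 → IsConj a g → orderOf g = 2 := by
    intro a g ha hag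
    rw [← orderOf_eq_of_isConj hag, ha]
  -- class of u
  have hclu : Nat.card {g : G // IsConj u g} = 126 := by
    have := card_conj_mul_card_centralizer u
    rw [hcardCu, hG] at this
    omega
  -- A1(u) = {u}
  have hA1u : (A1 u C).ncard = 1 := by
    have : A1 u C = {u} := by
      ext g
      simp only [A1, Set.mem_ofPred_eq, Set.mem_singleton_iff]
      constructor
      · rintro ⟨h1, h2⟩
        exact huniq g h2 (hord hu h1)
      · rintro rfl
        exact ⟨IsConj.refl _, huC⟩
    rw [this, Set.ncard_singleton]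
  -- fixed points of u
  have hfu := card_fixedBy_mul_card N huN
  rw [card_conj_mem_eq u hCN, hA1u, hcardCu, hN] at hfu
  have hparu := four_dvd_index_sub_card_fixedBy hG2 N hu
  rw [hNidx] at hparu
  have h5u := dvd_ncard_A2 (P : Subgroup G) hP u
  have hleu := ncard_A2_le_card (P : Subgroup G) hP hu
  rw [← hNdef, ← hCdef] at h5u hleu
  rw [hC] at hleu
  have hA2u : (A2 u N C).ncard = 5 := by
    obtain ⟨k, hk⟩ := h5u
    have hfu' : Nat.card (fixedBy (G ⧸ N) u) = 1 + (A2 u N C).ncard := by omega
    rw [hfu', hk] at hparu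
    have hk2 : k ≤ 2 := by omega
    interval_cases k
    · norm_num at hparu
    · omega
    · norm_num at hparu
  -- s is not conjugate to u
  have hus : ¬ IsConj u s := by
    intro h
    have := card_centralizer_eq_of_isConj h
    rw [hcardCu] at this
    omega
  -- A1(s) = ∅
  have hA1s : (A1 s C).ncard = 0 := by
    have : A1 s C = ∅ := by
      ext g
      simp only [A1, Set.mem_ofPred_eq, Set.mem_empty_iff_false, iff_false]
      rintro ⟨h1, h2⟩
      have := huniq g h2 (hord hs h1)
      subst this
      exact hus h1.symm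
    rw [this, Set.ncard_empty]
  have h5s := dvd_ncard_A2 (P : Subgroup G) hP s
  rw [← hNdef, ← hCdef] at h5s
  have hsum := ncard_A2_add_le (P : Subgroup G) hP hu hs hus
  rw [← hNdef, ← hCdef, hC, hA2u] at hsum
  have hsA2 : s ∈ A2 s N C := ⟨IsConj.refl _, hsN, hsC⟩
  have hposs : 0 < (A2 s N C).ncard := by
    rw [Set.ncard_pos (Set.toFinite _)]
    exact ⟨s, hsA2⟩
  have hA2s : (A2 s N C).ncard = 5 := by
    obtain ⟨k, hk⟩ := h5s
    omega
  -- fixed points of s
  have hfs := card_fixedBy_mul_card N hsN
  rw [card_conj_mem_eq s hCN, hA1s, hA2s, hN] at hfs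
  have hpars := four_dvd_index_sub_card_fixedBy hG2 N hs
  rw [hNidx] at hpars
  have h48 : Nat.card (centralizer ({s} : Set G)) = 48 ∧ Nat.card (fixedBy (G ⧸ N) s) = 6 := by
    rcases hh with h | h | h
    · exfalso
      rw [h] at hfs
      have : Nat.card (fixedBy (G ⧸ N) s) = 3 := by omega
      rw [this] at hpars
      norm_num at hpars
    · refine ⟨h, ?_⟩
      rw [h] at hfs
      omega
    · exfalso
      rw [h] at hfs
      have : Nat.card (fixedBy (G ⧸ N) s) = 9 := by omega
      rw [this] at hpars
      norm_num at hpars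
  obtain ⟨h48, hf6⟩ := h48
  have hcls : Nat.card {g : G // IsConj s g} = 105 := by
    have := card_conj_mul_card_centralizer s
    rw [h48, hG] at this
    omega
  -- every involution is conjugate to u or s
  have hsumeq : (A2 u (normalizer ((P : Subgroup G) : Set G))
      (centralizer ((P : Subgroup G) : Set G))).ncard +
      (A2 s (normalizer ((P : Subgroup G) : Set G)) (centralizer ((P : Subgroup G) : Set G))).ncard =
        Nat.card (centralizer ((P : Subgroup G) : Set G)) := by
    rw [← hNdef, ← hCdef, hA2u, hA2s, hC]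
  have hall : ∀ z : G, orderOf z = 2 → IsConj u z ∨ IsConj s z := by
    intro z hz
    have hparz := four_dvd_index_sub_card_fixedBy hG2 N hz
    rw [hNidx] at hparz
    have hposz : 0 < Nat.card (fixedBy (G ⧸ N) z) := by
      rcases Nat.eq_zero_or_pos (Nat.card (fixedBy (G ⧸ N) z)) with h0 | h0
      · rw [h0] at hparz; norm_num at hparz
      · exact h0
    obtain ⟨⟨q, hq⟩⟩ := (Nat.card_pos_iff.mp hposz).1
    induction q using QuotientGroup.induction_on with
    | H g =>
      have hq' : z • ((g : G) : G ⧸ N) = ((g : G) : G ⧸ N) := hq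
      have h1 := conj_mem_of_smul_eq N hq'
      have hcz : IsConj z (g⁻¹ * z * g) := isConj_conj_inv_mul g z
      have ho : orderOf (g⁻¹ * z * g) = 2 := hord hz hcz
      by_cases hzC : g⁻¹ * z * g ∈ C
      · left
        have := huniq _ hzC ho
        rw [this] at hcz
        exact hcz.symm
      · rcases isConj_of_ncard_A2_add_eq (P : Subgroup G) hP hu hs hus hsumeq h1 hzC
          (sq_eq_one_of_orderOf_two ho) with h | h
        · left; exact h.trans hcz.symm
        · right; exact h.trans hcz.symm
  -- Thompson count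
  have key := Cfsg.Agent.Lib.H26.O5040.thompson_count u s hu hs hus hall
  rw [hclu, hcls] at key
  have hau : Nat.card {p : G // IsConj u p ∧ p ≠ u ∧ Commute p u} ≤ 5 := by
    rw [← hA2u]
    apply card_subtype_le_ncard
    rintro p ⟨h1, h2, h3⟩
    have hpN : p ∈ N := by
      rw [← hCu, mem_centralizer_iff]
      intro m hm
      rw [Set.mem_singleton_iff] at hm
      subst hm
      exact h3.eq.symm
    refine ⟨h1, hpN, ?_⟩
    intro hpC
    exact h2 (huniq p hpC (hord hu h1))
  have hbu : Nat.card {q : G // IsConj s q ∧ Commute q u} ≤ 5 := by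
    rw [← hA2s]
    apply card_subtype_le_ncard
    rintro q ⟨h1, h3⟩
    have hqN : q ∈ N := by
      rw [← hCu, mem_centralizer_iff]
      intro m hm
      rw [Set.mem_singleton_iff] at hm
      subst hm
      exact h3.eq.symm
    refine ⟨h1, hqN, ?_⟩
    intro hqC
    have := huniq q hqC (hord hs h1)
    subst this
    exact hus h1.symm
  have has : Nat.card {p : G // IsConj u p ∧ Commute p s} ≤ 6 := by
    have h := card_conj_commute_le_card_fixedBy u s
    have : ∀ M : Subgroup G, M = centralizer ({u} : Set G) →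
        Nat.card (fixedBy (G ⧸ M) s) = Nat.card (fixedBy (G ⧸ centralizer ({u} : Set G)) s) := by
      rintro M rfl; rfl
    rw [← this N hCu.symm, hf6] at h
    exact h
  have hbs := Cfsg.Agent.Lib.H4.O5040.card_conj_commute_self_le hG hx hs hinv h48
  have h25 : Nat.card {p : G // IsConj u p ∧ p ≠ u ∧ Commute p u} *
      Nat.card {q : G // IsConj s q ∧ Commute q u} ≤ 25 := by
    calc _ ≤ 5 * 5 := Nat.mul_le_mul hau hbu
      _ = 25 := by norm_num
  have h84 : Nat.card {p : G // IsConj u p ∧ Commute p s} *
      Nat.card {q : G // IsConj s q ∧ q ≠ s ∧ Commute q s} ≤ 84 := by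
    calc _ ≤ 6 * 14 := Nat.mul_le_mul has hbs
      _ = 84 := by norm_num
  omega

end Cfsg.Agent.Lib.H22.O5040
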