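import Mathlib
import Cfsg.Agent.Lib.H22.O5040E
import Cfsg.Agent.Lib.H1.O5040L3
import Cfsg.Agent.Lib.H8.O5040L4
import Cfsg.Agent.Lib.H5.Ord.InvSelf
import Cfsg.Agent.Lib.H5.Ord.GenTests
import Cfsg.Agent.Lib.H5.EmbedAlt
import Cfsg.Agent.Lib.H8.O5040L5
import Cfsg.Agent.Lib.H1.O5040L2
import Cfsg.Agent.S1010
import Cfsg.Agent.S4304

set_option autoImplicit false
set_option maxHeartbeats 800000

/-! # Order 5040: main case and final assembly -/

namespace Cfsg.Agent.Lib.H22.O5040

open Subgroup MulAction Cfsg.Agent.Lib.H5 Cfsg.Agent.Lib.H5.SylPrime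

variable {G : Type*} [Group G]


/-- the case `n₅ = 126`, given `n₇ = 120` and self-centralizing Sylow 7-subgroups -/
theorem main_case [Finite G] [IsSimpleGroup G] (hG : Nat.card G = 5040)
    [Fact (Nat.Prime 5)] [Fact (Nat.Prime 7)]
    (h126 : Nat.card (Sylow 5 G) = 126) (h120 : Nat.card (Sylow 7 G) = 120)
    (hC7 : ∀ P : Sylow 7 G, Nat.card (centralizer ((P : Subgroup G) : Set G)) = 7) : False := by
  haveI : Fact (Nat.Prime 3) := ⟨by norm_num⟩
  have hnc := not_comm hG
  have hG2 : 2 < Nat.card G := by rw [hG]; norm_num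
  obtain ⟨P7⟩ : Nonempty (Sylow 7 G) := inferInstance
  obtain ⟨-, -, -, -, -, -, -, -, hP7, hN7, -, -, -, -⟩ :=
    GenTests.prime_data_explicit hnc (n := 5040) (p := 7) (m := 720) hG (by norm_num)
      (by norm_num) (by norm_num) P7
  have hN42 : Nat.card (normalizer ((P7 : Subgroup G) : Set G)) = 42 := by
    rw [h120] at hN7; omega
  obtain ⟨t, f, h, ht, htN, -, hh, hf1, hf2, hf3, hf4, hf5, -⟩ :=
    exists_inv_data_selfcent hG2 7 (by norm_num) P7 hP7 (hC7 P7) (by rw [hN42]; norm_num)
  rw [h120] at hf2 hf3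
  rw [hN42] at hf4
  rw [hG] at hf5
  have hh3 : h = 24 ∨ h = 48 ∨ h = 72 := by
    have hf18 : f ≤ 18 := by omega
    have h6 : h = 6 * f := by omega
    subst h6
    interval_cases f <;> omega
  have htt : t * t = 1 := sq_eq_one_of_orderOf_two ht
  -- x of order 7 in P7, inverted by t
  obtain ⟨x, hxP, hx⟩ : ∃ x ∈ (P7 : Subgroup G), orderOf x = 7 := by
    have hd : 7 ∣ Nat.card (P7 : Subgroup G) := by rw [hP7]
    obtain ⟨x, hx⟩ := exists_prime_orderOf_dvd_card' (G := (P7 : Subgroup G)) 7 hd
    exact ⟨x, x.2, by rw [Subgroup.orderOf_coe]; exact hx⟩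
  have htC : t ∉ centralizer ((P7 : Subgroup G) : Set G) := by
    intro hmem
    have := orderOf_dvd_natCard (⟨t, hmem⟩ : centralizer ((P7 : Subgroup G) : Set G))
    rw [Subgroup.orderOf_mk, ht, hC7 P7] at this
    omega
  have hinv : t * x * t⁻¹ = x⁻¹ :=
    conj_eq_inv_of_not_mem_centralizer (P7 : Subgroup G) hP7 htN
      (by rw [htt]; exact one_mem _) htC x hxP
  -- y of order 3 commuting with t
  obtain ⟨y, hyt, hy⟩ : ∃ y : G, Commute y t ∧ orderOf y = 3 := by
    have hd : 3 ∣ Nat.card (centralizer ({t} : Set G)) := by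
      rw [← hh]; rcases hh3 with h | h | h <;> rw [h] <;> norm_num
    obtain ⟨y, hy⟩ := exists_prime_orderOf_dvd_card' (G := centralizer ({t} : Set G)) 3 hd
    refine ⟨y, ?_, by rw [Subgroup.orderOf_coe]; exact hy⟩
    have := mem_centralizer_iff.mp y.2 t (Set.mem_singleton t)
    exact this.symm
  -- a Sylow 5-subgroup normalized by t
  have hmoved := Cfsg.Agent.Lib.H2.SimpleAct.four_dvd_moved (Ω := Sylow 5 G) hG2 htt
  rw [h126] at hmoved
  obtain ⟨Q, hQ⟩ : ∃ Q : Sylow 5 G, t • Q = Q := by
    by_contra hne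
    push Not at hne
    have : {a : Sylow 5 G | t • a = a} = ∅ := by
      ext a
      simp only [Set.mem_ofPred_eq, Set.mem_empty_iff_false, iff_false]
      exact hne a
    rw [this, Set.ncard_empty] at hmoved
    norm_num at hmoved
  have htNQ : t ∈ normalizer ((Q : Subgroup G) : Set G) := Sylow.smul_eq_iff_mem_normalizer.mp hQ
  obtain ⟨-, -, -, -, hr4, hr1, hcr, h5c, hP5, hN5, -, -, -, -⟩ :=
    GenTests.prime_data_explicit hnc (n := 5040) (p := 5) (m := 1008) hG (by norm_num)
      (by norm_num) (by norm_num) Q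
  have hN40 : Nat.card (normalizer ((Q : Subgroup G) : Set G)) = 40 := by
    rw [h126] at hN5; omega
  have htCQ : t ∉ centralizer ((Q : Subgroup G) : Set G) := by
    intro hmem
    have hle : (Q : Subgroup G) ≤ centralizer ({t} : Set G) := by
      intro q hq
      rw [mem_centralizer_iff]
      intro m hm
      rw [Set.mem_singleton_iff] at hm
      subst hm
      exact (mem_centralizer_iff.mp hmem q hq).symm
    have := Subgroup.card_dvd_of_le hle
    rw [hP5, ← hh] at this
    rcases hh3 with h | h | h <;> rw [h] at this <;> omega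
  rw [h126] at hcr
  set r := (centralizer ((Q : Subgroup G) : Set G)).relIndex (normalizer ((Q : Subgroup G) : Set G))
  have hr : r = 2 ∨ r = 4 := by
    have hr4' : r ∣ 4 := hr4
    have : r ≤ 4 := Nat.le_of_dvd (by norm_num) hr4'
    interval_cases r <;> simp_all
  have hc : Nat.card (centralizer ((Q : Subgroup G) : Set G)) = 20 ∨
      Nat.card (centralizer ((Q : Subgroup G) : Set G)) = 10 := by
    rcases hr with h | h <;> rw [h] at hcr <;> omega
  rcases hc with hc | hc
  · obtain ⟨M, hNM, hne, htop⟩ := Cfsg.Agent.Lib.H8.O5040.exists_overgroup hG Q hN40 hc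
    have h240 := card_overgroup hG Q hN40 M hNM hne htop
    exact no_overgroup_240 hG Q hP5 hN40 M hNM h240 hx ht hy hinv htNQ htCQ hyt
  · exact caseA hG Q hP5 hN40 hc hx ht hy hinv htNQ htCQ hyt (by rw [← hh]; exact hh3)

/-- no simple group of order 5040 -/
theorem final [Finite G] [IsSimpleGroup G] (hG : Nat.card G = 5040) : False := by
  haveI : Fact (Nat.Prime 5) := ⟨by norm_num⟩
  haveI : Fact (Nat.Prime 7) := ⟨by norm_num⟩
  have hnc := not_comm hG
  obtain ⟨P7⟩ : Nonempty (Sylow 7 G) := inferInstance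
  obtain ⟨h7d, h7m, h7ne, -, -, -, -, -, hP7, hN7, -, -, -, -⟩ :=
    GenTests.prime_data_explicit hnc (n := 5040) (p := 7) (m := 720) hG (by norm_num)
      (by norm_num) (by norm_num) P7
  have h120 : Nat.card (Sylow 7 G) = 120 := by
    have hmem : Nat.card (Sylow 7 G) ∈ (Nat.divisors 720).filter (fun d => d % 7 = 1) := by
      rw [Finset.mem_filter, Nat.mem_divisors]
      exact ⟨⟨h7d, by norm_num⟩, h7m⟩
    have hfil : (Nat.divisors 720).filter (fun d => d % 7 = 1) = {1, 8, 15, 36, 120} := by decide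
    rw [hfil] at hmem
    simp only [Finset.mem_insert, Finset.mem_singleton] at hmem
    rcases hmem with h | h | h | h | h
    · exact absurd h h7ne
    · exfalso
      have hidx := index_normalizer_eq_card_sylow P7
      rw [h] at hidx
      have := two_mul_card_normalizer_dvd hnc (p := 7) (by norm_num)
        (normalizer ((P7 : Subgroup G) : Set G)) (Or.inr hidx) P7 hP7
      rw [h] at hN7
      have h630 : Nat.card (normalizer ((P7 : Subgroup G) : Set G)) = 630 := by omega
      rw [h630] at this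
      norm_num at this
    · exact absurd h Cfsg.Agent.S4304.result
    · exact absurd h (Cfsg.Agent.Lib.H1.O5040.card_sylow_seven_ne_36 hG)
    · exact h
  have hC7 : ∀ P : Sylow 7 G, Nat.card (centralizer ((P : Subgroup G) : Set G)) = 7 :=
    fun P => Cfsg.Agent.Lib.H8.O5040.card_centralizer_sylow_seven hG h120 P
  obtain ⟨Q⟩ : Nonempty (Sylow 5 G) := inferInstance
  obtain ⟨h5d, h5m, h5ne, h5f, hr4, hr1, hcr, h5c, hP5, hN5, -, hQC, -, -⟩ :=
    GenTests.prime_data_explicit hnc (n := 5040) (p := 5) (m := 1008) hG (by norm_num)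
      (by norm_num) (by norm_num) Q
  have hmem : Nat.card (Sylow 5 G) ∈ (Nat.divisors 1008).filter (fun d => d % 5 = 1) := by
    rw [Finset.mem_filter, Nat.mem_divisors]
    exact ⟨⟨h5d, by norm_num⟩, h5m⟩
  have hfil : (Nat.divisors 1008).filter (fun d => d % 5 = 1) = {1, 6, 16, 21, 36, 56, 126, 336} := by
    set_option maxRecDepth 100000 in decide
  rw [hfil] at hmem
  simp only [Finset.mem_insert, Finset.mem_singleton] at hmem
  set r := (centralizer ((Q : Subgroup G) : Set G)).relIndex (normalizer ((Q : Subgroup G) : Set G))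
  have hr : r = 2 ∨ r = 4 := by
    have hr4' : r ∣ 4 := hr4
    have : r ≤ 4 := Nat.le_of_dvd (by norm_num) hr4'
    interval_cases r <;> simp_all
  rcases hmem with h | h | h | h | h | h | h | h
  · exact h5ne h
  · rw [h] at h5f
    norm_num at h5f
  · rw [h] at hcr
    rcases hr with h' | h' <;> rw [h'] at hcr <;> omega
  · exact Cfsg.Agent.S1010.result h
  · -- n₅ = 36: an element of order 7 centralizes Q
    rw [h] at hcr
    have h7c : 7 ∣ Nat.card (centralizer ((Q : Subgroup G) : Set G)) := by
      rcases hr with h' | h' <;> rw [h'] at hcr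
      · have : Nat.card (centralizer ((Q : Subgroup G) : Set G)) = 70 := by omega
        rw [this]; norm_num
      · have : Nat.card (centralizer ((Q : Subgroup G) : Set G)) = 35 := by omega
        rw [this]; norm_num
    obtain ⟨z, hz⟩ := exists_prime_orderOf_dvd_card'
      (G := centralizer ((Q : Subgroup G) : Set G)) 7 h7c
    have hz7 : orderOf (z : G) = 7 := by rw [Subgroup.orderOf_coe]; exact hz
    have hpg : IsPGroup 7 (zpowers (z : G)) := by
      apply IsPGroup.of_card (n := 1)
      rw [pow_one, Nat.card_zpowers, hz7]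
    obtain ⟨P, hP⟩ := hpg.exists_le_sylow
    obtain ⟨-, -, -, -, -, -, -, -, hPc, -, -, -, -, -⟩ :=
      GenTests.prime_data_explicit hnc (n := 5040) (p := 7) (m := 720) hG (by norm_num)
        (by norm_num) (by norm_num) P
    have hPeq : zpowers (z : G) = (P : Subgroup G) := by
      apply Subgroup.eq_of_le_of_card_ge hP
      rw [hPc, Nat.card_zpowers, hz7]
    have hle : (Q : Subgroup G) ≤ centralizer ((P : Subgroup G) : Set G) := by
      intro q hq
      rw [mem_centralizer_iff]
      intro g hg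
      rw [← hPeq] at hg
      have hg' : g ∈ zpowers (z : G) := hg
      obtain ⟨k, rfl⟩ := mem_zpowers_iff.mp hg'
      have hzq : Commute (z : G) q := by
        have := mem_centralizer_iff.mp z.2 q hq
        exact this.symm
      exact (hzq.zpow_left k).eq
    have := Subgroup.card_dvd_of_le hle
    rw [hP5, hC7 P] at this
    omega
  · exact Cfsg.Agent.Lib.H1.O5040.card_sylow_five_ne_56 hG h
  · exact main_case hG h h120 hC7
  · rw [h] at hcr
    rcases hr with h' | h' <;> rw [h'] at hcr <;> omega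

end Cfsg.Agent.Lib.H22.O5040
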