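import Mathlib
import Cfsg.Agent.Lib.H28.O73M.Words
import Cfsg.Agent.Lib.H17.O7Vec

/-!
# S2095 piece GS18, part A (helper22): the 18 matrices of `tools/o73m_h28/S2095_data.txt` as elements of `O7`, and the
evaluation of words in them on the codes of the vectors.

A 7×7 matrix over `ZMod 3` is packed in a natural number (entry `(r, c)` is the digit `7 r + c` in base 3); letters
`18 ≤ l < 36` are the inverses (squares).  `stepE e n` is the code of the image of the vector with code `n`.  A word is
trivial as soon as it fixes the codes `3 ^ k` of the seven basis vectors.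
-/

set_option autoImplicit false
set_option linter.unusedSectionVars false
set_option linter.unusedVariables false
set_option maxRecDepth 100000

namespace Cfsg.Agent.Lib.H22.O73M

open Matrix Cfsg.Agent.Lib.H28.O73M Cfsg.Agent.Lib.H17.O7Vec Cfsg.Agent.Lib.H17.CosetCert

/-- the position of a coordinate -/
def pos : I7 → ℕ
  | Sum.inl _ => 0
  | Sum.inr (Sum.inl i) => 1 + i.val
  | Sum.inr (Sum.inr i) => 4 + i.val

theorem pos_lt (a : I7) : pos a < 7 := by
  rcases a with _ | i | i
  · show 0 < 7; norm_num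
  · show 1 + i.val < 7; omega
  · show 4 + i.val < 7; omega

/-- the packed matrices of the 36 letters -/
def EL : List ℕ := [79786707705940266205984,
  97504478834939230484674,
  81749495251719124048180,
  79779603228230787041134,
  85906065986999308832896,
  79851548588482712985400,
  132956231313549363949504,
  79778903006057609650564,
  80106860798377887185434,
  79778602781197407270592,
  79778635950029008626514,
  79778613713755375693720,
  81749495251719123691618,
  80106860798375557879288,
  79778902990795954326658,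
  79778602598183067630898,
  79778602597328807046976,
  79778602595634616717138,
  79782655150787247249400,
  88641540715286729447794,
  80766075201253185809656,
  79779553195838401026298,
  85796646997868183362708,
  79815075592199685377824,
  106367416954591989801880,
  79778753117323905100024,
  80435117148099032762326,
  79778602760858993859556,
  79778619272878690019554,
  79778608154694823487104,
  80766075201253185450826,
  80435117148096698672968,
  79778753102051789422186,
  79778602600721446674826,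
  79778602596481520031856,
  79778602595635003606186]

/-- the packed matrix of a letter -/
def E (l : ℕ) : ℕ := EL.getD l 0

/-- the matrix with a given code -/
def MLe (e : ℕ) : Matrix I7 I7 (ZMod 3) := Matrix.of fun a b => unc (e / 3 ^ (7 * pos a + pos b))

/-- a row of the matrix applied to a vector, on codes -/
def row (e n : ℕ) : ℕ :=
  Nat.mod (Nat.add (Nat.add (Nat.add (Nat.add (Nat.add (Nat.add (Nat.mul e n) (Nat.mul (Nat.div e 3) (Nat.div n 3)))
    (Nat.mul (Nat.div e 9) (Nat.div n 9))) (Nat.mul (Nat.div e 27) (Nat.div n 27)))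
    (Nat.mul (Nat.div e 81) (Nat.div n 81))) (Nat.mul (Nat.div e 243) (Nat.div n 243)))
    (Nat.mul (Nat.div e 729) (Nat.div n 729))) 3

theorem row_eq (e n : ℕ) : row e n =
    (e * n + e / 3 * (n / 3) + e / 9 * (n / 9) + e / 27 * (n / 27) + e / 81 * (n / 81) + e / 243 * (n / 243) +
      e / 729 * (n / 729)) % 3 := rfl

/-- the matrix applied to a vector, on codes -/
def stepE (e n : ℕ) : ℕ :=
  Nat.add (Nat.add (Nat.add (Nat.add (Nat.add (Nat.add (row e n) (Nat.mul 3 (row (Nat.div e 2187) n)))
    (Nat.mul 9 (row (Nat.div e 4782969) n))) (Nat.mul 27 (row (Nat.div e 10460353203) n)))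
    (Nat.mul 81 (row (Nat.div e 22876792454961) n))) (Nat.mul 243 (row (Nat.div e 50031545098999707) n)))
    (Nat.mul 729 (row (Nat.div e 109418989131512359209) n))

theorem stepE_eq (e n : ℕ) : stepE e n =
    row e n + 3 * row (e / 2187) n + 9 * row (e / 4782969) n + 27 * row (e / 10460353203) n +
      81 * row (e / 22876792454961) n + 243 * row (e / 50031545098999707) n +
      729 * row (e / 109418989131512359209) n := rfl

theorem unc_eq_cast (n : ℕ) : unc n = (n : ZMod 3) := by
  apply Fin.ext
  show n % 3 = ZMod.val (n : ZMod 3)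
  rw [ZMod.val_natCast]

theorem row_lt (e n : ℕ) : row e n < 3 := by
  rw [row_eq]; exact Nat.mod_lt _ (by norm_num)

theorem digits7 (d0 d1 d2 d3 d4 d5 d6 : ℕ) (h0 : d0 < 3) (h1 : d1 < 3) (h2 : d2 < 3) (h3 : d3 < 3) (h4 : d4 < 3)
    (h5 : d5 < 3) (h6 : d6 < 3) :
    (d0 + 3 * d1 + 9 * d2 + 27 * d3 + 81 * d4 + 243 * d5 + 729 * d6) % 3 = d0 ∧
    (d0 + 3 * d1 + 9 * d2 + 27 * d3 + 81 * d4 + 243 * d5 + 729 * d6) / 3 % 3 = d1 ∧
    (d0 + 3 * d1 + 9 * d2 + 27 * d3 + 81 * d4 + 243 * d5 + 729 * d6) / 9 % 3 = d2 ∧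
    (d0 + 3 * d1 + 9 * d2 + 27 * d3 + 81 * d4 + 243 * d5 + 729 * d6) / 27 % 3 = d3 ∧
    (d0 + 3 * d1 + 9 * d2 + 27 * d3 + 81 * d4 + 243 * d5 + 729 * d6) / 81 % 3 = d4 ∧
    (d0 + 3 * d1 + 9 * d2 + 27 * d3 + 81 * d4 + 243 * d5 + 729 * d6) / 243 % 3 = d5 ∧
    (d0 + 3 * d1 + 9 * d2 + 27 * d3 + 81 * d4 + 243 * d5 + 729 * d6) / 729 % 3 = d6 := by
  omega

theorem unc_mod (n : ℕ) : unc (n % 3) = unc n := by
  rw [unc_eq_cast, unc_eq_cast, ZMod.natCast_mod]

/-- the row in `ZMod 3` -/
theorem unc_row (e n : ℕ) : unc (row e n) =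
    unc e * unc n + unc (e / 3) * unc (n / 3) + unc (e / 9) * unc (n / 9) + unc (e / 27) * unc (n / 27) +
      unc (e / 81) * unc (n / 81) + unc (e / 243) * unc (n / 243) + unc (e / 729) * unc (n / 729) := by
  rw [row_eq, unc_mod]
  simp only [unc_eq_cast]
  push_cast
  rfl

theorem stepE_digits (e n : ℕ) :
    unc (stepE e n) = unc (row e n) ∧ unc (stepE e n / 3) = unc (row (e / 2187) n) ∧
    unc (stepE e n / 9) = unc (row (e / 4782969) n) ∧ unc (stepE e n / 27) = unc (row (e / 10460353203) n) ∧
    unc (stepE e n / 81) = unc (row (e / 22876792454961) n) ∧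
    unc (stepE e n / 243) = unc (row (e / 50031545098999707) n) ∧
    unc (stepE e n / 729) = unc (row (e / 109418989131512359209) n) := by
  obtain ⟨h0, h1, h2, h3, h4, h5, h6⟩ := digits7 _ _ _ _ _ _ _ (row_lt e n) (row_lt (e / 2187) n)
    (row_lt (e / 4782969) n) (row_lt (e / 10460353203) n) (row_lt (e / 22876792454961) n)
    (row_lt (e / 50031545098999707) n) (row_lt (e / 109418989131512359209) n)
  rw [← stepE_eq] at h0 h1 h2 h3 h4 h5 h6
  refine ⟨?_, ?_, ?_, ?_, ?_, ?_, ?_⟩
  · rw [← unc_mod, h0]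
  · rw [← unc_mod, h1]
  · rw [← unc_mod, h2]
  · rw [← unc_mod, h3]
  · rw [← unc_mod, h4]
  · rw [← unc_mod, h5]
  · rw [← unc_mod, h6]

theorem div_div_pow (e a b : ℕ) : e / 3 ^ a / 3 ^ b = e / 3 ^ (a + b) := by
  rw [Nat.div_div_eq_div_mul, pow_add]

theorem MLe_mulVec (e n : ℕ) : MLe e *ᵥ decN n = decN (stepE e n) := by
  obtain ⟨h0, h1, h2, h3, h4, h5, h6⟩ := stepE_digits e n
  funext a
  rcases a with _ | i | i
  · simp only [mulVec, dotProduct, Fintype.sum_sum_type, Fin.sum_univ_three, Finset.univ_unique, Finset.sum_singleton,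
      MLe, of_apply, pos, decN, mkV, Sum.elim_inl, Sum.elim_inr, Matrix.cons_val_zero, Matrix.cons_val_one,
      Matrix.cons_val]
    rw [h0, unc_row]
    norm_num
    ring
  · fin_cases i
    · simp only [mulVec, dotProduct, Fintype.sum_sum_type, Fin.sum_univ_three, Finset.univ_unique, Finset.sum_singleton,
        MLe, of_apply, pos, decN, mkV, Sum.elim_inl, Sum.elim_inr, Matrix.cons_val_zero, Matrix.cons_val_one,
        Matrix.cons_val]
      rw [h1, unc_row]
      norm_num [Nat.div_div_eq_div_mul]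
      ring
    · simp only [mulVec, dotProduct, Fintype.sum_sum_type, Fin.sum_univ_three, Finset.univ_unique, Finset.sum_singleton,
        MLe, of_apply, pos, decN, mkV, Sum.elim_inl, Sum.elim_inr, Matrix.cons_val_zero, Matrix.cons_val_one,
        Matrix.cons_val]
      rw [h2, unc_row]
      norm_num [Nat.div_div_eq_div_mul]
      ring
    · simp only [mulVec, dotProduct, Fintype.sum_sum_type, Fin.sum_univ_three, Finset.univ_unique, Finset.sum_singleton,
        MLe, of_apply, pos, decN, mkV, Sum.elim_inl, Sum.elim_inr, Matrix.cons_val_zero, Matrix.cons_val_one,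
        Matrix.cons_val]
      rw [h3, unc_row]
      norm_num [Nat.div_div_eq_div_mul]
      ring
  · fin_cases i
    · simp only [mulVec, dotProduct, Fintype.sum_sum_type, Fin.sum_univ_three, Finset.univ_unique, Finset.sum_singleton,
        MLe, of_apply, pos, decN, mkV, Sum.elim_inl, Sum.elim_inr, Matrix.cons_val_zero, Matrix.cons_val_one,
        Matrix.cons_val]
      rw [h4, unc_row]
      norm_num [Nat.div_div_eq_div_mul]
      ring
    · simp only [mulVec, dotProduct, Fintype.sum_sum_type, Fin.sum_univ_three, Finset.univ_unique, Finset.sum_singleton,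
        MLe, of_apply, pos, decN, mkV, Sum.elim_inl, Sum.elim_inr, Matrix.cons_val_zero, Matrix.cons_val_one,
        Matrix.cons_val]
      rw [h5, unc_row]
      norm_num [Nat.div_div_eq_div_mul]
      ring
    · simp only [mulVec, dotProduct, Fintype.sum_sum_type, Fin.sum_univ_three, Finset.univ_unique, Finset.sum_singleton,
        MLe, of_apply, pos, decN, mkV, Sum.elim_inl, Sum.elim_inr, Matrix.cons_val_zero, Matrix.cons_val_one,
        Matrix.cons_val]
      rw [h6, unc_row]
      norm_num [Nat.div_div_eq_div_mul]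
      ring

theorem single_eq : ∀ a : I7, (Pi.single a 1 : V7) = decN (3 ^ pos a) := by decide

theorem decN_val (u : V7) : decN (enc u).val = u := dec_enc u

/-- two matrices which agree on the basis vectors are equal -/
theorem mat_eq_of_basis (A C : Matrix I7 I7 (ZMod 3)) (h : ∀ k < 7, A *ᵥ decN (3 ^ k) = C *ᵥ decN (3 ^ k)) : A = C := by
  apply Matrix.ext_of_mulVec_single
  intro a
  rw [single_eq a]
  exact h _ (pos_lt a)

/-- the matrix of a letter -/
def ML (l : ℕ) : Matrix I7 I7 (ZMod 3) := MLe (E l)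

theorem ML_mulVec (l n : ℕ) : ML l *ᵥ decN n = decN (stepE (E l) n) := MLe_mulVec _ _

/-- check that the letters `i` and `i + 18` are inverse to each other -/
def invChk : Bool :=
  (List.range 18).all fun i => (List.range 7).all fun k =>
    Nat.beq (stepE (E i) (stepE (E (i + 18)) (3 ^ k))) (3 ^ k) && Nat.beq (stepE (E (i + 18)) (stepE (E i) (3 ^ k))) (3 ^ k)

theorem invChk_ok : invChk = true := by decide +kernel

theorem inv_spec {i k : ℕ} (hi : i < 18) (hk : k < 7) :
    stepE (E i) (stepE (E (i + 18)) (3 ^ k)) = 3 ^ k ∧ stepE (E (i + 18)) (stepE (E i) (3 ^ k)) = 3 ^ k := by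
  have h := invChk_ok
  unfold invChk at h
  rw [List.all_eq_true] at h
  have h1 := h i (List.mem_range.mpr hi)
  rw [List.all_eq_true] at h1
  have h2 := h1 k (List.mem_range.mpr hk)
  rw [Bool.and_eq_true] at h2
  exact ⟨Nat.eq_of_beq_eq_true h2.1, Nat.eq_of_beq_eq_true h2.2⟩

theorem ML_mul_inv {i : ℕ} (hi : i < 18) : ML i * ML (i + 18) = 1 := by
  apply mat_eq_of_basis
  intro k hk
  rw [← mulVec_mulVec, ML_mulVec, ML_mulVec, (inv_spec hi hk).1, one_mulVec]

theorem ML_inv_mul {i : ℕ} (hi : i < 18) : ML (i + 18) * ML i = 1 := by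
  apply mat_eq_of_basis
  intro k hk
  rw [← mulVec_mulVec, ML_mulVec, ML_mulVec, (inv_spec hi hk).2, one_mulVec]

/-- the quadratic form on codes -/
def QN (n : ℕ) : ℕ :=
  Nat.mod (Nat.add (Nat.add (Nat.add (Nat.mul n n) (Nat.mul (Nat.div n 3) (Nat.div n 81)))
    (Nat.mul (Nat.div n 9) (Nat.div n 243))) (Nat.mul (Nat.div n 27) (Nat.div n 729))) 3

theorem QN_eq (n : ℕ) : QN n = (n * n + n / 3 * (n / 81) + n / 9 * (n / 243) + n / 27 * (n / 729)) % 3 := rfl

theorem Q_decN (n : ℕ) : Q (decN n) = unc (QN n) := by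
  rw [QN_eq, unc_mod]
  simp only [Q, decN, mkV, Sum.elim_inl, Sum.elim_inr, Matrix.cons_val_zero, Matrix.cons_val_one, Matrix.cons_val,
    unc_eq_cast]
  push_cast
  ring

/-- check that the 18 matrices are isometries -/
def isoChk : Bool :=
  (List.range 18).all fun i => force (E i) fun e => (List.range 2187).all fun n =>
    force (stepE e n) fun m => Nat.beq (QN m) (QN n)

theorem isoChk_ok : isoChk = true := by decide +kernel

theorem iso_spec {i n : ℕ} (hi : i < 18) (hn : n < 2187) : QN (stepE (E i) n) = QN n := by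
  have h := isoChk_ok
  unfold isoChk at h
  rw [List.all_eq_true] at h
  have h1 := h i (List.mem_range.mpr hi)
  rw [force_eq, List.all_eq_true] at h1
  have h2 := h1 n (List.mem_range.mpr hn)
  rw [force_eq] at h2
  exact Nat.eq_of_beq_eq_true h2

theorem Q_ML {i : ℕ} (hi : i < 18) (u : V7) : Q (ML i *ᵥ u) = Q u := by
  rw [← decN_val u, ML_mulVec, Q_decN, Q_decN, iso_spec hi (enc u).isLt]

/-- the 18 matrices as elements of the orthogonal group -/
noncomputable def Y (i : ℕ) : O7 :=
  if h : i < 18 then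
    ⟨⟨ML i, ML (i + 18), ML_mul_inv h, ML_inv_mul h⟩, (mem_O7 _).mpr (Q_ML h)⟩
  else 1

theorem mat_Y {i : ℕ} (hi : i < 18) : mat (Y i) = ML i := by
  unfold Y
  rw [dif_pos hi]
  rfl

theorem mat_Y_inv {i : ℕ} (hi : i < 18) : mat (Y i)⁻¹ = ML (i + 18) := by
  unfold Y
  rw [dif_pos hi]
  rfl

/-- the normal form of a letter -/
def norm (l : ℕ) : ℕ := if (l / 18) % 2 = 0 then l % 18 else l % 18 + 18

theorem mat_lv (l : ℕ) : mat (lv Y l) = ML (norm l) := by
  unfold lv norm
  have h : l % 18 < 18 := Nat.mod_lt _ (by norm_num)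
  by_cases h0 : (l / 18) % 2 = 0
  · rw [if_pos h0, if_pos h0, mat_Y h]
  · rw [if_neg h0, if_neg h0, mat_Y_inv h]

/-- one letter applied to a code -/
def stepC (l n : ℕ) : ℕ := force n fun m => force (E (norm l)) fun e => stepE e m

theorem stepC_eq (l n : ℕ) : stepC l n = stepE (E (norm l)) n := by
  unfold stepC
  rw [force_eq, force_eq]

/-- a word applied to a code -/
def run (w : List ℕ) (n : ℕ) : ℕ := w.foldr stepC n

theorem mat_ev_mulVec (w : List ℕ) (n : ℕ) : mat (ev Y w) *ᵥ decN n = decN (run w n) := by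
  induction w with
  | nil => rw [ev_nil, mat_one, one_mulVec]; rfl
  | cons l w ih =>
    rw [ev_cons, mat_mul, ← mulVec_mulVec, ih, mat_lv, ML_mulVec]
    show _ = decN (stepC l (run w n))
    rw [stepC_eq]

/-- check that a word fixes the codes of the basis vectors -/
def chk (w : List ℕ) : Bool := (List.range 7).all fun k => Nat.beq (run w (3 ^ k)) (3 ^ k)

theorem ev_eq_one_of_chk {w : List ℕ} (h : chk w = true) : ev Y w = 1 := by
  unfold chk at h
  rw [List.all_eq_true] at h
  apply Subtype.ext
  apply Units.ext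
  show mat (ev Y w) = 1
  apply mat_eq_of_basis
  intro k hk
  rw [mat_ev_mulVec, one_mulVec, Nat.eq_of_beq_eq_true (h k (List.mem_range.mpr hk))]

/-- two words with the same action on the basis codes have the same value -/
theorem mat_ev_eq_of_run (M : O7) (w : List ℕ) (h : ∀ k < 7, mat M *ᵥ decN (3 ^ k) = decN (run w (3 ^ k))) :
    M = ev Y w := by
  apply Subtype.ext
  apply Units.ext
  show mat M = mat (ev Y w)
  apply mat_eq_of_basis
  intro k hk
  rw [mat_ev_mulVec, h k hk]

/-- the words to be checked -/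
def chkL : List (List ℕ) :=
  cubeL ++ stL.map (fun s => stWord s.1 s.2.1 s.2.2) ++ commL.map (fun p => commWord p.1 p.2) ++ cenL

theorem chkL_ok : chkL.all chk = true := by decide +kernel

theorem ev_Y_eq_one : ∀ w ∈ chkL, ev Y w = 1 := by
  intro w hw
  have h := chkL_ok
  rw [List.all_eq_true] at h
  exact ev_eq_one_of_chk (h w hw)

section generic

variable {G : Type*} [Group G]

/-- the relations from the words of `chkL` -/
theorem rels_of_chkL {x : ℕ → G} (h : ∀ w ∈ chkL, ev x w = 1) : Rels x ∧ ∀ c ∈ cenL, ev x c = 1 := by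
  have mem1 : ∀ i < 18, [i, i, i] ∈ chkL := by
    intro i hi
    unfold chkL
    simp only [List.mem_append]
    left; left; left
    unfold cubeL
    exact List.mem_map.mpr ⟨i, List.mem_range.mpr hi, rfl⟩
  have mem2 : ∀ s ∈ stL, stWord s.1 s.2.1 s.2.2 ∈ chkL := by
    intro s hs
    unfold chkL
    simp only [List.mem_append]
    left; left; right
    exact List.mem_map.mpr ⟨s, hs, rfl⟩
  have mem3 : ∀ p ∈ commL, commWord p.1 p.2 ∈ chkL := by
    intro p hp
    unfold chkL
    simp only [List.mem_append]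
    left; right
    exact List.mem_map.mpr ⟨p, hp, rfl⟩
  have mem4 : ∀ c ∈ cenL, c ∈ chkL := by
    intro c hc
    unfold chkL
    simp only [List.mem_append]
    right
    exact hc
  refine ⟨⟨?_, ?_, ?_, ?_⟩, fun c hc => h c (mem4 c hc)⟩
  · intro i hi
    have := h _ (mem1 i hi)
    rw [ev_cons, ev_cons, ev_single, lv_of_lt x hi] at this
    rw [pow_succ, pow_two, mul_assoc]
    exact this
  · intro s hs
    obtain ⟨h1, h2, h3⟩ := stL_lt s hs
    have := h _ (mem2 s hs)
    rw [ev_stWord, lv_of_lt x h1, lv_of_lt x h2, lv_of_lt x h3, mul_inv_eq_one] at this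
    exact this
  · intro p hp
    obtain ⟨h1, h2⟩ := commL_lt p hp
    have := h _ (mem3 p hp)
    rw [ev_commWord, lv_of_lt x h1, lv_of_lt x h2, mul_inv_eq_one, mul_inv_eq_iff_eq_mul] at this
    exact this
  · intro c hc q hq
    rw [h c (mem4 c hc), one_mul, mul_one]

/-- the value of a word lies in the subgroup generated by the letters -/
theorem ev_mem_closure (x : ℕ → G) (w : List ℕ) : ev x w ∈ Subgroup.closure {g : G | ∃ i < 18, g = x i} := by
  induction w with
  | nil => rw [ev_nil]; exact Subgroup.one_mem _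
  | cons l w ih =>
    rw [ev_cons]
    refine Subgroup.mul_mem _ ?_ ih
    have hm : x (l % 18) ∈ Subgroup.closure {g : G | ∃ i < 18, g = x i} :=
      Subgroup.subset_closure ⟨l % 18, Nat.mod_lt _ (by norm_num), rfl⟩
    unfold lv
    split_ifs
    · exact hm
    · exact Subgroup.inv_mem _ hm

end generic

theorem rels_Y : Rels Y := (rels_of_chkL ev_Y_eq_one).1

/-- the 18 matrices lie in the commutator subgroup -/
theorem Y_mem_commutator {i : ℕ} (hi : i < 18) : Y i ∈ commutator O7 := by
  have hex : ∀ i < 18, ∃ s ∈ stL, s.2.2 = i := by decide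
  obtain ⟨s, hs, rfl⟩ := hex i hi
  rw [← rels_Y.st s hs, commutator_def]
  have := Subgroup.commutator_mem_commutator (H₁ := (⊤ : Subgroup O7)) (H₂ := ⊤) (Subgroup.mem_top (Y s.1))
    (Subgroup.mem_top (Y s.2.1))
  rw [commutatorElement_def] at this
  exact this

/-- words for helper17's generators -/
def tgw : ℕ → List ℕ
  | 0 => [26, 9, 30, 26, 30, 34, 31, 21, 27, 8]
  | 1 => [1, 20, 33, 30, 27, 19]
  | 2 => [30, 26, 30, 34, 31, 21]
  | 3 => [2, 32, 35, 31, 25, 31, 22, 20]
  | 4 => [4, 21, 31, 34, 26, 22]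
  | 5 => [1, 31, 34, 32, 26, 32, 21, 19]
  | 6 => [32, 35, 30, 25, 30, 22]
  | _ => [2, 35, 32, 33, 22, 33, 25, 20]

end Cfsg.Agent.Lib.H22.O73M
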