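import Mathlib
import Cfsg.Prelude.Def_KGroupFacts
import Cfsg.Prelude.Def_Classical
import Cfsg.Agent.Lib.H28.O73M.Words
import Cfsg.Agent.Lib.H17.O7Main
import Cfsg.Agent.Lib.H22.O73GS18a

/-!
# S2095 piece GS18 (helper22): the 18 matrices lie in `Om = commutator O7`, generate it, satisfy `Rels`, and the words of
`cenL` are trivial.
-/

set_option autoImplicit false
set_option linter.unusedSectionVars false
set_option linter.unusedVariables false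
set_option maxRecDepth 100000

namespace Cfsg.Agent.Lib.H22.O73M

open Matrix Cfsg.Agent.Lib.H28.O73M Cfsg.Agent.Lib.H17.O7Vec Cfsg.Agent.Lib.H17.CosetCert
  Cfsg.Agent.Lib.H17.O7Refl Cfsg.Agent.Lib.H17.O7Lines Cfsg.Agent.Lib.H17.O7T Cfsg.Agent.Lib.H17.O7Main

/-- a negative of a reflection as a word -/
theorem nr_eq_ev (v : V7) (hv : Q v = 2) (w : List ℕ)
    (h : ∀ j < 7, -decN (3 ^ j) - B (decN (3 ^ j)) v • v = decN (run w (3 ^ j))) : nr v hv = ev Y w := by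
  apply mat_ev_eq_of_run
  intro j hj
  rw [nr_mulVec]
  exact h j hj

theorem tgchk0 : ∀ j < 7, -decN (3 ^ j) - B (decN (3 ^ j)) v0 • v0 = decN (run (tgw 0) (3 ^ j)) := by decide +kernel
theorem tgchk1 : ∀ j < 7, -decN (3 ^ j) - B (decN (3 ^ j)) v1 • v1 = decN (run (tgw 1) (3 ^ j)) := by decide +kernel
theorem tgchk2 : ∀ j < 7, -decN (3 ^ j) - B (decN (3 ^ j)) v2 • v2 = decN (run (tgw 2) (3 ^ j)) := by decide +kernel
theorem tgchk3 : ∀ j < 7, -decN (3 ^ j) - B (decN (3 ^ j)) v3 • v3 = decN (run (tgw 3) (3 ^ j)) := by decide +kernel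
theorem tgchk4 : ∀ j < 7, -decN (3 ^ j) - B (decN (3 ^ j)) v4 • v4 = decN (run (tgw 4) (3 ^ j)) := by decide +kernel
theorem tgchk5 : ∀ j < 7, -decN (3 ^ j) - B (decN (3 ^ j)) v5 • v5 = decN (run (tgw 5) (3 ^ j)) := by decide +kernel
theorem tgchk6 : ∀ j < 7, -decN (3 ^ j) - B (decN (3 ^ j)) v6 • v6 = decN (run (tgw 6) (3 ^ j)) := by decide +kernel
theorem tgchk7 : ∀ j < 7, -decN (3 ^ j) - B (decN (3 ^ j)) v7 • v7 = decN (run (tgw 7) (3 ^ j)) := by decide +kernel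

theorem tg_eq (k : Fin 8) : tg k = ev Y (tgw k.val) := by
  fin_cases k
  · exact nr_eq_ev v0 nrm0 _ tgchk0
  · exact nr_eq_ev v1 nrm1 _ tgchk1
  · exact nr_eq_ev v2 nrm2 _ tgchk2
  · exact nr_eq_ev v3 nrm3 _ tgchk3
  · exact nr_eq_ev v4 nrm4 _ tgchk4
  · exact nr_eq_ev v5 nrm5 _ tgchk5
  · exact nr_eq_ev v6 nrm6 _ tgchk6
  · exact nr_eq_ev v7 nrm7 _ tgchk7

/-- the 18 generators in the commutator subgroup -/
noncomputable def X (i : ℕ) : ↥Om := if h : i < 18 then ⟨Y i, Y_mem_commutator h⟩ else 1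

theorem coe_X {i : ℕ} (hi : i < 18) : ((X i : ↥Om) : O7) = Y i := by
  unfold X
  rw [dif_pos hi]

theorem coe_ev_X (w : List ℕ) : ((ev X w : ↥Om) : O7) = ev Y w := by
  have h1 := map_ev Om.subtype X w
  rw [ev_congr (x := fun i => Om.subtype (X i)) (y := Y) (fun i hi => coe_X hi) w] at h1
  exact h1

theorem ev_X_eq_one : ∀ w ∈ chkL, ev X w = 1 := by
  intro w hw
  apply Subtype.ext
  rw [coe_ev_X, ev_Y_eq_one w hw]
  rfl

theorem gen_X : Subgroup.closure {g : ↥Om | ∃ i < 18, g = X i} = ⊤ := by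
  have hle : T ≤ (Subgroup.closure {g : ↥Om | ∃ i < 18, g = X i}).map Om.subtype := by
    unfold T
    rw [Subgroup.closure_le]
    rintro _ ⟨k, rfl⟩
    refine ⟨ev X (tgw k.val), ev_mem_closure X _, ?_⟩
    show ((ev X (tgw k.val) : ↥Om) : O7) = tg k
    rw [coe_ev_X, tg_eq]
  rw [eq_top_iff]
  rintro ⟨g, hg⟩ -
  have hgT : g ∈ T := by
    rw [← commutator_eq_T]
    exact hg
  obtain ⟨k, hk, hkg⟩ := hle hgT
  have : k = ⟨g, hg⟩ := Subtype.ext hkg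
  rw [← this]
  exact hk

/-- **GS18** -/
theorem exists_gens18 : ∃ X : ℕ → ↥Cfsg.Agent.Lib.H17.O7Main.Om,
    Subgroup.closure {g : ↥Cfsg.Agent.Lib.H17.O7Main.Om | ∃ i < 18, g = X i} = ⊤ ∧ Rels X ∧
      ∀ c ∈ cenL, ev X c = 1 :=
  ⟨X, gen_X, (rels_of_chkL ev_X_eq_one).1, (rels_of_chkL ev_X_eq_one).2⟩

end Cfsg.Agent.Lib.H22.O73M
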