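import Mathlib
import Cfsg.Prelude.Def_Characters
import Cfsg.Agent.Lib.L0.CharBasic
import Cfsg.Agent.Lib.H8.GaloisClassFun

/-!
helper22 library (S0435, piece (INVINT)): the values of an irreducible character at an involution are rational
integers of absolute value at most the degree.  Exact signature of `tools/blueprints/S0435_sigs.lean`.
-/

set_option autoImplicit false

namespace Cfsg.Agent.Lib.H22.O7920
open Cfsg
universe u

theorem invol_int {G : Type u} [Group G] [Fintype G] {z : G} (hz : orderOf z = 2) (χ : IrrCharacter G)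
    (d : ℕ) (hd : (χ : G → ℂ) 1 = d) :
    ∃ v : ℤ, (χ : G → ℂ) z = v ∧ |v| ≤ d := by
  have h2 : 2 ∣ Nat.card G := hz ▸ orderOf_dvd_natCard z
  have hpow : ∀ m : ℕ, m.Coprime (Nat.card G) → (χ : G → ℂ) (z ^ m) = (χ : G → ℂ) z := by
    intro m hm
    have hodd : ¬ 2 ∣ m := by
      intro h
      have h3 : (2 : ℕ) ∣ Nat.gcd m (Nat.card G) := Nat.dvd_gcd h h2
      rw [Nat.Coprime] at hm
      rw [hm] at h3
      omega
    have hm1 : m % 2 = 1 := by omega
    have hz2 : z ^ 2 = 1 := by rw [← hz]; exact pow_orderOf_eq_one z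
    have : z ^ m = z := by
      conv_lhs => rw [← Nat.div_add_mod m 2, hm1, pow_add, pow_mul, hz2, one_pow, one_mul, pow_one]
    rw [this]
  obtain ⟨v, hv⟩ := Cfsg.Agent.Lib.H8.exists_int_of_forall_pow_eq (Or.inl χ.2) z hpow
  refine ⟨v, hv, ?_⟩
  have hn := Cfsg.Agent.Lib.L0.isCharacter_norm_le (Cfsg.Agent.Lib.L0.isCharacter_of_irr χ.2) z
  rw [hv, hd] at hn
  have h1 : ‖((v : ℤ) : ℂ)‖ = |(v : ℝ)| := by
    rw [← Complex.ofReal_intCast, Complex.norm_real, Real.norm_eq_abs]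
  have h2' : ‖((d : ℕ) : ℂ)‖ = (d : ℝ) := by
    rw [← Complex.ofReal_natCast, Complex.norm_real, Real.norm_eq_abs, abs_of_nonneg (Nat.cast_nonneg d)]
  rw [h1, h2'] at hn
  have h3 : ((|v| : ℤ) : ℝ) ≤ ((d : ℤ) : ℝ) := by
    push_cast
    exact hn
  exact_mod_cast h3

end Cfsg.Agent.Lib.H22.O7920
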