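import Mathlib
import Cfsg.Agent.Lib.H5.Ord.GenTests
import Cfsg.Agent.Lib.H5.OrderCount
import Cfsg.Agent.Lib.H28.J1OrdTools

/-!
# S0983 filler: no simple group of order `4620 = 2^2.3.5.7.11`

The Sylow numerology (with the fixed-point test of `prime_data_explicit`) forces
`n_11 = 210`, `n_7 = 330` with `|C(P_7)| = 7`, and `n_5 = 231` (the case `n_5 = 66` has
`|C(P_5)| = 35`, which would put `5 ∣ |C(P_7)|`).  Then there are
`2100 + 1980 + 924 > 4620` elements of orders `11, 7, 5`.
-/

set_option autoImplicit false
set_option maxHeartbeats 1000000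

namespace Cfsg.Agent.Lib.H22.O983

open Subgroup Cfsg.Agent.Lib.H5 Cfsg.Agent.Lib.H5.GenTests Cfsg.Agent.Lib.H28.J1Ord

theorem not_simple_4620 {G : Type*} [Group G] [Finite G] [IsSimpleGroup G] :
    Nat.card G ≠ 4620 := by
  intro hn
  have hnc : ¬ IsMulCommutative G :=
    not_isMulCommutative_of_card_not_prime (by rw [hn]; norm_num)
  have : Fact (Nat.Prime 11) := ⟨by norm_num⟩
  have : Fact (Nat.Prime 7) := ⟨by norm_num⟩
  have : Fact (Nat.Prime 5) := ⟨by norm_num⟩
  let P11 : Sylow 11 G := default
  let P7 : Sylow 7 G := default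
  let P5 : Sylow 5 G := default
  -- p = 11
  have h11 : Nat.card (Sylow 11 G) = 210 := by
    obtain ⟨h1, h2, h3, -, h5, h6, h7, -, -, -, -, -, -, hfix⟩ :=
      prime_data_explicit hnc hn (p := 11) (m := 420) (by norm_num) (by norm_num) (by norm_num) P11
    have hmem : Nat.card (Sylow 11 G) ∈ (Nat.divisors 420).filter (fun d => d % 11 = 1) := by
      rw [Finset.mem_filter, Nat.mem_divisors]
      exact ⟨⟨h1, by norm_num⟩, h2⟩
    have hfil : (Nat.divisors 420).filter (fun d => d % 11 = 1) = {1, 12, 210} := by decide +kernel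
    rw [hfil] at hmem
    simp only [Finset.mem_insert, Finset.mem_singleton] at hmem
    rcases hmem with h | h | h
    · exact absurd h h3
    · exfalso
      rw [h] at h7 hfix
      set r := (centralizer ((P11 : Subgroup G) : Set G)).relIndex
        (normalizer ((P11 : Subgroup G) : Set G))
      set c₀ := Nat.card (centralizer ((P11 : Subgroup G) : Set G))
      have hr : r ≤ 10 := Nat.le_of_dvd (by norm_num) h5
      have hc : c₀ = 77 := by
        interval_cases r <;> omega
      obtain ⟨f, hf1, hf2, hf3, -⟩ := hfix 7 (by norm_num) (by rw [hc]; norm_num)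
      interval_cases f <;> omega
    · exact h
  -- p = 7
  have h7 : Nat.card (Sylow 7 G) = 330 ∧
      Nat.card (centralizer ((P7 : Subgroup G) : Set G)) = 7 := by
    obtain ⟨h1, h2, h3, -, h5, h6, h7, -, -, -, -, -, -, hfix⟩ :=
      prime_data_explicit hnc hn (p := 7) (m := 660) (by norm_num) (by norm_num) (by norm_num) P7
    have hmem : Nat.card (Sylow 7 G) ∈ (Nat.divisors 660).filter (fun d => d % 7 = 1) := by
      rw [Finset.mem_filter, Nat.mem_divisors]
      exact ⟨⟨h1, by norm_num⟩, h2⟩
    have hfil : (Nat.divisors 660).filter (fun d => d % 7 = 1) = {1, 15, 22, 330} := by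
      decide +kernel
    rw [hfil] at hmem
    simp only [Finset.mem_insert, Finset.mem_singleton] at hmem
    set r := (centralizer ((P7 : Subgroup G) : Set G)).relIndex
      (normalizer ((P7 : Subgroup G) : Set G))
    set c₀ := Nat.card (centralizer ((P7 : Subgroup G) : Set G))
    have hr : r ≤ 6 := Nat.le_of_dvd (by norm_num) h5
    rcases hmem with h | h | h | h
    · exact absurd h h3
    · exfalso
      rw [h] at h7 hfix
      have hc : c₀ = 154 := by
        interval_cases r <;> omega
      obtain ⟨f, hf1, hf2, hf3, -⟩ := hfix 11 (by norm_num) (by rw [hc]; norm_num)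
      interval_cases f <;> omega
    · exfalso
      rw [h] at h7 hfix
      have hc : 5 ∣ c₀ := by
        interval_cases r <;> omega
      obtain ⟨f, hf1, hf2, hf3, -⟩ := hfix 5 (by norm_num) hc
      interval_cases f <;> omega
    · refine ⟨h, ?_⟩
      rw [h] at h7
      have h7' : c₀ * r = 14 := by omega
      clear h7
      interval_cases r <;> omega
  obtain ⟨h7d, h7c⟩ := h7
  -- p = 5
  have hP7 : Nat.card (P7 : Subgroup G) = 7 := by
    have := (prime_data_explicit hnc hn (p := 7) (m := 660) (by norm_num) (by norm_num)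
      (by norm_num) P7).2.2.2.2.2.2.2.2.1
    exact this
  have h5 : Nat.card (Sylow 5 G) = 231 := by
    obtain ⟨h1, h2, h3, h4, h5, h6, h7, -, hP5, -, -, -, -, hfix⟩ :=
      prime_data_explicit hnc hn (p := 5) (m := 924) (by norm_num) (by norm_num) (by norm_num) P5
    have hmem : Nat.card (Sylow 5 G) ∈ (Nat.divisors 924).filter (fun d => d % 5 = 1) := by
      rw [Finset.mem_filter, Nat.mem_divisors]
      exact ⟨⟨h1, by norm_num⟩, h2⟩
    have hfil : (Nat.divisors 924).filter (fun d => d % 5 = 1) = {1, 6, 11, 21, 66, 231} := by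
      decide +kernel
    rw [hfil] at hmem
    simp only [Finset.mem_insert, Finset.mem_singleton] at hmem
    set r := (centralizer ((P5 : Subgroup G) : Set G)).relIndex
      (normalizer ((P5 : Subgroup G) : Set G))
    set c₀ := Nat.card (centralizer ((P5 : Subgroup G) : Set G)) with hc₀
    have hr : r ≤ 4 := Nat.le_of_dvd (by norm_num) h5
    rcases hmem with h | h | h | h | h | h
    · exact absurd h h3
    · exfalso
      rw [h] at h4
      revert h4
      decide
    · exfalso
      rw [h] at h7 hfix
      have hc : 7 ∣ c₀ := by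
        interval_cases r <;> omega
      obtain ⟨f, hf1, hf2, hf3, -⟩ := hfix 7 (by norm_num) hc
      interval_cases f <;> omega
    · exfalso
      rw [h] at h7 hfix
      have hc : 11 ∣ c₀ := by
        interval_cases r <;> omega
      obtain ⟨f, hf1, hf2, hf3, -⟩ := hfix 11 (by norm_num) hc
      interval_cases f <;> omega
    · exfalso
      rw [h] at h7
      have hc : 7 ∣ c₀ := by
        interval_cases r <;> omega
      have := dvd_card_centralizer_symm P5 P7 hP7 hc
      rw [hP5, h7c] at this
      omega
    · exact h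
  -- the count
  have hS11 : ∀ Q : Sylow 11 G, Nat.card (Q : Subgroup G) = 11 := fun Q =>
    (prime_data_explicit hnc hn (p := 11) (m := 420) (by norm_num) (by norm_num)
      (by norm_num) Q).2.2.2.2.2.2.2.2.1
  have hS7 : ∀ Q : Sylow 7 G, Nat.card (Q : Subgroup G) = 7 := fun Q =>
    (prime_data_explicit hnc hn (p := 7) (m := 660) (by norm_num) (by norm_num)
      (by norm_num) Q).2.2.2.2.2.2.2.2.1
  have hS5 : ∀ Q : Sylow 5 G, Nat.card (Q : Subgroup G) = 5 := fun Q =>
    (prime_data_explicit hnc hn (p := 5) (m := 924) (by norm_num) (by norm_num)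
      (by norm_num) Q).2.2.2.2.2.2.2.2.1
  have ho11 := card_orderOf_eq_prime hS11
  have ho7 := card_orderOf_eq_prime hS7
  have ho5 := card_orderOf_eq_prime hS5
  rw [h11] at ho11
  rw [h7d] at ho7
  rw [h5] at ho5
  have hsum := sum_card_orderOf_le (G := G) [11, 7, 5] (by decide)
  simp only [List.map_cons, List.map_nil, List.sum_cons, List.sum_nil] at hsum
  rw [ho11, ho7, ho5, hn] at hsum
  omega

end Cfsg.Agent.Lib.H22.O983
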