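import Mathlib
import Cfsg.Agent.S0985
import Cfsg.Agent.Lib.H5.Ord.GenTests
import Cfsg.Agent.Lib.H5.Orbits
import Cfsg.Agent.Lib.H5.SylowIn
import Cfsg.Agent.Lib.L0.CyclicSylowTwo

/-!
# S0983 filler: no simple group of order `5400 = 2^3.3^3.5^2`

A purely `5`-local counting argument.

* `n_5 = 36`, `|N(P)| = 150`, Sylow `5`-subgroups are abelian of order `25`.
* (KL) a proper subgroup `H` containing two distinct Sylow `5`-subgroups has order `300` and
  `n_5(H) = 6`: `|H| = 25 k`, `k ∣ 216`, `k ≤ 21` (minimal index), `n_5(H) ∣ k`, so `k ∈ {6, 12, 18}`;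
  for `k = 6, 18` the order is `2 * odd` and the normal `2`-complement (of order `75`, `225`)
  contains all `5`-subgroups and has a unique Sylow `5`-subgroup.
* Fix `P`.  `Y := {R | P ⊓ R = ⊥}`, `Z := {R ≠ P | P ⊓ R ≠ ⊥}`, `36 = 1 + |Y| + |Z|`.
  `P` acts freely on `Y`, so `25 ∣ |Y|`.  `N(P)` acts on `Z` and the stabilizer `N(P) ⊓ N(R)` of `R`
  lies in `N(P) ⊓ N(P ⊓ R)` of order `50`, so `3 ∣ |Z|`.  Contradiction.
-/

set_option autoImplicit false
set_option maxHeartbeats 1000000

namespace Cfsg.Agent.Lib.H22.O983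

open Subgroup MulAction Cfsg.Agent.Lib.H5 Cfsg.Agent.Lib.H5.GenTests

/-- If `d` divides the index of the stabilizer of every point of an invariant subset `S`,
then `d` divides the size of `S`. -/
theorem dvd_card_of_forall_dvd_index_stabilizer {A X : Type*} [Group A] [MulAction A X] [Finite X]
    (S : Set X) (hS : ∀ (a : A) (x : X), x ∈ S → a • x ∈ S) (d : ℕ)
    (h : ∀ x ∈ S, d ∣ (stabilizer A x).index) : d ∣ Nat.card S := by
  let _ : MulAction A S :=
    { smul := fun a x => ⟨a • x.1, hS a x.1 x.2⟩
      one_smul := fun x => Subtype.ext (one_smul A x.1)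
      mul_smul := fun a b x => Subtype.ext (mul_smul a b x.1) }
  apply dvd_card_of_forall_dvd_card_orbit (P := A) (X := S) d
  intro x
  have hst : stabilizer A x = stabilizer A x.1 := by
    ext a
    rw [mem_stabilizer_iff, mem_stabilizer_iff]
    exact Subtype.ext_iff
  have hcard : Nat.card (orbit A x) = (stabilizer A x).index := by
    rw [index_stabilizer, Nat.card_coe_set_eq]
  rw [hcard, hst]
  exact h x.1 x.2

/-- Two distinct Sylow subgroups: numerical data of `n_p`. -/
theorem card_sylow_data_of_ne {X : Type*} [Group X] [Finite X] {p : ℕ} [Fact p.Prime]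
    (P R : Sylow p X) (h : P ≠ R) :
    Nat.card (Sylow p X) ∣ (P : Subgroup X).index ∧ Nat.card (Sylow p X) % p = 1 ∧
      Nat.card (Sylow p X) ≠ 1 := by
  have hp : p.Prime := Fact.out
  refine ⟨Sylow.card_dvd_index P, ?_, ?_⟩
  · have := card_sylow_modEq_one p X
    rw [Nat.ModEq, Nat.mod_eq_of_lt hp.one_lt] at this
    exact this
  · intro h1
    have := Nat.card_eq_one_iff_unique.mp h1
    exact h (this.1.elim P R)

/-- In a group of order `2 * odd`, two distinct Sylow `p`-subgroups (`p` odd) live in the normal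
`2`-complement. -/
theorem exists_dvd_of_two_odd {X : Type*} [Group X] [Finite X] {p : ℕ} [Fact p.Prime]
    (hp2 : p ≠ 2) {u : ℕ} (hX : Nat.card X = 2 * u) (hu : u % 2 = 1) (P R : Sylow p X)
    (h : P ≠ R) :
    ∃ d, d * Nat.card (P : Subgroup X) ∣ u ∧ d % p = 1 ∧ d ≠ 1 := by
  have hp : p.Prime := Fact.out
  have : Fact (Nat.Prime 2) := ⟨Nat.prime_two⟩
  let Q : Sylow 2 X := default
  obtain ⟨hQc, -⟩ := sylow_card_and_index Q (k := 1) (m := u) (by rw [hX]; ring) (by omega)
  rw [pow_one] at hQc
  have hcyc : IsCyclic (Q : Subgroup X) := isCyclic_of_prime_card hQc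
  obtain ⟨K, hKn, hcomp, hmem⟩ :=
    Cfsg.Agent.Lib.L0.exists_odd_normal_complement_of_cyclic_sylow Q hcyc
      (by rw [hX]; exact dvd_mul_right 2 u)
  have hKcard : Nat.card K = u := by
    have := hcomp.card_mul_card
    rw [hQc, hX] at this
    omega
  have hle : ∀ S : Sylow p X, (S : Subgroup X) ≤ K := by
    intro S x hx
    rw [hmem]
    obtain ⟨k, hk⟩ := S.2 ⟨x, hx⟩
    have h1 : orderOf x ∣ p ^ k := by
      apply orderOf_dvd_of_pow_eq_one
      have := congrArg Subtype.val hk
      simpa using this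
    have h2 : (p ^ k).Coprime 2 :=
      Nat.Coprime.pow_left k ((Nat.coprime_primes hp Nat.prime_two).mpr hp2)
    exact Nat.Coprime.coprime_dvd_left h1 h2
  have hne : P.subtype (hle P) ≠ R.subtype (hle R) := fun h' => h (Sylow.subtype_injective h')
  obtain ⟨h1, h2, h3⟩ := card_sylow_data_of_ne _ _ hne
  refine ⟨_, ?_, h2, h3⟩
  have hidx := Subgroup.index_mul_card ((P.subtype (hle P) : Sylow p K) : Subgroup K)
  rw [hKcard] at hidx
  have hc : Nat.card ((P.subtype (hle P) : Sylow p K) : Subgroup K) = Nat.card (P : Subgroup X) := by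
    rw [Sylow.coe_subtype]
    exact Nat.card_congr (Subgroup.subgroupOfEquivOfLe (hle P)).toEquiv
  rw [hc] at hidx
  rw [← hidx]
  exact Nat.mul_dvd_mul_right h1 _

variable {G : Type*} [Group G] [Finite G] [IsSimpleGroup G]

theorem num_aux5400 : ∀ k ∈ Finset.range 22, ∀ d ∈ Finset.range 22, k ∣ 216 → d ∣ k → d % 5 = 1 →
    d ≠ 1 → d = 6 ∧ (k = 6 ∨ k = 12 ∨ k = 18) := by decide +kernel

/-- (KL) a proper subgroup containing two distinct Sylow `5`-subgroups has order `300` and six
Sylow `5`-subgroups. -/
theorem card_eq_of_two_sylow_le (hnc : ¬ IsMulCommutative G) (hn : Nat.card G = 5400)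
    [Fact (Nat.Prime 5)] (H : Subgroup G) (hH : H ≠ ⊤) (P R : Sylow 5 G) (hPR : P ≠ R)
    (hP : (P : Subgroup G) ≤ H) (hR : (R : Subgroup G) ≤ H) :
    Nat.card H = 300 ∧ Nat.card (Sylow 5 H) = 6 := by
  obtain ⟨hPc, -⟩ := sylow_card_and_index P (k := 2) (m := 216) (by rw [hn]; norm_num)
    (by norm_num)
  have hfac := two_mul_card_dvd_factorial_index hnc H hH
  have hic := Subgroup.index_mul_card H
  rw [hn] at hfac hic
  have h25 : 25 ∣ Nat.card H := by
    have := Subgroup.card_dvd_of_le hP
    rw [hPc] at this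
    simpa using this
  obtain ⟨k, hk⟩ := h25
  have hik : H.index * k = 216 := by
    rw [hk] at hic
    nlinarith
  have hidx10 : 10 ≤ H.index := by
    by_contra hlt
    have h9 : H.index ≤ 9 := by omega
    have h1 : 2 * 5400 ∣ Nat.factorial 9 := dvd_trans hfac (Nat.factorial_dvd_factorial h9)
    revert h1
    decide
  have hk21 : k ≤ 21 := by nlinarith
  have hne : P.subtype hP ≠ R.subtype hR := fun h' => hPR (Sylow.subtype_injective h')
  obtain ⟨h1, h2, h3⟩ := card_sylow_data_of_ne _ _ hne
  have hidxP := Subgroup.index_mul_card ((P.subtype hP : Sylow 5 H) : Subgroup H)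
  have hcP : Nat.card ((P.subtype hP : Sylow 5 H) : Subgroup H) = 25 := by
    rw [Sylow.coe_subtype]
    have := Nat.card_congr (Subgroup.subgroupOfEquivOfLe hP).toEquiv
    rw [this, hPc]
    norm_num
  rw [hcP, hk] at hidxP
  have hidxk : ((P.subtype hP : Sylow 5 H) : Subgroup H).index = k := by omega
  rw [hidxk] at h1
  have hk0 : k ≠ 0 := by
    rintro rfl
    omega
  have hdk : Nat.card (Sylow 5 H) ≤ k := Nat.le_of_dvd (Nat.pos_of_ne_zero hk0) h1
  have hk216 : k ∣ 216 := Dvd.intro_left _ hik
  obtain ⟨hd6, hk3⟩ := num_aux5400 k (Finset.mem_range.mpr (by omega)) _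
    (Finset.mem_range.mpr (by omega)) hk216 h1 h2 h3
  refine ⟨?_, hd6⟩
  rcases hk3 with rfl | rfl | rfl
  · exfalso
    obtain ⟨d', hd1, hd2, hd3⟩ := exists_dvd_of_two_odd (X := H) (p := 5) (by norm_num) (u := 75)
      (by rw [hk]) (by norm_num) _ _ hne
    rw [hcP] at hd1
    have h3' : d' ∣ 3 := Nat.dvd_of_mul_dvd_mul_right (by norm_num : 0 < 25) hd1
    have : d' ≤ 3 := Nat.le_of_dvd (by norm_num) h3'
    interval_cases d' <;> omega
  · omega
  · exfalso
    obtain ⟨d', hd1, hd2, hd3⟩ := exists_dvd_of_two_odd (X := H) (p := 5) (by norm_num) (u := 225)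
      (by rw [hk]) (by norm_num) _ _ hne
    rw [hcP] at hd1
    have h3' : d' ∣ 9 := Nat.dvd_of_mul_dvd_mul_right (by norm_num : 0 < 25) hd1
    have : d' ≤ 9 := Nat.le_of_dvd (by norm_num) h3'
    interval_cases d' <;> omega

theorem not_simple_5400 {G : Type*} [Group G] [Finite G] [IsSimpleGroup G] :
    Nat.card G ≠ 5400 := by
  intro hn
  have hnc : ¬ IsMulCommutative G :=
    not_isMulCommutative_of_card_not_prime (by rw [hn]; norm_num)
  have : Fact (Nat.Prime 5) := ⟨by norm_num⟩
  let P : Sylow 5 G := default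
  obtain ⟨h1, h2, h3, h4, h5, h6, h7⟩ := sylow_data hnc hn (p := 5) (k := 2) (m := 216)
    (by norm_num) (by norm_num) (by norm_num) (by norm_num) P
  have hcard : ∀ Q : Sylow 5 G, Nat.card (Q : Subgroup G) = 5 ^ 2 := fun Q =>
    (sylow_card_and_index Q (k := 2) (m := 216) (by rw [hn]; norm_num) (by norm_num)).1
  have hcomm : ∀ Q : Sylow 5 G, ∀ x ∈ (Q : Subgroup G), ∀ y ∈ (Q : Subgroup G),
      x * y = y * x := by
    intro Q x hx y hy
    have hc := IsPGroup.isMulCommutative_of_card_eq_prime_sq (hcard Q)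
    have := hc.is_comm.comm (⟨x, hx⟩ : (Q : Subgroup G)) ⟨y, hy⟩
    exact congrArg Subtype.val this
  -- n_5 = 36
  have hd : Nat.card (Sylow 5 G) = 36 := by
    have hmem : Nat.card (Sylow 5 G) ∈ (Nat.divisors 216).filter (fun d => d % 5 = 1) := by
      rw [Finset.mem_filter, Nat.mem_divisors]
      exact ⟨⟨h1, by norm_num⟩, h2⟩
    have hfil : (Nat.divisors 216).filter (fun d => d % 5 = 1) = {1, 6, 36, 216} := by
      decide +kernel
    rw [hfil] at hmem
    simp only [Finset.mem_insert, Finset.mem_singleton] at hmem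
    rcases hmem with h | h | h | h
    · exact absurd h h3
    · exfalso
      rw [h] at h4
      revert h4
      decide
    · exact h
    · exfalso
      rw [h] at h5
      have hN : Nat.card (normalizer ((P : Subgroup G) : Set G)) = 5 ^ 2 := by omega
      have hNP : normalizer ((P : Subgroup G) : Set G) = (P : Subgroup G) := by
        symm
        apply Subgroup.eq_of_le_of_card_ge le_normalizer
        rw [hN, hcard P]
      have hpd : 5 ∣ Nat.card G := by rw [hn]; norm_num
      have hnp := Cfsg.Agent.S0493.not_isPGroup_of_card hn (p := 5) (k := 2) (m := 216)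
        (by norm_num) (by norm_num) (by norm_num)
      apply not_normalizer_le_centralizer_of_simple hpd hnp P
      change normalizer ((P : Subgroup G) : Set G) ≤ centralizer ((P : Subgroup G) : Set G)
      rw [hNP]
      intro x hx
      rw [mem_centralizer_iff]
      intro y hy
      exact hcomm P y hy x hx
  rw [hd] at h5
  have hNcard : Nat.card (normalizer ((P : Subgroup G) : Set G)) = 150 := by omega
  -- the two sets
  let Y : Set (Sylow 5 G) := {R | (P : Subgroup G) ⊓ (R : Subgroup G) = ⊥}
  let Z : Set (Sylow 5 G) := {R | R ≠ P ∧ (P : Subgroup G) ⊓ (R : Subgroup G) ≠ ⊥}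
  have hY : 25 ∣ Nat.card Y := by
    apply dvd_card_of_forall_dvd_index_stabilizer (A := (P : Subgroup G)) Y _ 25
    · intro R hR
      have hR' : (P : Subgroup G) ⊓ (R : Subgroup G) = ⊥ := hR
      rw [Cfsg.Agent.S0985.stabilizer_sylow]
      have hbot : (R : Subgroup G).subgroupOf (P : Subgroup G) = ⊥ := by
        rw [Subgroup.subgroupOf_eq_bot, disjoint_iff, inf_comm]
        exact hR'
      rw [hbot, Subgroup.index_bot, hcard P]
      norm_num
    · intro u R hR
      have hR' : (P : Subgroup G) ⊓ (R : Subgroup G) = ⊥ := hR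
      show (P : Subgroup G) ⊓ ((u • R : Sylow 5 G) : Subgroup G) = ⊥
      rw [eq_bot_iff]
      intro x hx
      have hx1 : x ∈ (P : Subgroup G) := hx.1
      have hx2 : x ∈ ((u : G) • R : Sylow 5 G) := hx.2
      rw [sylow_mem_smul_iff] at hx2
      have hmem : (u : G)⁻¹ * x * u ∈ (P : Subgroup G) ⊓ (R : Subgroup G) :=
        ⟨(P : Subgroup G).mul_mem ((P : Subgroup G).mul_mem ((P : Subgroup G).inv_mem u.2) hx1) u.2,
          hx2⟩
      rw [hR', mem_bot] at hmem
      rw [mem_bot]
      have : x = (u : G) * ((u : G)⁻¹ * x * u) * (u : G)⁻¹ := by group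
      rw [this, hmem]
      group
  have hZ : 3 ∣ Nat.card Z := by
    apply dvd_card_of_forall_dvd_index_stabilizer
      (A := (normalizer ((P : Subgroup G) : Set G) : Subgroup G)) Z _ 3
    · intro R hR
      obtain ⟨hRP, hE⟩ : R ≠ P ∧ (P : Subgroup G) ⊓ (R : Subgroup G) ≠ ⊥ := hR
      set E := (P : Subgroup G) ⊓ (R : Subgroup G) with hEdef
      set H := normalizer (E : Set G) with hHdef
      have hPH : (P : Subgroup G) ≤ H := by
        refine le_trans ?_ (centralizer_le_normalizer _)
        intro x hx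
        rw [mem_centralizer_iff]
        intro e he
        exact hcomm P e he.1 x hx
      have hRH : (R : Subgroup G) ≤ H := by
        refine le_trans ?_ (centralizer_le_normalizer _)
        intro x hx
        rw [mem_centralizer_iff]
        intro e he
        exact hcomm R e he.2 x hx
      have hHtop : H ≠ ⊤ := by
        intro htop
        have hnorm : E.Normal := normalizer_eq_top_iff.mp htop
        rcases hnorm.eq_bot_or_eq_top with h | h
        · exact hE h
        · have hPtop : (P : Subgroup G) = ⊤ := top_le_iff.mp (h ▸ inf_le_left)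
          have := hcard P
          rw [hPtop, Subgroup.card_top, hn] at this
          omega
      obtain ⟨hHc, hH6⟩ := card_eq_of_two_sylow_le hnc hn H hHtop P R (Ne.symm hRP) hPH hRH
      -- `|N(P) ⊓ H| = 50`
      have h50 : Nat.card (normalizer ((P : Subgroup G) : Set G) ⊓ H : Subgroup G) = 50 := by
        have e1 : 6 = (normalizer (((P.subtype hPH : Sylow 5 H) : Subgroup H) : Set H)).index := by
          rw [← hH6]
          exact Sylow.card_eq_index_normalizer (P.subtype hPH)
        have e2 := Subgroup.index_mul_card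
          (normalizer (((P.subtype hPH : Sylow 5 H) : Subgroup H) : Set H))
        rw [← e1, hHc] at e2
        rw [Sylow.coe_subtype, ← Subgroup.subgroupOf_normalizer_eq hPH,
          ← Subgroup.inf_subgroupOf_right] at e2
        have e3 : Nat.card ((normalizer ((P : Subgroup G) : Set G) ⊓ H).subgroupOf H) =
            Nat.card (normalizer ((P : Subgroup G) : Set G) ⊓ H : Subgroup G) :=
          Nat.card_congr (Subgroup.subgroupOfEquivOfLe inf_le_right).toEquiv
        omega
      have hst : stabilizer (normalizer ((P : Subgroup G) : Set G)) R =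
          (normalizer ((R : Subgroup G) : Set G)).subgroupOf
            (normalizer ((P : Subgroup G) : Set G)) := by
        ext g
        rw [mem_stabilizer_iff, mem_subgroupOf, Subgroup.smul_def,
          Sylow.smul_eq_iff_mem_normalizer]
        exact Iff.rfl
      rw [hst]
      have e4 := Subgroup.index_mul_card ((normalizer ((R : Subgroup G) : Set G)).subgroupOf
        (normalizer ((P : Subgroup G) : Set G)))
      rw [hNcard] at e4
      have e5 : Nat.card ((normalizer ((R : Subgroup G) : Set G)).subgroupOf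
          (normalizer ((P : Subgroup G) : Set G))) =
          Nat.card (normalizer ((R : Subgroup G) : Set G) ⊓
            normalizer ((P : Subgroup G) : Set G) : Subgroup G) := by
        rw [← Subgroup.inf_subgroupOf_right]
        exact Nat.card_congr (Subgroup.subgroupOfEquivOfLe inf_le_right).toEquiv
      have hle : normalizer ((R : Subgroup G) : Set G) ⊓ normalizer ((P : Subgroup G) : Set G) ≤
          normalizer ((P : Subgroup G) : Set G) ⊓ H := by
        intro g hg
        refine ⟨hg.2, ?_⟩
        show g ∈ normalizer (E : Set G)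
        rw [mem_normalizer_iff]
        intro e
        have hgP := mem_normalizer_iff.mp hg.2 e
        have hgR := mem_normalizer_iff.mp hg.1 e
        rw [hEdef, mem_inf, mem_inf, ← hgP, ← hgR]
      have hdvd := Subgroup.card_dvd_of_le hle
      rw [h50] at hdvd
      rw [e5] at e4
      obtain ⟨t, ht⟩ := hdvd
      have hpos : 0 < Nat.card (normalizer ((R : Subgroup G) : Set G) ⊓
          normalizer ((P : Subgroup G) : Set G) : Subgroup G) := Nat.card_pos
      refine ⟨t, Nat.eq_of_mul_eq_mul_right hpos ?_⟩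
      rw [e4]
      nlinarith
    · intro g R hR
      obtain ⟨hRP, hE⟩ : R ≠ P ∧ (P : Subgroup G) ⊓ (R : Subgroup G) ≠ ⊥ := hR
      show (g • R : Sylow 5 G) ≠ P ∧ (P : Subgroup G) ⊓ ((g • R : Sylow 5 G) : Subgroup G) ≠ ⊥
      constructor
      · intro hgR
        apply hRP
        have h1 : (g : G) • R = P := hgR
        have h2 : ((g : G)⁻¹) • P = P :=
          Sylow.smul_eq_iff_mem_normalizer.mpr (inv_mem g.2)
        rw [← h2, eq_inv_smul_iff]
        exact h1
      · obtain ⟨⟨x, hx⟩, hx1⟩ := (Subgroup.ne_bot_iff_exists_ne_one).mp hE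
        have hx1' : x ≠ 1 := fun h => hx1 (Subtype.ext h)
        intro hbot
        have hy : (g : G) * x * (g : G)⁻¹ ∈
            (P : Subgroup G) ⊓ ((g • R : Sylow 5 G) : Subgroup G) := by
          refine ⟨(mem_normalizer_iff.mp g.2 x).mp hx.1, ?_⟩
          show (g : G) * x * (g : G)⁻¹ ∈ ((g : G) • R : Sylow 5 G)
          rw [sylow_mem_smul_iff]
          have : (g : G)⁻¹ * ((g : G) * x * (g : G)⁻¹) * (g : G) = x := by group
          rw [this]
          exact hx.2
        rw [hbot, mem_bot] at hy
        apply hx1'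
        have : x = (g : G)⁻¹ * ((g : G) * x * (g : G)⁻¹) * (g : G) := by group
        rw [this, hy]
        group
  -- the count
  have hYZ : Disjoint Y Z := Set.disjoint_left.mpr (fun R hY hZ => hZ.2 hY)
  have hPY : P ∉ Y := by
    intro h
    have h' : (P : Subgroup G) ⊓ (P : Subgroup G) = ⊥ := h
    rw [inf_idem] at h'
    have := hcard P
    rw [h', Subgroup.card_bot] at this
    norm_num at this
  have hPZ : P ∉ Z := fun h => h.1 rfl
  have hdisj2 : Disjoint (Y ∪ Z) {P} := by
    rw [Set.disjoint_singleton_right]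
    rintro (h | h)
    · exact hPY h
    · exact hPZ h
  have hun : Y ∪ Z ∪ {P} = Set.univ := by
    ext R
    simp only [Set.mem_union, Set.mem_singleton_iff, Set.mem_univ, iff_true]
    by_cases hRP : R = P
    · right
      exact hRP
    · left
      by_cases hb : (P : Subgroup G) ⊓ (R : Subgroup G) = ⊥
      · left
        exact hb
      · right
        exact ⟨hRP, hb⟩
  have h36 : (Set.univ : Set (Sylow 5 G)).ncard = 36 := by rw [Set.ncard_univ, hd]
  rw [← hun, Set.ncard_union_eq hdisj2 (Set.toFinite _) (Set.toFinite _),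
    Set.ncard_union_eq hYZ (Set.toFinite _) (Set.toFinite _), Set.ncard_singleton] at h36
  have hYc : Nat.card Y = Y.ncard := Nat.card_coe_set_eq Y
  have hZc : Nat.card Z = Z.ncard := Nat.card_coe_set_eq Z
  obtain ⟨a, ha⟩ := hY
  obtain ⟨b, hb⟩ := hZ
  omega

end Cfsg.Agent.Lib.H22.O983
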