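import Mathlib
import Cfsg.Prelude.Def_Local
import Cfsg.Agent.Lib.H10.PSolvable2
import Cfsg.Agent.Lib.H19.PComplement
import Cfsg.Agent.Lib.H1.SchurZassenhaus

/-!
# Lower `p`-series residuals and groups whose maximal subgroups are `p`-nilpotent or of prime index

`QType p true n` : `n` is a power of `p`;  `QType p false n` : `n` is prime to `p`.
`gen p b X` : the subgroup generated by the elements of `X` whose order has type `!b`
(so that `X / gen p b X` has type `b`).
`res p l X` : iterate `gen` along the list `l`.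
`HasChain p l X` : a descending chain of normal subgroups below `X` with quotient types `l`, ending in `⊥`.
-/

set_option autoImplicit false

open scoped Pointwise commutatorElement

namespace Cfsg.Agent.Lib.H22.PLenTwo

universe u

variable {G : Type u} [Group G]

/-- type of a natural number: a `p`-power (`true`) or prime to `p` (`false`). -/
def QType (p : ℕ) : Bool → ℕ → Prop
  | true, n => ∃ k : ℕ, n = p ^ k
  | false, n => n.Coprime p

theorem qType_true {p n : ℕ} : QType p true n ↔ ∃ k : ℕ, n = p ^ k := Iff.rfl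

theorem qType_false {p n : ℕ} : QType p false n ↔ n.Coprime p := Iff.rfl

theorem qType_one (p : ℕ) (b : Bool) : QType p b 1 := by
  cases b
  · exact Nat.coprime_one_left p
  · exact ⟨0, (pow_zero p).symm⟩

theorem qType_of_dvd {p : ℕ} (hp : p.Prime) {b : Bool} {m n : ℕ} (hn : QType p b n) (hmn : m ∣ n) :
    QType p b m := by
  cases b
  · exact Nat.Coprime.coprime_dvd_left hmn hn
  · obtain ⟨k, rfl⟩ := hn
    obtain ⟨j, _, hj⟩ := (Nat.dvd_prime_pow hp).1 hmn
    exact ⟨j, hj⟩

theorem qType_mul {p : ℕ} {b : Bool} {m n : ℕ} (hm : QType p b m) (hn : QType p b n) :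
    QType p b (m * n) := by
  cases b
  · exact Nat.Coprime.mul_left hm hn
  · obtain ⟨k, rfl⟩ := hm
    obtain ⟨j, rfl⟩ := hn
    exact ⟨k + j, (pow_add p k j).symm⟩

/-- numbers of opposite types are coprime -/
theorem coprime_of_qType {p : ℕ} {b : Bool} {m n : ℕ} (hm : QType p b m) (hn : QType p (!b) n) :
    m.Coprime n := by
  cases b
  · obtain ⟨k, rfl⟩ := hn
    exact Nat.Coprime.pow_right k hm
  · obtain ⟨k, rfl⟩ := hm
    exact Nat.Coprime.pow_left k hn.symm

/-- a number of both types is `1` -/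
theorem eq_one_of_qType {p : ℕ} {b : Bool} {n : ℕ} (h1 : QType p b n) (h2 : QType p (!b) n) :
    n = 1 := by
  have := coprime_of_qType h1 h2
  exact (Nat.coprime_self n).1 this

/-- The subgroup generated by the elements of `X` whose order has type `!b`. -/
def gen (p : ℕ) (b : Bool) (X : Subgroup G) : Subgroup G :=
  Subgroup.closure {x | x ∈ X ∧ QType p (!b) (orderOf x)}

theorem mem_gen {p : ℕ} {b : Bool} {X : Subgroup G} {x : G} (hx : x ∈ X)
    (ho : QType p (!b) (orderOf x)) : x ∈ gen p b X :=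
  Subgroup.subset_closure ⟨hx, ho⟩

theorem gen_le (p : ℕ) (b : Bool) (X : Subgroup G) : gen p b X ≤ X :=
  (Subgroup.closure_le X).2 fun _ hx => hx.1

theorem gen_mono {p : ℕ} {b : Bool} {X Y : Subgroup G} (h : X ≤ Y) : gen p b X ≤ gen p b Y :=
  Subgroup.closure_mono fun _ hx => ⟨h hx.1, hx.2⟩

theorem map_gen_le {H : Type*} [Group H] {p : ℕ} (hp : p.Prime) (b : Bool) (f : G →* H)
    (X : Subgroup G) : (gen p b X).map f ≤ gen p b (X.map f) := by
  unfold gen
  rw [MonoidHom.map_closure]
  apply Subgroup.closure_mono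
  rintro _ ⟨x, ⟨hx, ho⟩, rfl⟩
  exact ⟨Subgroup.mem_map_of_mem f hx, qType_of_dvd hp ho (orderOf_map_dvd f x)⟩

theorem gen_normal {p : ℕ} (hp : p.Prime) (b : Bool) (X : Subgroup G) [hX : X.Normal] :
    (gen p b X).Normal := by
  constructor
  intro n hn g
  have h1 : (MulAut.conj g).toMonoidHom n ∈ (gen p b X).map (MulAut.conj g).toMonoidHom :=
    Subgroup.mem_map_of_mem _ hn
  have h2 := map_gen_le hp b (MulAut.conj g).toMonoidHom X h1
  have h3 : X.map (MulAut.conj g).toMonoidHom ≤ X := by
    rintro _ ⟨x, hx, rfl⟩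
    exact hX.conj_mem x hx g
  have h4 := gen_mono (p := p) (b := b) h3 h2
  simpa using h4


/-- if a prime `r` divides `|X : Y|` (`Y` normal), some `r`-element of `X` lies outside `Y`. -/
theorem exists_not_mem_of_prime_dvd_relIndex [Finite G] {X Y : Subgroup G} [hY : Y.Normal]
    {r : ℕ} (hr : r.Prime) (hdvd : r ∣ Y.relIndex X) :
    ∃ y ∈ X, y ∉ Y ∧ ∃ e : ℕ, orderOf y ∣ r ^ e := by
  have : Fact r.Prime := ⟨hr⟩
  have hcard : Y.relIndex X = Nat.card (↥X ⧸ Y.subgroupOf X) := Subgroup.index_eq_card _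
  rw [hcard] at hdvd
  obtain ⟨q, hq⟩ := exists_prime_orderOf_dvd_card' r hdvd
  obtain ⟨x, rfl⟩ := QuotientGroup.mk_surjective q
  have hx0 : orderOf x ≠ 0 := (orderOf_pos x).ne'
  obtain ⟨e, m', hm', hm⟩ := Nat.exists_eq_pow_mul_and_not_dvd hx0 r hr.ne_one
  refine ⟨((x ^ m' : ↥X) : G), (x ^ m').2, ?_, e, ?_⟩
  · intro hmem
    have h1 : (x ^ m' : ↥X) ∈ Y.subgroupOf X := Subgroup.mem_subgroupOf.2 hmem
    have h2 : ((x ^ m' : ↥X) : ↥X ⧸ Y.subgroupOf X) = 1 := (QuotientGroup.eq_one_iff _).2 h1
    rw [QuotientGroup.mk_pow] at h2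
    have h3 := orderOf_dvd_of_pow_eq_one h2
    rw [hq] at h3
    exact hm' h3
  · apply orderOf_dvd_of_pow_eq_one
    rw [← Subgroup.coe_pow, ← pow_mul, mul_comm, ← hm, pow_orderOf_eq_one]
    rfl

/-- `X / gen p b X` has type `b`. -/
theorem relIndex_gen [Finite G] {p : ℕ} (hp : p.Prime) (b : Bool) (X : Subgroup G) [hX : X.Normal] :
    QType p b ((gen p b X).relIndex X) := by
  have hn : (gen p b X).Normal := gen_normal hp b X
  have hne : (gen p b X).relIndex X ≠ 0 := by
    have hcard : (gen p b X).relIndex X = Nat.card (↥X ⧸ (gen p b X).subgroupOf X) :=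
      Subgroup.index_eq_card _
    rw [hcard]
    exact Nat.card_pos.ne'
  cases b
  · -- quotient prime to p
    show ((gen p false X).relIndex X).Coprime p
    apply Nat.Coprime.symm
    rw [Nat.Prime.coprime_iff_not_dvd hp]
    intro hdvd
    obtain ⟨y, hyX, hyY, e, hye⟩ := exists_not_mem_of_prime_dvd_relIndex hp hdvd
    apply hyY
    apply mem_gen hyX
    show QType p true (orderOf y)
    obtain ⟨j, _, hj⟩ := (Nat.dvd_prime_pow hp).1 hye
    exact ⟨j, hj⟩
  · -- quotient a p-group
    show ∃ k : ℕ, (gen p true X).relIndex X = p ^ k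
    refine ⟨_, Nat.eq_prime_pow_of_unique_prime_dvd hne ?_⟩
    intro r hr hdvd
    by_contra hrp
    obtain ⟨y, hyX, hyY, e, hye⟩ := exists_not_mem_of_prime_dvd_relIndex hr hdvd
    apply hyY
    apply mem_gen hyX
    show (orderOf y).Coprime p
    apply Nat.Coprime.coprime_dvd_left hye
    apply Nat.Coprime.pow_left
    exact (Nat.coprime_primes hr hp).2 hrp

/-- if `X / Y` has type `b` then `gen p b X ≤ Y`. -/
theorem gen_le_of_relIndex {p : ℕ} {b : Bool} {X Y : Subgroup G} [hY : Y.Normal]
    (h : QType p b (Y.relIndex X)) : gen p b X ≤ Y := by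
  refine (Subgroup.closure_le Y).2 ?_
  rintro x ⟨hx, ho⟩
  have h1 : (⟨x, hx⟩ : ↥X) ^ (Y.subgroupOf X).index ∈ Y.subgroupOf X := Subgroup.pow_index_mem _ _
  have h2 : x ^ (Y.relIndex X) ∈ Y := by
    have := Subgroup.mem_subgroupOf.1 h1
    exact this
  have hc : (Y.relIndex X).Coprime (orderOf x) := coprime_of_qType h ho
  obtain ⟨m, hm⟩ := exists_pow_eq_self_of_coprime hc
  rw [← hm]
  exact Subgroup.pow_mem _ h2 _

/-- a group of type `!b` has trivial `gen p b`... more precisely: if `|X|` has type `b` then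
`gen p b X = ⊥`. -/
theorem gen_eq_bot_of_card [Finite G] {p : ℕ} {b : Bool} {X : Subgroup G}
    (h : QType p b (Nat.card X)) : gen p b X = ⊥ := by
  have : gen p b X ≤ ⊥ := by
    apply gen_le_of_relIndex
    rw [Subgroup.relIndex_bot_left]
    exact h
  exact le_bot_iff.1 this


/-! ### The residual along a list -/

/-- iterate `gen` along a list of quotient types (from the top down). -/
def res (p : ℕ) : List Bool → Subgroup G → Subgroup G
  | [], X => X
  | b :: l, X => res p l (gen p b X)

theorem res_nil (p : ℕ) (X : Subgroup G) : res p [] X = X := rfl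

theorem res_cons (p : ℕ) (b : Bool) (l : List Bool) (X : Subgroup G) :
    res p (b :: l) X = res p l (gen p b X) := rfl

theorem res_append (p : ℕ) (l1 l2 : List Bool) (X : Subgroup G) :
    res p (l1 ++ l2) X = res p l2 (res p l1 X) := by
  induction l1 generalizing X with
  | nil => rfl
  | cons b l ih => exact ih (gen p b X)

theorem res_le (p : ℕ) (l : List Bool) (X : Subgroup G) : res p l X ≤ X := by
  induction l generalizing X with
  | nil => exact le_rfl
  | cons b l ih => exact (ih (gen p b X)).trans (gen_le p b X)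

theorem res_mono {p : ℕ} (l : List Bool) {X Y : Subgroup G} (h : X ≤ Y) :
    res p l X ≤ res p l Y := by
  induction l generalizing X Y with
  | nil => exact h
  | cons b l ih => exact ih (gen_mono h)

theorem map_res_le {H : Type*} [Group H] {p : ℕ} (hp : p.Prime) (l : List Bool) (f : G →* H)
    (X : Subgroup G) : (res p l X).map f ≤ res p l (X.map f) := by
  induction l generalizing X with
  | nil => exact le_rfl
  | cons b l ih => exact (ih (gen p b X)).trans (res_mono l (map_gen_le hp b f X))

theorem res_normal {p : ℕ} (hp : p.Prime) (l : List Bool) (X : Subgroup G) [hX : X.Normal] :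
    (res p l X).Normal := by
  induction l generalizing X with
  | nil => exact hX
  | cons b l ih =>
    have : (gen p b X).Normal := gen_normal hp b X
    exact ih (gen p b X)

/-- a descending chain of normal subgroups below `X` with quotient types `l`, ending in `⊥`. -/
def HasChain (p : ℕ) : List Bool → Subgroup G → Prop
  | [], X => X = ⊥
  | b :: l, X => ∃ Y : Subgroup G, Y ≤ X ∧ Y.Normal ∧ QType p b (Y.relIndex X) ∧ HasChain p l Y

theorem res_eq_bot_of_hasChain {p : ℕ} (l : List Bool) {X : Subgroup G} (h : HasChain p l X) :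
    res p l X = ⊥ := by
  induction l generalizing X with
  | nil => exact h
  | cons b l ih =>
    obtain ⟨Y, _, hYn, hq, hY⟩ := h
    have h1 : gen p b X ≤ Y := gen_le_of_relIndex hq
    have h2 := res_mono (p := p) l h1
    rw [ih hY] at h2
    exact le_bot_iff.1 h2

theorem hasChain_of_sublist {p : ℕ} {l1 l2 : List Bool} (h : l1.Sublist l2) {X : Subgroup G}
    (hX : X.Normal) (hc : HasChain p l1 X) : HasChain p l2 X := by
  induction h generalizing X with
  | slnil => exact hc
  | cons a _ ih =>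
    refine ⟨X, le_rfl, hX, ?_, ih hX hc⟩
    rw [Subgroup.relIndex_self]
    exact qType_one p a
  | cons_cons a _ ih =>
    obtain ⟨Y, hYX, hYn, hq, hY⟩ := hc
    exact ⟨Y, hYX, hYn, hq, ih hYn hY⟩

/-! ### Closure properties of the class `res p l ⊤ = ⊥` -/

theorem res_top_le_of_quotient {p : ℕ} (hp : p.Prime) (l : List Bool) (N : Subgroup G) [N.Normal]
    (h : res p l (⊤ : Subgroup (G ⧸ N)) = ⊥) : res p l (⊤ : Subgroup G) ≤ N := by
  have h1 := map_res_le hp l (QuotientGroup.mk' N) (⊤ : Subgroup G)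
  have h2 : res p l ((⊤ : Subgroup G).map (QuotientGroup.mk' N)) ≤ res p l (⊤ : Subgroup (G ⧸ N)) :=
    res_mono l le_top
  rw [h] at h2
  have h3 : (res p l (⊤ : Subgroup G)).map (QuotientGroup.mk' N) = ⊥ := le_bot_iff.1 (h1.trans h2)
  have h4 := (Subgroup.map_eq_bot_iff _).1 h3
  rwa [QuotientGroup.ker_mk'] at h4

theorem card_eq_card_mul_relIndex [Finite G] {H K : Subgroup G} (h : H ≤ K) :
    Nat.card K = Nat.card H * H.relIndex K := by
  have := Subgroup.relIndex_mul_relIndex ⊥ H K bot_le h
  rw [Subgroup.relIndex_bot_left, Subgroup.relIndex_bot_left] at this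
  exact this.symm

/-- pull back along a normal `p'`-subgroup, when the list ends with `false`. -/
theorem res_top_eq_bot_of_coprime [Finite G] {p : ℕ} (hp : p.Prime) (l' : List Bool)
    (N : Subgroup G) [N.Normal] (hN : (Nat.card N).Coprime p)
    (h : res p (l' ++ [false]) (⊤ : Subgroup (G ⧸ N)) = ⊥) :
    res p (l' ++ [false]) (⊤ : Subgroup G) = ⊥ := by
  have hle := res_top_le_of_quotient hp _ N h
  rw [res_append] at hle ⊢
  set Z := res p l' (⊤ : Subgroup G) with hZ
  have hZn : Z.Normal := res_normal hp l' ⊤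
  change gen p false Z ≤ N at hle
  change gen p false Z = ⊥
  have h1 : QType p false ((gen p false Z).relIndex Z) := relIndex_gen hp false Z
  have h2 : (Nat.card (gen p false Z)).Coprime p :=
    Nat.Coprime.coprime_dvd_left (Subgroup.card_dvd_of_le hle) hN
  have h3 : (Nat.card Z).Coprime p := by
    rw [card_eq_card_mul_relIndex (gen_le p false Z)]
    exact Nat.Coprime.mul_left h2 h1
  exact gen_eq_bot_of_card (b := false) h3

/-- pull back along a normal `p`-subgroup contained in all maximal subgroups, when there are no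
nontrivial normal `p'`-subgroups and the list ends with `true, false`. -/
theorem res_top_eq_bot_of_frattini [Finite G] {p : ℕ} [hp : Fact p.Prime] (l' : List Bool)
    (N : Subgroup G) [N.Normal] (hN : IsPGroup p N)
    (hΦ : ∀ M : Subgroup G, IsCoatom M → N ≤ M)
    (hO : ∀ L : Subgroup G, L.Normal → (Nat.card L).Coprime p → L = ⊥)
    (h : res p (l' ++ [true, false]) (⊤ : Subgroup (G ⧸ N)) = ⊥) :
    res p (l' ++ [true, false]) (⊤ : Subgroup G) = ⊥ := by
  have hle := res_top_le_of_quotient hp.out _ N h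
  rw [res_append] at hle ⊢
  set Z := res p l' (⊤ : Subgroup G) with hZ
  have hZn : Z.Normal := res_normal hp.out l' ⊤
  change gen p false (gen p true Z) ≤ N at hle
  change gen p false (gen p true Z) = ⊥
  set Z1 := gen p true Z with hZ1
  have hZ1n : Z1.Normal := gen_normal hp.out true Z
  set Z2 := gen p false Z1 with hZ2
  have hZ2n : Z2.Normal := gen_normal hp.out false Z1
  have hZ2p : IsPGroup p Z2 := hN.to_le hle
  have hZ21 : Z2 ≤ Z1 := gen_le p false Z1
  have hrel : (Z2.relIndex Z1).Coprime p := relIndex_gen hp.out false Z1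
  obtain ⟨a, ha⟩ := hZ2p.exists_card_eq
  have hcop : (Nat.card Z2).Coprime (Z2.relIndex Z1) := by
    rw [ha]
    exact Nat.Coprime.pow_left a hrel.symm
  have hnorm : Z1 ≤ Subgroup.normalizer (Z2 : Set G) := by
    rw [Subgroup.normalizer_eq_top_iff.2 hZ2n]; exact le_top
  obtain ⟨L, hL1, hLd, hLsup, hLcard⟩ :=
    Cfsg.Agent.Lib.H19.exists_complement_internal hZ21 hnorm hcop
  have hLcop : (Nat.card L).Coprime p := by rw [hLcard]; exact hrel
  have hfr := fun x : G => Cfsg.Agent.Lib.H19.frattini_sz hZ2p hLd hLsup hLcop x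
  have hLn : Subgroup.normalizer (L : Set G) = ⊤ := by
    by_contra hne
    obtain ⟨M, hM, hLM⟩ := (eq_top_or_exists_le_coatom _).resolve_left hne
    apply hM.1
    rw [eq_top_iff]
    intro x _
    obtain ⟨q, hq, hqx⟩ := hfr x
    have : x = q * (q⁻¹ * x) := by group
    rw [this]
    exact M.mul_mem (hΦ M hM (hle hq)) (hLM hqx)
  have hLbot : L = ⊥ := hO L (Subgroup.normalizer_eq_top_iff.1 hLn) hLcop
  have hZ12 : Z1 = Z2 := by rw [← hLsup, hLbot, sup_bot_eq]
  have hZ1p : IsPGroup p Z1 := by rw [hZ12]; exact hZ2p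
  have hZ1bot : Z1 = ⊥ := by
    rw [eq_bot_iff]
    have : gen p true Z ≤ ⊥ := by
      refine (Subgroup.closure_le _).2 ?_
      rintro x ⟨hx, ho⟩
      have hx1 : x ∈ Z1 := mem_gen hx ho
      obtain ⟨k, hk⟩ := hZ1p ⟨x, hx1⟩
      have hk' : x ^ p ^ k = 1 := by
        have := congrArg Subtype.val hk
        simpa using this
      have hd : orderOf x ∣ p ^ k := orderOf_dvd_of_pow_eq_one hk'
      have ho' : (orderOf x).Coprime p := ho
      have h1 : orderOf x = 1 := Nat.Coprime.eq_one_of_dvd (Nat.Coprime.pow_right k ho') hd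
      have : x = 1 := orderOf_eq_one_iff.1 h1
      rw [this]
      exact Subgroup.mem_bot.2 rfl
    exact this
  rw [eq_bot_iff, ← hZ1bot]
  exact hZ21


/-! ### The hypothesis on maximal subgroups -/

/-- every maximal subgroup has a normal `p`-complement or has prime index. -/
def MaxHyp (p : ℕ) (G : Type*) [Group G] : Prop :=
  ∀ M : Subgroup G, IsCoatom M →
    (∃ K : Subgroup ↥M, K.Normal ∧ ¬ p ∣ Nat.card K ∧ ∃ k : ℕ, K.index = p ^ k) ∨ (M.index).Prime

theorem isCoatom_comap_mk' (N : Subgroup G) [N.Normal] {Mb : Subgroup (G ⧸ N)} (h : IsCoatom Mb) :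
    IsCoatom (Mb.comap (QuotientGroup.mk' N)) := by
  have hsurj := QuotientGroup.mk'_surjective N
  constructor
  · intro htop
    apply h.1
    rw [← Subgroup.map_comap_eq_self_of_surjective hsurj Mb, htop, ← MonoidHom.range_eq_map,
      MonoidHom.range_eq_top.2 hsurj]
  · intro b hb
    have hNb : N ≤ b := by
      have : N ≤ Mb.comap (QuotientGroup.mk' N) := by
        intro x hx
        rw [Subgroup.mem_comap]
        have : (QuotientGroup.mk' N) x = 1 := (QuotientGroup.eq_one_iff x).2 hx
        rw [this]; exact one_mem _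
      exact this.trans hb.le
    have h1 : Mb ≤ b.map (QuotientGroup.mk' N) := by
      rw [← Subgroup.map_comap_eq_self_of_surjective hsurj Mb]
      exact Subgroup.map_mono hb.le
    have h2 : Mb ≠ b.map (QuotientGroup.mk' N) := by
      intro heq
      apply hb.not_ge
      rw [heq]; exact Subgroup.le_comap_map _ _
    have h3 := h.2 _ (lt_of_le_of_ne h1 h2)
    have h4 : (b.map (QuotientGroup.mk' N)).comap (QuotientGroup.mk' N) = b := by
      rw [Subgroup.comap_map_eq, QuotientGroup.ker_mk', sup_eq_left.2 hNb]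
    rw [← h4, h3, Subgroup.comap_top]

theorem maxHyp_quotient {p : ℕ} (hp : p.Prime) (N : Subgroup G) [N.Normal] (h : MaxHyp p G) :
    MaxHyp p (G ⧸ N) := by
  intro Mb hMb
  have hsurj := QuotientGroup.mk'_surjective N
  rcases h _ (isCoatom_comap_mk' N hMb) with ⟨K, hKn, hKp, k, hKi⟩ | hpr
  · left
    set φ : ↥(Mb.comap (QuotientGroup.mk' N)) →* ↥Mb := (QuotientGroup.mk' N).subgroupComap Mb
      with hφdef
    have hφ : Function.Surjective φ :=
      MonoidHom.subgroupComap_surjective_of_surjective _ _ hsurj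
    refine ⟨K.map φ, hKn.map φ hφ, ?_, ?_⟩
    · intro hd
      exact hKp (hd.trans (Subgroup.card_map_dvd K φ))
    · have := Subgroup.index_map_dvd K hφ
      rw [hKi] at this
      obtain ⟨j, _, hj⟩ := (Nat.dvd_prime_pow hp).1 this
      exact ⟨j, hj⟩
  · right
    rwa [Subgroup.index_comap_of_surjective _ hsurj] at hpr


/-! ### The main theorem -/

theorem main_aux {p : ℕ} [hp : Fact p.Prime] (l' : List Bool)
    (hl2 : [true, false, true].Sublist (l' ++ [true, false])) :
    ∀ n : ℕ, ∀ (G : Type u) [Group G] [Finite G], Nat.card G = n → Cfsg.IsPSolvable p G →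
      MaxHyp p G → res p (l' ++ [true, false]) (⊤ : Subgroup G) = ⊥ := by
  intro n
  induction n using Nat.strong_induction_on with
  | _ n ih =>
  intro G _ _ hcard hsol hmax
  -- the induction hypothesis for proper quotients
  have IHq : ∀ (N : Subgroup G) [N.Normal], N ≠ ⊥ →
      res p (l' ++ [true, false]) (⊤ : Subgroup (G ⧸ N)) = ⊥ := by
    intro N _ hN
    exact ih (Nat.card (G ⧸ N)) (by rw [← hcard]; exact Cfsg.Agent.Lib.H1.card_quotient_lt hN)
      (G ⧸ N) rfl (Cfsg.Agent.Lib.H10.isPSolvable_quotient hsol N) (maxHyp_quotient hp.out N hmax)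
  by_cases hnt : Nontrivial G
  swap
  · have : Subsingleton G := not_nontrivial_iff_subsingleton.1 hnt
    exact Subsingleton.elim _ _
  -- Case A: a nontrivial normal p'-subgroup
  by_cases hA : ∃ N : Subgroup G, N.Normal ∧ N ≠ ⊥ ∧ (Nat.card N).Coprime p
  · obtain ⟨N, hNn, hN, hNc⟩ := hA
    have h1 := IHq N hN
    have hl : l' ++ [true, false] = (l' ++ [true]) ++ [false] := by simp
    rw [hl] at h1 ⊢
    exact res_top_eq_bot_of_coprime hp.out (l' ++ [true]) N hNc h1
  have hA : ∀ N : Subgroup G, N.Normal → N ≠ ⊥ → ¬ (Nat.card N).Coprime p :=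
    fun N h1 h2 h3 => hA ⟨N, h1, h2, h3⟩
  have hO : ∀ L : Subgroup G, L.Normal → (Nat.card L).Coprime p → L = ⊥ := by
    intro L hLn hLc
    by_contra hne
    exact hA L hLn hne hLc
  -- Case B1: two nontrivial normal subgroups meeting trivially
  by_cases hB : ∃ N1 N2 : Subgroup G, N1.Normal ∧ N2.Normal ∧ N1 ≠ ⊥ ∧ N2 ≠ ⊥ ∧ N1 ⊓ N2 = ⊥
  · obtain ⟨N1, N2, h1n, h2n, h1, h2, h12⟩ := hB
    have a1 := res_top_le_of_quotient hp.out _ N1 (IHq N1 h1)
    have a2 := res_top_le_of_quotient hp.out _ N2 (IHq N2 h2)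
    rw [eq_bot_iff, ← h12]
    exact le_inf a1 a2
  have hB : ∀ N1 N2 : Subgroup G, N1.Normal → N2.Normal → N1 ≠ ⊥ → N2 ≠ ⊥ → N1 ⊓ N2 ≠ ⊥ :=
    fun N1 N2 h1 h2 h3 h4 h5 => hB ⟨N1, N2, h1, h2, h3, h4, h5⟩
  obtain ⟨P0, hP0n, hP0, hP0p⟩ := Cfsg.Agent.Lib.H10.exists_normal_of_isPSolvable hsol
  have hP0p' : IsPGroup p P0 := by
    rcases hP0p with h | h
    · exact h
    · exact absurd h (hA P0 hP0n hP0)
  -- a minimal normal subgroup
  have hex : ∃ m : ℕ, ∃ N : Subgroup G, N.Normal ∧ N ≠ ⊥ ∧ Nat.card N = m :=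
    ⟨_, P0, hP0n, hP0, rfl⟩
  classical
  obtain ⟨N, hNn, hN, hNm⟩ := Nat.find_spec hex
  have hmin : ∀ N' : Subgroup G, N'.Normal → N' ≠ ⊥ → N' ≤ N → N' = N := by
    intro N' hn' h' hle
    apply Subgroup.eq_of_le_of_card_ge hle
    rw [hNm]
    exact Nat.find_min' hex ⟨N', hn', h', rfl⟩
  have huniq : ∀ N' : Subgroup G, N'.Normal → N' ≠ ⊥ → N ≤ N' := by
    intro N' hn' h'
    have h1 : N ⊓ N' ≠ ⊥ := hB N N' hNn hn' hN h'
    have h2 : (N ⊓ N').Normal := Subgroup.normal_inf_normal N N'
    have := hmin _ h2 h1 inf_le_left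
    rw [← this]
    exact inf_le_right
  have hNp : IsPGroup p N := hP0p'.to_le (huniq P0 hP0n hP0)
  -- N is abelian
  have hNab : ∀ a ∈ N, ∀ b ∈ N, a * b = b * a := by
    have hsolN : Group.IsSolvable ↥N := by
      have : Group.IsNilpotent ↥N := hNp.isNilpotent
      infer_instance
    have hlt := Cfsg.Agent.Lib.H1.commutator_lt_of_isSolvable hsolN hN
    have hcn : (⁅N, N⁆).Normal := Subgroup.commutator_normal N N
    have hbot : ⁅N, N⁆ = ⊥ := by
      by_contra hne
      exact hlt.ne (hmin _ hcn hne hlt.le)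
    intro a ha b hb
    have : ⁅a, b⁆ ∈ ⁅N, N⁆ := Subgroup.commutator_mem_commutator ha hb
    rw [hbot, Subgroup.mem_bot] at this
    exact commutatorElement_eq_one_iff_mul_comm.1 this
  -- Case B2a: N lies in every maximal subgroup
  by_cases hΦ : ∀ M : Subgroup G, IsCoatom M → N ≤ M
  · exact res_top_eq_bot_of_frattini l' N hNp hΦ hO (IHq N hN)
  obtain ⟨M, hM, hNM⟩ : ∃ M : Subgroup G, IsCoatom M ∧ ¬ N ≤ M := by
    by_contra hcon
    apply hΦ
    intro M hM
    by_contra hNM
    exact hcon ⟨M, hM, hNM⟩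
  have hsup : N ⊔ M = ⊤ := by
    apply hM.2
    apply lt_of_le_of_ne le_sup_right
    intro heq
    apply hNM
    rw [heq]
    exact le_sup_left
  have hdecomp : ∀ g : G, ∃ n ∈ N, ∃ m ∈ M, n * m = g := by
    intro g
    have hg : g ∈ N ⊔ M := by rw [hsup]; trivial
    exact Subgroup.mem_sup_of_normal_left.1 hg
  have hinfn : (N ⊓ M).Normal := by
    constructor
    intro x hx g
    obtain ⟨n, hn, m, hm, rfl⟩ := hdecomp g
    have h1 : m * x * m⁻¹ ∈ N ⊓ M :=
      ⟨hNn.conj_mem x hx.1 m, M.mul_mem (M.mul_mem hm hx.2) (M.inv_mem hm)⟩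
    have h2 : n * m * x * (n * m)⁻¹ = m * x * m⁻¹ := by
      have := hNab n hn _ h1.1
      calc n * m * x * (n * m)⁻¹ = n * (m * x * m⁻¹) * n⁻¹ := by group
        _ = (m * x * m⁻¹) * n * n⁻¹ := by rw [this]
        _ = m * x * m⁻¹ := by group
    rw [h2]
    exact h1
  have hinf : N ⊓ M = ⊥ := by
    by_contra hne
    have := hmin _ hinfn hne inf_le_left
    apply hNM
    rw [← this]
    exact inf_le_right
  have hidxN : N.index = Nat.card M := by
    have h1 : N.relIndex (N ⊔ M) = N.relIndex M := Subgroup.relIndex_sup_left M N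
    rw [hsup, Subgroup.relIndex_top_right] at h1
    rw [h1, ← Subgroup.inf_relIndex_right, hinf, Subgroup.relIndex_bot_left]
  rcases hmax M hM with ⟨K, hKn, hKp, k, hKi⟩ | hpr
  · -- Case (a): M has a normal p-complement
    set K' : Subgroup G := K.map M.subtype with hK'
    have hK'M : K' ≤ M := Subgroup.map_subtype_le K
    have hK'card : Nat.card K' = Nat.card K :=
      (Nat.card_congr (K.equivMapOfInjective M.subtype (Subgroup.subtype_injective M)).toEquiv).symm
    have hY1n : (N ⊔ K').Normal := by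
      constructor
      intro x hx g
      obtain ⟨n, hn, m, hm, rfl⟩ := hdecomp g
      obtain ⟨a, ha, b, hb, rfl⟩ := Subgroup.mem_sup_of_normal_left.1 hx
      have h1 : (n * m) * a * (n * m)⁻¹ ∈ N := hNn.conj_mem a ha _
      have h2 : m * b * m⁻¹ ∈ K' := by
        obtain ⟨b0, hb0, rfl⟩ := hb
        refine ⟨⟨m, hm⟩ * b0 * ⟨m, hm⟩⁻¹, hKn.conj_mem b0 hb0 _, ?_⟩
        simp
      have h3 : n * (m * b * m⁻¹) * n⁻¹ ∈ N ⊔ K' :=
        Subgroup.mul_mem _ (Subgroup.mul_mem _ (Subgroup.mem_sup_left hn)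
          (Subgroup.mem_sup_right h2)) (Subgroup.inv_mem _ (Subgroup.mem_sup_left hn))
      have : n * m * (a * b) * (n * m)⁻¹
          = ((n * m) * a * (n * m)⁻¹) * (n * (m * b * m⁻¹) * n⁻¹) := by group
      rw [this]
      exact Subgroup.mul_mem _ (Subgroup.mem_sup_left h1) h3
    have hNK' : N ⊓ K' = ⊥ := by
      rw [eq_bot_iff, ← hinf]
      exact inf_le_inf_left N hK'M
    have hrel : N.relIndex (N ⊔ K') = Nat.card K' := by
      rw [Subgroup.relIndex_sup_left, ← Subgroup.inf_relIndex_right, hNK',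
        Subgroup.relIndex_bot_left]
    have hidx : (N ⊔ K').index = p ^ k := by
      have h1 := Subgroup.relIndex_mul_index (le_sup_left : N ≤ N ⊔ K')
      rw [hrel, hidxN] at h1
      have h2 : Nat.card K * K.index = Nat.card ↥M := K.card_mul_index
      rw [hKi, ← hK'card] at h2
      have : Nat.card K' * (N ⊔ K').index = Nat.card K' * p ^ k := by rw [h1, h2]
      exact Nat.eq_of_mul_eq_mul_left Nat.card_pos this
    have hchain : HasChain p [true, false, true] (⊤ : Subgroup G) := by
      refine ⟨N ⊔ K', le_top, hY1n, ?_, N, le_sup_left, hNn, ?_, ⊥, bot_le, inferInstance, ?_, rfl⟩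
      · rw [Subgroup.relIndex_top_right]
        exact ⟨k, hidx⟩
      · show (N.relIndex (N ⊔ K')).Coprime p
        rw [hrel, hK'card]
        exact ((Nat.Prime.coprime_iff_not_dvd hp.out).2 hKp).symm
      · show ∃ k, (⊥ : Subgroup G).relIndex N = p ^ k
        rw [Subgroup.relIndex_bot_left]
        exact hNp.exists_card_eq
    exact res_eq_bot_of_hasChain _ (hasChain_of_sublist hl2 inferInstance hchain)
  · -- Case (b): M has prime index
    have hidxM : M.index = Nat.card N := by
      have h1 : Nat.card N * N.index = Nat.card G := N.card_mul_index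
      have h2 : Nat.card M * M.index = Nat.card G := M.card_mul_index
      rw [hidxN] at h1
      have : Nat.card M * M.index = Nat.card M * Nat.card N := by rw [h2, ← h1, mul_comm]
      exact Nat.eq_of_mul_eq_mul_left Nat.card_pos this
    rw [hidxM] at hpr
    have hNcard : Nat.card N = p := by
      obtain ⟨a, ha⟩ := hNp.exists_card_eq
      have ha0 : a ≠ 0 := by
        rintro rfl
        rw [pow_zero] at ha
        exact hN (Subgroup.card_eq_one.1 ha)
      have hdvd : p ∣ Nat.card N := by rw [ha]; exact dvd_pow_self p ha0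
      exact ((Nat.prime_dvd_prime_iff_eq hp.out hpr).1 hdvd).symm
    set C : Subgroup G := Subgroup.centralizer (N : Set G) ⊓ M with hC
    have hCn : C.Normal := by
      constructor
      intro x hx g
      obtain ⟨n, hn, m, hm, rfl⟩ := hdecomp g
      have h1 : m * x * m⁻¹ ∈ C := by
        refine ⟨?_, M.mul_mem (M.mul_mem hm hx.2) (M.inv_mem hm)⟩
        show m * x * m⁻¹ ∈ Subgroup.centralizer (N : Set G)
        rw [Subgroup.mem_centralizer_iff]
        intro y hy
        have hy' : m⁻¹ * y * m ∈ N := by simpa using hNn.conj_mem y hy m⁻¹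
        have hxy := (Subgroup.mem_centralizer_iff.1 hx.1) _ hy'
        calc y * (m * x * m⁻¹) = m * ((m⁻¹ * y * m) * x) * m⁻¹ := by group
          _ = m * (x * (m⁻¹ * y * m)) * m⁻¹ := by rw [hxy]
          _ = m * x * m⁻¹ * y := by group
      have h2 : n * m * x * (n * m)⁻¹ = m * x * m⁻¹ := by
        have hc := (Subgroup.mem_centralizer_iff.1 h1.1) n hn
        calc n * m * x * (n * m)⁻¹ = n * (m * x * m⁻¹) * n⁻¹ := by group
          _ = (m * x * m⁻¹) * n * n⁻¹ := by rw [hc]
          _ = m * x * m⁻¹ := by group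
      rw [h2]
      exact h1
    have hCbot : C = ⊥ := by
      by_contra hne
      exact hNM ((huniq C hCn hne).trans inf_le_right)
    have hcent : Subgroup.centralizer (N : Set G) ≤ N := by
      intro c hc
      obtain ⟨n, hn, m, hm, rfl⟩ := hdecomp c
      have hnc : n ∈ Subgroup.centralizer (N : Set G) := by
        rw [Subgroup.mem_centralizer_iff]
        intro y hy
        exact hNab y hy n hn
      have hmc : m ∈ C := by
        refine ⟨?_, hm⟩
        have := Subgroup.mul_mem _ (Subgroup.inv_mem _ hnc) hc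
        simpa using this
      rw [hCbot, Subgroup.mem_bot] at hmc
      rw [hmc, mul_one]
      exact hn
    have hidx : ¬ p ∣ N.index := by
      intro hd
      have h1 : Nat.card N * N.index = Nat.card G := N.card_mul_index
      have h2 : p ^ (1 + 1) ∣ Nat.card G := by
        rw [← h1, hNcard, pow_succ, pow_one]
        exact Nat.mul_dvd_mul_left p hd
      obtain ⟨T, hT, hNT⟩ := Sylow.exists_subgroup_card_pow_succ h2 (by rw [hNcard, pow_one])
      have hT' : Nat.card ↥T = p ^ 2 := hT
      have hTc : ∀ a b : ↥T, a * b = b * a :=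
        (IsPGroup.isMulCommutative_of_card_eq_prime_sq hT').is_comm.comm
      have hTN : T ≤ N := by
        intro t ht
        apply hcent
        rw [Subgroup.mem_centralizer_iff]
        intro y hy
        have := hTc ⟨y, hNT hy⟩ ⟨t, ht⟩
        exact congrArg Subtype.val this
      have := Subgroup.card_le_of_le hTN
      rw [hT', hNcard] at this
      have hp2 := hp.out.two_le
      nlinarith
    have hchain : HasChain p [false, true] (⊤ : Subgroup G) := by
      refine ⟨N, le_top, hNn, ?_, ⊥, bot_le, inferInstance, ?_, rfl⟩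
      · show (N.relIndex ⊤).Coprime p
        rw [Subgroup.relIndex_top_right]
        exact ((Nat.Prime.coprime_iff_not_dvd hp.out).2 hidx).symm
      · show ∃ k, (⊥ : Subgroup G).relIndex N = p ^ k
        rw [Subgroup.relIndex_bot_left]
        exact ⟨1, by rw [hNcard, pow_one]⟩
    have hsub : [false, true].Sublist [true, false, true] := by decide
    exact res_eq_bot_of_hasChain _ (hasChain_of_sublist (hsub.trans hl2) inferInstance hchain)

/-- **Main theorem**: a finite `p`-solvable group all of whose maximal subgroups have a normal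
`p`-complement or prime index has trivial residual for every list ending in `true, false` and
containing `true, false, true` as a sublist. -/
theorem main {p : ℕ} [hp : Fact p.Prime] (l' : List Bool)
    (hl2 : [true, false, true].Sublist (l' ++ [true, false])) (G : Type u) [Group G] [Finite G]
    (hsol : Cfsg.IsPSolvable p G) (hmax : MaxHyp p G) :
    res p (l' ++ [true, false]) (⊤ : Subgroup G) = ⊥ :=
  main_aux l' hl2 _ G rfl hsol hmax

end Cfsg.Agent.Lib.H22.PLenTwo
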