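import Mathlib
import Cfsg.Agent.Lib.H29.ChevAutG2

/-!
# S2937, family `G₂(2^e)` (pre-build): an automorphism of `G₂(F)`, `char F = 2`, preserving `U` preserves each of the
two minimal parabolic subgroups (there is no graph automorphism outside characteristic `3`)
-/

set_option autoImplicit false
set_option linter.unusedSectionVars false
set_option linter.unusedVariables false
set_option linter.unusedSimpArgs false

namespace Cfsg.Agent.Lib.H22.PM

open Cfsg Cfsg.Lie Cfsg.Agent.Lib.H2.BN Cfsg.Agent.Lib.H29.Chev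

section Gen

variable {D : ChevalleyDatum} {fd : FD} {fx : FX} {fc : FC} {fz : FZ} {F : Type*} [Field F]

/-- a standard automorphism maps the minimal parabolic `P_i` onto `P_{ρ(i)}` -/
theorem par_iff_of_simpAct [Finite F] (C : Cert12 D fd fx fc fz) (θ : ↥(D.group F) ≃* ↥(D.group F))
    (hθ : StdAut θ) (ρ : ℕ → ℕ) (f g : ℕ → F →+ F) (S : SimpAct C θ ρ f g) (i : ℕ) (hi : i < fd.l) (x : ↥(D.group F)) :
    x ∈ (C.c6.bnPair F).parabolic {C.sg i hi} ↔ θ x ∈ (C.c6.bnPair F).parabolic {C.sg (ρ i) (S.rho_lt i hi)} := by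
  have hB : ∀ g, g ∈ (C.c6.bnPair F).B ↔ θ g ∈ (C.c6.bnPair F).B := C.B1_iff_of_U1 θ hθ.1
  obtain ⟨s', hs', hpar⟩ := map_parabolic_singleton (C.c6.bnPair F) θ hB (C.sg_mem_S i hi)
  obtain ⟨j, hj, rfl⟩ := C.exists_sg_of_mem_S s' hs'
  have hp := C.c6.c2.simple_lt i hi
  have hev := C.c6.c2.heven
  have hpos := C.c6.simple_pos i hi
  -- `x_{-α_i}(1) ∈ P_i`
  have h1 : C.xg (F := F) (fd.n - 1 - fd.simples.getD i 0) 1 ∈ (C.c6.bnPair F).parabolic {C.sg i hi} := by
    have hx := C.c6.nG_conj_self (F := F) (fd.simples.getD i 0) hp (-1)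
    rw [neg_neg] at hx
    have e : C.xg (F := F) (fd.n - 1 - fd.simples.getD i 0) 1 =
        C.sg i hi * C.xg (fd.simples.getD i 0) (-1) * (C.sg i hi)⁻¹ := by
      apply Subtype.ext
      exact hx.symm
    rw [e]
    have hs : C.sg (F := F) i hi ∈ (C.c6.bnPair F).parabolic {C.sg i hi} :=
      (le_sup_right : Subgroup.closure {C.sg i hi} ≤ _) (Subgroup.subset_closure rfl)
    have hb : C.xg (F := F) (fd.simples.getD i 0) (-1) ∈ (C.c6.bnPair F).parabolic {C.sg i hi} := by
      apply (le_sup_left : (C.c6.bnPair F).B ≤ _)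
      exact Subgroup.mem_subgroupOf.mpr (C.c6.xA_pos_mem_borel _ hp hpos _)
    exact mul_mem (mul_mem hs hb) (inv_mem hs)
  have h2 := (hpar _).mp h1
  rw [S.neg i hi] at h2
  have hρ := S.rho_lt i hi
  have hpρ := C.c6.c2.simple_lt (ρ i) hρ
  have hposρ := C.c6.simple_pos (ρ i) hρ
  have hposj := C.c6.simple_pos j hj
  have h3 : C.xg (F := F) (fd.n - 1 - fd.simples.getD (ρ i) 0) (g i 1) ∈ Cert12.V1 D F :=
    Subgroup.mem_subgroupOf.mpr (C.xA_neg_mem _ (by omega) (by omega) _)
  obtain ⟨Pm, hPm⟩ := C.c6.exists_minimal_parabolic (F := F) j hj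
  have h4 : (C.c6.bnPair F).parabolic {C.sg j hj} ≤ Pm.subgroupOf (D.group F) := by
    apply parabolic_singleton_le
    · intro b hb
      rw [Subgroup.mem_subgroupOf, ← SetLike.mem_coe, hPm]
      left
      exact Subgroup.mem_subgroupOf.mp hb
    · rw [Subgroup.mem_subgroupOf, ← SetLike.mem_coe, hPm]
      right
      rw [DoubleCoset.mem_doubleCoset]
      exact ⟨1, one_mem _, 1, one_mem _, by simp [Cert12.sg]⟩
  have h5 := h4 h2
  rw [Subgroup.mem_subgroupOf, ← SetLike.mem_coe, hPm] at h5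
  obtain ⟨t', ht'⟩ := C.neg_inf_minimal j hj _ (Subgroup.mem_subgroupOf.mp h3) h5
  have hg1 : g i 1 ≠ 0 := fun h => one_ne_zero (S.ginj i hi (h.trans (map_zero (g i)).symm))
  have h6 : fd.n - 1 - fd.simples.getD (ρ i) 0 = fd.n - 1 - fd.simples.getD j 0 :=
    C.xA_inj _ _ (by omega) (by have := C.c6.c2.simple_lt j hj; omega) _ _ hg1 ht'
  have h7 : fd.simples.getD (ρ i) 0 = fd.simples.getD j 0 := by
    have := C.c6.c2.simple_lt j hj
    omega
  have h8 : ρ i = j := C.simple_inj (ρ i) j hρ hj h7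
  subst h8
  exact hpar x

end Gen

section G2

variable {F : Type*} [Field F] [Finite F]

/-- in characteristic `≠ 3` a standard automorphism of `G₂(F)` fixes both nodes -/
theorem g2_rho_id (p : ℕ) [hp : Fact p.Prime] [hc : CharP F p] (hp3 : p ≠ 3)
    (θ' : ↥(chevG2.group F) ≃* ↥(chevG2.group F)) (ρ : ℕ → ℕ)
    (f g : ℕ → F →+ F) (S : SimpAct cert12_G2 θ' ρ f g) : ρ 0 = 0 ∧ ρ 1 = 1 := by
  have hmem := S.map_rho_mem_autList chkAdj_G2
  rw [show fdG2.l = 2 from rfl, autList_G2] at hmem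
  simp only [List.mem_cons, List.not_mem_nil, or_false] at hmem
  rcases hmem with hmem | hmem
  · exact ⟨S.rho_eq_of_map _ hmem 0 (by decide), S.rho_eq_of_map _ hmem 1 (by decide)⟩
  · exfalso
    have h0 : ρ 0 = 1 := S.rho_eq_of_map _ hmem 0 (by decide)
    have h1 : ρ 1 = 0 := S.rho_eq_of_map _ hmem 1 (by decide)
    have ht0 := S.tracks_pos 0 (by decide)
    rw [h0] at ht0
    have ht1 := S.tracks_word [0, 1] (by decide) 7 6 (by decide) (by decide) ht0
    have e1 : fdG2.wact fxG2 [0, 1] 7 = 9 := by decide +kernel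
    have e2 : fdG2.wact fxG2 ([0, 1].map ρ) 6 = 11 := by
      simp only [List.map_cons, List.map_nil, h0, h1]
      decide +kernel
    rw [e1, e2] at ht1
    have hT : fdG2.commT 6 11 = [] := by decide +kernel
    have hc1 : cert12_G2.Comm F 6 11 := by
      intro t u
      have hcf := cert12_G2.c6.cfg (F := F) 6 11 (by decide) (by decide) (by decide) (by decide) t u
      rw [hT] at hcf
      simp only [Cert2.ctG, List.map_nil, List.prod_nil, mul_one] at hcf
      exact hcf.symm
    have hc2 : cert12_G2.Comm F 7 9 := cert12_G2.comm_of_tracks θ' 7 6 9 11 ht0 ht1 hc1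
    have hT2 : fdG2.commT 7 9 = [(10, 3, 1, 1)] := by decide +kernel
    have h3 := cert12_G2.coeff_zero_of_comm (F := F) 7 9 (by decide) (by decide) (by decide) (by decide) 10 3 hT2
      (by decide) hc2
    exact hp3 (charP_of_cast_eq_zero p 3 (by norm_num) (by exact_mod_cast h3))

/-- **no graph automorphism**: in characteristic `≠ 3`, an automorphism of `G₂(F)` preserving `U` preserves each
minimal parabolic subgroup -/
theorem g2_par_iff (p : ℕ) [hp : Fact p.Prime] [hc : CharP F p] (hp3 : p ≠ 3)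
    (θ : ↥(chevG2.group F) ≃* ↥(chevG2.group F))
    (hU : ∀ g, g ∈ Cert12.U1 chevG2 F ↔ θ g ∈ Cert12.U1 chevG2 F) (i : ℕ) (hi : i < fdG2.l)
    (x : ↥(chevG2.group F)) :
    x ∈ (cert12_G2.c6.bnPair F).parabolic {cert12_G2.sg i hi} ↔
      θ x ∈ (cert12_G2.c6.bnPair F).parabolic {cert12_G2.sg i hi} := by
  obtain ⟨u, hu, huV⟩ := cert12_G2.exists_conj_V1 p θ hU
  -- the standardised automorphism
  set θ' : ↥(chevG2.group F) ≃* ↥(chevG2.group F) := θ.trans (MulAut.conj u⁻¹) with hθ'
  have hval : ∀ g, θ' g = u⁻¹ * θ g * u := by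
    intro g
    simp only [hθ', MulEquiv.trans_apply, MulAut.conj_apply, inv_inv]
  have hfinU : Finite (Cert12.U1 chevG2 F) := inferInstance
  have hfinV : Finite (Cert12.V1 chevG2 F) := inferInstance
  have hStd : StdAut θ' := by
    constructor
    · apply iff_of_forall_mem
      intro g hg
      rw [hval]
      exact mul_mem (mul_mem (inv_mem hu) ((hU g).mp hg)) hu
    · apply iff_of_forall_mem
      intro g hg
      rw [hval]
      exact huV g hg
  obtain ⟨ρ, f, g, S⟩ := cert12_G2.exists_simpAct fdG2_chkOpp θ' hStd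
  obtain ⟨h0, h1⟩ := g2_rho_id p hp3 θ' ρ f g S
  have hρ : ρ i = i := by
    have hi' : i < 2 := hi
    interval_cases i
    · exact h0
    · exact h1
  have key := par_iff_of_simpAct cert12_G2 θ' hStd ρ f g S i hi x
  have e : cert12_G2.sg (F := F) (ρ i) (S.rho_lt i hi) = cert12_G2.sg i hi := by
    congr 1
  rw [e, hval] at key
  rw [key]
  have huP : u ∈ (cert12_G2.c6.bnPair F).parabolic {cert12_G2.sg i hi} := by
    apply (le_sup_left : (cert12_G2.c6.bnPair F).B ≤ _)
    have : u ∈ Cert12.B1 chevG2 F := by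
      rw [Subgroup.mem_subgroupOf]
      exact (le_sup_left : chevG2.posUnipotent F ≤ chevG2.borelSubgroup F) (Subgroup.mem_subgroupOf.mp hu)
    exact this
  constructor
  · intro h
    have : θ x = u * (u⁻¹ * θ x * u) * u⁻¹ := by group
    rw [this]
    exact mul_mem (mul_mem huP h) (inv_mem huP)
  · intro h
    exact mul_mem (mul_mem (inv_mem huP) h) huP

end G2

end Cfsg.Agent.Lib.H22.PM
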