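import Mathlib
import Cfsg.Prelude.Def_LieTypeChar
import Cfsg.Prelude.Def_EvenType
import Cfsg.Prelude.Def_AlmostLie
import Cfsg.Prelude.Def_LocalEven
import Cfsg.Agent.Lib.H3.PMinBN
import Cfsg.Agent.Lib.H3.PMinBNi
import Cfsg.Agent.Lib.H29.ChevPJ5
import Cfsg.Agent.Lib.H22.PMG2a
import Cfsg.Agent.Lib.H29.ChevGen45

/-!
# S2937, piece G2: the groups `G₂(q)`, `q ≥ 3`

`p` odd: a `p`-group cannot interchange the two minimal parabolic subgroups; `p = 2`: no automorphism stabilizing `U` does
(there is no graph automorphism outside characteristic `3`).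
-/

set_option autoImplicit false
set_option linter.unusedSectionVars false
set_option linter.unusedVariables false
set_option linter.unusedSimpArgs false

namespace Cfsg.Agent.Lib.H22.PM

open Cfsg Cfsg.Lie Cfsg.Agent.Lib.H3.PMin Cfsg.Agent.Lib.H29.Chev Matrix

section generic

variable {D : ChevalleyDatum} {fd : FD} {fx : FX} {fc : FC} {fz : FZ} {F : Type*} [Field F]

/-- the elements of the diagonal subgroup have order dividing `q - 1` -/
theorem diag_pow_card_sub_one (C : Cert12 D fd fx fc fz) [Fintype F] (t : GL D.Idx F)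
    (ht : t ∈ D.diagonalSubgroup F) : t ^ (Fintype.card F - 1) = 1 := by
  classical
  rw [C.diag_eq_range] at ht
  obtain ⟨x, rfl⟩ := ht
  rw [← map_pow]
  have : x ^ (Fintype.card F - 1) = 1 := by
    funext i
    rw [Pi.pow_apply, Pi.one_apply, ← Fintype.card_units]
    exact pow_card_eq_one
  rw [this, map_one]

/-- the split data of a Chevalley group of helper29's tower -/
theorem spl_of_cert12 (C : Cert12 D fd fx fc fz) [Fintype F] (p : ℕ) [hp : Fact p.Prime] [CharP F p] :
    Spl p (C.c6.bnPair F) ((D.diagonalSubgroup F).subgroupOf (D.group F))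
      ((D.posUnipotent F).subgroupOf (D.group F)) := by
  classical
  have hUG : D.posUnipotent F ≤ D.group F :=
    (le_sup_left : D.posUnipotent F ≤ D.borelSubgroup F).trans C.c6.c2.borel_le_group
  have hBnorm : D.borelSubgroup F ≤ Subgroup.normalizer (D.posUnipotent F : Set (GL D.Idx F)) :=
    sup_le Subgroup.le_normalizer C.c6.c2.diag_le_normalizer_pos
  refine ⟨?_, ?_, ?_, ?_, ?_, ?_, ?_⟩
  · -- `T ≤ B`
    intro t ht
    rw [Subgroup.mem_subgroupOf] at ht
    show (t : GL D.Idx F) ∈ D.borelSubgroup F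
    exact (le_sup_right : D.diagonalSubgroup F ≤ D.borelSubgroup F) ht
  · -- `N` normalizes `T`
    intro n hn t ht
    rw [Subgroup.mem_subgroupOf] at ht ⊢
    have hn' : (n : GL D.Idx F) ∈ D.monomialSubgroup F := hn
    have h1 := C.c6.c2.monomial_le_normalizer_diag (F := F) (inv_mem hn')
    have h2 := (Subgroup.mem_normalizer_iff.mp h1 (t : GL D.Idx F)).mp ht
    rw [inv_inv] at h2
    simpa using h2
  · -- `U ≤ B`
    intro u hu
    rw [Subgroup.mem_subgroupOf] at hu
    show (u : GL D.Idx F) ∈ D.borelSubgroup F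
    exact (le_sup_left : D.posUnipotent F ≤ D.borelSubgroup F) hu
  · -- `B = T U`
    intro b hb
    have hb' : (b : GL D.Idx F) ∈ D.borelSubgroup F := hb
    obtain ⟨u, hu, h, hh, huh⟩ := C.c6.c2.borel_mem (b : GL D.Idx F) hb'
    have hhG : h ∈ D.group F := C.c6.c2.diag_le_group hh
    have hu' : h⁻¹ * u * h ∈ D.posUnipotent F := by
      have h1 := C.c6.c2.diag_le_normalizer_pos (F := F) (inv_mem hh)
      have h2 := (Subgroup.mem_normalizer_iff.mp h1 u).mp hu
      rwa [inv_inv] at h2
    refine ⟨⟨h, hhG⟩, Subgroup.mem_subgroupOf.mpr hh, ⟨h⁻¹ * u * h, hUG hu'⟩,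
      Subgroup.mem_subgroupOf.mpr hu', ?_⟩
    apply Subtype.ext
    rw [Subgroup.coe_mul, ← huh]
    show u * h = h * (h⁻¹ * u * h)
    group
  · -- `B` normalizes `U`
    intro b hb u hu
    rw [Subgroup.mem_subgroupOf] at hu ⊢
    have hb' : (b : GL D.Idx F) ∈ D.borelSubgroup F := hb
    have h1 := hBnorm (inv_mem hb')
    have h2 := (Subgroup.mem_normalizer_iff.mp h1 (u : GL D.Idx F)).mp hu
    rw [inv_inv] at h2
    simpa using h2
  · -- `U` is a `p`-group
    exact (C.isPGroup_posUnipotent (F := F) p).comap_subtype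
  · -- the torus has order prime to `p`
    intro t ht
    rw [Subgroup.mem_subgroupOf] at ht
    have h1 := diag_pow_card_sub_one C (t : GL D.Idx F) ht
    have h2 : orderOf t ∣ Fintype.card F - 1 := by
      rw [← Subgroup.orderOf_coe]
      exact orderOf_dvd_of_pow_eq_one h1
    obtain ⟨n, hprime, hn⟩ := FiniteField.card F p
    have hc : (Fintype.card F - 1).Coprime p := by
      apply Nat.Coprime.symm
      rw [Nat.Prime.coprime_iff_not_dvd hp.out]
      intro hd
      have hq : p ∣ Fintype.card F := by rw [hn]; exact dvd_pow_self p n.ne_zero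
      have hpos : 0 < Fintype.card F := Fintype.card_pos
      have h1' : p ∣ 1 := by
        have := (Nat.dvd_sub hq hd)
        rwa [Nat.sub_sub_self hpos] at this
      exact hp.out.one_lt.ne' (Nat.dvd_one.mp h1')
    exact Nat.Coprime.coprime_dvd_left h2 hc

end generic

section G2

variable (F : Type*) [Field F] [Fintype F]

theorem g2_sg_ne : cert12_G2.sg (F := F) 0 (by decide) ≠ cert12_G2.sg 1 (by decide) := by
  intro h
  have h' : cert12_G2.c6.c2.nG (F := F) (fdG2.simples.getD 0 0) (cert12_G2.c6.c2.simple_lt 0 (by decide)) =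
      cert12_G2.c6.c2.nG (fdG2.simples.getD 1 0) (cert12_G2.c6.c2.simple_lt 1 (by decide)) :=
    congrArg Subtype.val h
  have p0 := (cert12_G2.c6.perm_nG (F := F) 0 (by decide)).1
  have p1 := (cert12_G2.c6.perm_nG (F := F) 1 (by decide)).1
  rw [h'] at p0
  have := cert12_G2.perm_unique _ _ _ p0 p1 (fdG2.simples.getD 0 0) (by decide)
  revert this
  decide +kernel

theorem g2_S : (cert12_G2.c6.bnPair F).S =
    {cert12_G2.sg (F := F) 0 (by decide), cert12_G2.sg 1 (by decide)} := by
  ext s
  constructor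
  · intro hs
    obtain ⟨i, hi, rfl⟩ := cert12_G2.exists_sg_of_mem_S s hs
    have hi' : i < 2 := hi
    interval_cases i
    · exact Set.mem_insert _ _
    · exact Set.mem_insert_of_mem _ rfl
  · rintro (rfl | rfl)
    · exact cert12_G2.sg_mem_S 0 (by decide)
    · exact cert12_G2.sg_mem_S 1 (by decide)

/-- G2 -/
theorem pm_G2 (F : Type*) [Field F] [Fintype F] (p : ℕ) [Fact p.Prime] [CharP F p] (h3 : 3 ≤ Fintype.card F) :
    PMinBad p ↥(Lie.chevG2.group F) := by
  classical
  have hspl := spl_of_cert12 cert12_G2 (F := F) p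
  have hfin : Finite ↥(Lie.chevG2.group F) := inferInstance
  by_cases hp : p = 2
  · subst hp
    apply hspl.pminBad
    apply hspl.badAt_of_fixed (cert12_G2.sg (F := F) 0 (by decide)) (cert12_G2.sg 1 (by decide))
      (cert12_G2.sg_mem_S 0 (by decide)) (cert12_G2.sg_mem_S 1 (by decide)) (g2_sg_ne F)
    intro φ hφ
    apply map_eq_of_forall_mem_iff
    intro x
    exact g2_par_iff 2 (by norm_num) φ (forall_mem_iff_of_map_eq φ _ hφ) 0 (by decide) x
  · exact hspl.pminBad (hspl.badAt_of_rank_two_odd (cert12_G2.sg (F := F) 0 (by decide)) (cert12_G2.sg 1 (by decide))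
      (g2_sg_ne F) (g2_S F) hp)

end G2

end Cfsg.Agent.Lib.H22.PM
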