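import Mathlib
import Cfsg.Agent.Lib.H29.TwAutD4

/-!
# S2937, family `³D₄(2^e)` (pre-build): an automorphism of the twisted group preserving `U` preserves the minimal
parabolic subgroup of the node with root subgroups over the big field
-/

set_option autoImplicit false
set_option linter.unusedSectionVars false
set_option linter.unusedVariables false
set_option linter.unusedSimpArgs false

namespace Cfsg.Agent.Lib.H22.PM

open Cfsg Cfsg.Lie Matrix Cfsg.Agent.Lib.H2.BN Cfsg.Agent.Lib.H29.Chev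

section Gen

variable {D : ChevalleyDatum} {fd : FD} {fx : FX} {fc : FC} {fz : FZ} {F : Type*} [Field F]

variable (C : Cert12 D fd fx fc fz) {ga : GA} {k : ℕ} {φ : F →+* F} {RL sreps : List ℕ} {fq : FQ} {q : ℕ}

variable (W : TwPack C ga k φ RL sreps fq q)
include W

/-- a standard automorphism mapping the root subgroups of the node `i` to those of `i'` maps `P_i` onto `P_{i'}` -/
theorem tw_par_iff_of_maps [Finite F] (hPos : fd.chkPiSPos fx ga k sreps = true)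
    (hDisj : chkDisj ga k sreps = true)
    (θ : ↥(C.G1 ga k φ sreps) ≃* ↥(C.G1 ga k φ sreps)) (hθ : C.TwStd ga k φ sreps θ) (i : ℕ) (hi : i ∈ sreps)
    (i' : ℕ) (hi' : i' ∈ sreps) (hm : C.TwMaps ga k φ sreps θ i hi i' hi') (x : ↥(C.G1 ga k φ sreps)) :
    x ∈ (C.tBN W).parabolic {C.ns ga k φ sreps i (C.nS_mem_G1 W i hi)} ↔
      θ x ∈ (C.tBN W).parabolic {C.ns ga k φ sreps i' (C.nS_mem_G1 W i' hi')} := by
  have hil := W.S.sreps_lt i hi
  have hB : ∀ g, g ∈ (C.tBN W).B ↔ θ g ∈ (C.tBN W).B := by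
    intro g
    rw [C.tBN_B W]
    exact C.tB_iff_of_std W θ hθ.1 g
  have hsS : C.ns ga k φ sreps i (C.nS_mem_G1 W i hi) ∈ (C.tBN W).S := ⟨i, hi, rfl⟩
  obtain ⟨s', hs', hpar⟩ := map_parabolic_singleton (C.tBN W) θ hB hsS
  obtain ⟨i'', hi'', hs'e⟩ := hs'
  -- `x_{-S}(1) ∈ P_S`
  have h1 : C.xm ga k φ sreps i hi 1 ∈ (C.tBN W).parabolic {C.ns ga k φ sreps i (C.nS_mem_G1 W i hi)} := by
    have e : C.xm ga k φ sreps i hi 1 =
        C.ns ga k φ sreps i (C.nS_mem_G1 W i hi) * C.xp ga k φ sreps i hi (-1) *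
          (C.ns ga k φ sreps i (C.nS_mem_G1 W i hi))⁻¹ := by
      apply Subtype.ext
      have := (C.nS_conj W i hil (-((1 : ↥(KrF fd ga φ (fd.simples.getD i 0))) : F))).1
      rw [neg_neg] at this
      simp only [Cert12.xm, Cert12.xp, Cert12.ns, Subgroup.coe_mul, InvMemClass.coe_inv, Subfield.coe_neg]
      exact this.symm
    rw [e]
    have hs : C.ns ga k φ sreps i (C.nS_mem_G1 W i hi) ∈
        (C.tBN W).parabolic {C.ns ga k φ sreps i (C.nS_mem_G1 W i hi)} :=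
      (le_sup_right : Subgroup.closure {C.ns ga k φ sreps i (C.nS_mem_G1 W i hi)} ≤ _) (Subgroup.subset_closure rfl)
    have hb : C.xp ga k φ sreps i hi (-1) ∈
        (C.tBN W).parabolic {C.ns ga k φ sreps i (C.nS_mem_G1 W i hi)} := by
      apply (le_sup_left : (C.tBN W).B ≤ _)
      rw [C.tBN_B W]
      exact Subgroup.mem_subgroupOf.mpr ((le_sup_left : D.posUnipotent F ≤ D.borelSubgroup F)
        (Subgroup.mem_subgroupOf.mp (C.xp_mem_tU W i hi (-1))))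
    exact mul_mem (mul_mem hs hb) (inv_mem hs)
  have h2 := (hpar _).mp h1
  obtain ⟨t', ht'⟩ := hm.2 1
  -- `t' ≠ 0`
  have ht'0 : t' ≠ 0 := by
    rintro rfl
    rw [(C.rankOne W i' hi').zero_m] at ht'
    have h3 : C.xm ga k φ sreps i hi 1 = 1 := θ.injective (by rw [ht', map_one])
    rw [← (C.rankOne W i hi).zero_m] at h3
    exact one_ne_zero ((C.rankOne W i hi).inj_m _ _ h3)
  rw [ht'] at h2
  have h3 : C.xm ga k φ sreps i' hi' t' ∈ C.tV ga k φ sreps := C.xm_mem_tV W i' hi' t'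
  have hs'S : s' ∈ (C.tBN W).S := ⟨i'', hi'', hs'e⟩
  have hii : i' = i'' := by
    rcases parabolic_singleton_cases (C.tBN W) hs'S _ h2 with h4 | h4
    · -- in `B ∩ V`
      exfalso
      rw [C.tBN_B W] at h4
      have h5 : ((C.xm ga k φ sreps i' hi' t' : ↥(C.G1 ga k φ sreps)) : GL D.Idx F) = 1 := by
        have : ((C.xm ga k φ sreps i' hi' t' : ↥(C.G1 ga k φ sreps)) : GL D.Idx F) ∈
            D.borelSubgroup F ⊓ D.negUnipotent F :=
          ⟨Subgroup.mem_subgroupOf.mp h4, Subgroup.mem_subgroupOf.mp h3⟩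
        rwa [C.c6.c2.borel_inf_neg, Subgroup.mem_bot] at this
      have h6 : C.xm ga k φ sreps i' hi' t' = 1 := Subtype.ext h5
      rw [← (C.rankOne W i' hi').zero_m] at h6
      exact ht'0 ((C.rankOne W i' hi').inj_m _ _ h6)
    · rw [mem_C_iff] at h4
      obtain ⟨b, hb, b', hb', e⟩ := h4
      rw [C.tBN_B W] at hb hb'
      have e' := congrArg Subtype.val e
      simp only [Subgroup.coe_mul, hs'e] at e'
      obtain ⟨t'', ht'', hv⟩ := C.tw_neg_inf_minimal W hPos i'' hi'' _ (Subgroup.mem_subgroupOf.mp h3) b b'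
        (Subgroup.mem_subgroupOf.mp hb) (Subgroup.mem_subgroupOf.mp hb') b'.2 (C.xm ga k φ sreps i' hi' t').2 e'
      exact C.xm_orbit_inj W hDisj i' hi' i'' hi'' t' ⟨t'', ht''⟩ ht'0 (Subtype.ext hv)
  subst hii
  have es : s' = C.ns ga k φ sreps i' (C.nS_mem_G1 W i' hi') := Subtype.ext hs'e
  rw [← es]
  exact hpar x

/-- an automorphism preserving `U¹` is standard up to an element of `B¹` -/
theorem tw_exists_std_B [Finite F] (p : ℕ) [hp : Fact p.Prime] (hUp : IsPGroup p (C.tU ga k φ sreps))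
    (hidx : ¬ p ∣ (C.tU ga k φ sreps).index) (θ : ↥(C.G1 ga k φ sreps) ≃* ↥(C.G1 ga k φ sreps))
    (hU : ∀ g, g ∈ C.tU ga k φ sreps ↔ θ g ∈ C.tU ga k φ sreps) :
    ∃ x : ↥(C.G1 ga k φ sreps), x ∈ (C.tBN W).B ∧ C.TwStd ga k φ sreps (θ.trans (MulAut.conj x)) := by
  obtain ⟨x, hx⟩ := C.tw_exists_std W p hUp hidx θ
  refine ⟨x, ?_, hx⟩
  rw [C.tBN_B W, ← C.tw_normalizer_U W, Subgroup.mem_normalizer_iff]
  intro g
  obtain ⟨g', rfl⟩ := θ.surjective g
  rw [← hU g']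
  have := hx.1 g'
  simpa [MulAut.conj_apply] using this

end Gen

section D4

variable {K : Type*} [Field K] [Finite K]

/-- in `³D₄(q)` every automorphism preserving `U` preserves the minimal parabolic subgroup of the node `0` (the one
whose root subgroups are parametrised by the big field) -/
theorem td4_par_iff (q : ℕ) (hq : 1 ≤ q) (hK : Nat.card K = q ^ 3) (φ : K →+* K)
    (hφ : ∀ x, φ x = x ^ q) (hφk : ∀ x : K, φ^[3] x = x) (p : ℕ) [hp : Fact p.Prime]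
    (hUp : IsPGroup p (cert12_D4.tU gaD4a 3 φ srD4a)) (hidx : ¬ p ∣ (cert12_D4.tU gaD4a 3 φ srD4a).index)
    (θ : ↥(cert12_D4.G1 gaD4a 3 φ srD4a) ≃* ↥(cert12_D4.G1 gaD4a 3 φ srD4a))
    (hU : ∀ g, g ∈ cert12_D4.tU gaD4a 3 φ srD4a ↔ θ g ∈ cert12_D4.tU gaD4a 3 φ srD4a)
    (h0 : (0 : ℕ) ∈ srD4a) (x : ↥(cert12_D4.G1 gaD4a 3 φ srD4a)) :
    x ∈ (cert12_D4.tBN (twPack_D4 q hq hK φ hφ hφk)).parabolic
        {cert12_D4.ns gaD4a 3 φ srD4a 0 (cert12_D4.nS_mem_G1 (twPack_D4 q hq hK φ hφ hφk) 0 h0)} ↔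
      θ x ∈ (cert12_D4.tBN (twPack_D4 q hq hK φ hφ hφk)).parabolic
        {cert12_D4.ns gaD4a 3 φ srD4a 0 (cert12_D4.nS_mem_G1 (twPack_D4 q hq hK φ hφ hφk) 0 h0)} := by
  set W := twPack_D4 q hq hK φ hφ hφk with hW
  obtain ⟨b, hb, hStd⟩ := tw_exists_std_B cert12_D4 W p hUp hidx θ hU
  have key0 : cert12_D4.TwMaps gaD4a 3 φ srD4a (θ.trans (MulAut.conj b)) 0 h0 0 h0 := by
    obtain ⟨i', hi', hm⟩ := cert12_D4.tw_std_both W twD4a_piSPos 11 twD4a_w0 twD4a_oppS twD4a_disj _ hStd 0 h0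
    have hne := cert12_D4.twMaps_nonfixed W _ 0 h0 i' hi' hm twD4a_j0
    have hi'2 : i' = 0 ∨ i' = 1 := by simpa [srD4a] using hi'
    rcases hi'2 with rfl | rfl
    · exact hm
    · exact absurd twD4a_fix1 hne
  have key := tw_par_iff_of_maps cert12_D4 W twD4a_piSPos twD4a_disj _ hStd 0 h0 0 h0 key0 x
  rw [key]
  have hbP : b ∈ (cert12_D4.tBN W).parabolic {cert12_D4.ns gaD4a 3 φ srD4a 0 (cert12_D4.nS_mem_G1 W 0 h0)} :=
    (le_sup_left : (cert12_D4.tBN W).B ≤ _) hb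
  have hval : (θ.trans (MulAut.conj b)) x = b * θ x * b⁻¹ := by
    simp only [MulEquiv.trans_apply, MulAut.conj_apply]
  rw [hval]
  constructor
  · intro h
    have : θ x = b⁻¹ * (b * θ x * b⁻¹) * b := by group
    rw [this]
    exact mul_mem (mul_mem (inv_mem hbP) h) hbP
  · intro h
    exact mul_mem (mul_mem hbP h) (inv_mem hbP)

/-- the order of the torus of `³D₄(q)` -/
theorem td4_card_tH (q : ℕ) (hq : 1 ≤ q) (hK : Nat.card K = q ^ 3) (φ : K →+* K)
    (hφ : ∀ x, φ x = x ^ q) (hφk : ∀ x : K, φ^[3] x = x) :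
    Nat.card (cert12_D4.tH gaD4a 3 φ srD4a) = (q - 1) * (q ^ 3 - 1) := by
  have W := twPack_D4 q hq hK φ hφ hφk
  rw [cert12_D4.card_subgroupOf_G1 W,
    cert12_D4.diag_inf_tw twD4a_spec twD4a_spec2 φ 2 (Or.inl ⟨rfl, rfl⟩) _ (cartB_of_chk blD4 2 twD4a_cartB)
      (cert12_D4.sigT_pow twD4a_spec twD4a_spec2 φ (by norm_num) hφk) _ (cert12_D4.G1_le_fix W)
      (cert12_D4.H1_le_G1 W)]
  exact card_H1_D4 φ q hq hK hφ hφk

/-- the elements of the torus of `³D₄(q)` have order prime to the characteristic -/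
theorem td4_torus_coprime (q : ℕ) (hq : 1 ≤ q) (hK : Nat.card K = q ^ 3) (φ : K →+* K)
    (hφ : ∀ x, φ x = x ^ q) (hφk : ∀ x : K, φ^[3] x = x) (p : ℕ) [hp : Fact p.Prime] (hpq : p ∣ q)
    (t : ↥(cert12_D4.G1 gaD4a 3 φ srD4a)) (ht : t ∈ cert12_D4.tH gaD4a 3 φ srD4a) : (orderOf t).Coprime p := by
  have h1 : orderOf t ∣ Nat.card (cert12_D4.tH gaD4a 3 φ srD4a) := Subgroup.orderOf_dvd_natCard _ ht
  rw [td4_card_tH q hq hK φ hφ hφk] at h1
  have hp2 : 2 ≤ p := hp.out.two_le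
  have hc : ((q - 1) * (q ^ 3 - 1)).Coprime p := by
    apply Nat.Coprime.symm
    rw [Nat.Prime.coprime_iff_not_dvd hp.out]
    intro hd
    rcases (Nat.Prime.dvd_mul hp.out).mp hd with hd | hd
    · have := not_dvd_pow_sub_one hp2 hpq hq 1 (by norm_num)
      rw [pow_one] at this
      exact this hd
    · exact not_dvd_pow_sub_one hp2 hpq hq 3 (by norm_num) hd
  exact Nat.Coprime.coprime_dvd_left h1 hc

end D4

end Cfsg.Agent.Lib.H22.PM
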