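import Mathlib
import Cfsg.Prelude.Def_LieTypeChar
import Cfsg.Prelude.Def_EvenType
import Cfsg.Prelude.Def_AlmostLie
import Cfsg.Prelude.Def_LocalEven
import Cfsg.Agent.Lib.H3.PMinBN
import Cfsg.Agent.Lib.H3.PMinBNi
import Cfsg.Agent.Lib.H22.PMTD4a
import Cfsg.Agent.Lib.H28.OGTE6

/-!
# S2937, piece TD4: the groups `³D₄(q)`

`p` odd: a `p`-group cannot interchange the two minimal parabolic subgroups; `p = 2`: no automorphism stabilizing `U` does
(the root subgroups of the two nodes have orders `q³` and `q`).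
-/

set_option autoImplicit false
set_option linter.unusedSectionVars false
set_option linter.unusedVariables false
set_option linter.unusedSimpArgs false

namespace Cfsg.Agent.Lib.H22.PM

open Cfsg Cfsg.Lie Cfsg.Agent.Lib.H3.PMin Cfsg.Agent.Lib.H29.Chev Matrix

section generic

variable {D : ChevalleyDatum} {fd : FD} {fx : FX} {fc : FC} {fz : FZ} {F : Type*} [Field F]

variable (C : Cert12 D fd fx fc fz) {ga : GA} {k : ℕ} {φ : F →+* F} {RL sreps : List ℕ} {fq : FQ} {q : ℕ}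

variable (W : TwPack C ga k φ RL sreps fq q)
include W

/-- the split data of a twisted group of helper29's tower -/
theorem tw_spl [Finite F] (p : ℕ) (hUp : IsPGroup p (C.tU ga k φ sreps))
    (hTp : ∀ t ∈ C.tH ga k φ sreps, (orderOf t).Coprime p) :
    Spl p (C.tBN W) (C.tH ga k φ sreps) (C.tU ga k φ sreps) := by
  have hUB : D.posUnipotent F ≤ D.borelSubgroup F := le_sup_left
  have hHB : D.diagonalSubgroup F ≤ D.borelSubgroup F := le_sup_right
  have hBeq := C.tBN_B W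
  refine ⟨?_, ?_, ?_, ?_, ?_, hUp, hTp⟩
  · -- `T ≤ B`
    rw [hBeq]
    intro g hg
    exact Subgroup.mem_subgroupOf.mpr (hHB (Subgroup.mem_subgroupOf.mp hg))
  · -- `N` normalizes `T`
    intro n hn t ht
    have hn' : n ∈ (D.monomialSubgroup F ⊓ C.G1 ga k φ sreps).subgroupOf (C.G1 ga k φ sreps) := hn
    have hnN : (n : GL D.Idx F) ∈ D.monomialSubgroup F := (Subgroup.mem_inf.mp (Subgroup.mem_subgroupOf.mp hn')).1
    have htH : (t : GL D.Idx F) ∈ D.diagonalSubgroup F := Subgroup.mem_subgroupOf.mp ht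
    have := (Subgroup.mem_normalizer_iff.mp (C.c6.c2.monomial_le_normalizer_diag (inv_mem hnN)) _).mp htH
    rw [inv_inv] at this
    exact Subgroup.mem_subgroupOf.mpr this
  · -- `U ≤ B`
    rw [hBeq]
    intro g hg
    exact Subgroup.mem_subgroupOf.mpr (hUB (Subgroup.mem_subgroupOf.mp hg))
  · -- `B = T U`
    rw [hBeq]
    intro x hxB
    obtain ⟨u, hu, hufix, h, hh, hhfix, huh⟩ := C.borel_fix_decomp W (x : GL D.Idx F)
      (Subgroup.mem_subgroupOf.mp hxB) (C.sigma_of_mem W x.2)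
    have huG : u ∈ C.G1 ga k φ sreps := C.fixU_le_G1 W (Subgroup.mem_inf.mpr ⟨hufix, hu⟩)
    have hhG : h ∈ C.G1 ga k φ sreps := by
      have : h = u⁻¹ * (x : GL D.Idx F) := by rw [huh]; group
      rw [this]
      exact mul_mem (inv_mem huG) x.2
    let uG : ↥(C.G1 ga k φ sreps) := ⟨u, huG⟩
    let hG : ↥(C.G1 ga k φ sreps) := ⟨h, hhG⟩
    have hxe : x = uG * hG := Subtype.ext huh
    have huU : uG ∈ C.tU ga k φ sreps := Subgroup.mem_subgroupOf.mpr hu
    have hhH : hG ∈ C.tH ga k φ sreps := Subgroup.mem_subgroupOf.mpr hh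
    refine ⟨hG, hhH, hG⁻¹ * uG * hG, ?_, ?_⟩
    · have := (C.tH_conj_tU W hG⁻¹ (inv_mem hhH) uG).mp huU
      rwa [inv_inv] at this
    · rw [hxe]; group
  · -- `B` normalizes `U`
    rw [hBeq]
    intro b hb u hu
    have hbB : (b : GL D.Idx F) ∈ D.borelSubgroup F := Subgroup.mem_subgroupOf.mp hb
    have := C.borel_conj_pos _ _ (inv_mem hbB) (Subgroup.mem_subgroupOf.mp hu)
    rw [inv_inv] at this
    exact Subgroup.mem_subgroupOf.mpr this

end generic

section D4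

theorem td4_piS_ne : fdD4.piS fxD4 gaD4a 3 0 (fdD4.simples.getD 0 0) ≠ fdD4.piS fxD4 gaD4a 3 1 (fdD4.simples.getD 0 0) := by
  decide +kernel

/-- TD4 -/
theorem pm_3D4 (K : Type*) [Field K] [Fintype K] (p : ℕ) [Fact p.Prime] [CharP K p] (q : ℕ) (hq : IsPrimePow q)
    (hK : Fintype.card K = q ^ 3) : PMinBad p ↥(Lie.twistedD4 K q) := by
  have hp : Fact p.Prime := inferInstance
  obtain ⟨f, hf, rfl⟩ := Cfsg.Agent.Lib.H28.SR.primePow_eq_pow_char K p q 3 hq (by norm_num) hK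
  have hK' : Fintype.card K = (p ^ f) ^ 3 := hK
  obtain ⟨φ, hφ, _, hφk⟩ := exists_frob hq hK'
  have hq1 : 1 ≤ p ^ f := hq.one_lt.le
  have hq2 : 2 ≤ p ^ f := hq.one_lt
  have hKc : Nat.card K = (p ^ f) ^ 3 := by rw [Nat.card_eq_fintype_card, hK']
  have e : twistedD4 K (p ^ f) = Subgroup.closure (cert12_D4.twGen gaD4a 3 φ srD4a) := by
    unfold twistedD4 ChevalleyDatum.genSubgroup
    rw [twGen_D4 (p ^ f) φ hφ]
  have hcard := card_twistedD4 hq hK'
  rw [e] at hcard ⊢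
  have W := twPack_D4 (p ^ f) hq1 hKc φ hφ hφk
  have hpdvd : p ∣ p ^ f := dvd_pow_self p (by omega)
  have hp2 : 2 ≤ p := hp.out.two_le
  have hcU : Nat.card (cert12_D4.tU gaD4a 3 φ srD4a) = (p ^ f) ^ 12 := by
    rw [cert12_D4.card_subgroupOf_G1 W]
    exact hcard.2
  have hUp : IsPGroup p (cert12_D4.tU gaD4a 3 φ srD4a) := by
    apply IsPGroup.of_card (n := f * 12)
    rw [hcU, ← pow_mul]
  have hidx : ¬ p ∣ (cert12_D4.tU gaD4a 3 φ srD4a).index := by
    have h1 := (cert12_D4.tU gaD4a 3 φ srD4a).index_mul_card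
    rw [hcU, hcard.1] at h1
    have hpos : 0 < (p ^ f) ^ 12 := by positivity
    have h2 : (cert12_D4.tU gaD4a 3 φ srD4a).index =
        ((p ^ f) ^ 2 - 1) * ((p ^ f) ^ 6 - 1) * ((p ^ f) ^ 8 + (p ^ f) ^ 4 + 1) := by
      apply Nat.eq_of_mul_eq_mul_right hpos
      rw [h1]
      ring
    rw [h2]
    intro hd
    rcases (Nat.Prime.dvd_mul hp.out).mp hd with hd | hd
    · rcases (Nat.Prime.dvd_mul hp.out).mp hd with hd | hd
      · exact not_dvd_pow_sub_one hp2 hpdvd hq1 2 (by norm_num) hd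
      · exact not_dvd_pow_sub_one hp2 hpdvd hq1 6 (by norm_num) hd
    · refine not_dvd_of_pm_one hp2 hpdvd _ ((p ^ f) ^ 7 + (p ^ f) ^ 3) (Or.inl ?_) hd
      ring
  have hfin : Finite ↥(cert12_D4.G1 gaD4a 3 φ srD4a) := inferInstance
  have hspl := tw_spl cert12_D4 W p hUp (td4_torus_coprime (p ^ f) hq1 hKc φ hφ hφk p hpdvd)
  have h0 : (0 : ℕ) ∈ srD4a := by decide
  have h1 : (1 : ℕ) ∈ srD4a := by decide
  set s0 := cert12_D4.ns gaD4a 3 φ srD4a 0 (cert12_D4.nS_mem_G1 W 0 h0) with hs0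
  set s1 := cert12_D4.ns gaD4a 3 φ srD4a 1 (cert12_D4.nS_mem_G1 W 1 h1) with hs1
  have hs0S : s0 ∈ (cert12_D4.tBN W).S := ⟨0, h0, rfl⟩
  have hs1S : s1 ∈ (cert12_D4.tBN W).S := ⟨1, h1, rfl⟩
  have hne : s0 ≠ s1 := by
    intro h
    have h' : cert12_D4.nS K gaD4a 3 0 = cert12_D4.nS K gaD4a 3 1 := congrArg Subtype.val h
    have p0 := cert12_D4.perm_nS (F := K) W.T W.T2 0 (by decide)
    have p1 := cert12_D4.perm_nS (F := K) W.T W.T2 1 (by decide)
    rw [h'] at p0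
    exact td4_piS_ne (cert12_D4.perm_unique _ _ _ p0 p1 (fdD4.simples.getD 0 0) (by decide))
  have hS : (cert12_D4.tBN W).S = {s0, s1} := by
    ext s
    constructor
    · intro hs
      obtain ⟨i, hi, hsi⟩ := (cert12_D4.tBN_S W s).mp hs
      have hi2 : i = 0 ∨ i = 1 := by simpa [srD4a] using hi
      rcases hi2 with rfl | rfl
      · exact Or.inl (Subtype.ext hsi)
      · exact Or.inr (Subtype.ext hsi)
    · rintro (rfl | rfl)
      · exact hs0S
      · exact hs1S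
  by_cases hp2' : p = 2
  · apply hspl.pminBad
    apply hspl.badAt_of_fixed s0 s1 hs0S hs1S hne
    intro θ hθ
    apply map_eq_of_forall_mem_iff
    intro x
    exact td4_par_iff (p ^ f) hq1 hKc φ hφ hφk p hUp hidx θ (forall_mem_iff_of_map_eq θ _ hθ) h0 x
  · exact hspl.pminBad (hspl.badAt_of_rank_two_odd s0 s1 hne hS hp2')

end D4

end Cfsg.Agent.Lib.H22.PM
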