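import Mathlib
import Cfsg.Agent.Lib.H29.OctAut4
import Cfsg.Agent.Lib.H29.OctF4e

/-!
# S2937, piece TF4 (pre-build): the two minimal parabolic subgroups of a large Ree group have different orders,
and the torus has odd order
-/

set_option autoImplicit false
set_option linter.unusedSectionVars false
set_option linter.unusedVariables false
set_option linter.unusedSimpArgs false

namespace Cfsg.Agent.Lib.H22.PM

open Cfsg.Agent.Lib.H2.BN Cfsg.Agent.Lib.H29.Chev

section Gen

variable {G : Type*} [Group G] (P : Cfsg.BNPair G)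

/-- counting lemma: if `B s B = X s B` for a panel `(B, V, X, s)` then `|P_s| = |B| (|X| + 1)` -/
theorem card_parabolic_of_panel [Finite G] {V X : Subgroup G} {s : G} (hs : s ∈ P.S) (hXB : X ≤ P.B)
    (h : Panel P.B V X s) (hdec : ∀ g ∈ C P s, ∃ x ∈ X, ∃ b ∈ P.B, g = x * s * b) :
    Nat.card ↥(P.parabolic {s}) = Nat.card ↥P.B * (Nat.card ↥X + 1) := by
  have hBpar : P.B ≤ P.parabolic {s} := le_sup_left
  have hspar : s ∈ P.parabolic {s} :=
    (le_sup_right : Subgroup.closure {s} ≤ P.parabolic {s}) (Subgroup.subset_closure rfl)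
  let f : Option ↥X × ↥P.B → ↥(P.parabolic {s}) := fun p =>
    match p.1 with
    | none => ⟨p.2.1, hBpar p.2.2⟩
    | some x => ⟨x.1 * s * p.2.1, mul_mem (mul_mem (hBpar (hXB x.2)) hspar) (hBpar p.2.2)⟩
  have hf : Function.Bijective f := by
    constructor
    · rintro ⟨o, b⟩ ⟨o', b'⟩ he
      have he' : (f (o, b)).1 = (f (o', b')).1 := congrArg Subtype.val he
      rcases o with _ | x <;> rcases o' with _ | x'
      · simp only [f] at he'
        have : b = b' := Subtype.ext he'
        rw [this]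
      · exfalso
        simp only [f] at he'
        apply S_not_mem_B (P := P) hs
        have e : s = (x'.1)⁻¹ * b.1 * (b'.1)⁻¹ := by rw [he']; group
        rw [e]
        exact mul_mem (mul_mem (inv_mem (hXB x'.2)) b.2) (inv_mem b'.2)
      · exfalso
        simp only [f] at he'
        apply S_not_mem_B (P := P) hs
        have e : s = (x.1)⁻¹ * b'.1 * (b.1)⁻¹ := by rw [← he']; group
        rw [e]
        exact mul_mem (mul_mem (inv_mem (hXB x.2)) b'.2) (inv_mem b.2)
      · simp only [f] at he'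
        have h1 : s⁻¹ * ((x'.1)⁻¹ * x.1) * s = b'.1 * (b.1)⁻¹ := by
          have : x.1 = x'.1 * s * b'.1 * (b.1)⁻¹ * s⁻¹ := by
            have : x.1 = (x.1 * s * b.1) * (b.1)⁻¹ * s⁻¹ := by group
            rw [this, he']
          rw [this]; group
        have h2 : s * ((x'.1)⁻¹ * x.1) * s⁻¹ ∈ P.B := by
          have e : s * ((x'.1)⁻¹ * x.1) * s⁻¹ = (s * s) * (s⁻¹ * ((x'.1)⁻¹ * x.1) * s) * (s * s)⁻¹ := by group
          rw [e, h1]
          exact mul_mem (mul_mem (S_sq hs) (mul_mem b'.2 (inv_mem b.2))) (inv_mem (S_sq hs))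
        have h3 : (x'.1)⁻¹ * x.1 = 1 := by
          by_contra hne
          exact h.conj_not_mem _ (mul_mem (inv_mem x'.2) x.2) hne h2
        have hx : x = x' := Subtype.ext (inv_mul_eq_one.mp h3).symm
        subst hx
        have hb : b = b' := Subtype.ext (mul_left_cancel he')
        rw [hb]
    · rintro ⟨g, hg⟩
      rcases parabolic_singleton_cases P hs g hg with hB | hC
      · exact ⟨(none, ⟨g, hB⟩), rfl⟩
      · obtain ⟨x, hx, b, hb, e⟩ := hdec g hC
        refine ⟨(some ⟨x, hx⟩, ⟨b, hb⟩), ?_⟩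
        apply Subtype.ext
        simp only [f]
        exact e.symm
  rw [← Nat.card_congr (Equiv.ofBijective f hf), Nat.card_prod, Finite.card_option, mul_comm]

end Gen

namespace OctSysCard

variable {G K : Type*} [Group G] [Field K] (R : OctSys G K)

theorem card_XA : Nat.card ↥R.XA = Nat.card K := by
  have hbij : Function.Bijective (fun t : K => (⟨R.xA t, R.xA_mem_XA t⟩ : ↥R.XA)) := by
    constructor
    · intro t t' h
      exact R.xA_inj (congrArg Subtype.val h)
    · rintro ⟨g, t, rfl⟩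
      exact ⟨t, rfl⟩
  rw [← Nat.card_congr (Equiv.ofBijective _ hbij)]

theorem card_XC : Nat.card ↥R.XC = Nat.card K * Nat.card K := by
  have hbij : Function.Bijective (fun p : K × K => (⟨R.xC p.1 p.2, R.xC_mem_XC p.1 p.2⟩ : ↥R.XC)) := by
    constructor
    · rintro ⟨t, u⟩ ⟨t', u'⟩ h
      obtain ⟨h1, h2⟩ := R.xC_inj _ _ _ _ (congrArg Subtype.val h)
      simp only at h1 h2
      rw [h1, h2]
    · rintro ⟨g, t, u, rfl⟩
      exact ⟨(t, u), rfl⟩
  rw [← Nat.card_congr (Equiv.ofBijective _ hbij), Nat.card_prod]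

theorem card_par1 [Finite G] [Finite K] :
    Nat.card ↥(R.P.parabolic {R.n1}) = Nat.card ↥R.P.B * (Nat.card K + 1) := by
  rw [card_parabolic_of_panel R.P R.n1_mem_S (R.XA_le_U.trans R.U_le_B) R.panelA R.C_n1_dec, card_XA]

theorem card_par2 [Finite G] [Finite K] :
    Nat.card ↥(R.P.parabolic {R.n2}) = Nat.card ↥R.P.B * (Nat.card K * Nat.card K + 1) := by
  rw [card_parabolic_of_panel R.P R.n2_mem_S (R.XC_le_U.trans R.U_le_B) R.panelC R.C_n2_dec, card_XC]

theorem card_par_ne [Finite G] [Finite K] :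
    Nat.card ↥(R.P.parabolic {R.n1}) ≠ Nat.card ↥(R.P.parabolic {R.n2}) := by
  rw [card_par1, card_par2]
  intro h
  have hB : 0 < Nat.card ↥R.P.B := Nat.card_pos
  have h1 := Nat.eq_of_mul_eq_mul_left hB h
  have hq : 2 ≤ Nat.card K := by
    have : Nontrivial K := inferInstance
    exact (Finite.one_lt_card_iff_nontrivial).mpr this
  nlinarith

/-- every element of the torus has odd order, as soon as `|K|` is even -/
theorem torus_coprime [Finite G] [Finite K] (hq : Even (Nat.card K)) (t : G) (ht : t ∈ R.P.B ⊓ R.P.N) :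
    (orderOf t).Coprime 2 := by
  have h1 : orderOf t ∣ Nat.card ↥(R.P.B ⊓ R.P.N) := Subgroup.orderOf_dvd_natCard _ ht
  rw [R.card_torus] at h1
  have hu : Nat.card Kˣ = Nat.card K - 1 := by
    have := Fintype.ofFinite K
    classical
    rw [Nat.card_eq_fintype_card, Nat.card_eq_fintype_card, Fintype.card_units]
  have hodd : Odd (Nat.card Kˣ) := by
    rw [hu]
    have hpos : 0 < Nat.card K := Nat.card_pos
    obtain ⟨k, hk⟩ := hq
    exact ⟨k - 1, by omega⟩
  have hodd2 : Odd (Nat.card Kˣ * Nat.card Kˣ) := hodd.mul hodd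
  have hodd3 : Odd (orderOf t) := Odd.of_dvd_nat hodd2 h1
  exact Nat.coprime_two_right.mpr hodd3

end OctSysCard

end Cfsg.Agent.Lib.H22.PM
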