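import Mathlib
import Cfsg.Agent.Lib.H22.PMTF4a

/-!
# S2937, piece TF4 (pre-build, part b): the specialisation to `octSysF4`
-/

set_option autoImplicit false
set_option linter.unusedSectionVars false
set_option linter.unusedVariables false
set_option linter.unusedSimpArgs false

namespace Cfsg.Agent.Lib.H22.PM

open Cfsg Cfsg.Lie Cfsg.Agent.Lib.H2.BN Cfsg.Agent.Lib.H29.Chev

section F4

variable {K : Type*} [Field K] [Fintype K] [CharP K 2]

theorem tf4_card_par_ne (m : ℕ) (hK : Fintype.card K = 2 ^ (2 * m + 1)) (hm : 1 ≤ m) :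
    Nat.card ↥((octSysF4 m hK hm).P.parabolic {(octSysF4 m hK hm).n1}) ≠
      Nat.card ↥((octSysF4 m hK hm).P.parabolic {(octSysF4 m hK hm).n2}) :=
  OctSysCard.card_par_ne (octSysF4 m hK hm)

theorem tf4_torus_coprime (m : ℕ) (hK : Fintype.card K = 2 ^ (2 * m + 1)) (hm : 1 ≤ m)
    (t : ↥(twistedF4 K (2 ^ m))) (ht : t ∈ (octSysF4 m hK hm).P.B ⊓ (octSysF4 m hK hm).P.N) :
    (orderOf t).Coprime 2 := by
  apply OctSysCard.torus_coprime (octSysF4 m hK hm) _ t ht
  rw [Nat.card_eq_fintype_card, hK, pow_succ]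
  exact even_two.mul_left _

end F4

end Cfsg.Agent.Lib.H22.PM
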