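import Mathlib
import Cfsg.Prelude.Def_LieTypeChar
import Cfsg.Prelude.Def_EvenType
import Cfsg.Prelude.Def_AlmostLie
import Cfsg.Prelude.Def_LocalEven
import Cfsg.Agent.Lib.H3.PMinBN
import Cfsg.Agent.Lib.H22.PMTF4b
import Cfsg.Agent.Lib.H22.OGTF4

/-!
# S2937, piece TF4: the large Ree groups `²F₄(2^(2m+1))`, `m ≥ 1`

The two minimal parabolic subgroups have orders `|B| (q + 1)` and `|B| (q² + 1)`.
-/

set_option autoImplicit false
set_option linter.unusedSectionVars false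
set_option linter.unusedVariables false
set_option linter.unusedSimpArgs false

namespace Cfsg.Agent.Lib.H22.PM

open Cfsg Cfsg.Lie Cfsg.Agent.Lib.H3.PMin Cfsg.Agent.Lib.H29.Chev Matrix

/-- the split data of the large Ree groups -/
theorem tf4_spl (K : Type*) [Field K] [Fintype K] [CharP K 2] (m : ℕ) (hm : 1 ≤ m)
    (hK : Fintype.card K = 2 ^ (2 * m + 1)) :
    Spl 2 (octSysF4 m hK hm).P ((octSysF4 m hK hm).P.B ⊓ (octSysF4 m hK hm).P.N) (octSysF4 m hK hm).U := by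
  set R := octSysF4 m hK hm with hR
  have hcU := card_octSysF4_U m hK hm
  have hUp : IsPGroup 2 ↥R.U := by
    apply IsPGroup.of_card (n := (2 * m + 1) * 12)
    rw [hcU, ← pow_mul]
  have hh_mem_B : ∀ p, R.hh p ∈ R.P.B := fun p => (R.mem_B _).mpr ⟨1, R.U.one_mem, p, (one_mul _).symm⟩
  refine ⟨inf_le_left, ?_, R.U_le_B, ?_, ?_, hUp, ?_⟩
  · -- `N` normalises `T`
    intro n hn t ht
    refine Subgroup.mem_inf.mpr ⟨?_, ?_⟩
    · have := R.P.conj_mem n⁻¹ (R.P.N.inv_mem hn) t ht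
      rwa [inv_inv] at this
    · exact R.P.N.mul_mem (R.P.N.mul_mem (R.P.N.inv_mem hn) (Subgroup.mem_inf.mp ht).2) hn
  · -- `B = T U`
    intro b hb
    obtain ⟨u, hu, p, rfl⟩ := (R.mem_B b).mp hb
    refine ⟨R.hh p, Subgroup.mem_inf.mpr ⟨hh_mem_B p, R.hh_mem_N p⟩, (R.hh p)⁻¹ * u * R.hh p,
      R.hh_conj_U' p u hu, by group⟩
  · -- `B` normalises `U`
    intro b hb u hu
    obtain ⟨u0, hu0, p, rfl⟩ := (R.mem_B b).mp hb
    have h1 : u0⁻¹ * u * u0 ∈ R.U := R.U.mul_mem (R.U.mul_mem (R.U.inv_mem hu0) hu) hu0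
    have h2 := R.hh_conj_U' p _ h1
    have e : (u0 * R.hh p)⁻¹ * u * (u0 * R.hh p) = (R.hh p)⁻¹ * (u0⁻¹ * u * u0) * R.hh p := by group
    rw [e]; exact h2
  · -- the torus has odd order
    intro t ht
    exact tf4_torus_coprime m hK hm t ht

/-- TF4 (p = 2): rank 2, the two minimal parabolic subgroups have different orders -/
theorem pm_2F4 (K : Type*) [Field K] [Fintype K] (m : ℕ) (hm : 1 ≤ m)
    (hK : Fintype.card K = 2 ^ (2 * m + 1)) : PMinBad 2 ↥(Lie.twistedF4 K (2 ^ m)) := by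
  have : Fact (Nat.Prime 2) := ⟨Nat.prime_two⟩
  have : CharP K 2 := charP_of_card_pow 2 (2 * m + 1) (by norm_num) hK
  have hspl := tf4_spl K m hm hK
  exact hspl.pminBad (hspl.badAt_of_card_ne (octSysF4 m hK hm).n1 (octSysF4 m hK hm).n2
    (octSysF4 m hK hm).n1_mem_S (octSysF4 m hK hm).n2_mem_S (tf4_card_par_ne m hK hm))

end Cfsg.Agent.Lib.H22.PM
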