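import Mathlib
import Cfsg.Prelude.Def_Blocks
import Cfsg.Prelude.Def_Local
import Cfsg.Prelude.Def_Solvable
import Cfsg.Prelude.Def_Characters
import Cfsg.Agent.Lib.H16.PQ2MINN
import Cfsg.Agent.Lib.H4.PQ2IDX
import Cfsg.Agent.Lib.H16.PQ2SYLQ
import Cfsg.Agent.Lib.H15.PQ2COMM
import Cfsg.Agent.Lib.H4.PQ2SUBN
import Cfsg.Agent.Lib.H4.PQ2QUOT
import Cfsg.Agent.Lib.H2.PQ2FIXLAM
import Cfsg.Agent.Lib.H2.PQ2FINALN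
import Cfsg.Agent.Lib.H8.PQ2SEP
import Cfsg.Agent.Lib.H20.PQ2SL
import Cfsg.Agent.Lib.H18.PQ2SPLIT
import Cfsg.Agent.Lib.H18.PQ2LAM
import Cfsg.Agent.Lib.H1.PQ2PINV
-- PIECE IMPORTS

/-!
# S4886 (=>): the pieces used by CORE and MAIN, restated from the landed piece files (helper22)

Each statement is the exact signature of `tools/blueprints/S4886_sigs.lean`, closed by the landed
piece.
-/

set_option autoImplicit false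

universe u

namespace Cfsg.Agent.Lib.H22.PQ2P

open Cfsg

/-- piece `exists_commuting_sylows` -/
theorem exists_commuting_sylows {G : Type*} [Group G] [Finite G] (p q : ℕ) [Fact p.Prime]
    [Fact q.Prime] (hpq : p ≠ q) (h1 : ¬ q ∣ (pPrimeCore p G).index)
    (h2 : ¬ p ∣ (pPrimeCore q G).index) :
    ∃ (P : Sylow p G) (Q : Sylow q G),
      ∀ x ∈ (P : Subgroup G), ∀ y ∈ (Q : Subgroup G), x * y = y * x :=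
  Cfsg.Agent.Lib.H15.PQ2.exists_commuting_sylows p q hpq h1 h2

/-- piece `index_pPrimeCore_quotient` -/
theorem index_pPrimeCore_quotient {G : Type*} [Group G] [Finite G] (p : ℕ) [Fact p.Prime]
    (N : Subgroup G) [N.Normal] (hN : (Nat.card N).Coprime p) :
    (pPrimeCore p (G ⧸ N)).index = (pPrimeCore p G).index :=
  Cfsg.Agent.Lib.H4.PQ2.index_pPrimeCore_quotient p N hN

/-- piece `cross_quotient` -/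
theorem cross_quotient {G : Type*} [Group G] [Finite G] (p q : ℕ) [Fact p.Prime]
    (N : Subgroup G) [N.Normal]
    (h : ∀ χ : IrrCharacter G, (∀ a ∈ pPrimeCore p G, (χ : G → ℂ) a = (χ : G → ℂ) 1) →
      ¬ p ∣ charDegree (χ : G → ℂ) → ¬ q ∣ charDegree (χ : G → ℂ))
    (ψ : IrrCharacter (G ⧸ N))
    (hψ : ∀ a ∈ pPrimeCore p (G ⧸ N), (ψ : G ⧸ N → ℂ) a = (ψ : G ⧸ N → ℂ) 1)
    (hp : ¬ p ∣ charDegree (ψ : G ⧸ N → ℂ)) : ¬ q ∣ charDegree (ψ : G ⧸ N → ℂ) :=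
  Cfsg.Agent.Lib.H4.PQ2.cross_quotient p q N h ψ hψ hp

/-- piece `pPrimeCore_eq_bot_of_cores` -/
theorem pPrimeCore_eq_bot_of_cores {G : Type*} [Group G] [Finite G] (p q : ℕ) [Fact p.Prime]
    [Fact q.Prime] (hqs : IsPSolvable q G) (hq : pCore q G = ⊥)
    (hD : pPrimeCore p G ⊓ pPrimeCore q G = ⊥) : pPrimeCore p G = ⊥ :=
  Cfsg.Agent.Lib.H4.PQ2.pPrimeCore_eq_bot_of_cores p q hqs hq hD

/-- piece `exists_minimal_normal_le` -/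
theorem exists_minimal_normal_le {G : Type*} [Group G] [Finite G] (K : Subgroup G) [K.Normal]
    (hK : K ≠ ⊥) :
    ∃ N : Subgroup G, N.Normal ∧ N ≠ ⊥ ∧ N ≤ K ∧
      ∀ M : Subgroup G, M.Normal → M ≤ N → M = ⊥ ∨ M = N :=
  Cfsg.Agent.Lib.H16.PQ2.exists_minimal_normal_le K hK

/-- piece `comm_of_minimal_normal_pGroup` -/
theorem comm_of_minimal_normal_pGroup {G : Type*} [Group G] [Finite G] (p : ℕ) [Fact p.Prime]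
    (N : Subgroup G) [N.Normal] (hNp : IsPGroup p N)
    (hNmin : ∀ M : Subgroup G, M.Normal → M ≤ N → M = ⊥ ∨ M = N) :
    ∀ a ∈ N, ∀ b ∈ N, a * b = b * a :=
  Cfsg.Agent.Lib.H16.PQ2.comm_of_minimal_normal_pGroup p N hNp hNmin

/-- piece `split_or_done` -/
theorem split_or_done {G : Type*} [Group G] [Finite G] (p q : ℕ) [Fact p.Prime] [Fact q.Prime]
    (hpq : p ≠ q) (hA : pPrimeCore p G = ⊥) (N : Subgroup G) [N.Normal] (hNp : IsPGroup p N)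
    (hNab : ∀ a ∈ N, ∀ b ∈ N, a * b = b * a)
    (hNmin : ∀ M : Subgroup G, M.Normal → M ≤ N → M = ⊥ ∨ M = N)
    (hquot : ¬ q ∣ (pPrimeCore p (G ⧸ N)).index) :
    ¬ q ∣ Nat.card G ∨ ∃ H Y : Subgroup G, N ⊓ H = ⊥ ∧ N ⊔ H = ⊤ ∧ Y ≤ H ∧
      (∀ h ∈ H, ∀ y ∈ Y, h * y * h⁻¹ ∈ Y) ∧ (Nat.card Y).Coprime p ∧ ¬ q ∣ Y.relIndex H ∧
      Y ⊓ Subgroup.centralizer (N : Set G) = ⊥ :=
  Cfsg.Agent.Lib.H18.PQ2.split_or_done p q hpq hA N hNp hNab hNmin hquot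

/-- piece `not_dvd_degree_of_invariant` -/
theorem not_dvd_degree_of_invariant {G : Type*} [Group G] [Finite G] (p q : ℕ) [Fact p.Prime]
    [Fact q.Prime] (N H Y P₀ : Subgroup G) [N.Normal] (hNH : N ⊓ H = ⊥) (hNH' : N ⊔ H = ⊤)
    (hYH : Y ≤ H) (hYn : ∀ h ∈ H, ∀ y ∈ Y, h * y * h⁻¹ ∈ Y) (hYp : (Nat.card Y).Coprime p)
    (hP₀H : P₀ ≤ H) (hP₀ : IsPGroup p P₀) (hP₀syl : ¬ p ∣ P₀.relIndex H)
    (hyp : ∀ χ : IrrCharacter G, ¬ p ∣ charDegree (χ : G → ℂ) → ¬ q ∣ charDegree (χ : G → ℂ))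
    (θ : IrrCharacter Y)
    (hθ : ∀ s ∈ P₀, ∀ g g' : Y, (g' : G) = s * g * s⁻¹ → (θ : Y → ℂ) g' = (θ : Y → ℂ) g) :
    ¬ q ∣ charDegree (θ : Y → ℂ) :=
  Cfsg.Agent.Lib.H1.PQ2.not_dvd_degree_of_invariant p q N H Y P₀ hNH hNH' hYH hYn hYp hP₀H hP₀ hP₀syl hyp θ hθ

/-- piece `not_dvd_relIndex_stabilizer` -/
theorem not_dvd_relIndex_stabilizer {G : Type*} [Group G] [Finite G] (p q : ℕ) [Fact p.Prime]
    [Fact q.Prime] (N H Y P₀ I : Subgroup G) [N.Normal] (hNH : N ⊓ H = ⊥) (hNH' : N ⊔ H = ⊤)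
    (hNab : ∀ a ∈ N, ∀ b ∈ N, a * b = b * a)
    (hYH : Y ≤ H) (hYn : ∀ h ∈ H, ∀ y ∈ Y, h * y * h⁻¹ ∈ Y)
    (hP₀H : P₀ ≤ H) (hP₀ : IsPGroup p P₀) (hP₀syl : ¬ p ∣ P₀.relIndex H)
    (hyp : ∀ χ : IrrCharacter G, ¬ p ∣ charDegree (χ : G → ℂ) → ¬ q ∣ charDegree (χ : G → ℂ))
    (lam : IrrCharacter N)
    (hlam : ∀ s ∈ P₀, ∀ g g' : N, (g' : G) = s * g * s⁻¹ → (lam : N → ℂ) g' = (lam : N → ℂ) g)
    (hI : ∀ x : G, x ∈ I ↔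
      ∀ g g' : N, (g' : G) = x * g * x⁻¹ → (lam : N → ℂ) g' = (lam : N → ℂ) g) :
    ¬ q ∣ (I ⊓ Y).relIndex Y :=
  Cfsg.Agent.Lib.H18.PQ2.not_dvd_relIndex_stabilizer p q N H Y P₀ I hNH hNH' hNab hYH hYn hP₀H hP₀ hP₀syl hyp lam hlam hI

/-- piece `exists_centralized_sylow` -/
theorem exists_centralized_sylow {G : Type*} [Group G] [Finite G] (p q : ℕ) [Fact p.Prime]
    [Fact q.Prime] (Y P₀ B : Subgroup G) [B.Normal] (hB : (Nat.card B).Coprime q)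
    (hP₀B : P₀ ≤ B) (hP₀ : IsPGroup p P₀) (hYp : (Nat.card Y).Coprime p)
    (hnorm : ∀ s ∈ P₀, ∀ y ∈ Y, s * y * s⁻¹ ∈ Y) :
    ∃ Q₀ : Subgroup G, Q₀ ≤ Y ∧ IsPGroup q Q₀ ∧ ¬ q ∣ Q₀.relIndex Y ∧
      ∀ x ∈ Q₀, ∀ s ∈ P₀, x * s = s * x :=
  Cfsg.Agent.Lib.H16.PQ2.exists_centralized_sylow p q Y P₀ B hB hP₀B hP₀ hYp hnorm

/-- piece `sylow_le_of_normal_in_fixed` -/
theorem sylow_le_of_normal_in_fixed {G : Type*} [Group G] [Finite G] (p q : ℕ) [Fact p.Prime]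
    [Fact q.Prime] (Y P₀ Q₀ I : Subgroup G) (hP₀ : IsPGroup p P₀)
    (hYp : (Nat.card Y).Coprime p) (hnorm : ∀ s ∈ P₀, ∀ y ∈ Y, s * y * s⁻¹ ∈ Y)
    (hQ₀Y : Q₀ ≤ Y) (hQ₀ : IsPGroup q Q₀) (hQ₀syl : ¬ q ∣ Q₀.relIndex Y)
    (hcent : ∀ x ∈ Q₀, ∀ s ∈ P₀, x * s = s * x)
    (hQn : ∀ c ∈ Y ⊓ Subgroup.centralizer (P₀ : Set G), ∀ x ∈ Q₀, c * x * c⁻¹ ∈ Q₀)
    (hP₀I : P₀ ≤ I) (hI : ¬ q ∣ (I ⊓ Y).relIndex Y) : Q₀ ≤ I :=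
  Cfsg.Agent.Lib.H2.PQ2.sylow_le_of_normal_in_fixed p q Y P₀ Q₀ I hP₀ hYp hnorm hQ₀Y hQ₀ hQ₀syl hcent hQn hP₀I hI

/-- piece `commutator_mem_of_fixes_invariant` -/
theorem commutator_mem_of_fixes_invariant {G : Type*} [Group G] [Finite G] (N P₀ : Subgroup G)
    [N.Normal] (hNab : ∀ a ∈ N, ∀ b ∈ N, a * b = b * a) (x : G)
    (hx : ∀ lam : IrrCharacter N,
      (∀ s ∈ P₀, ∀ g g' : N, (g' : G) = s * g * s⁻¹ → (lam : N → ℂ) g' = (lam : N → ℂ) g) →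
      ∀ g g' : N, (g' : G) = x * g * x⁻¹ → (lam : N → ℂ) g' = (lam : N → ℂ) g) :
    ∀ n ∈ N, x * n * x⁻¹ * n⁻¹ ∈
      Subgroup.closure {c : G | ∃ s ∈ P₀, ∃ m ∈ N, c = s * m * s⁻¹ * m⁻¹} :=
  Cfsg.Agent.Lib.H8.PQ2.commutator_mem_of_fixes_invariant N P₀ hNab x hx

/-- piece `centralizes_of_commutator_le` -/
theorem centralizes_of_commutator_le {G : Type*} [Group G] [Finite G] (p q : ℕ) [Fact p.Prime]
    [Fact q.Prime] (hpq : p ≠ q) (N P₀ Q₀ : Subgroup G) [N.Normal] (hNp : IsPGroup p N)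
    (hNab : ∀ a ∈ N, ∀ b ∈ N, a * b = b * a) (hP₀ : IsPGroup p P₀) (hQ₀ : IsPGroup q Q₀)
    (hcomm : ∀ x ∈ Q₀, ∀ s ∈ P₀, x * s = s * x)
    (h : ∀ x ∈ Q₀, ∀ n ∈ N, x * n * x⁻¹ * n⁻¹ ∈
      Subgroup.closure {c : G | ∃ s ∈ P₀, ∃ m ∈ N, c = s * m * s⁻¹ * m⁻¹}) :
    ∀ x ∈ Q₀, ∀ n ∈ N, x * n = n * x :=
  Cfsg.Agent.Lib.H2.PQ2.centralizes_of_commutator_le p q hpq N P₀ Q₀ hNp hNab hP₀ hQ₀ hcomm h

/-- piece `sylow_normal_in_fixed` -/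
theorem sylow_normal_in_fixed {Γ : Type u} [Group Γ] [Finite Γ] (p q : ℕ)
    [Fact p.Prime] [Fact q.Prime] (hpq : p ≠ q) (Y S Q : Subgroup Γ)
    (hnorm : ∀ s ∈ S, ∀ y ∈ Y, s * y * s⁻¹ ∈ Y)
    (hS : IsPGroup p S) (hYp : (Nat.card Y).Coprime p) (hYq : IsPSolvable q Y) (hQY : Q ≤ Y)
    (hQ : IsPGroup q Q) (hQsyl : ¬ q ∣ Q.relIndex Y) (hQS : ∀ x ∈ Q, ∀ s ∈ S, x * s = s * x)
    (hdeg : ∀ θ : IrrCharacter Y,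
      (∀ s ∈ S, ∀ g g' : Y, (g' : Γ) = s * g * s⁻¹ → (θ : Y → ℂ) g' = (θ : Y → ℂ) g) →
      ¬ q ∣ charDegree (θ : Y → ℂ)) :
    ∀ c ∈ Y ⊓ Subgroup.centralizer (S : Set Γ), ∀ x ∈ Q, c * x * c⁻¹ ∈ Q :=
  Cfsg.Agent.Lib.H20.PQ2.sylow_normal_in_fixed p q hpq Y S Q hnorm hS hYp hYq hQY hQ hQsyl hQS hdeg

end Cfsg.Agent.Lib.H22.PQ2P
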