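import Mathlib
import Cfsg.Prelude.Def_Blocks
import Cfsg.Prelude.Def_Local
import Cfsg.Prelude.Def_Solvable
import Cfsg.Prelude.Def_Characters
import Cfsg.Agent.Lib.H22.PPrimeCore
import Cfsg.Agent.Lib.H4.PSolvSub
import Cfsg.Agent.Lib.H22.PQ2Pieces

/-!
# S4886 (=>): the core configuration (helper22)

`core`: `G` `q`-solvable, `O_{p'}(G) = 1`, `N` a minimal normal `p`-subgroup with
`q ∤ |G/N : O_{p'}(G/N)|`, `p ∤ |G : O_{q'}(G)|`, every `p'`-degree irreducible character of `G`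
of `q'`-degree.  Then `q ∤ |G|`.
-/

set_option autoImplicit false

universe u

namespace Cfsg.Agent.Lib.H22.PQ2

open Cfsg

/-- The stabilizer in `G` of a function on the normal subgroup `N`. -/
def stabChar {G : Type*} [Group G] (N : Subgroup G) [hN : N.Normal] (f : N → ℂ) : Subgroup G where
  carrier := {x | ∀ g g' : N, (g' : G) = x * g * x⁻¹ → f g' = f g}
  one_mem' := by
    intro g g' h
    have : g' = g := Subtype.ext (by simpa using h)
    rw [this]
  mul_mem' := by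
    intro a b ha hb g g' h
    have h1 := hb g ⟨b * g * b⁻¹, hN.conj_mem g g.2 b⟩ rfl
    have h2 := ha ⟨b * g * b⁻¹, hN.conj_mem g g.2 b⟩ g' (by
      rw [h]; simp only [mul_inv_rev]; group)
    rw [h2, h1]
  inv_mem' := by
    intro a ha g g' h
    have h1 := ha g' g (by rw [h]; group)
    exact h1.symm

theorem mem_stabChar {G : Type*} [Group G] (N : Subgroup G) [N.Normal] (f : N → ℂ) (x : G) :
    x ∈ stabChar N f ↔ ∀ g g' : N, (g' : G) = x * g * x⁻¹ → f g' = f g := Iff.rfl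

/-- A `p`-subgroup lies in every normal subgroup of index prime to `p`. -/
theorem le_of_isPGroup_of_not_dvd_index {G : Type*} [Group G] [Finite G] {p : ℕ} [Fact p.Prime]
    (P B : Subgroup G) [B.Normal] (hP : IsPGroup p P) (h : ¬ p ∣ B.index) : P ≤ B := by
  intro x hx
  have hp : p.Prime := Fact.out
  obtain ⟨k, hk⟩ := hP ⟨x, hx⟩
  have hk' : x ^ p ^ k = 1 := by
    have := congrArg Subtype.val hk
    simpa using this
  set y : G ⧸ B := QuotientGroup.mk' B x with hy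
  have h1 : y ^ p ^ k = 1 := by
    rw [hy, ← map_pow, hk', map_one]
  have h2 : y ^ Nat.card (G ⧸ B) = 1 := pow_card_eq_one'
  have hcop : (p ^ k).Coprime (Nat.card (G ⧸ B)) := by
    apply Nat.Coprime.pow_left
    rw [← Subgroup.index_eq_card]
    exact (Nat.Prime.coprime_iff_not_dvd hp).2 h
  have h3 : y = 1 := by
    have h4 := orderOf_dvd_of_pow_eq_one h1
    have h5 := orderOf_dvd_of_pow_eq_one h2
    have h6 : orderOf y = 1 := Nat.eq_one_of_dvd_coprimes hcop h4 h5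
    exact orderOf_eq_one_iff.1 h6
  exact (QuotientGroup.eq_one_iff x).1 h3

/-- The core configuration of S4886 (=>). -/
theorem core {G : Type u} [Group G] [Finite G] (p q : ℕ) [Fact p.Prime] [Fact q.Prime]
    (hpq : p ≠ q) (hqs : IsPSolvable q G) (hA : pPrimeCore p G = ⊥) (N : Subgroup G) [N.Normal]
    (hNp : IsPGroup p N) (hNmin : ∀ M : Subgroup G, M.Normal → M ≤ N → M = ⊥ ∨ M = N)
    (hquot : ¬ q ∣ (pPrimeCore p (G ⧸ N)).index) (hC2 : ¬ p ∣ (pPrimeCore q G).index)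
    (hyp : ∀ χ : IrrCharacter G, ¬ p ∣ charDegree (χ : G → ℂ) → ¬ q ∣ charDegree (χ : G → ℂ)) :
    ¬ q ∣ Nat.card G := by
  classical
  have hp : p.Prime := Fact.out
  have hq : q.Prime := Fact.out
  have hNab := PQ2P.comm_of_minimal_normal_pGroup p N hNp hNmin
  rcases PQ2P.split_or_done p q hpq hA N hNp hNab hNmin hquot with hdone |
    ⟨H, Y, hNH, hNH', hYH, hYn, hYp, hYidx, hYC⟩
  · exact hdone
  -- a Sylow `p`-subgroup of `H`
  obtain ⟨P₀'⟩ : Nonempty (Sylow p H) := inferInstance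
  set P₀ : Subgroup G := (P₀' : Subgroup H).map H.subtype with hP₀def
  have hP₀H : P₀ ≤ H := Subgroup.map_subtype_le _
  have hP₀ : IsPGroup p P₀ := P₀'.isPGroup'.map _
  have hP₀syl : ¬ p ∣ P₀.relIndex H := by
    have : P₀.subgroupOf H = (P₀' : Subgroup H) := by
      rw [hP₀def, Subgroup.subgroupOf, Subgroup.comap_map_eq_self_of_injective
        (Subgroup.subtype_injective H)]
    rw [Subgroup.relIndex, this]
    exact P₀'.not_dvd_index
  -- `P₀ ≤ B := O_{q'}(G)`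
  have hBn : (pPrimeCore q G).Normal := Cfsg.Agent.Lib.H22.pPrimeCore_normal q
  have hBq : (Nat.card (pPrimeCore q G)).Coprime q := Cfsg.Agent.Lib.H22.card_pPrimeCore_coprime q
  have hP₀B : P₀ ≤ pPrimeCore q G := le_of_isPGroup_of_not_dvd_index P₀ _ hP₀ hC2
  have hnorm : ∀ s ∈ P₀, ∀ y ∈ Y, s * y * s⁻¹ ∈ Y := fun s hs y hy => hYn s (hP₀H hs) y hy
  obtain ⟨Q₀, hQ₀Y, hQ₀, hQ₀syl, hcent⟩ :=
    PQ2P.exists_centralized_sylow p q Y P₀ (pPrimeCore q G) hBq hP₀B hP₀ hYp hnorm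
  -- invariant characters of `Y` have `q'`-degree
  have hdeg : ∀ θ : IrrCharacter Y,
      (∀ s ∈ P₀, ∀ g g' : Y, (g' : G) = s * g * s⁻¹ → (θ : Y → ℂ) g' = (θ : Y → ℂ) g) →
      ¬ q ∣ charDegree (θ : Y → ℂ) := fun θ hθ =>
    PQ2P.not_dvd_degree_of_invariant p q N H Y P₀ hNH hNH' hYH hYn hYp hP₀H hP₀ hP₀syl hyp θ hθ
  have hYq : IsPSolvable q Y := Cfsg.Agent.Lib.H4.PSolvSub.isPSolvable_subgroup hqs Y
  -- (SL)
  have hQn := PQ2P.sylow_normal_in_fixed p q hpq Y P₀ Q₀ hnorm hP₀ hYp hYq hQ₀Y hQ₀ hQ₀syl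
    hcent hdeg
  -- `Q₀` fixes every `P₀`-invariant character of `N`
  have hfix : ∀ x ∈ Q₀, ∀ lam : IrrCharacter N,
      (∀ s ∈ P₀, ∀ g g' : N, (g' : G) = s * g * s⁻¹ → (lam : N → ℂ) g' = (lam : N → ℂ) g) →
      ∀ g g' : N, (g' : G) = x * g * x⁻¹ → (lam : N → ℂ) g' = (lam : N → ℂ) g := by
    intro x hx lam hlam
    have hI := PQ2P.not_dvd_relIndex_stabilizer p q N H Y P₀ (stabChar N (lam : N → ℂ)) hNH hNH'
      hNab hYH hYn hP₀H hP₀ hP₀syl hyp lam hlam (fun x => mem_stabChar N _ x)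
    have hP₀I : P₀ ≤ stabChar N (lam : N → ℂ) := fun s hs => hlam s hs
    have := PQ2P.sylow_le_of_normal_in_fixed p q Y P₀ Q₀ (stabChar N (lam : N → ℂ)) hP₀ hYp hnorm
      hQ₀Y hQ₀ hQ₀syl hcent hQn hP₀I hI
    exact this hx
  -- `Q₀` centralizes `N`
  have hcomm := PQ2P.centralizes_of_commutator_le p q hpq N P₀ Q₀ hNp hNab hP₀ hQ₀ hcent
    (fun x hx => PQ2P.commutator_mem_of_fixes_invariant N P₀ hNab x (hfix x hx))
  have hQ₀bot : Q₀ = ⊥ := by
    rw [eq_bot_iff, ← hYC]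
    intro x hx
    refine Subgroup.mem_inf.2 ⟨hQ₀Y hx, ?_⟩
    rw [Subgroup.mem_centralizer_iff]
    intro n hn
    exact (hcomm x hx n hn).symm
  -- counting
  have hqY : ¬ q ∣ Nat.card Y := by
    rw [hQ₀bot, Subgroup.relIndex_bot_left] at hQ₀syl
    exact hQ₀syl
  have hqH : ¬ q ∣ Nat.card H := by
    have h1 : Nat.card (Y.subgroupOf H) = Nat.card Y :=
      Nat.card_congr (Subgroup.subgroupOfEquivOfLe hYH).toEquiv
    have h2 : (Y.subgroupOf H).index * Nat.card (Y.subgroupOf H) = Nat.card H :=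
      Subgroup.index_mul_card _
    rw [← h2, h1]
    intro hd
    rcases (Nat.Prime.dvd_mul hq).1 hd with h | h
    · exact hYidx h
    · exact hqY h
  have hcompl : Subgroup.IsComplement' N H := by
    apply Subgroup.isComplement'_of_disjoint_and_mul_eq_univ (disjoint_iff.2 hNH)
    rw [← Subgroup.normal_mul, hNH', Subgroup.coe_top]
  have hcard : Nat.card N * Nat.card H = Nat.card G := hcompl.card_mul_card
  rw [← hcard]
  intro hd
  rcases (Nat.Prime.dvd_mul hq).1 hd with h | h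
  · obtain ⟨k, hk⟩ := IsPGroup.iff_card.1 hNp
    rw [hk] at h
    have := (Nat.prime_dvd_prime_iff_eq hq hp).1 (hq.dvd_of_dvd_pow h)
    exact hpq this.symm
  · exact hqH h

end Cfsg.Agent.Lib.H22.PQ2
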