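import Cfsg.Agent.Lib.H22.PQ2CORE
import Cfsg.Agent.Lib.H10.PSolvable2
import Cfsg.Agent.Lib.H27.Basic

/-!
# S4886 (=>): the induction (helper22)

`exists_commuting_sylows_of_cross`: if `G` is `p`- and `q`-solvable and every `p'`-degree
`χ ∈ Irr(G / O_{p'}(G))` has `q'`-degree and symmetrically, then some Sylow `p`-subgroup commutes
elementwise with some Sylow `q`-subgroup.
-/

set_option autoImplicit false

universe u

namespace Cfsg.Agent.Lib.H22.PQ2

open Cfsg

/-- The cross hypothesis in kernel form. -/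
def Cross (p q : ℕ) (G : Type*) [Group G] : Prop :=
  ∀ χ : IrrCharacter G, (∀ a ∈ pPrimeCore p G, (χ : G → ℂ) a = (χ : G → ℂ) 1) →
    ¬ p ∣ charDegree (χ : G → ℂ) → ¬ q ∣ charDegree (χ : G → ℂ)

theorem coprime_card_of_isPGroup {G : Type*} [Group G] [Finite G] {p q : ℕ} [Fact p.Prime]
    [Fact q.Prime] (hpq : p ≠ q) (K : Subgroup G) (hK : IsPGroup p K) :
    (Nat.card K).Coprime q := by
  obtain ⟨k, hk⟩ := IsPGroup.iff_card.1 hK
  rw [hk]
  exact Nat.Coprime.pow_left _ ((Nat.coprime_primes Fact.out Fact.out).2 hpq)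

/-- The case `O_q(G) = 1`, `O_{p'}(G) ∩ O_{q'}(G) = 1` of the induction step. -/
theorem step_of_pCore_eq_bot {G : Type u} [Group G] [Finite G] [Nontrivial G] (p q : ℕ)
    [Fact p.Prime] [Fact q.Prime] (hpq : p ≠ q) (hps : IsPSolvable p G) (hqs : IsPSolvable q G)
    (H1 : Cross p q G) (hD : pPrimeCore p G ⊓ pPrimeCore q G = ⊥) (hOq : pCore q G = ⊥)
    (hquot : ∀ (K : Subgroup G) [K.Normal], K ≠ ⊥ →
      ¬ q ∣ (pPrimeCore p (G ⧸ K)).index ∧ ¬ p ∣ (pPrimeCore q (G ⧸ K)).index) :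
    ¬ q ∣ (pPrimeCore p G).index ∧ ¬ p ∣ (pPrimeCore q G).index := by
  have hA : pPrimeCore p G = ⊥ := PQ2P.pPrimeCore_eq_bot_of_cores p q hqs hOq hD
  have hOp : pCore p G ≠ ⊥ := by
    obtain ⟨M, hMn, hM1, hM⟩ := Cfsg.Agent.Lib.H10.exists_normal_of_isPSolvable hps
    rcases hM with hM | hM
    · intro h
      apply hM1
      rw [eq_bot_iff, ← h]
      exact Cfsg.Agent.Lib.H27.le_pCore M hMn hM
    · exfalso
      apply hM1
      rw [eq_bot_iff, ← hA]
      exact Cfsg.Agent.Lib.H22.le_pPrimeCore p M hMn hM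
  have hOpn : (pCore p G).Normal := Cfsg.Agent.Lib.H27.pCore_normal'
  have hC2 : ¬ p ∣ (pPrimeCore q G).index := by
    have h1 := (hquot (pCore p G) hOp).2
    rwa [PQ2P.index_pPrimeCore_quotient q (pCore p G)
      (coprime_card_of_isPGroup hpq _ Cfsg.Agent.Lib.H27.pCore_isPGroup)] at h1
  obtain ⟨N, hNn, hNne, hNle, hNmin⟩ := PQ2P.exists_minimal_normal_le (pCore p G) hOp
  have hNp : IsPGroup p N := Cfsg.Agent.Lib.H27.pCore_isPGroup.to_le hNle
  have hq1 := (hquot N hNne).1
  have hyp : ∀ χ : IrrCharacter G, ¬ p ∣ charDegree (χ : G → ℂ) →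
      ¬ q ∣ charDegree (χ : G → ℂ) := fun χ => H1 χ (by
    intro a ha
    rw [hA] at ha
    rw [Subgroup.mem_bot.1 ha])
  have hcore := core p q hpq hqs hA N hNp hNmin hq1 hC2 hyp
  exact ⟨fun h => hcore (h.trans (Subgroup.index_dvd_card _)), hC2⟩

/-- The induction. -/
theorem main_aux : ∀ (n : ℕ) (G : Type u) [Group G] [Finite G], Nat.card G = n →
    ∀ (p q : ℕ) [Fact p.Prime] [Fact q.Prime], p ≠ q → IsPSolvable p G → IsPSolvable q G →
    Cross p q G → Cross q p G →
    ¬ q ∣ (pPrimeCore p G).index ∧ ¬ p ∣ (pPrimeCore q G).index := by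
  intro n
  induction n using Nat.strong_induction_on with
  | _ n ih =>
    intro G _ _ hn p q _ _ hpq hps hqs H1 H2
    classical
    have hp : p.Prime := Fact.out
    have hq : q.Prime := Fact.out
    by_cases hnt : Nontrivial G
    swap
    · rw [not_nontrivial_iff_subsingleton] at hnt
      have h1 : ∀ K : Subgroup G, K.index = 1 := fun K => by
        rw [Subgroup.index_eq_one, eq_top_iff]
        intro x _
        rw [Subsingleton.elim x 1]
        exact K.one_mem
      rw [h1, h1]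
      exact ⟨hq.one_lt.ne' ∘ Nat.dvd_one.1, hp.one_lt.ne' ∘ Nat.dvd_one.1⟩
    -- the induction hypothesis for proper quotients
    have hquot : ∀ (K : Subgroup G) [K.Normal], K ≠ ⊥ →
        ¬ q ∣ (pPrimeCore p (G ⧸ K)).index ∧ ¬ p ∣ (pPrimeCore q (G ⧸ K)).index := by
      intro K _ hK
      have hlt : Nat.card (G ⧸ K) < n := by
        rw [← hn, ← Subgroup.index_eq_card, ← Subgroup.index_mul_card K]
        have h1 : 1 < Nat.card K := (Subgroup.one_lt_card_iff_ne_bot K).2 hK
        have h2 : 0 < K.index := Nat.pos_of_ne_zero Subgroup.index_ne_zero_of_finite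
        nlinarith
      exact ih _ hlt (G ⧸ K) rfl p q hpq
        (Cfsg.Agent.Lib.H10.isPSolvable_quotient hps K)
        (Cfsg.Agent.Lib.H10.isPSolvable_quotient hqs K)
        (fun ψ => PQ2P.cross_quotient p q K H1 ψ)
        (fun ψ => PQ2P.cross_quotient q p K H2 ψ)
    have hAn : (pPrimeCore p G).Normal := Cfsg.Agent.Lib.H22.pPrimeCore_normal p
    have hBn : (pPrimeCore q G).Normal := Cfsg.Agent.Lib.H22.pPrimeCore_normal q
    by_cases hD : pPrimeCore p G ⊓ pPrimeCore q G = ⊥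
    · by_cases hOq : pCore q G = ⊥
      · exact step_of_pCore_eq_bot p q hpq hps hqs H1 hD hOq hquot
      · by_cases hOp : pCore p G = ⊥
        · have := step_of_pCore_eq_bot q p (Ne.symm hpq) hqs hps H2 (by rwa [inf_comm]) hOp
            (fun K _ hK => (hquot K hK).symm)
          exact this.symm
        · have hOpn : (pCore p G).Normal := Cfsg.Agent.Lib.H27.pCore_normal'
          have hOqn : (pCore q G).Normal := Cfsg.Agent.Lib.H27.pCore_normal'
          constructor
          · have h1 := (hquot (pCore q G) hOq).1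
            rwa [PQ2P.index_pPrimeCore_quotient p (pCore q G)
              (coprime_card_of_isPGroup (Ne.symm hpq) _ Cfsg.Agent.Lib.H27.pCore_isPGroup)] at h1
          · have h1 := (hquot (pCore p G) hOp).2
            rwa [PQ2P.index_pPrimeCore_quotient q (pCore p G)
              (coprime_card_of_isPGroup hpq _ Cfsg.Agent.Lib.H27.pCore_isPGroup)] at h1
    · have hDn : (pPrimeCore p G ⊓ pPrimeCore q G).Normal := inferInstance
      have hDp : (Nat.card (pPrimeCore p G ⊓ pPrimeCore q G : Subgroup G)).Coprime p :=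
        Nat.Coprime.coprime_dvd_left (Subgroup.card_dvd_of_le inf_le_left)
          (Cfsg.Agent.Lib.H22.card_pPrimeCore_coprime p)
      have hDq : (Nat.card (pPrimeCore p G ⊓ pPrimeCore q G : Subgroup G)).Coprime q :=
        Nat.Coprime.coprime_dvd_left (Subgroup.card_dvd_of_le inf_le_right)
          (Cfsg.Agent.Lib.H22.card_pPrimeCore_coprime q)
      have h := hquot _ hD
      rw [PQ2P.index_pPrimeCore_quotient p _ hDp,
        PQ2P.index_pPrimeCore_quotient q _ hDq] at h
      exact h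

/-- **S4886 (=>)** in kernel form. -/
theorem exists_commuting_sylows_of_cross {G : Type*} [Group G] [Finite G] (p q : ℕ)
    [Fact p.Prime] [Fact q.Prime] (hpq : p ≠ q) (hps : IsPSolvable p G) (hqs : IsPSolvable q G)
    (H1 : ∀ χ : IrrCharacter G, (∀ a ∈ pPrimeCore p G, (χ : G → ℂ) a = (χ : G → ℂ) 1) →
      ¬ p ∣ charDegree (χ : G → ℂ) → ¬ q ∣ charDegree (χ : G → ℂ))
    (H2 : ∀ χ : IrrCharacter G, (∀ b ∈ pPrimeCore q G, (χ : G → ℂ) b = (χ : G → ℂ) 1) →
      ¬ q ∣ charDegree (χ : G → ℂ) → ¬ p ∣ charDegree (χ : G → ℂ)) :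
    ∃ (P : Sylow p G) (Q : Sylow q G),
      ∀ x ∈ (P : Subgroup G), ∀ y ∈ (Q : Subgroup G), x * y = y * x := by
  obtain ⟨h1, h2⟩ := main_aux _ G rfl p q hpq hps hqs H1 H2
  exact PQ2P.exists_commuting_sylows p q hpq h1 h2

end Cfsg.Agent.Lib.H22.PQ2
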