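import Mathlib
import Cfsg.Agent.Lib.H4.SLKDefs
import Cfsg.Agent.Lib.H8.CentralClassCount

/-!
# Definitions for the class number bounds of `PSL_n(q)` (S2480; helper22)

Second stage of helper4's S2479 (`Lib/H4/SLKDefs`), on helper12's `Cls` library and helper8's
Burnside count for central quotients.
-/

set_option autoImplicit false
open Polynomial

namespace Cfsg.Agent.Lib.H22.PSLK

open Cfsg.Agent.Lib.H12.Cls Cfsg.Agent.Lib.H4.SLK

universe u v
variable {F : Type u} [Field F]

open Classical in
/-- `Nk D φ k = ∑_{blocks (φ_i, e_i) of D with φ_i = φ} min (e_i, k)`; for monic irreducible `φ` one has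
`dim ker φ(f)^k = deg φ * Nk D φ k` -/
noncomputable def Nk {V : Type v} [AddCommGroup V] [Module F V] {f : Module.End F V}
    (D : TypeData f) (φ : F[X]) (k : ℕ) : ℕ :=
  ∑ i, if (D.c i).1 = φ then min (D.c i).2 k else 0

/-- all coefficients of all entries of the tuple live in degrees divisible by `m`
(i.e. every entry lies in `F[X^m]`) -/
def Pm (m : ℕ) {J : ℕ} (g : Fin J → F[X]) : Prop := ∀ j i, (g j).coeff i ≠ 0 → m ∣ i

/-- the tuple attached to a class of `SL_n(F)`: the tuple of the chosen representative of the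
`GL_n(F)`-class containing it -/
noncomputable def Psi {n : ℕ} (c : ConjClasses (Matrix.SpecialLinearGroup (Fin n) F)) :
    Fin n → F[X] :=
  tupleOf (Quotient.out
    (ConjClasses.map (Matrix.SpecialLinearGroup.toGL (n := Fin n) (R := F)) c))

/-- the right-hand side of `(q - 1) * d * k(PSL_n(q)) ≤ PR (q - 1) n` -/
def PR (Q n : ℕ) : ℕ := ∑ m ∈ (Nat.gcd n Q).divisors, Nat.totient m * Rn Q (n / m)

end Cfsg.Agent.Lib.H22.PSLK
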