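import Mathlib
import Cfsg.Agent.Lib.H22.PearlDefs
import Cfsg.Agent.Lib.H23.PearlBASE
import Cfsg.Agent.Lib.H2.PearlCLS
import Cfsg.Agent.Lib.H27.PearlU
import Cfsg.Agent.Lib.H23.PearlIDX
import Cfsg.Agent.Lib.H27.PearlS1IDX
import Cfsg.Agent.Lib.H9.PearlPW
import Cfsg.Agent.Lib.H9.PearlPDC
import Cfsg.Agent.Lib.H12.PearlT
import Cfsg.Agent.Lib.H11.PearlFILA
import Cfsg.Agent.Lib.H11.PearlFILB
import Cfsg.Agent.Lib.H25.PearlN3
import Cfsg.Agent.Lib.H25.PearlN4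
import Cfsg.Agent.Lib.H16.PearlSYL9
import Cfsg.Agent.Lib.H16.PearlCF9
import Cfsg.Agent.Lib.H7.PearlNAP
import Cfsg.Agent.Lib.H14.PearlAP
import Cfsg.Agent.Lib.H1.PearlFEXP

/-!
# S5239 (pearls in 3-groups) -- the farmed pieces (restated, closed by the landed terms) and the group-theoretic
assembly: a group `G` of order `3^n`, `n ≥ 4`, with an element `e` of order three such that `|C_G(e)| = 9`
has all subgroups two-generated, or `n = 4` and `G ≅ C₃ ≀ C₃` (architect helper22).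

Pieces by helper1 (FEXP), helper2 (CLS), helper7 (NAP), helper9 (PW, PDC), helper11 (FILA, FILB), helper12 (T),
helper14 (AP), helper16 (SYL9, CF9), helper23 (BASE, IDX), helper25 (N3, N4), helper27 (U, S1IDX); twins by
helper6, helper8, helper10, helper24.
-/

set_option autoImplicit false

namespace Cfsg.Agent.Lib.H22.PearlPc

open Cfsg.Agent.Lib.H22.Pearl

section

variable {G : Type*} [Group G] [Finite G] {n : ℕ} {e : G}

/-! ## BASE: maximal class -/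

/-- **BASE**.  `A = C_G(e)` has order `9`, is abelian and self-centralizing (`C_G(A) ≤ C_G(e) = A`), so Suzuki's lemma
`Cfsg.Agent.Lib.H22.nilpotencyClass_of_selfCentralizing_sq` (file `Lib/H22/SuzukiMaxClass.lean`) gives class `n - 1`;
convert to `γ_{n-1} ≠ 1` (`lowerCentralSeries_length_eq_nilpotencyClass` / `Nat.find`). -/
theorem P3.lcs_ne_bot (h : P3 G n e) (hn : 3 ≤ n) : L G (n - 2) ≠ ⊥ :=
  Cfsg.Agent.Lib.H23.Pearl.P3.lcs_ne_bot h hn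

/-- **BASE**.  `C_G(e⁻¹) = C_G(e)`. -/
theorem P3.inv (h : P3 G n e) : P3 G n e⁻¹ :=
  Cfsg.Agent.Lib.H23.Pearl.P3.inv h

/-! ## CLS: the class of `e` is `e γ₂` -/

/-- **CLS**.  The conjugacy class of `e` has `|G|/9 = 3^(n-2) = |γ₂|` elements (orbit–stabilizer) and lies in `e γ₂`,
so every `e * d` (`d ∈ γ₂`) is conjugate to `e` and has cube `1`. -/
theorem P3.cls (h : P3 G n e) (hn : 3 ≤ n) (hL1 : Nat.card ↥(L G 1) = 3 ^ (n - 2)) :
    ∀ d ∈ L G 1, (e * d) ^ 3 = 1 :=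
  Cfsg.Agent.Lib.H2.Pearl.P3.cls h hn hL1

/-! ## U: `e` is uniform -/

/-- **U1**.  For `γ_{i+1} = L i` (`1 ≤ i ≤ n-2`): the orbit `{d e d⁻¹ : d ∈ L i}` has `|L i| / |C_{L i}(e)| = |L i|/3` elements
(`C_G(e) ∩ L i = Z(G) = L (n-2)` of order `3`: `e ∉ L 1` as its class `≠ {…}` lies in `e L 1`, and `C_G(e) = ⟨e⟩ × Z(G)`)
and lies in `L (i+1) e`, which has the same number of elements. -/
theorem P3.exists_comm_eq (h : P3 G n e) (hn : 3 ≤ n)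
    (hcard : ∀ i, 1 ≤ i → i ≤ n - 1 → Nat.card ↥(L G i) = 3 ^ (n - 1 - i))
    (i : ℕ) (hi1 : 1 ≤ i) (hi : i + 2 ≤ n) :
    ∀ y ∈ L G (i + 1), ∃ d ∈ L G i, d * e * d⁻¹ * e⁻¹ = y :=
  Cfsg.Agent.Lib.H27.Pearl.P3.exists_comm_eq h hn hcard i hi1 hi

/-- **U2**.  `{g ∈ L i | [g,e] ∈ L (i+2)}` is a subgroup containing `L (i+1)`; if it contained `d ∉ L (i+1)` it would be `L i`
(index `3`), contradicting U1 (`L (i+1) ≠ L (i+2)`). -/
theorem P3.comm_not_mem (h : P3 G n e) (hn : 3 ≤ n)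
    (hcard : ∀ i, 1 ≤ i → i ≤ n - 1 → Nat.card ↥(L G i) = 3 ^ (n - 1 - i))
    (hU : ∀ i, 1 ≤ i → i + 2 ≤ n → ∀ y ∈ L G (i + 1), ∃ d ∈ L G i, d * e * d⁻¹ * e⁻¹ = y)
    (i : ℕ) (hi1 : 1 ≤ i) (hi : i + 3 ≤ n) :
    ∀ d ∈ L G i, d ∉ L G (i + 1) → d * e * d⁻¹ * e⁻¹ ∉ L G (i + 2) :=
  Cfsg.Agent.Lib.H27.Pearl.P3.comm_not_mem h hn hcard hU i hi1 hi

end

/-! ## IDX: a subgroup of index three -/

/-- **IDX**.  `K ⊴ H`, `|H| = 3|K|`: `H/K` is cyclic of order `3` generated by any `w ∉ K`. -/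
theorem exists_mul_pow_mem {G : Type*} [Group G] [Finite G] (H K : Subgroup G) (hKH : K ≤ H)
    (hN : ∀ h ∈ H, ∀ k ∈ K, h * k * h⁻¹ ∈ K) (hc : Nat.card ↥H = 3 * Nat.card ↥K) :
    ∀ g ∈ H, ∀ w ∈ H, w ∉ K → ∃ j : ℕ, g * w ^ j ∈ K :=
  Cfsg.Agent.Lib.H23.Pearl.exists_mul_pow_mem H K hKH hN hc

/-- **S1IDX**.  `|G : S₁| = 3`: pick `s ∈ L 1 \ L 2`; `g ↦ [s,g] L 3` is a homomorphism `G → G ⧸ L 3` with image in `L 2 / L 3`
(order `3`) and kernel `S₁` (`L 1 = ⟨s⟩ L 2`, `[L 2, G] ≤ L 3`); `S₁ ≠ ⊤` (`Cfsg.Agent.Lib.H25.MCS.mcsD_ne_top`). -/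
theorem card_S1 {G : Type*} [Group G] [Finite G] {n : ℕ} (hn : 4 ≤ n) (hG : Nat.card G = 3 ^ n)
    (hcard : ∀ i, 1 ≤ i → i ≤ n - 1 → Nat.card ↥(L G i) = 3 ^ (n - 1 - i)) :
    Nat.card ↥(S1 G) = 3 ^ (n - 1) :=
  Cfsg.Agent.Lib.H27.Pearl.card_S1 hn hG hcard

section

variable {G : Type*} [Group G] {e : G}

/-! ## PW: the power structure of `γ₂` -/

/-- **PW**.  Descending induction on `i` (for `i ≥ m` everything is trivial).  For `d ∈ L i` put `u = d⁻¹ e d e⁻¹ ∈ L (i+1)`,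
`v = u⁻¹ e u e⁻¹ ∈ L (i+2)`: `e d e⁻¹ = d u`, `e u e⁻¹ = u v`, and `(e d)^3 = (d u)(d u · u v)(e³ d e⁻³) e³`, so
`(d u)(d u u v) d = 1`.  Modulo `L (i+3)` the elements `d, u, v` commute (`[L i, L j] ≤ L (i+j+1)`, `i ≥ 1`), so
`d³ u³ v ∈ L (i+3)`; `u³ ∈ L (i+3)` by induction, hence `d³ ≡ v⁻¹`.  If `d ∉ L (i+1)` then `u ∉ L (i+2)`, `v ∉ L (i+3)` by `hU2`. -/
theorem pow_struct (he : e ^ 3 = 1) (m : ℕ) (hbot : L G m = ⊥)
    (hcls : ∀ d ∈ L G 1, (e * d) ^ 3 = 1)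
    (hU2 : ∀ i, 1 ≤ i → i + 1 < m → ∀ d ∈ L G i, d ∉ L G (i + 1) → d * e * d⁻¹ * e⁻¹ ∉ L G (i + 2)) :
    ∀ i, 1 ≤ i → (∀ d ∈ L G i, d ^ 3 ∈ L G (i + 2)) ∧
      (i + 2 < m → ∀ d ∈ L G i, d ∉ L G (i + 1) → d ^ 3 ∉ L G (i + 3)) :=
  Cfsg.Agent.Lib.H9.Pearl.pow_struct he m hbot hcls hU2

/-! ## PDC: positive degree of commutativity -/

/-- **PDC**.  `[L i, S₁] ≤ L (i+2)` for all `i ≥ 1`.  `i = 1`: definition.  `i = 2`: three subgroups modulo `L 4`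
(`Cfsg.Agent.Lib.H9.PolySeq.three_subgroups_mod` with `H₁ = L 1`, `H₂ = zpowers e`, `H₃ = zpowers h`:
`[[e,h], L 1] ≤ [L 1, L 1] ≤ L 4` by `hab`, `[[h, L 1], e] ≤ [L 3, G] = L 4`), and `L 2 = {[d,e]}` by `hU`.
`i → i+2`: `y = (d³)^k y'` (`hgen`), `c = [d,h] ∈ L (i+2)`, `[d³,h] = (d² c d⁻²)(d c d⁻¹) c ≡ c³ ≡ 1` modulo `L (i+4)`. -/
theorem pdc (hU : ∀ y ∈ L G 2, ∃ d ∈ L G 1, d * e * d⁻¹ * e⁻¹ = y)
    (hab : ∀ x ∈ L G 1, ∀ y ∈ L G 1, x * y * x⁻¹ * y⁻¹ ∈ L G 4)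
    (hpw : ∀ i, 1 ≤ i → ∀ d ∈ L G i, d ^ 3 ∈ L G (i + 2))
    (hgen : ∀ i, 1 ≤ i → ∀ y ∈ L G (i + 2), ∃ d ∈ L G i, ∃ k : ℕ, ∃ y' ∈ L G (i + 3), y = (d ^ 3) ^ k * y')
    (h : G) (hh : h ∈ S1 G) :
    ∀ i, 1 ≤ i → ∀ y ∈ L G i, y * h * y⁻¹ * h⁻¹ ∈ L G (i + 2) :=
  Cfsg.Agent.Lib.H9.Pearl.pdc hU hab hpw hgen h hh

/-! ## T: elements outside `S₁` -/

/-- **T1**.  `t = e^k h` (`k = 1, 2`, `h ∈ S₁`): `[d,t] = [d,e^k] · e^k [d,h] e^{-k}`, `[d,h] ∈ L (i+2)`. -/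
theorem comm_shift (hpdc : ∀ h ∈ S1 G, ∀ i, 1 ≤ i → ∀ y ∈ L G i, y * h * y⁻¹ * h⁻¹ ∈ L G (i + 2)) (m : ℕ)
    (hU2 : ∀ k : ℕ, (k = 1 ∨ k = 2) → ∀ i, 1 ≤ i → i + 1 < m → ∀ d ∈ L G i, d ∉ L G (i + 1) →
      d * e ^ k * d⁻¹ * (e ^ k)⁻¹ ∉ L G (i + 2))
    (t : G) (ht : ∃ k : ℕ, (k = 1 ∨ k = 2) ∧ ∃ h ∈ S1 G, t = e ^ k * h) :
    ∀ i, 1 ≤ i → i + 1 < m → ∀ d ∈ L G i, d ∉ L G (i + 1) →
      d * t * d⁻¹ * t⁻¹ ∈ L G (i + 1) ∧ d * t * d⁻¹ * t⁻¹ ∉ L G (i + 2) :=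
  Cfsg.Agent.Lib.H12.Pearl.comm_shift hpdc m hU2 t ht

/-- **T0**.  Level zero.  If `[d,t] ∈ L 2` with `d ∈ S₁ \ L 1`, `t ∉ S₁`, then `t`, `d` and `L 1` are central modulo `L 2`
(`{g | [g,t] ∈ L 2}` and `{g | [g,d] ∈ L 2}` are subgroups containing `t`, `d`, `L 1`, hence `S₁` and `G`), so
`G / L 2` is abelian, `L 1 ≤ L 2`. -/
theorem comm_shift_zero (hne : ¬ L G 1 ≤ L G 2)
    (hS1ab : ∀ x ∈ S1 G, ∀ y ∈ S1 G, x * y * x⁻¹ * y⁻¹ ∈ L G 2)
    (hidx0 : ∀ g ∈ S1 G, ∀ w ∈ S1 G, w ∉ L G 1 → ∃ j : ℕ, g * w ^ j ∈ L G 1)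
    (t : G) (hidxt : ∀ g : G, ∃ j : ℕ, g * t ^ j ∈ S1 G) :
    ∀ d ∈ S1 G, d ∉ L G 1 → d * t * d⁻¹ * t⁻¹ ∉ L G 2 :=
  Cfsg.Agent.Lib.H12.Pearl.comm_shift_zero hne hS1ab hidx0 t hidxt

/-- **T2**.  Cubes of `S₁`: as PW at level `0` with `hcube : (e h)^3 ∈ L 3` instead of `(e d)^3 = 1`
(`d, u, v` commute modulo `L 3`: `[h,u] ∈ L 3` by `mem_S1`). -/
theorem pow_S1 (he : e ^ 3 = 1)
    (hcube : ∀ h ∈ S1 G, (e * h) ^ 3 ∈ L G 3)
    (hpw1 : ∀ d ∈ L G 1, d ^ 3 ∈ L G 3)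
    (hT0 : ∀ d ∈ S1 G, d ∉ L G 1 → d * e * d⁻¹ * e⁻¹ ∉ L G 2)
    (hU2 : ∀ d ∈ L G 1, d ∉ L G 2 → d * e * d⁻¹ * e⁻¹ ∉ L G 3) :
    ∀ h ∈ S1 G, h ^ 3 ∈ L G 2 ∧ (h ∉ L G 1 → h ^ 3 ∉ L G 3) :=
  Cfsg.Agent.Lib.H12.Pearl.pow_S1 he hcube hpw1 hT0 hU2

end

/-! ## FIL: the abstract filtration lemmas -/

section

variable {G : Type*} [Group G] {M : ℕ → Subgroup G} {m : ℕ}

/-- **FILA**.  `H ≤ M 0`.  `H = ⊥`: `x = y = 1`.  Otherwise the level of `g ≠ 1` in `M 0` is the largest `i` with `g ∈ M i`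
(`< m`).  Let `a` be the least level of an element `x` of `H`, and `b` the least level `≢ a (mod 2)` of an element `y` of `H`
(if none: `y = 1`).  By `hpow`, `x^(3^k)` has level `a + 2k` and `y^(3^k)` has level `b + 2k` while these are `< m`.
Descending induction on the level: `g ∈ H` of level `i` is `≡` a power of the element `w ∈ ⟨x,y⟩` of level `i` modulo
`M (i+1)` (`idx`), and `g w^j ∈ H` has higher level. -/
theorem fil_two_gen (hM : Fil M m)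
    (hpow : ∀ i, i + 2 < m → ∀ d ∈ M i, d ∉ M (i + 1) → d ^ 3 ∈ M (i + 2) ∧ d ^ 3 ∉ M (i + 3))
    (H : Subgroup G) (hH : H ≤ M 0) : ∃ x y : G, Subgroup.closure ({x, y} : Set G) = H :=
  Cfsg.Agent.Lib.H11.Pearl.fil_two_gen hM hpow H hH

/-- **FILB**.  `t ∈ H`, `H ≰ M 0`, every element of `G` is in `M 0` up to a power of `t`.  `H₁ = H ⊓ M 0`; `x ∈ H₁` of least
level `a` (`H₁ = ⊥`: `x = 1`); the iterated commutators `x, [x,t], [[x,t],t], …` lie in `⟨t,x⟩ ⊓ M 0` and have levels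
`a, a+1, …, m-1` by `hcomm`; descending induction as in FILA gives `H₁ ≤ ⟨t,x⟩`, then `H = ⟨t⟩ H₁`. -/
theorem fil_two_gen_of_not_le (hM : Fil M m) (t : G)
    (hidxt : ∀ g : G, ∃ j : ℕ, g * t ^ j ∈ M 0)
    (hcomm : ∀ i, i + 1 < m → ∀ d ∈ M i, d ∉ M (i + 1) →
      d * t * d⁻¹ * t⁻¹ ∈ M (i + 1) ∧ d * t * d⁻¹ * t⁻¹ ∉ M (i + 2))
    (H : Subgroup G) (ht : t ∈ H) : ∃ x : G, Subgroup.closure ({t, x} : Set G) = H :=
  Cfsg.Agent.Lib.H11.Pearl.fil_two_gen_of_not_le hM t hidxt hcomm H ht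

end

/-! ## Small orders -/

/-- **N4a**.  A group of order `1, p, p²` is generated by two elements. -/
theorem two_gen_of_card_le_sq {H : Type*} [Group H] [Finite H] (p : ℕ) [Fact p.Prime]
    (hc : Nat.card H ∣ p ^ 2) : ∃ x y : H, Subgroup.closure ({x, y} : Set H) = ⊤ :=
  Cfsg.Agent.Lib.H25.Pearl.two_gen_of_card_le_sq p hc

/-- **N4b**.  A group of order `p³` is generated by two elements or elementary abelian
(nonabelian: two non-commuting elements generate a nonabelian subgroup, of order `> p²`; abelian with an element `a` of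
order `≥ p²`: `⟨a, b⟩` for `b ∉ ⟨a⟩`). -/
theorem two_gen_or_elementary_of_card_cube {H : Type*} [Group H] [Finite H] (p : ℕ) [Fact p.Prime]
    (hc : Nat.card H = p ^ 3) :
    (∃ x y : H, Subgroup.closure ({x, y} : Set H) = ⊤) ∨ ((∀ a b : H, a * b = b * a) ∧ ∀ a : H, a ^ p = 1) :=
  Cfsg.Agent.Lib.H25.Pearl.two_gen_or_elementary_of_card_cube p hc

/-- **SYL9**.  `G` acts faithfully on the `9` cosets of the core-free subgroup `B`
(`MulAction.toPermHom G (G ⧸ B)`, kernel `B.normalCore`); transport along `G ⧸ B ≃ Fin 9`; the image has order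
`81 = 3^4`, the full `3`-part of `9!` (`Sylow.ofCard`). -/
theorem exists_mulEquiv_sylow_perm_nine {G : Type*} [Group G] [Finite G] (hG : Nat.card G = 81)
    (B : Subgroup G) (hB : Nat.card ↥B = 9) (hcore : B.normalCore = ⊥) :
    ∃ W : Sylow 3 (Equiv.Perm (Fin 9)), Nonempty (G ≃* ↥(W : Subgroup (Equiv.Perm (Fin 9)))) :=
  Cfsg.Agent.Lib.H16.Pearl.exists_mulEquiv_sylow_perm_nine hG B hB hcore

/-- **CF9**.  `|G| = 81`, `|Z(G)| = 3`, `A ≤ G` elementary abelian of order `27`: `Z(G) ≤ A` (`A` is maximal, hence normal, and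
a nontrivial normal subgroup of a `3`-group meets the centre), a complement `B` of `Z(G)` in `A` has order `9` and is core-free
(a nontrivial normal subgroup contains `Z(G)`, of prime order). -/
theorem exists_coreFree_nine {G : Type*} [Group G] [Finite G] (hG : Nat.card G = 81)
    (hZ : Nat.card ↥(Subgroup.center G) = 3) (A : Subgroup G) (hA : Nat.card ↥A = 27)
    (hAab : ∀ a ∈ A, ∀ b ∈ A, a * b = b * a) (hAexp : ∀ a ∈ A, a ^ 3 = 1) :
    ∃ B : Subgroup G, Nat.card ↥B = 9 ∧ B.normalCore = ⊥ :=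
  Cfsg.Agent.Lib.H16.Pearl.exists_coreFree_nine hG hZ A hA hAab hAexp

/-- **N3**.  A nonabelian group of order `27` has exponent `3` or is metacyclic (`⟨s⟩` of order `9` has index `3`, is normal,
with quotient of order `3`). -/
theorem exponent_three_or_metacyclic {G : Type*} [Group G] [Finite G] (hG : Nat.card G = 27) :
    Monoid.exponent G = 3 ∨ Cfsg.IsMetacyclic G :=
  Cfsg.Agent.Lib.H25.Pearl.exponent_three_or_metacyclic hG

/-! ## NAP: the nonabelian pearl contains a uniform element -/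

/-- **NAP**.  `E ≤ S` nonabelian of order `27` and exponent `3` with `C_S(E) ≤ E`, `E ≠ S`, `S` a finite `3`-group.
`Z(S) ≤ C_S(E) ≤ Z(E)` has order `3`.  Pick `y ∈ Z₂(S) \ Z(S)` (`[y,S] ≤ Z(S)`): `y` normalizes `E`, `x ↦ [x,y]` is a
homomorphism `E → Z(E)`, equal to `x ↦ [x,u]` for some `u ∈ E` (`E = ⟨a,b⟩`, `[a,b] = z`, `u = a^{-j} b^{i}`), so
`y u⁻¹ ∈ C_S(E) ≤ E`, `y ∈ E \ Z(E)`.  `|S : C_S(y)| = 3` (`g ↦ [g,y]` is a homomorphism onto `Z(S)`).  For `e ∈ E \ C_E(y)`: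
`C_S(e) ⊓ C_S(y) ≤ C_S(⟨e,y⟩) = C_S(E)` has order `3`, so `|C_S(e)| ≤ 9`; and `⟨e⟩ Z(E) ≤ C_S(e)`. -/
theorem exists_uniform_of_nonabelian {Ω : Type*} [Group Ω] (S E : Subgroup Ω) [Finite S] (hS : IsPGroup 3 S)
    (hES : E ≤ S) (hne : E ≠ S) (hE : Nat.card ↥E = 27) (hna : ∃ a ∈ E, ∃ b ∈ E, a * b ≠ b * a)
    (hexp : ∀ a ∈ E, a ^ 3 = 1) (hcen : ∀ g ∈ S, (∀ x ∈ E, g * x = x * g) → g ∈ E) :
    ∃ e ∈ E, e ≠ 1 ∧ Nat.card {g : Ω // g ∈ S ∧ g * e = e * g} = 9 :=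
  Cfsg.Agent.Lib.H7.Pearl.exists_uniform_of_nonabelian S E hS hES hne hE hna hexp hcen

/-- **AP** (addendum).  The abelian pearl.  `Z(S) ≤ C_S(E) ≤ E`; `E ≰ Z(S)` (else `C_S(E) = S ≤ E`), so `Z(S)` has order `3`
and for `e ∈ E \ Z(S)`: `E = ⟨e⟩ Z(S)`, `C_S(e) = C_S(E) = E`. -/
theorem exists_uniform_of_abelian {Ω : Type*} [Group Ω] (S E : Subgroup Ω) [Finite S] (hS : IsPGroup 3 S)
    (hES : E ≤ S) (hne : E ≠ S) (hE : Nat.card ↥E = 9) (hab : ∀ a ∈ E, ∀ b ∈ E, a * b = b * a)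
    (hexp : ∀ a ∈ E, a ^ 3 = 1) (hcen : ∀ g ∈ S, (∀ x ∈ E, g * x = x * g) → g ∈ E) :
    ∃ e ∈ E, e ≠ 1 ∧ Nat.card {g : Ω // g ∈ S ∧ g * e = e * g} = 9 :=
  Cfsg.Agent.Lib.H14.Pearl.exists_uniform_of_abelian S E hS hES hne hE hab hexp hcen

/-- **FEXP** (addendum; fusion).  A nonabelian essential subgroup `E` of order `27` has exponent `3`: otherwise the cube map of
`T = ↥E` is multiplicative (class two, `[k,g]³ = 1`), all cubes lie in the cyclic group `Z(E)` (`E/Z(E)` is elementary abelian of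
order `9`), `|Ω₁(E)| < 27`, so `Cfsg.Agent.Lib.H11.RK2P.chain_cycData` (`Lib/H11/RK2Pieces.lean`) gives a `CycData (F.autGroup E)`
chain and `Cfsg.Agent.Lib.H11.RK2.not_essential_of_cycData` (`Lib/H11/RK2Fus0.lean`) a contradiction
(exactly as in `Cfsg.Agent.Lib.H11.RK2.not_essential_of_pe`, `Lib/H11/RK2Fus1.lean`). -/
theorem exponent_three_of_essential {Ω : Type*} [Group Ω] {S : Subgroup Ω} [Finite S] (hS : IsPGroup 3 S)
    {F : Cfsg.FusionSystem S} (hF : F.IsSaturated 3) {E : Subgroup Ω} (hess : F.IsEssential 3 E)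
    (hE : Nat.card ↥E = 27) (hna : ∃ a ∈ E, ∃ b ∈ E, a * b ≠ b * a) : ∀ a ∈ E, a ^ 3 = 1 :=
  Cfsg.Agent.Lib.H1.Pearl.exponent_three_of_essential hS hF hess hE hna

end Cfsg.Agent.Lib.H22.PearlPc

namespace Cfsg.Agent.Lib.H22.PearlAsm

open Cfsg.Agent.Lib.H22.Pearl Cfsg.Agent.Lib.H22.PearlPc
open scoped commutatorElement

variable {G : Type*} [Group G] [Finite G] {n : ℕ} {e : G}

theorem card_L (h : P3 G n e) (hn : 3 ≤ n) (i : ℕ) (hi1 : 1 ≤ i) (hi : i ≤ n - 1) :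
    Nat.card ↥(L G i) = 3 ^ (n - 1 - i) :=
  Cfsg.Agent.Lib.H22.MCS.card_lcs_of_maxclass 3 hn h.card (P3.lcs_ne_bot h hn) i hi1 hi

theorem L_bot (h : P3 G n e) (hn : 3 ≤ n) : L G (n - 1) = ⊥ := by
  have := card_L h hn (n - 1) (by omega) le_rfl
  rw [Nat.sub_self, pow_zero] at this
  exact Subgroup.eq_bot_of_card_eq _ this

theorem L_anti (i j : ℕ) (hij : i ≤ j) : L G j ≤ L G i :=
  Subgroup.lowerCentralSeries_antitone _ hij

theorem comm_mem_L {i : ℕ} {x : G} (hx : x ∈ L G i) (g : G) : x * g * x⁻¹ * g⁻¹ ∈ L G (i + 1) := by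
  have := Cfsg.Agent.Lib.H25.MCS.comm_mem_lcs_succ hx g
  exact this

theorem comm_mem_L' {i : ℕ} {x : G} (hx : x ∈ L G i) (g : G) : g * x * g⁻¹ * x⁻¹ ∈ L G (i + 1) := by
  have h1 := comm_mem_L hx g
  have e : g * x * g⁻¹ * x⁻¹ = (x * g * x⁻¹ * g⁻¹)⁻¹ := by group
  rw [e]; exact Subgroup.inv_mem _ h1

theorem comm_mem_LL {i j : ℕ} {x y : G} (hx : x ∈ L G i) (hy : y ∈ L G j) :
    x * y * x⁻¹ * y⁻¹ ∈ L G (i + j + 1) := by
  have h1 := Cfsg.Agent.Lib.H9.PolySeq.commutator_lcs_le (G := G) j i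
  exact h1 (Subgroup.commutator_mem_commutator hx hy)

theorem idxL (h : P3 G n e) (hn : 3 ≤ n) (i : ℕ) (hi1 : 1 ≤ i) (hi : i + 1 ≤ n - 1) :
    ∀ g ∈ L G i, ∀ w ∈ L G i, w ∉ L G (i + 1) → ∃ j : ℕ, g * w ^ j ∈ L G (i + 1) := by
  refine exists_mul_pow_mem (L G i) (L G (i + 1)) (L_anti _ _ (Nat.le_succ i)) ?_ ?_
  · intro x _ k hk
    exact (inferInstance : (L G (i + 1)).Normal).conj_mem k hk x
  · rw [card_L h hn i hi1 (by omega), card_L h hn (i + 1) (by omega) hi, ← pow_succ']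
    congr 1; omega

theorem exists_level (h : P3 G n e) (hn : 3 ≤ n) (i : ℕ) (hi1 : 1 ≤ i) (hi : i + 1 ≤ n - 1) :
    ∃ d ∈ L G i, d ∉ L G (i + 1) := by
  by_contra hcon
  push Not at hcon
  have hle : L G i ≤ L G (i + 1) := fun d hd => hcon d hd
  have heq : L G i = L G (i + 1) := le_antisymm hle (L_anti _ _ (Nat.le_succ i))
  have h1 := card_L h hn i hi1 (by omega)
  have h2 := card_L h hn (i + 1) (by omega) hi
  rw [heq, h2] at h1
  have := Nat.pow_right_injective (by norm_num : 2 ≤ 3) h1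
  omega

theorem hgen_of (h : P3 G n e) (hn : 3 ≤ n)
    (hpw : ∀ i, 1 ≤ i → (∀ d ∈ L G i, d ^ 3 ∈ L G (i + 2)) ∧
      (i + 2 < n - 1 → ∀ d ∈ L G i, d ∉ L G (i + 1) → d ^ 3 ∉ L G (i + 3))) :
    ∀ i, 1 ≤ i → ∀ y ∈ L G (i + 2), ∃ d ∈ L G i, ∃ k : ℕ, ∃ y' ∈ L G (i + 3), y = (d ^ 3) ^ k * y' := by
  intro i hi1 y hy
  by_cases hi : i + 2 < n - 1
  · obtain ⟨d₀, hd₀, hd₀'⟩ := exists_level h hn i hi1 (by omega)
    have hw1 := (hpw i hi1).1 d₀ hd₀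
    have hw2 := (hpw i hi1).2 hi d₀ hd₀ hd₀'
    obtain ⟨j, hj⟩ := idxL h hn (i + 2) (by omega) (by omega) y hy (d₀ ^ 3) hw1 hw2
    refine ⟨d₀⁻¹, Subgroup.inv_mem _ hd₀, j, ((d₀ ^ 3) ^ j) * (y * (d₀ ^ 3) ^ j) * ((d₀ ^ 3) ^ j)⁻¹, ?_, ?_⟩
    · exact (inferInstance : (L G (i + 3)).Normal).conj_mem _ hj _
    · have e1 : ((d₀⁻¹) ^ 3) ^ j = ((d₀ ^ 3) ^ j)⁻¹ := by
        rw [inv_pow, inv_pow]
      rw [e1]
      generalize (d₀ ^ 3) ^ j = c
      group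
  · have hbot : L G (i + 2) = ⊥ := by
      rw [eq_bot_iff, ← L_bot h hn]
      exact L_anti _ _ (by omega)
    rw [hbot, Subgroup.mem_bot] at hy
    exact ⟨1, Subgroup.one_mem _, 0, 1, Subgroup.one_mem _, by simp [hy]⟩

theorem hab_of (h : P3 G n e) (hn : 3 ≤ n) :
    ∀ x ∈ L G 1, ∀ y ∈ L G 1, x * y * x⁻¹ * y⁻¹ ∈ L G 4 := by
  have hP : IsPGroup 3 G := IsPGroup.of_card h.card
  by_cases h3 : n = 3
  · -- L 1 has order 3, L 2 = ⊥ : abelian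
    have hb : L G 2 = ⊥ := by have := L_bot h hn; rwa [h3] at this
    intro x hx y hy
    have h1 := comm_mem_LL hx hy
    have : L G (1 + 1 + 1) ≤ L G 2 := L_anti _ _ (by omega)
    have h2 := this h1
    rw [hb, Subgroup.mem_bot] at h2
    rw [h2]; exact Subgroup.one_mem _
  · obtain ⟨s, hs1, hs2⟩ := exists_level h hn 1 le_rfl (by omega)
    have hc : Nat.card ↥(L G 1) = 3 * Nat.card ↥(L G 2) := by
      rw [card_L h hn 1 le_rfl (by omega), card_L h hn 2 (by omega) (by omega), ← pow_succ']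
      congr 1; omega
    have hsup := Cfsg.Agent.Lib.H25.MCS.mcs_sup_eq hP (L G 1) (L G 2) (L_anti _ _ (by omega)) hc s hs1 hs2
    have key := Cfsg.Agent.Lib.H25.MCS.mcs_comm_mem_of_gen (L G 4) (L G 1) (L G 2) s hs1 (le_of_eq hsup.symm)
      (fun c hc h hh => by
        have := comm_mem_LL hc hh
        exact this)
    intro x hx y hy
    exact key x hx y hy


theorem hU_of (h : P3 G n e) (hn : 3 ≤ n) : ∀ i, 1 ≤ i → i + 2 ≤ n → ∀ y ∈ L G (i + 1),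
    ∃ d ∈ L G i, d * e * d⁻¹ * e⁻¹ = y :=
  fun i hi1 hi => P3.exists_comm_eq h hn (card_L h hn) i hi1 hi

theorem hU2_of (h : P3 G n e) (hn : 3 ≤ n) : ∀ i, 1 ≤ i → i + 3 ≤ n → ∀ d ∈ L G i, d ∉ L G (i + 1) →
    d * e * d⁻¹ * e⁻¹ ∉ L G (i + 2) :=
  fun i hi1 hi => P3.comm_not_mem h hn (card_L h hn) (hU_of h hn) i hi1 hi

theorem sq_eq_inv (h : P3 G n e) : e ^ 2 = e⁻¹ := by
  have := h.he
  rw [pow_succ] at this
  exact eq_inv_of_mul_eq_one_left this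

theorem hU2k (h : P3 G n e) (hn : 3 ≤ n) : ∀ k : ℕ, (k = 1 ∨ k = 2) → ∀ i, 1 ≤ i → i + 1 < n - 1 →
    ∀ d ∈ L G i, d ∉ L G (i + 1) → d * e ^ k * d⁻¹ * (e ^ k)⁻¹ ∉ L G (i + 2) := by
  intro k hk i hi1 hi d hd hd'
  rcases hk with rfl | rfl
  · rw [pow_one]; exact hU2_of h hn i hi1 (by omega) d hd hd'
  · rw [sq_eq_inv h]; exact hU2_of (P3.inv h) hn i hi1 (by omega) d hd hd'

theorem L1_le_S1 : L G 1 ≤ S1 G := Cfsg.Agent.Lib.H25.MCS.lcs_one_le_mcsD 1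

theorem S1_conj {g : G} (hg : g ∈ S1 G) (a : G) : a * g * a⁻¹ ∈ S1 G := by
  rw [mem_S1] at hg ⊢
  intro x hx
  have hx' : a⁻¹ * x * a⁻¹⁻¹ ∈ L G 1 := (inferInstance : (L G 1).Normal).conj_mem x hx a⁻¹
  have h1 := hg _ hx'
  have h2 := (inferInstance : (L G 3).Normal).conj_mem _ h1 a
  convert h2 using 1
  group

theorem S1_normal : (S1 G).Normal := ⟨fun _ hg a => S1_conj hg a⟩

theorem cardS1 (h : P3 G n e) (hn : 4 ≤ n) : Nat.card ↥(S1 G) = 3 ^ (n - 1) :=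
  card_S1 hn h.card (card_L h (by omega))

theorem idx0 (h : P3 G n e) (hn : 4 ≤ n) :
    ∀ g ∈ S1 G, ∀ w ∈ S1 G, w ∉ L G 1 → ∃ j : ℕ, g * w ^ j ∈ L G 1 := by
  refine exists_mul_pow_mem (S1 G) (L G 1) L1_le_S1 ?_ ?_
  · intro x _ k hk
    exact (inferInstance : (L G 1).Normal).conj_mem k hk x
  · rw [cardS1 h hn, card_L h (by omega) 1 le_rfl (by omega), ← pow_succ']
    congr 1; omega

theorem idxt (h : P3 G n e) (hn : 4 ≤ n) (t : G) (ht : t ∉ S1 G) : ∀ g : G, ∃ j : ℕ, g * t ^ j ∈ S1 G := by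
  have key := exists_mul_pow_mem (⊤ : Subgroup G) (S1 G) le_top (fun x _ k hk => S1_conj hk x)
    (by rw [Subgroup.card_top, h.card, cardS1 h hn, ← pow_succ']; congr 1; omega)
  intro g
  exact key g (Subgroup.mem_top g) t (Subgroup.mem_top t) ht

theorem e_not_mem_S1 (h : P3 G n e) (hn : 4 ≤ n) : e ∉ S1 G := by
  obtain ⟨d, hd, hd'⟩ := exists_level h (by omega) 1 le_rfl (by omega)
  intro he
  rw [mem_S1] at he
  exact hU2_of h (by omega) 1 le_rfl (by omega) d hd hd' (he d hd)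

theorem M_pos (i : ℕ) (hi : 1 ≤ i) : M G i = L G i := by
  cases i with
  | zero => omega
  | succ i => rfl

theorem fil_M (h : P3 G n e) (hn : 4 ≤ n) : Fil (M G) (n - 1) := by
  refine ⟨?_, ?_, ?_⟩
  · intro i
    cases i with
    | zero => rw [M_pos 1 le_rfl]; exact L1_le_S1
    | succ i => rw [M_pos _ (by omega), M_pos _ (by omega)]; exact L_anti _ _ (by omega)
  · rw [M_pos _ (by omega)]; exact L_bot h (by omega)
  · intro i hi
    cases i with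
    | zero => rw [M_pos 1 le_rfl]; exact idx0 h hn
    | succ i =>
      rw [M_pos _ (by omega), M_pos _ (by omega)]
      exact idxL h (by omega) (i + 1) (by omega) (by omega)

theorem t_form (h : P3 G n e) (hn : 4 ≤ n) (t : G) (ht : t ∉ S1 G) :
    ∃ k : ℕ, (k = 1 ∨ k = 2) ∧ ∃ s ∈ S1 G, t = e ^ k * s := by
  obtain ⟨j, hj⟩ := idxt h hn e (e_not_mem_S1 h hn) t⁻¹
  have hj' : (e ^ j)⁻¹ * t ∈ S1 G := by
    have := Subgroup.inv_mem _ hj
    simpa [mul_inv_rev] using this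
  have hmod : e ^ j = e ^ (j % 3) := by
    conv_lhs => rw [← Nat.mod_add_div j 3, pow_add, pow_mul, h.he, one_pow, mul_one]
  rw [hmod] at hj'
  have h3 : j % 3 < 3 := Nat.mod_lt _ (by norm_num)
  refine ⟨j % 3, ?_, (e ^ (j % 3))⁻¹ * t, hj', by group⟩
  generalize j % 3 = r at *
  interval_cases r
  · exfalso; simp at hj'; exact ht hj'
  · left; rfl
  · right; rfl


theorem comm_mem_L1 (x y : G) : x * y * x⁻¹ * y⁻¹ ∈ L G 1 := by
  have hx : x ∈ L G 0 := by simp [L]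
  exact comm_mem_L hx y

theorem hpw_of (h : P3 G n e) (hn : 3 ≤ n) :
    ∀ i, 1 ≤ i → (∀ d ∈ L G i, d ^ 3 ∈ L G (i + 2)) ∧
      (i + 2 < n - 1 → ∀ d ∈ L G i, d ∉ L G (i + 1) → d ^ 3 ∉ L G (i + 3)) :=
  pow_struct h.he (n - 1) (L_bot h hn) (P3.cls h hn (card_L h hn 1 le_rfl (by omega)))
    (fun i hi1 hi => hU2_of h hn i hi1 (by omega))

theorem hpdc_of (h : P3 G n e) (hn : 3 ≤ n) :
    ∀ s ∈ S1 G, ∀ i, 1 ≤ i → ∀ y ∈ L G i, y * s * y⁻¹ * s⁻¹ ∈ L G (i + 2) :=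
  fun s hs => pdc (hU_of h hn 1 le_rfl (by omega)) (hab_of h hn) (fun i hi => (hpw_of h hn i hi).1)
    (hgen_of h hn (hpw_of h hn)) s hs

theorem exists_S1_not_L1 (h : P3 G n e) (hn : 4 ≤ n) : ∃ s ∈ S1 G, s ∉ L G 1 := by
  by_contra hcon
  push Not at hcon
  have hle : S1 G ≤ L G 1 := fun d hd => hcon d hd
  have heq : S1 G = L G 1 := le_antisymm hle L1_le_S1
  have h1 := cardS1 h hn
  have h2 := card_L h (by omega) 1 le_rfl (by omega)
  rw [heq, h2] at h1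
  have := Nat.pow_right_injective (by norm_num : 2 ≤ 3) h1
  omega

theorem hS1ab_of (h : P3 G n e) (hn : 4 ≤ n) :
    ∀ x ∈ S1 G, ∀ y ∈ S1 G, x * y * x⁻¹ * y⁻¹ ∈ L G 2 := by
  have hP : IsPGroup 3 G := IsPGroup.of_card h.card
  obtain ⟨s, hs1, hs2⟩ := exists_S1_not_L1 h hn
  have hc : Nat.card ↥(S1 G) = 3 * Nat.card ↥(L G 1) := by
    rw [cardS1 h hn, card_L h (by omega) 1 le_rfl (by omega), ← pow_succ']
    congr 1; omega
  have hsup := Cfsg.Agent.Lib.H25.MCS.mcs_sup_eq hP (S1 G) (L G 1) L1_le_S1 hc s hs1 hs2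
  have key := Cfsg.Agent.Lib.H25.MCS.mcs_comm_mem_of_gen (L G 2) (S1 G) (L G 1) s hs1 (le_of_eq hsup.symm)
    (fun c hc x _ => by
      have := comm_mem_L hc x
      exact this)
  intro x hx y hy
  exact key x hx y hy

theorem hcomm_of (h : P3 G n e) (hn : 4 ≤ n) (t : G) (ht : t ∉ S1 G) :
    ∀ i, i + 1 < n - 1 → ∀ d ∈ M G i, d ∉ M G (i + 1) →
      d * t * d⁻¹ * t⁻¹ ∈ M G (i + 1) ∧ d * t * d⁻¹ * t⁻¹ ∉ M G (i + 2) := by
  intro i hi d hd hd'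
  cases i with
  | zero =>
    rw [M_pos _ (by omega)] at hd' ⊢
    rw [M_pos _ (by omega)]
    rw [M_zero] at hd
    refine ⟨comm_mem_L1 d t, ?_⟩
    have hne : ¬ L G 1 ≤ L G 2 := by
      obtain ⟨d, hd, hd'⟩ := exists_level h (by omega) 1 le_rfl (by omega)
      exact fun hle => hd' (hle hd)
    exact comm_shift_zero hne (hS1ab_of h hn) (idx0 h hn) t (idxt h hn t ht) d hd hd'
  | succ i =>
    rw [M_pos _ (by omega)] at hd hd' ⊢
    rw [M_pos _ (by omega)]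
    exact comm_shift (hpdc_of h (by omega)) (n - 1) (hU2k h (by omega)) t (t_form h hn t ht) (i + 1)
      (by omega) hi d hd hd'

theorem two_gen_of_not_le (h : P3 G n e) (hn : 4 ≤ n) (H : Subgroup G) (hH : ¬ H ≤ S1 G) :
    ∃ x y : G, Subgroup.closure ({x, y} : Set G) = H := by
  obtain ⟨t, htH, ht⟩ := SetLike.not_le_iff_exists.mp hH
  obtain ⟨x, hx⟩ := fil_two_gen_of_not_le (fil_M h hn) t (idxt h hn t ht) (hcomm_of h hn t ht) H htH
  exact ⟨t, x, hx⟩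


theorem index_S1 (h : P3 G n e) (hn : 4 ≤ n) : (S1 G).index = 3 := by
  have h1 := Subgroup.card_mul_index (S1 G)
  rw [cardS1 h hn, h.card] at h1
  have h2 : (3 : ℕ) ^ n = 3 ^ (n - 1) * 3 := by rw [← pow_succ]; congr 1; omega
  rw [h2] at h1
  exact Nat.eq_of_mul_eq_mul_left (by positivity) h1

theorem hcube_of (h : P3 G n e) (hn : 5 ≤ n) : ∀ s ∈ S1 G, (e * s) ^ 3 ∈ L G 3 := by
  intro s hs
  have hn4 : 4 ≤ n := by omega
  have ht : e * s ∉ S1 G := by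
    intro hcon
    apply e_not_mem_S1 h hn4
    have := Subgroup.mul_mem _ hcon (Subgroup.inv_mem _ hs)
    simpa using this
  set t := e * s with ht_def
  have hc0 : t ^ 3 ∈ S1 G := by
    have := S1_normal (G := G)
    have := Subgroup.pow_index_mem (S1 G) t
    rwa [index_S1 h hn4] at this
  have hct : (t ^ 3) * t * (t ^ 3)⁻¹ * t⁻¹ = 1 := by group
  have key : ∀ i, i ≤ n - 2 → t ^ 3 ∈ M G i := by
    intro i
    induction i with
    | zero => intro _; exact hc0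
    | succ i ih =>
      intro hi
      by_contra hcon
      have := (hcomm_of h hn4 t ht i (by omega) (t ^ 3) (ih (by omega)) hcon).2
      rw [hct] at this
      exact this (Subgroup.one_mem _)
  have := key (n - 2) le_rfl
  rw [M_pos _ (by omega)] at this
  exact L_anti 3 (n - 2) (by omega) this

theorem hpowM_of (h : P3 G n e) (hn : 5 ≤ n) :
    ∀ i, i + 2 < n - 1 → ∀ d ∈ M G i, d ∉ M G (i + 1) → d ^ 3 ∈ M G (i + 2) ∧ d ^ 3 ∉ M G (i + 3) := by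
  have hn4 : 4 ≤ n := by omega
  intro i hi d hd hd'
  cases i with
  | zero =>
    rw [M_pos _ (by omega)] at hd' ⊢
    rw [M_pos _ (by omega)]
    rw [M_zero] at hd
    have hT0 : ∀ d ∈ S1 G, d ∉ L G 1 → d * e * d⁻¹ * e⁻¹ ∉ L G 2 := by
      intro d hd hd'
      have := (hcomm_of h hn4 e (e_not_mem_S1 h hn4) 0 (by omega) d hd (by rw [M_pos _ (by omega)]; exact hd')).2
      rwa [M_pos _ (by omega)] at this
    have := pow_S1 h.he (hcube_of h hn) (hpw_of h (by omega) 1 le_rfl).1 hT0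
      (hU2_of h (by omega) 1 le_rfl (by omega)) d hd
    exact ⟨this.1, this.2 hd'⟩
  | succ i =>
    rw [M_pos _ (by omega)] at hd hd' ⊢
    rw [M_pos _ (by omega)]
    have := hpw_of h (by omega) (i + 1) (by omega)
    exact ⟨this.1 d hd, this.2 hi d hd hd'⟩

theorem two_gen_of_le (h : P3 G n e) (hn : 5 ≤ n) (H : Subgroup G) (hH : H ≤ S1 G) :
    ∃ x y : G, Subgroup.closure ({x, y} : Set G) = H :=
  fil_two_gen (fil_M h (by omega)) (hpowM_of h hn) H hH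

theorem two_gen_of_five_le (h : P3 G n e) (hn : 5 ≤ n) (H : Subgroup G) :
    ∃ x y : G, Subgroup.closure ({x, y} : Set G) = H := by
  by_cases hH : H ≤ S1 G
  · exact two_gen_of_le h hn H hH
  · exact two_gen_of_not_le h (by omega) H hH


theorem two_gen_of_subtype {G : Type*} [Group G] (H : Subgroup G)
    (hH : ∃ x y : ↥H, Subgroup.closure ({x, y} : Set ↥H) = ⊤) :
    ∃ x y : G, Subgroup.closure ({x, y} : Set G) = H := by
  obtain ⟨x, y, hxy⟩ := hH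
  refine ⟨x, y, ?_⟩
  have := congrArg (Subgroup.map H.subtype) hxy
  rw [MonoidHom.map_closure, ← MonoidHom.range_eq_map, Subgroup.range_subtype] at this
  have himg : (⇑H.subtype '' ({x, y} : Set ↥H)) = ({(x : G), (y : G)} : Set G) := by
    ext z
    simp [Set.image_pair]
  rw [himg] at this
  exact this

theorem card_center (h : P3 G n e) (hn : 3 ≤ n) : Nat.card ↥(Subgroup.center G) = 3 := by
  have hP : IsPGroup 3 G := IsPGroup.of_card h.card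
  have hle : Subgroup.center G ≤ Subgroup.centralizer ({e} : Set G) := Subgroup.center_le_centralizer _
  have hdvd := Subgroup.card_dvd_of_le hle
  rw [h.hC] at hdvd
  have hnt : Nontrivial G := by
    rw [← Finite.one_lt_card_iff_nontrivial, h.card]
    exact Nat.one_lt_pow (by omega) (by norm_num)
  have hZnt := hP.center_nontrivial
  have h1 : Nat.card ↥(Subgroup.center G) ≠ 1 := by
    intro h1
    rw [Subgroup.card_eq_one] at h1
    exact (Subgroup.nontrivial_iff_ne_bot _).mp hZnt h1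
  have h9 : Nat.card ↥(Subgroup.center G) ≠ 9 := by
    intro h9
    have heq : Subgroup.center G = Subgroup.centralizer ({e} : Set G) :=
      Subgroup.eq_of_le_of_card_ge hle (by rw [h9, h.hC])
    have he : e ∈ Subgroup.center G := by
      rw [heq]; exact Subgroup.mem_centralizer_singleton_iff.mpr rfl
    have htop : Subgroup.centralizer ({e} : Set G) = ⊤ := by
      rw [eq_top_iff]
      intro g _
      rw [Subgroup.mem_centralizer_singleton_iff]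
      exact (Subgroup.mem_center_iff.mp he) g
    have := h.hC
    rw [htop, Subgroup.card_top, h.card] at this
    have h27 : (3 : ℕ) ^ 3 ≤ 3 ^ n := Nat.pow_le_pow_right (by norm_num) hn
    omega
  obtain ⟨k, hk, hk'⟩ := (Nat.dvd_prime_pow (by norm_num : Nat.Prime 3) (m := 2)).mp (by simpa using hdvd)
  interval_cases k
  · exact absurd hk' (by simpa using h1)
  · simpa using hk'
  · exact absurd hk' (by simpa using h9)

theorem n4_main (h : P3 G 4 e) :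
    (∀ H : Subgroup G, ∃ x y : G, Subgroup.closure ({x, y} : Set G) = H) ∨
    (∃ W : Sylow 3 (Equiv.Perm (Fin 9)), Nonempty (G ≃* ↥(W : Subgroup (Equiv.Perm (Fin 9))))) := by
  have hc : Nat.card ↥(S1 G) = 3 ^ 3 := cardS1 h le_rfl
  have : Fact (Nat.Prime 3) := ⟨by norm_num⟩
  rcases two_gen_or_elementary_of_card_cube 3 hc with h2 | ⟨hab, hexp⟩
  · left
    intro H
    by_cases hH : H ≤ S1 G
    · by_cases heq : H = S1 G
      · subst heq; exact two_gen_of_subtype _ h2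
      · have hlt : H < S1 G := lt_of_le_of_ne hH heq
        have hdvd := Subgroup.card_dvd_of_le hH
        rw [hc] at hdvd
        obtain ⟨k, hk, hk'⟩ := (Nat.dvd_prime_pow (by norm_num : Nat.Prime 3)).mp hdvd
        have hk3 : k ≠ 3 := by
          rintro rfl
          have := Subgroup.eq_of_le_of_card_ge hH (by rw [hc, hk'])
          exact heq this
        have hd2 : Nat.card ↥H ∣ 3 ^ 2 := by
          rw [hk']; exact pow_dvd_pow 3 (by omega)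
        exact two_gen_of_subtype H (two_gen_of_card_le_sq 3 hd2)
    · exact two_gen_of_not_le h le_rfl H hH
  · right
    have hG : Nat.card G = 81 := by rw [h.card]; norm_num
    obtain ⟨B, hB, hcore⟩ := exists_coreFree_nine hG (card_center h (by norm_num)) (S1 G) (by rw [hc]; norm_num)
      (fun a ha b hb => congrArg Subtype.val (hab ⟨a, ha⟩ ⟨b, hb⟩))
      (fun a ha => congrArg Subtype.val (hexp ⟨a, ha⟩))
    exact exists_mulEquiv_sylow_perm_nine hG B hB hcore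

theorem gt_main (h : P3 G n e) (hn : 4 ≤ n) :
    (∀ H : Subgroup G, ∃ x y : G, Subgroup.closure ({x, y} : Set G) = H) ∨
    (∃ W : Sylow 3 (Equiv.Perm (Fin 9)), Nonempty (G ≃* ↥(W : Subgroup (Equiv.Perm (Fin 9))))) := by
  by_cases h4 : n = 4
  · subst h4; exact n4_main h
  · exact Or.inl (two_gen_of_five_le h (by omega))

end Cfsg.Agent.Lib.H22.PearlAsm
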