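import Mathlib
import Cfsg.Prelude.Def_FusionSystem
import Cfsg.Prelude.Def_Transfer
import Cfsg.Agent.Lib.H22.PearlAsmA
import Cfsg.Agent.Lib.H26.EssentialOmit
import Cfsg.Agent.Lib.H26.MetaSCMain
import Cfsg.Agent.Lib.H25.NormalSeries
import Cfsg.Agent.Lib.H25.Fusion
import Cfsg.Agent.Lib.H9.SymplecticType

/-!
# S5239 (pearls in 3-groups) -- fusion glue and the main theorem (architect helper22)
-/

set_option autoImplicit false

namespace Cfsg.Agent.Lib.H22.PearlAsm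

open Cfsg Cfsg.Agent.Lib.H22.Pearl Cfsg.Agent.Lib.H22.PearlPc

theorem finset_two_gen {Ω : Type*} [Group Ω] (S H : Subgroup Ω) (hH : H ≤ S)
    (h : ∃ x y : ↥S, Subgroup.closure ({x, y} : Set ↥S) = H.subgroupOf S) :
    ∃ T : Finset Ω, T.card ≤ 2 ∧ Subgroup.closure (T : Set Ω) = H := by
  classical
  obtain ⟨x, y, hxy⟩ := h
  refine ⟨{(x : Ω), (y : Ω)}, Finset.card_le_two, ?_⟩
  have := congrArg (Subgroup.map S.subtype) hxy
  rw [MonoidHom.map_closure, Subgroup.map_subgroupOf_eq_of_le hH] at this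
  have himg : (⇑S.subtype '' ({x, y} : Set ↥S)) = ({(x : Ω), (y : Ω)} : Set Ω) := by
    ext z
    simp [Set.image_pair]
  rw [himg] at this
  rw [← this]
  congr 1
  ext z
  simp

theorem p3_of_uniform {Ω : Type*} [Group Ω] (S : Subgroup Ω) [Finite S] {n : ℕ} (hn : Nat.card ↥S = 3 ^ n)
    (e : Ω) (heS : e ∈ S) (he3 : e ^ 3 = 1) (hC : Nat.card {g : Ω // g ∈ S ∧ g * e = e * g} = 9) :
    P3 ↥S n ⟨e, heS⟩ := by
  refine ⟨hn, Subtype.ext he3, ?_⟩
  rw [← hC]
  refine Nat.card_congr ⟨fun g => ⟨g.1.1, g.1.2, ?_⟩, fun g => ⟨⟨g.1, g.2.1⟩, ?_⟩, fun g => rfl, fun g => rfl⟩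
  · have := Subgroup.mem_centralizer_singleton_iff.mp g.2
    exact congrArg Subtype.val this
  · rw [Subgroup.mem_centralizer_singleton_iff]
    exact Subtype.ext g.2.2

theorem pearl_main {Ω : Type*} [Group Ω] {S : Subgroup Ω} [Finite S] (hS : IsPGroup 3 S) (F : Cfsg.FusionSystem S)
    (hF : F.IsSaturated 3) [Fact (Nat.Prime 3)] (E : Subgroup Ω) (hE : F.IsEssential 3 E)
    (hpearl : (Nat.card E = 9 ∧ ∀ x ∈ E, x ^ 3 = 1 ∧ IsMulCommutative ↥E) ∨ (Nat.card E = 27 ∧ ¬ IsMulCommutative ↥E)) :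
    (Cfsg.IsExtraspecial 3 ↥S ∧ Nat.card S = 27 ∧ Monoid.exponent ↥S = 3) ∨
    (81 ≤ Nat.card S ∧ ∀ H : Subgroup Ω, H ≤ S → ∃ T : Finset Ω, T.card ≤ 2 ∧ Subgroup.closure (T : Set Ω) = H) ∨
    (∃ W : Sylow 3 (Equiv.Perm (Fin 9)), Nonempty (↥S ≃* ↥(W : Subgroup (Equiv.Perm (Fin 9))))) := by
  have hES : E ≤ S := hE.1.1
  have hcen : ∀ g ∈ S, (∀ x ∈ E, g * x = x * g) → g ∈ E := by
    intro g hg hc
    apply hE.1.2 E (Cfsg.Agent.Lib.H25.isConj_refl F hES)
    refine Subgroup.mem_inf.mpr ⟨hg, ?_⟩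
    rw [Subgroup.mem_centralizer_iff]
    intro x hx
    exact (hc x hx).symm
  have hne : E ≠ S := Cfsg.Agent.Lib.H26.essential_ne_top hS hF hE
  have h9 : 9 ≤ Nat.card ↥E := by
    rcases hpearl with h | h <;> rw [h.1] <;> norm_num
  -- the uniform element
  obtain ⟨e, heE, he3, hC⟩ : ∃ e ∈ E, e ^ 3 = 1 ∧ Nat.card {g : Ω // g ∈ S ∧ g * e = e * g} = 9 := by
    rcases hpearl with ⟨hc, h⟩ | ⟨hc, h⟩
    · have hexp : ∀ a ∈ E, a ^ 3 = 1 := fun a ha => (h a ha).1
      have hcomm : IsMulCommutative ↥E := (h 1 E.one_mem).2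
      have hab : ∀ a ∈ E, ∀ b ∈ E, a * b = b * a := fun a ha b hb =>
        congrArg Subtype.val (hcomm.is_comm.comm ⟨a, ha⟩ ⟨b, hb⟩)
      obtain ⟨e, heE, -, hC⟩ := exists_uniform_of_abelian S E hS hES hne hc hab hexp hcen
      exact ⟨e, heE, hexp e heE, hC⟩
    · have hna : ∃ a ∈ E, ∃ b ∈ E, a * b ≠ b * a := by
        by_contra hcon
        push Not at hcon
        exact h ⟨⟨fun a b => Subtype.ext (hcon a.1 a.2 b.1 b.2)⟩⟩
      have hexp := exponent_three_of_essential hS hF hE hc hna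
      obtain ⟨e, heE, -, hC⟩ := exists_uniform_of_nonabelian S E hS hES hne hc hna hexp hcen
      exact ⟨e, heE, hexp e heE, hC⟩
  obtain ⟨n, hn⟩ := IsPGroup.iff_card.mp hS
  have hP3 := p3_of_uniform S hn e (hES heE) he3 hC
  -- n ≥ 3
  have hn3 : 3 ≤ n := by
    by_contra hcon
    have hle : Nat.card ↥S ≤ Nat.card ↥E := by
      rw [hn]
      have : (3 : ℕ) ^ n ≤ 3 ^ 2 := Nat.pow_le_pow_right (by norm_num) (by omega)
      omega
    exact hne (Subgroup.eq_of_le_of_card_ge hES hle)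
  by_cases h3 : n = 3
  · left
    subst h3
    have hna : ∃ a b : ↥S, a * b ≠ b * a := by
      by_contra hcon
      push Not at hcon
      have htop : Subgroup.centralizer ({(⟨e, hES heE⟩ : ↥S)} : Set ↥S) = ⊤ := by
        rw [eq_top_iff]
        intro g _
        rw [Subgroup.mem_centralizer_singleton_iff]
        exact hcon _ _
      have := hP3.hC
      rw [htop, Subgroup.card_top, hn] at this
      norm_num at this
    have hex : Cfsg.IsExtraspecial 3 ↥S := Cfsg.Agent.Lib.H9.isExtraspecial_of_card_cube hn hna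
    refine ⟨hex, by rw [hn]; norm_num, ?_⟩
    rcases exponent_three_or_metacyclic (G := ↥S) (by rw [hn]; norm_num) with h | hm
    · exact h
    · exfalso
      have := Cfsg.Agent.Lib.H26.MetaSC.le_of_essential hS hF (Cfsg.Agent.Lib.H25.stronglyClosed_self F)
        (by norm_num : (3 : ℕ) ≠ 2) hm hE
      exact hne (le_antisymm hES this)
  · right
    have hn4 : 4 ≤ n := by omega
    rcases gt_main hP3 hn4 with h | h
    · left
      refine ⟨?_, ?_⟩
      · rw [hn]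
        have : (3 : ℕ) ^ 4 ≤ 3 ^ n := Nat.pow_le_pow_right (by norm_num) hn4
        omega
      · intro H hH
        exact finset_two_gen S H hH (h (H.subgroupOf S))
    · right; exact h

end Cfsg.Agent.Lib.H22.PearlAsm
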