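import Mathlib
import Cfsg.Agent.Lib.H10.SylowIn
import Cfsg.Agent.Lib.H10.ConjFamily
import Cfsg.Agent.Lib.H22.PPrimeCore
import Cfsg.Agent.Lib.H5.NCTools
import Cfsg.Agent.Lib.H8.Nilpotent

/-!
# `π`-closed groups (helper22)

`IsPi π x` : every prime divisor of `orderOf x` lies in `π`.
`HomE π G` : `π'`-homogeneity, elementwise: prime-power-order `π`-elements normalizing a nontrivial
`π'`-subgroup centralize it.
`exists_pi_subgroup_of_extension` : if `HomE π G`, `K ⊴ G`, the `π`-elements of `K` and of `G ⧸ K`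
form subgroups, then so do the `π`-elements of `G`.
-/

set_option autoImplicit false

namespace Cfsg.Agent.Lib.H22.PiClosed

open Cfsg.Agent.Lib.H10

variable {G : Type*} [Group G]

/-- `x` is a `π`-element. -/
def IsPi (π : Set ℕ) (x : G) : Prop := ∀ p : ℕ, p.Prime → p ∣ orderOf x → p ∈ π

section basic

variable {π : Set ℕ}

theorem IsPi.of_orderOf_dvd {H : Type*} [Group H] {x : G} {y : H} (hx : IsPi π x)
    (h : orderOf y ∣ orderOf x) : IsPi π y :=
  fun p hp hpy => hx p hp (hpy.trans h)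

theorem IsPi.map {H : Type*} [Group H] (f : G →* H) {x : G} (hx : IsPi π x) : IsPi π (f x) :=
  hx.of_orderOf_dvd (orderOf_map_dvd f x)

theorem IsPi.one : IsPi π (1 : G) := by
  intro p hp h
  rw [orderOf_one] at h
  exact absurd (Nat.dvd_one.mp h) hp.ne_one

theorem IsPi.inv {x : G} (hx : IsPi π x) : IsPi π x⁻¹ := by
  intro p hp h
  rw [orderOf_inv] at h
  exact hx p hp h

theorem IsPi.pow {x : G} (hx : IsPi π x) (n : ℕ) : IsPi π (x ^ n) :=
  hx.of_orderOf_dvd (orderOf_pow_dvd n)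

theorem IsPi.mul_of_commute {x y : G} (hx : IsPi π x) (hy : IsPi π y) (hc : Commute x y) :
    IsPi π (x * y) := by
  intro p hp h
  have h1 := h.trans hc.orderOf_mul_dvd_mul_orderOf
  rcases (Nat.Prime.dvd_mul hp).mp h1 with h2 | h2
  · exact hx p hp h2
  · exact hy p hp h2

theorem isPi_coe {H : Subgroup G} (x : H) : IsPi π (x : G) ↔ IsPi π x := by
  unfold IsPi
  rw [Subgroup.orderOf_coe]

theorem isPi_of_orderOf_eq_prime_pow {x : G} {q k : ℕ} (hq : q.Prime) (hqπ : q ∈ π)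
    (h : orderOf x = q ^ k) : IsPi π x := by
  intro p hp hd
  rw [h] at hd
  have := (Nat.prime_dvd_prime_iff_eq hp hq).mp (hp.dvd_of_dvd_pow hd)
  rw [this]; exact hqπ

/-- The `π`-elements of a commutative group form a subgroup. -/
def piSub (π : Set ℕ) (A : Type*) [Group A] [IsMulCommutative A] : Subgroup A where
  carrier := {x | IsPi π x}
  one_mem' := IsPi.one
  mul_mem' := fun {x y} hx hy => hx.mul_of_commute hy (mul_comm' x y)
  inv_mem' := fun hx => hx.inv

theorem mem_piSub {A : Type*} [Group A] [IsMulCommutative A] {x : A} :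
    x ∈ piSub π A ↔ IsPi π x := Iff.rfl

/-- An element which is a `π`-element modulo a normal `π`-subgroup is a `π`-element. -/
theorem isPi_of_quotient (N : Subgroup G) [N.Normal] (hN : ∀ x ∈ N, IsPi π x) (x : G)
    (hx : IsPi π (QuotientGroup.mk' N x)) : IsPi π x := by
  set m := orderOf (QuotientGroup.mk' N x) with hm
  have h1 : x ^ m ∈ N := by
    rw [← QuotientGroup.eq_one_iff, ← QuotientGroup.mk'_apply, map_pow, hm, pow_orderOf_eq_one]
  set r := orderOf (x ^ m) with hr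
  have h2 : x ^ (m * r) = 1 := by rw [pow_mul, hr, pow_orderOf_eq_one]
  have h3 : orderOf x ∣ m * r := orderOf_dvd_of_pow_eq_one h2
  intro p hp hd
  rcases (Nat.Prime.dvd_mul hp).mp (hd.trans h3) with h4 | h4
  · exact hx p hp h4
  · exact hN _ h1 p hp h4

theorem prime_mem_of_dvd_card [Finite G] (H : Subgroup G) (hH : ∀ x ∈ H, IsPi π x) {q : ℕ}
    (hq : q.Prime) (hd : q ∣ Nat.card H) : q ∈ π := by
  have : Fact q.Prime := ⟨hq⟩
  obtain ⟨x, hx⟩ := exists_prime_orderOf_dvd_card' q hd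
  apply hH x.1 x.2 q hq
  rw [Subgroup.orderOf_coe, hx]

theorem isPi_of_card [Finite G] (H : Subgroup G)
    (h : ∀ q : ℕ, q.Prime → q ∣ Nat.card H → q ∈ π) {x : G} (hx : x ∈ H) : IsPi π x :=
  fun p hp hpx => h p hp (hpx.trans (Subgroup.orderOf_dvd_natCard H hx))

/-- If `H ≤ G` has, for every prime `q`, a Sylow `q`-subgroup inside `C`, then `H ≤ C`. -/
theorem le_of_forall_sylow_le [Finite G] (H C : Subgroup G)
    (h : ∀ q : ℕ, ∀ _ : Fact q.Prime, ∃ S : Sylow q ↥H, (S : Subgroup ↥H).map H.subtype ≤ C) :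
    H ≤ C := by
  rw [← Subgroup.subgroupOf_eq_top, ← Subgroup.index_eq_one,
    Nat.eq_one_iff_not_exists_prime_dvd]
  intro q hq hd
  have : Fact q.Prime := ⟨hq⟩
  obtain ⟨S, hS⟩ := h q ⟨hq⟩
  have hle : (S : Subgroup ↥H) ≤ C.subgroupOf H := by
    intro s hs
    rw [Subgroup.mem_subgroupOf]
    exact hS ⟨s, hs, rfl⟩
  exact S.not_dvd_index (hd.trans (Subgroup.index_dvd_of_le hle))

end basic

section central

variable {π : Set ℕ}

/-- If the `π`-elements of `Q` form a subgroup, `f : G₁ →* Q` has kernel of `π'`-order centralized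
by all `π`-elements of `G₁`, then the `π`-elements of `G₁` form a subgroup. -/
theorem exists_pi_subgroup_of_central_ker {G₁ Q : Type*} [Group G₁] [Finite G₁] [Group Q]
    [Finite Q] (f : G₁ →* Q)
    (hM : ∃ M : Subgroup Q, ∀ y, y ∈ M ↔ IsPi π y)
    (hker : ∀ q : ℕ, q.Prime → q ∣ Nat.card f.ker → q ∉ π)
    (hcent : ∀ x : G₁, IsPi π x → x ∈ Subgroup.centralizer (f.ker : Set G₁)) :
    ∃ W : Subgroup G₁, ∀ x, x ∈ W ↔ IsPi π x := by
  obtain ⟨M, hM⟩ := hM
  set S : Set G₁ := {x | IsPi π x} with hS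
  set E := Subgroup.closure S with hE
  have hEc : E ≤ Subgroup.centralizer (f.ker : Set G₁) :=
    (Subgroup.closure_le _).mpr (fun x hx => hcent x hx)
  set fE : ↥E →* Q := f.comp E.subtype with hfE
  have hfEM : ∀ e : ↥E, fE e ∈ M := by
    rintro ⟨x, hx⟩
    show f x ∈ M
    induction hx using Subgroup.closure_induction with
    | mem x hx => exact (hM _).mpr (IsPi.map f hx)
    | one => rw [map_one]; exact M.one_mem
    | mul x y _ _ hx hy => rw [map_mul]; exact M.mul_mem hx hy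
    | inv x _ hx => rw [map_inv]; exact M.inv_mem hx
  have hMπ : ∀ q : ℕ, q.Prime → q ∣ Nat.card M → q ∈ π :=
    fun q hq hd => prime_mem_of_dvd_card M (fun y hy => (hM y).mp hy) hq hd
  have hrange : Nat.card fE.range ∣ Nat.card M :=
    Subgroup.card_dvd_of_le (by rintro _ ⟨e, rfl⟩; exact hfEM e)
  have hidx : fE.ker.index ∣ Nat.card M := by
    rw [Subgroup.index_ker]; exact hrange
  have hZc : fE.ker ≤ Subgroup.center ↥E := by
    intro z hz
    rw [Subgroup.mem_center_iff]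
    intro e
    have hzk : (z : G₁) ∈ f.ker := hz
    have h1 := (Subgroup.mem_centralizer_iff.mp (hEc e.2)) _ hzk
    exact Subtype.ext h1.symm
  have hj : ∀ q : ℕ, q.Prime → q ∣ (Subgroup.center ↥E).index → q ∈ π :=
    fun q hq hd => hMπ q hq ((hd.trans (Subgroup.index_dvd_of_le hZc)).trans hidx)
  set ψ := MonoidHom.transferCenterPow ↥E with hψ
  have hψS : ∀ e : ↥E, ψ e ∈ piSub π (Subgroup.center ↥E) := by
    rintro ⟨x, hx⟩
    induction hx using Subgroup.closure_induction with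
    | mem x hx =>
      rw [mem_piSub]
      apply IsPi.map ψ
      rw [← isPi_coe]
      exact hx
    | one =>
      have : (⟨1, E.one_mem⟩ : ↥E) = 1 := rfl
      rw [this, map_one]; exact Subgroup.one_mem _
    | mul x y hx hy ihx ihy =>
      have : (⟨x * y, E.mul_mem hx hy⟩ : ↥E) = ⟨x, hx⟩ * ⟨y, hy⟩ := rfl
      rw [this, map_mul]; exact Subgroup.mul_mem _ ihx ihy
    | inv x hx ih =>
      have : (⟨x⁻¹, E.inv_mem hx⟩ : ↥E) = ⟨x, hx⟩⁻¹ := rfl
      rw [this, map_inv]; exact Subgroup.inv_mem _ ih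
  have hZbot : fE.ker = ⊥ := by
    rw [Subgroup.eq_bot_iff_forall]
    intro z hz
    have hzk : (z : G₁) ∈ f.ker := hz
    have hord : orderOf (z : G₁) ∣ Nat.card f.ker := Subgroup.orderOf_dvd_natCard _ hzk
    have hπ' : ∀ q : ℕ, q.Prime → q ∣ orderOf (z : G₁) → q ∉ π :=
      fun q hq hd => hker q hq (hd.trans hord)
    set j := (Subgroup.center ↥E).index with hjdef
    have h1 : IsPi π (ψ z) := hψS z
    have h2 : ((ψ z : Subgroup.center ↥E) : ↥E) = z ^ j := MonoidHom.transferCenterPow_apply z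
    have e : orderOf (ψ z) = orderOf ((z : G₁) ^ j) := by
      rw [← Subgroup.orderOf_coe, h2, ← Subgroup.orderOf_coe, Subgroup.coe_pow]
    have h3 : (z : G₁) ^ j = 1 := by
      by_contra hne
      have hne' : orderOf ((z : G₁) ^ j) ≠ 1 := by rwa [Ne, orderOf_eq_one_iff]
      obtain ⟨q, hq, hqd⟩ := Nat.exists_prime_and_dvd hne'
      exact hπ' q hq (hqd.trans (orderOf_pow_dvd j)) (h1 q hq (e ▸ hqd))
    have h4 : orderOf (z : G₁) ∣ j := orderOf_dvd_of_pow_eq_one h3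
    by_contra hne
    have hne' : orderOf (z : G₁) ≠ 1 := by
      rw [Ne, orderOf_eq_one_iff]
      intro h
      exact hne (Subtype.ext h)
    obtain ⟨q, hq, hqd⟩ := Nat.exists_prime_and_dvd hne'
    exact hπ' q hq hqd (hj q hq (hqd.trans h4))
  have hinj : Function.Injective fE := (MonoidHom.ker_eq_bot_iff fE).mp hZbot
  have hcardE : Nat.card ↥E ∣ Nat.card M := by
    have : Nat.card ↥E = Nat.card fE.range :=
      Nat.card_congr (MonoidHom.ofInjective hinj).toEquiv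
    rw [this]; exact hrange
  refine ⟨E, fun x => ⟨fun hx => ?_, fun hx => Subgroup.subset_closure hx⟩⟩
  exact isPi_of_card E (fun q hq hd => hMπ q hq (hd.trans hcardE)) hx

end central

section main

open scoped Pointwise

variable {π : Set ℕ}

/-- Elementwise `π'`-homogeneity: prime-power-order `π`-elements normalizing a nontrivial
`π'`-subgroup centralize it. -/
def HomE (π : Set ℕ) (G : Type*) [Group G] : Prop :=
  ∀ H : Subgroup G, H ≠ ⊥ → (∀ p : ℕ, p.Prime → p ∣ Nat.card ↥H → p ∉ π) →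
    ∀ y ∈ Subgroup.normalizer (H : Set G), ∀ p : ℕ, p.Prime → p ∈ π → ∀ k : ℕ,
      orderOf y = p ^ k → y ∈ Subgroup.centralizer (H : Set G)

theorem homE_of_relIndex [Finite G]
    (hhom : ∀ H : Subgroup G, H ≠ ⊥ → (∀ p : ℕ, p.Prime → p ∣ Nat.card ↥H → p ∉ π) →
      ∀ p : ℕ, p.Prime → p ∣ (Subgroup.centralizer (H : Set G)).relIndex
        (Subgroup.normalizer (H : Set G)) → p ∉ π) : HomE π G := by
  intro H hH hHπ y hy p hp hpπ k hk
  set N := Subgroup.normalizer (H : Set G) with hN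
  set C := Subgroup.centralizer (H : Set G) with hC
  set j := C.relIndex N with hj
  have hpj : ¬ p ∣ j := fun h => hhom H hH hHπ p hp h hpπ
  have hn : (C.subgroupOf N).Normal :=
    Subgroup.normal_subgroupOf_of_le_normalizer
      (Cfsg.Agent.Lib.H5.NC.normalizer_le_normalizer_centralizer H)
  have h1 : (⟨y, hy⟩ : ↥N) ^ j ∈ C.subgroupOf N := Subgroup.pow_index_mem _ _
  have h2 : y ^ j ∈ C := by
    rw [Subgroup.mem_subgroupOf] at h1
    simpa using h1
  have hcop : j.Coprime (orderOf y) := by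
    rw [hk]
    exact Nat.Coprime.pow_right k ((Nat.Prime.coprime_iff_not_dvd hp).mpr hpj).symm
  obtain ⟨m, hm⟩ := exists_pow_eq_self_of_coprime hcop
  rw [← hm]
  exact Subgroup.pow_mem _ h2 m

theorem HomE.subgroup (h : HomE π G) (B : Subgroup G) : HomE π ↥B := by
  intro H hH hHπ y hy p hp hpπ k hk
  have hH' : H.map B.subtype ≠ ⊥ := by
    rwa [Ne, Subgroup.map_eq_bot_iff_of_injective _ B.subtype_injective]
  have hcard : Nat.card (H.map B.subtype) = Nat.card H :=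
    Subgroup.card_map_of_injective B.subtype_injective
  have hy' : (y : G) ∈ Subgroup.normalizer ((H.map B.subtype : Subgroup G) : Set G) :=
    Subgroup.le_normalizer_map B.subtype ⟨y, hy, rfl⟩
  have h1 := h (H.map B.subtype) hH' (by rw [hcard]; exact hHπ) (y : G) hy' p hp hpπ k
    (by rw [Subgroup.orderOf_coe]; exact hk)
  rw [Subgroup.mem_centralizer_iff] at h1 ⊢
  intro q hq
  exact Subtype.ext (h1 (q : G) ⟨q, hq, rfl⟩)

theorem not_dvd_relIndex_sup [Finite G] {q : ℕ} (T N : Subgroup G) [N.Normal]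
    (hN : ¬ q ∣ Nat.card N) : ¬ q ∣ T.relIndex (T ⊔ N) := by
  intro hdvd
  have h1 : Nat.card T * T.relIndex (T ⊔ N) = Nat.card (T ⊔ N : Subgroup G) := by
    have := Subgroup.relIndex_mul_relIndex ⊥ T (T ⊔ N) bot_le le_sup_left
    rwa [Subgroup.relIndex_bot_left, Subgroup.relIndex_bot_left] at this
  have h2 := Cfsg.Agent.Lib.H22.card_sup_dvd_mul T N
  rw [← h1] at h2
  exact hN (hdvd.trans (Nat.dvd_of_mul_dvd_mul_left Nat.card_pos h2))

/-- The image of `K` modulo a subgroup containing all `π`-elements of `K` has `π'`-order. -/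
theorem not_dvd_card_map [Finite G] {Gb : Type*} [Group Gb] [Finite Gb] (φ : G →* Gb)
    (K : Subgroup G) (hKπ : ∀ x ∈ K, IsPi π x → x ∈ φ.ker) {q : ℕ} (hq : q.Prime)
    (hqπ : q ∈ π) : ¬ q ∣ Nat.card ↥(K.map φ) := by
  have : Fact q.Prime := ⟨hq⟩
  have hfs : Function.Surjective (φ.subgroupMap K) := φ.subgroupMap_surjective K
  obtain ⟨S⟩ : Nonempty (Sylow q ↥K) := inferInstance
  have hbot : ((S.mapSurjective hfs : Sylow q ↥(K.map φ)) : Subgroup ↥(K.map φ)) = ⊥ := by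
    rw [Sylow.coe_mapSurjective, Subgroup.eq_bot_iff_forall]
    rintro _ ⟨s, hs, rfl⟩
    obtain ⟨k, hk⟩ := (IsPGroup.iff_orderOf.mp S.2) ⟨s, hs⟩
    have h1 : IsPi π (s : G) := isPi_of_orderOf_eq_prime_pow hq hqπ
      (by rw [Subgroup.orderOf_coe, ← Subgroup.orderOf_mk s hs]; exact hk)
    have h2 := hKπ _ s.2 h1
    apply Subtype.ext
    exact h2
  have h3 := (S.mapSurjective hfs).not_dvd_index
  rw [hbot, Subgroup.index_bot] at h3
  exact h3

/-- A `p`-element normalizing a normal subgroup of order prime to `p` normalizes one of its Sylow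
`q`-subgroups. -/
theorem exists_sylow_normalized {Gb : Type*} [Group Gb] [Finite Gb] (Kb : Subgroup Gb) [Kb.Normal]
    {p : ℕ} [Fact p.Prime] (hpK : ¬ p ∣ Nat.card ↥Kb) (xb : Gb) (a : ℕ)
    (hxb : orderOf xb = p ^ a) (q : ℕ) [Fact q.Prime] :
    ∃ S : Sylow q ↥Kb, ∀ s ∈ S, (MulAut.conjNormal xb : MulAut ↥Kb) s ∈ S := by
  set B := Subgroup.zpowers xb with hBdef
  have hB : IsPGroup p B := IsPGroup.of_card (n := a) (by rw [Nat.card_zpowers, hxb])
  let ρ : ↥B →* MulAut ↥Kb := (MulAut.conjNormal (H := Kb)).comp B.subtype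
  let _ : MulAction ↥B (Sylow q ↥Kb) := MulAction.compHom (Sylow q ↥Kb) ρ
  have hcard : ¬ p ∣ Nat.card (Sylow q ↥Kb) := by
    intro hd
    obtain ⟨S⟩ : Nonempty (Sylow q ↥Kb) := inferInstance
    exact hpK ((hd.trans (Sylow.card_dvd_index S)).trans (Subgroup.index_dvd_card _))
  obtain ⟨S, hS⟩ := hB.nonempty_fixed_point_of_prime_not_dvd_card (Sylow q ↥Kb) hcard
  refine ⟨S, fun s hs => ?_⟩
  have h1 : (⟨xb, Subgroup.mem_zpowers xb⟩ : ↥B) • S = S := hS _
  have h2 : (MulAut.conjNormal xb : MulAut ↥Kb) • S = S := h1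
  have h3 : (MulAut.conjNormal xb : MulAut ↥Kb) • s ∈
      (MulAut.conjNormal xb : MulAut ↥Kb) • (S : Subgroup ↥Kb) :=
    Subgroup.smul_mem_pointwise_smul s _ _ hs
  rw [← Sylow.pointwise_smul_def, h2] at h3
  exact h3

/-- **Key step**: modulo the `π`-elements of the normal subgroup `K`, every `p`-element
(`p ∈ π`) centralizes the image of `K`. -/
theorem mem_centralizer_map_of_prime_pow [Finite G] {Gb : Type*} [Group Gb] [Finite Gb]
    (φ : G →* Gb) (hφ : Function.Surjective φ) (K : Subgroup G) [K.Normal]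
    (hkerπ : ∀ x ∈ φ.ker, IsPi π x) (hKπ : ∀ x ∈ K, IsPi π x → x ∈ φ.ker)
    (hhom : HomE π G) {p : ℕ} (hp : p.Prime) (hpπ : p ∈ π) (xb : Gb) (a : ℕ)
    (hxb : orderOf xb = p ^ a) :
    xb ∈ Subgroup.centralizer ((K.map φ : Subgroup Gb) : Set Gb) := by
  have : Fact p.Prime := ⟨hp⟩
  set Kb := K.map φ with hKb
  have hKbn : Kb.Normal := Subgroup.Normal.map inferInstance φ hφ
  have hpK : ¬ p ∣ Nat.card ↥Kb := not_dvd_card_map φ K hKπ hp hpπ
  suffices h : Kb ≤ Subgroup.centralizer ({xb} : Set Gb) by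
    rw [Subgroup.mem_centralizer_iff]
    intro k hk
    have := (Subgroup.mem_centralizer_iff.mp (h hk)) xb rfl
    exact this.symm
  apply le_of_forall_sylow_le
  intro q hq
  obtain ⟨S, hS⟩ := exists_sylow_normalized Kb hpK xb a hxb q
  refine ⟨S, ?_⟩
  have hfs : Function.Surjective (φ.subgroupMap K) := φ.subgroupMap_surjective K
  obtain ⟨S₀, hS₀⟩ := Sylow.mapSurjective_surjective hfs q S
  set T := (S₀ : Subgroup ↥K).map K.subtype with hT
  have hTq : IsPGroup q T := S₀.2.map _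
  have hTK : T ≤ K := Subgroup.map_subtype_le _
  have hTb : (S : Subgroup ↥Kb).map Kb.subtype = T.map φ := by
    rw [← hS₀, Sylow.coe_mapSurjective, hT, Subgroup.map_map, Subgroup.map_map]
    rfl
  rw [hTb]
  by_cases hTker : T ≤ φ.ker
  · rintro _ ⟨t, ht, rfl⟩
    rw [MonoidHom.mem_ker.mp (hTker ht)]
    exact Subgroup.one_mem _
  have hqπ : q ∉ π := by
    intro hqπ
    apply hTker
    intro t ht
    obtain ⟨k, hk⟩ := (IsPGroup.iff_orderOf.mp hTq) ⟨t, ht⟩
    exact hKπ t (hTK ht) (isPi_of_orderOf_eq_prime_pow hq.out hqπ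
      (by rw [← Subgroup.orderOf_mk t ht]; exact hk))
  have hTne : T ≠ ⊥ := by
    intro h
    apply hTker
    rw [h]
    exact bot_le
  have hTπ : ∀ p' : ℕ, p'.Prime → p' ∣ Nat.card ↥T → p' ∉ π := by
    intro p' hp' hd
    obtain ⟨k, hk⟩ := IsPGroup.iff_card.mp hTq
    rw [hk] at hd
    have := (Nat.prime_dvd_prime_iff_eq hp' hq.out).mp (hp'.dvd_of_dvd_pow hd)
    rw [this]; exact hqπ
  obtain ⟨x, rfl⟩ := hφ xb
  have hxT : T.map (MulAut.conj x).toMonoidHom ≤ T ⊔ φ.ker := by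
    rintro _ ⟨t, ht, rfl⟩
    have h1 : φ (x * t * x⁻¹) ∈ T.map φ := by
      obtain ⟨s₀, hs₀, rfl⟩ := ht
      have h2 : (φ.subgroupMap K) s₀ ∈ (S : Subgroup ↥Kb) := by
        rw [← hS₀, Sylow.coe_mapSurjective]; exact ⟨s₀, hs₀, rfl⟩
      have h3 := hS _ h2
      have h4 : ((MulAut.conjNormal (φ x) : MulAut ↥Kb) ((φ.subgroupMap K) s₀) : Gb) ∈
          (S : Subgroup ↥Kb).map Kb.subtype := ⟨_, h3, rfl⟩
      rw [hTb, MulAut.conjNormal_apply] at h4
      simpa using h4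
    obtain ⟨t', ht', hteq⟩ := h1
    have h5 : t'⁻¹ * (x * t * x⁻¹) ∈ φ.ker := by
      rw [MonoidHom.mem_ker, map_mul, map_inv, hteq, inv_mul_cancel]
    have e : x * t * x⁻¹ = t' * (t'⁻¹ * (x * t * x⁻¹)) := by group
    show (MulAut.conj x) t ∈ _
    rw [MulAut.conj_apply, e]
    exact Subgroup.mul_mem _ (Subgroup.mem_sup_left ht') (Subgroup.mem_sup_right h5)
  have hqker : ¬ q ∣ Nat.card φ.ker :=
    fun hd => hqπ (prime_mem_of_dvd_card φ.ker hkerπ hq.out hd)
  have hidx : ¬ q ∣ T.relIndex (T ⊔ φ.ker) := not_dvd_relIndex_sup T φ.ker hqker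
  obtain ⟨m, hm, hmle⟩ := exists_mem_map_conj_le_of_sylowIn hTq le_sup_left hidx
    (isPGroup_map_conj x hTq) hxT
  obtain ⟨t₁, ht₁, l, hl, rfl⟩ := Subgroup.mem_sup_of_normal_right.1 hm
  rw [map_conj_map_conj] at hmle
  have hN1 : t₁ * l * x ∈ Subgroup.normalizer (T : Set G) :=
    mem_normalizer_iff_map_conj.mpr (eq_of_le_of_card_map_conj hmle le_rfl)
  have hn : l * x ∈ Subgroup.normalizer (T : Set G) := by
    have e : l * x = t₁⁻¹ * (t₁ * l * x) := by group
    rw [e]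
    exact Subgroup.mul_mem _ (Subgroup.inv_mem _ (Subgroup.le_normalizer ht₁)) hN1
  set n := l * x with hndef
  have hφn : φ n = φ x := by rw [hndef, map_mul, MonoidHom.mem_ker.mp hl, one_mul]
  obtain ⟨c₁, c₂, hc₁, hc₂, hn12, ⟨k, hk⟩, hcop⟩ :=
    Cfsg.Agent.Lib.H8.exists_p_decomp n (orderOf_pos n).ne' p hp
  have hφc₂ : φ c₂ = 1 := by
    have h1 : orderOf (φ c₂) ∣ orderOf c₂ := orderOf_map_dvd φ c₂
    have h2 : orderOf (φ c₂) ∣ p ^ a := by
      have hmem : φ c₂ ∈ Subgroup.zpowers (φ x) := by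
        rw [← hφn, ← MonoidHom.map_zpowers]; exact Subgroup.mem_map_of_mem φ hc₂
      obtain ⟨i, hi⟩ := Subgroup.mem_zpowers_iff.mp hmem
      rw [← hi, ← hxb]
      exact orderOf_dvd_of_pow_eq_one (by rw [← zpow_natCast, ← zpow_mul, mul_comm, zpow_mul,
        zpow_natCast, pow_orderOf_eq_one, one_zpow])
    have h3 : orderOf (φ c₂) ∣ Nat.gcd (orderOf c₂) (p ^ a) := Nat.dvd_gcd h1 h2
    rw [(Nat.Coprime.pow_right a hcop).gcd_eq_one, Nat.dvd_one] at h3
    exact orderOf_eq_one_iff.mp h3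
  have hφc₁ : φ c₁ = φ x := by rw [← hφn, hn12, map_mul, hφc₂, mul_one]
  have hc₁N : c₁ ∈ Subgroup.normalizer (T : Set G) := (Subgroup.zpowers_le.mpr hn) hc₁
  obtain ⟨k', -, hk'⟩ := (Nat.dvd_prime_pow hp).mp (orderOf_dvd_of_pow_eq_one hk)
  have hc₁C := hhom T hTne hTπ c₁ hc₁N p hp hpπ k' hk'
  rintro _ ⟨t, ht, rfl⟩
  rw [Subgroup.mem_centralizer_iff]
  rintro _ rfl
  rw [← hφc₁, ← map_mul, ← map_mul, (Subgroup.mem_centralizer_iff.mp hc₁C) t ht]

/-- **Extension theorem** for `π`-closed groups under `π'`-homogeneity. -/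
theorem exists_pi_subgroup_of_extension [Finite G] (hhom : HomE π G) (K : Subgroup G) [hKn : K.Normal]
    (hK : ∃ L : Subgroup ↥K, ∀ x : ↥K, x ∈ L ↔ IsPi π x)
    (hQ : ∃ L : Subgroup (G ⧸ K), ∀ x : G ⧸ K, x ∈ L ↔ IsPi π x) :
    ∃ W : Subgroup G, ∀ x : G, x ∈ W ↔ IsPi π x := by
  obtain ⟨L, hL⟩ := hK
  set L' := L.map K.subtype with hL'
  have hL'mem : ∀ x, x ∈ L' ↔ x ∈ K ∧ IsPi π x := by
    intro x
    constructor
    · rintro ⟨y, hy, rfl⟩
      exact ⟨y.2, (isPi_coe y).mpr ((hL y).mp hy)⟩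
    · rintro ⟨hxK, hx⟩
      exact ⟨⟨x, hxK⟩, (hL _).mpr ((isPi_coe (⟨x, hxK⟩ : ↥K)).mp hx), rfl⟩
  have hL'n : L'.Normal := by
    constructor
    intro x hx g
    rw [hL'mem] at hx ⊢
    refine ⟨hKn.conj_mem x hx.1 g, hx.2.of_orderOf_dvd ?_⟩
    have hsc : SemiconjBy g x (g * x * g⁻¹) := by unfold SemiconjBy; group
    rw [hsc.orderOf_eq]
  have hL'K : L' ≤ K := fun x hx => ((hL'mem x).mp hx).1
  set φ := QuotientGroup.mk' L' with hφ
  have hφs : Function.Surjective φ := QuotientGroup.mk'_surjective L'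
  have hker : φ.ker = L' := QuotientGroup.ker_mk' L'
  have hkerπ : ∀ x ∈ φ.ker, IsPi π x := by
    intro x hx
    rw [hker] at hx
    exact ((hL'mem x).mp hx).2
  have hKπ : ∀ x ∈ K, IsPi π x → x ∈ φ.ker := by
    intro x hxK hx
    rw [hker]
    exact (hL'mem x).mpr ⟨hxK, hx⟩
  let fb : G ⧸ L' →* G ⧸ K :=
    QuotientGroup.map L' K (MonoidHom.id G) (by rwa [Subgroup.comap_id])
  have hfbker : fb.ker = K.map φ := by
    rw [QuotientGroup.ker_map, Subgroup.comap_id]
  obtain ⟨Wb, hWb⟩ := exists_pi_subgroup_of_central_ker fb hQ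
    (by
      intro q hq hd hqπ
      rw [hfbker] at hd
      exact not_dvd_card_map φ K hKπ hq hqπ hd)
    (by
      intro xb hxb
      rw [hfbker]
      have hle : Subgroup.zpowers xb ≤
          Subgroup.centralizer ((K.map φ : Subgroup (G ⧸ L')) : Set (G ⧸ L')) := by
        apply le_of_forall_sylow_le
        intro q hq
        obtain ⟨S⟩ : Nonempty (Sylow q ↥(Subgroup.zpowers xb)) := inferInstance
        refine ⟨S, ?_⟩
        rintro _ ⟨s, hs, rfl⟩
        obtain ⟨k, hk⟩ := (IsPGroup.iff_orderOf.mp S.2) ⟨s, hs⟩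
        have hk' : orderOf s = q ^ k := by rw [← Subgroup.orderOf_mk s hs]; exact hk
        by_cases hk0 : k = 0
        · subst hk0
          rw [pow_zero, orderOf_eq_one_iff] at hk'
          rw [hk']
          exact Subgroup.one_mem _
        · have hqd : q ∣ orderOf xb := by
            have h1 : q ∣ orderOf s := by rw [hk']; exact dvd_pow_self q hk0
            have h2 : orderOf s ∣ Nat.card ↥(Subgroup.zpowers xb) := orderOf_dvd_natCard s
            rw [Nat.card_zpowers] at h2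
            exact h1.trans h2
          have hqπ : q ∈ π := hxb q hq.out hqd
          exact mem_centralizer_map_of_prime_pow φ hφs K hkerπ hKπ hhom hq.out hqπ _ k
            (by show orderOf (s : G ⧸ L') = q ^ k; rw [Subgroup.orderOf_coe]; exact hk')
      exact hle (Subgroup.mem_zpowers xb))
  refine ⟨Wb.comap φ, fun x => ?_⟩
  rw [Subgroup.mem_comap, hWb]
  exact ⟨fun h => isPi_of_quotient L' (fun y hy => ((hL'mem y).mp hy).2) x h, fun h => h.map φ⟩

/-- One step up a normal series: from `A` to `B ≥ A` with `|B : A|` a `π`- or `π'`-number. -/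
theorem exists_pi_subgroup_step [Finite G] (hhom : HomE π G) {A B : Subgroup G}
    (hAn : A.Normal)
    (hA : ∃ W : Subgroup G, ∀ x, x ∈ W ↔ x ∈ A ∧ IsPi π x)
    (hfac : (∀ q : ℕ, q.Prime → q ∣ A.relIndex B → q ∈ π) ∨
      (∀ q : ℕ, q.Prime → q ∣ A.relIndex B → q ∉ π)) :
    ∃ W : Subgroup G, ∀ x, x ∈ W ↔ x ∈ B ∧ IsPi π x := by
  obtain ⟨W, hW⟩ := hA
  have hK'n : (A.subgroupOf B).Normal := Subgroup.normal_subgroupOf
  have hK : ∃ L : Subgroup ↥(A.subgroupOf B), ∀ x, x ∈ L ↔ IsPi π x := by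
    refine ⟨(W.subgroupOf B).subgroupOf (A.subgroupOf B), fun x => ?_⟩
    have hxA : ((x : ↥B) : G) ∈ A := Subgroup.mem_subgroupOf.mp x.2
    rw [Subgroup.mem_subgroupOf, Subgroup.mem_subgroupOf, hW, ← isPi_coe, ← isPi_coe]
    exact ⟨fun h => h.2, fun h => ⟨hxA, h⟩⟩
  have hQ : ∃ L : Subgroup (↥B ⧸ A.subgroupOf B), ∀ y, y ∈ L ↔ IsPi π y := by
    have hcard : Nat.card (↥B ⧸ A.subgroupOf B) = A.relIndex B :=
      (Subgroup.index_eq_card _).symm
    rcases hfac with h | h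
    · refine ⟨⊤, fun y => ⟨fun _ => ?_, fun _ => Subgroup.mem_top y⟩⟩
      intro q hq hd
      exact h q hq (by rw [← hcard]; exact hd.trans (orderOf_dvd_natCard y))
    · refine ⟨⊥, fun y => ⟨fun hy => ?_, fun hy => ?_⟩⟩
      · rw [Subgroup.mem_bot] at hy
        rw [hy]
        exact IsPi.one
      · rw [Subgroup.mem_bot]
        by_contra hne
        have hne' : orderOf y ≠ 1 := by rwa [Ne, orderOf_eq_one_iff]
        obtain ⟨q, hq, hqd⟩ := Nat.exists_prime_and_dvd hne'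
        exact h q hq (by rw [← hcard]; exact hqd.trans (orderOf_dvd_natCard y)) (hy q hq hqd)
  obtain ⟨L, hL⟩ := exists_pi_subgroup_of_extension (hhom.subgroup B) (A.subgroupOf B) hK hQ
  refine ⟨L.map B.subtype, fun x => ?_⟩
  constructor
  · rintro ⟨y, hy, rfl⟩
    exact ⟨y.2, (isPi_coe y).mpr ((hL y).mp hy)⟩
  · rintro ⟨hxB, hx⟩
    exact ⟨⟨x, hxB⟩, (hL _).mpr ((isPi_coe (⟨x, hxB⟩ : ↥B)).mp hx), rfl⟩

end main

end Cfsg.Agent.Lib.H22.PiClosed
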