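import Mathlib

/-!
Computational part for the primitive-part lower bound (S4423): kernel-checked finite tables.
-/

namespace Cfsg.Agent.Lib.H22.PrimPart

/-- number of `a < n` coprime to `e`, by structural recursion (kernel friendly). -/
def copR (e : ℕ) : ℕ → ℕ
  | 0 => 0
  | n + 1 => copR e n + (if Nat.gcd e n = 1 then 1 else 0)

theorem copR_eq (e n : ℕ) : copR e n = ((Finset.range n).filter (Nat.Coprime e)).card := by
  induction n with
  | zero => simp [copR]
  | succ n ih =>
    rw [copR, ih, Finset.range_add_one, Finset.filter_insert]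
    by_cases h : Nat.gcd e n = 1
    · have hc : Nat.Coprime e n := h
      rw [if_pos h, if_pos hc, Finset.card_insert_of_notMem]
      simp
    · have hc : ¬ Nat.Coprime e n := h
      rw [if_neg h, if_neg hc]; rfl

theorem copR_le_totient {e n : ℕ} (h : n ≤ e) : copR e n ≤ Nat.totient e := by
  rw [copR_eq, Nat.totient]
  exact Finset.card_le_card (Finset.filter_subset_filter _ (Finset.range_mono h))

theorem copR_self (e : ℕ) : copR e e = Nat.totient e := by
  rw [copR_eq, Nat.totient]

/-- product of `q^i - 1` for `1 ≤ i < e`. -/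
def bigL (q : ℕ) : ℕ → ℕ
  | 0 => 1
  | n + 1 => if n = 0 then 1 else bigL q n * (q ^ n - 1)

/-- candidate primitive divisor. -/
def cand (q e : ℕ) : ℕ := (q ^ e - 1) / Nat.gcd (q ^ e - 1) (bigL q e)

/-- the check that `m` is a primitive divisor of `q^e-1` with `m ≥ 3e+1`. -/
def chk (q e m : ℕ) : Bool :=
  (q ^ e - 1) % m == 0 && ((List.range e).all fun i => i == 0 || Nat.gcd m (q ^ i - 1) == 1)
    && decide (3 * e + 1 ≤ m)

theorem chk_spec {q e m : ℕ} (h : chk q e m = true) :
    m ∣ q ^ e - 1 ∧ (∀ i : ℕ, 1 ≤ i → i < e → Nat.Coprime m (q ^ i - 1)) ∧ 3 * e + 1 ≤ m := by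
  simp only [chk, Bool.and_eq_true, beq_iff_eq, List.all_eq_true, List.mem_range, Bool.or_eq_true,
    decide_eq_true_eq] at h
  obtain ⟨⟨h1, h2⟩, h3⟩ := h
  refine ⟨Nat.dvd_of_mod_eq_zero h1, ?_, h3⟩
  intro i hi hie
  rcases h2 i hie with h0 | h0
  · omega
  · exact h0

def excList : List (ℕ × ℕ) :=
  [(2, 6), (2, 4), (2, 10), (2, 12), (2, 18), (3, 4), (3, 6), (5, 6), (2, 3), (2, 8), (2, 20),
    (4, 3), (4, 6)]

/-- the per-pair predicate for the small region. -/
def good (t q e : ℕ) : Bool :=
  decide (e < 3) || decide (q < 2) || decide ((q, e) ∈ excList) ||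
    decide ((e * (3 * e + 1)) ^ 2 ≤ q ^ t) || chk q e (cand q e)

def smallTable : Bool :=
  (List.range 91).all fun e => (List.range 157).all fun q => good (copR e e) q e

def midTable (a n : ℕ) : Bool :=
  (List.range' a n).all fun e => decide ((e * (3 * e + 1)) ^ 2 ≤ 2 ^ copR e (min e 256))

def totTable : Bool :=
  (List.range 91).all fun e => decide (e < 3) || decide (e = 3) || decide (e = 4) || decide (e = 6)
    || decide (4 ≤ copR e e)

end Cfsg.Agent.Lib.H22.PrimPart
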