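import Cfsg.Agent.Lib.H22.PrimPartComp

/-!
Kernel-checked tables for S4423.
-/

namespace Cfsg.Agent.Lib.H22.PrimPart

set_option maxRecDepth 1000000 in
theorem smallTable_eq : smallTable = true := by decide +kernel

set_option maxRecDepth 1000000 in
theorem totTable_eq : totTable = true := by decide +kernel

set_option maxRecDepth 1000000 in
theorem mid_0 : midTable 91 600 = true := by decide +kernel
set_option maxRecDepth 1000000 in
theorem mid_1 : midTable 691 600 = true := by decide +kernel
set_option maxRecDepth 1000000 in
theorem mid_2 : midTable 1291 600 = true := by decide +kernel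
set_option maxRecDepth 1000000 in
theorem mid_3 : midTable 1891 600 = true := by decide +kernel
set_option maxRecDepth 1000000 in
theorem mid_4 : midTable 2491 600 = true := by decide +kernel
set_option maxRecDepth 1000000 in
theorem mid_5 : midTable 3091 600 = true := by decide +kernel
set_option maxRecDepth 1000000 in
theorem mid_6 : midTable 3691 600 = true := by decide +kernel
set_option maxRecDepth 1000000 in
theorem mid_7 : midTable 4291 600 = true := by decide +kernel
set_option maxRecDepth 1000000 in
theorem mid_8 : midTable 4891 600 = true := by decide +kernel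
set_option maxRecDepth 1000000 in
theorem mid_9 : midTable 5491 341 = true := by decide +kernel

theorem midTable_spec {a n e : ℕ} (h : midTable a n = true) (h1 : a ≤ e) (h2 : e < a + n) :
    (e * (3 * e + 1)) ^ 2 ≤ 2 ^ copR e (min e 256) := by
  simp only [midTable, List.all_eq_true, decide_eq_true_eq] at h
  exact h e (by rw [List.mem_range'_1]; exact ⟨h1, h2⟩)

theorem mid_all {e : ℕ} (h1 : 91 ≤ e) (h2 : e < 5832) :
    (e * (3 * e + 1)) ^ 2 ≤ 2 ^ copR e (min e 256) := by
  by_cases c0 : e < 691
  · exact midTable_spec mid_0 h1 (by omega)
  by_cases c1 : e < 1291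
  · exact midTable_spec mid_1 (by omega) (by omega)
  by_cases c2 : e < 1891
  · exact midTable_spec mid_2 (by omega) (by omega)
  by_cases c3 : e < 2491
  · exact midTable_spec mid_3 (by omega) (by omega)
  by_cases c4 : e < 3091
  · exact midTable_spec mid_4 (by omega) (by omega)
  by_cases c5 : e < 3691
  · exact midTable_spec mid_5 (by omega) (by omega)
  by_cases c6 : e < 4291
  · exact midTable_spec mid_6 (by omega) (by omega)
  by_cases c7 : e < 4891
  · exact midTable_spec mid_7 (by omega) (by omega)
  by_cases c8 : e < 5491
  · exact midTable_spec mid_8 (by omega) (by omega)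
  · exact midTable_spec mid_9 (by omega) (by omega)

theorem mid_totient {e : ℕ} (h1 : 91 ≤ e) (h2 : e < 5832) :
    (e * (3 * e + 1)) ^ 2 ≤ 2 ^ e.totient :=
  le_trans (mid_all h1 h2)
    (Nat.pow_le_pow_right (by norm_num) (copR_le_totient (Nat.min_le_left _ _)))

theorem small_spec {q e : ℕ} (he : e ≤ 90) (hq : q ≤ 156) :
    good (Nat.totient e) q e = true := by
  have h := smallTable_eq
  simp only [smallTable, List.all_eq_true, List.mem_range] at h
  have := h e (by omega) q (by omega)
  rwa [copR_self] at this

theorem tot_spec {e : ℕ} (he3 : 3 ≤ e) (he : e ≤ 90) :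
    e = 3 ∨ e = 4 ∨ e = 6 ∨ 4 ≤ e.totient := by
  have h := totTable_eq
  simp only [totTable, List.all_eq_true, List.mem_range, Bool.or_eq_true, decide_eq_true_eq] at h
  have := h e (by omega)
  rw [copR_self] at this
  omega

end Cfsg.Agent.Lib.H22.PrimPart
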