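import Mathlib
import Cfsg.Agent.Lib.H29.Zsigmondy

/-!
Theory part for the primitive-part lower bound (S4423): lower bound for cyclotomic values,
existence of a large primitive divisor, totient bound.
-/

namespace Cfsg.Agent.Lib.H22.PrimPart

open Polynomial Cfsg.Agent.Lib.H29.Zsig

theorem totient_sq_bound (n : ℕ) :
    n ≤ 2 * n.totient ^ 2 ∧ (Odd n → n ≤ n.totient ^ 2) := by
  induction n using induction_on_primes with
  | zero => simp
  | one => simp
  | prime_mul p a hp ih =>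
    obtain ⟨ih1, ih2⟩ := ih
    have hp2 := hp.two_le
    by_cases hpa : p ∣ a
    · rw [Nat.totient_mul_of_prime_of_dvd hp hpa]
      set t := a.totient with ht
      have hpp : p ≤ p ^ 2 := Nat.le_self_pow (by norm_num) p
      constructor
      · calc p * a ≤ p * (2 * t ^ 2) := Nat.mul_le_mul_left _ ih1
          _ = 2 * t ^ 2 * p := by ring
          _ ≤ 2 * t ^ 2 * p ^ 2 := Nat.mul_le_mul_left _ hpp
          _ = 2 * (p * t) ^ 2 := by ring
      · intro hodd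
        have hao : Odd a := (Nat.odd_mul.1 hodd).2
        calc p * a ≤ p * t ^ 2 := Nat.mul_le_mul_left _ (ih2 hao)
          _ = t ^ 2 * p := by ring
          _ ≤ t ^ 2 * p ^ 2 := Nat.mul_le_mul_left _ hpp
          _ = (p * t) ^ 2 := by ring
    · rw [Nat.totient_mul_of_prime_of_not_dvd hp hpa]
      set t := a.totient with ht
      rcases hp.eq_two_or_odd' with rfl | hodd
      · have hao : Odd a := by
          rw [← Nat.not_even_iff_odd, even_iff_two_dvd]; exact hpa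
        have h := ih2 hao
        constructor
        · norm_num; exact h
        · intro h2
          exact absurd h2 (by rw [Nat.not_odd_iff_even]; exact even_two_mul a)
      · have hp3 : 3 ≤ p := by
          rcases hodd with ⟨k, hk⟩; omega
        have hsq : p ≤ (p - 1) ^ 2 := by
          obtain ⟨s, rfl⟩ : ∃ s, p = s + 3 := ⟨p - 3, by omega⟩
          have : s + 3 - 1 = s + 2 := by omega
          rw [this]; nlinarith
        constructor
        · calc p * a ≤ (p - 1) ^ 2 * (2 * t ^ 2) := Nat.mul_le_mul hsq ih1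
            _ = 2 * ((p - 1) * t) ^ 2 := by ring
        · intro hoddpa
          have hao : Odd a := (Nat.odd_mul.1 hoddpa).2
          calc p * a ≤ (p - 1) ^ 2 * t ^ 2 := Nat.mul_le_mul hsq (ih2 hao)
            _ = ((p - 1) * t) ^ 2 := by ring

theorem cyc_pos' {n q : ℕ} (hq : 2 ≤ q) : 0 < cyc n q := by
  rw [cyc]
  exact cyclotomic_pos' n (by exact_mod_cast (by omega : 1 < q))

theorem cyc_le_add_one_pow {k q : ℕ} (hq : 2 ≤ q) :
    cyc k q ≤ (((q + 1) ^ k.totient : ℕ) : ℤ) := by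
  have h := cyclotomic_eval_le_add_one_pow_totient (q := (q : ℝ))
    (by exact_mod_cast (by omega : 1 < q)) k
  rw [← cyc_cast ℝ k q] at h
  have h' : ((cyc k q : ℤ) : ℝ) ≤ ((((q + 1) ^ k.totient : ℕ) : ℤ) : ℝ) := by
    push_cast; exact h
  exact_mod_cast h'

theorem sub_one_pow_le_cyc {k q : ℕ} (hq : 2 ≤ q) :
    (((q - 1) ^ k.totient : ℕ) : ℤ) ≤ cyc k q := by
  have h := sub_one_pow_totient_le_cyclotomic_eval (q := (q : ℝ))
    (by exact_mod_cast (by omega : 1 < q)) k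
  rw [← cyc_cast ℝ k q] at h
  have h' : ((((q - 1) ^ k.totient : ℕ) : ℤ) : ℝ) ≤ ((cyc k q : ℤ) : ℝ) := by
    push_cast [Nat.cast_sub (by omega : 1 ≤ q)]; exact h
  exact_mod_cast h'

/-- lower bound, case `p ∣ k`. -/
theorem cyc_sq_ge_of_dvd {p k q : ℕ} (hq : 2 ≤ q) (hp : p.Prime) (h : p ∣ k) :
    ((q ^ (k * p).totient : ℕ) : ℤ) ≤ (cyc (k * p) q) ^ 2 := by
  have hp2 := hp.two_le
  rw [cyc_mul_prime_of_dvd q hp h]
  have hQ : 2 ≤ q ^ p := le_trans hq (Nat.le_self_pow hp.ne_zero q)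
  have h1 := sub_one_pow_le_cyc (k := k) hQ
  have h2 : q ^ (p - 1) ≤ q ^ p - 1 := by
    obtain ⟨s, rfl⟩ : ∃ s, p = s + 1 := ⟨p - 1, by omega⟩
    have : s + 1 - 1 = s := by omega
    rw [this, pow_succ]
    have h1s : 1 ≤ q ^ s := Nat.one_le_pow _ _ (by omega)
    have h2s : q ^ s * 2 ≤ q ^ s * q := Nat.mul_le_mul_left _ hq
    generalize q ^ s * q = b at *
    generalize q ^ s = a at *
    omega
  set A : ℕ := (q ^ (p - 1)) ^ k.totient with hA
  have h3 : A ≤ (q ^ p - 1) ^ k.totient := Nat.pow_le_pow_left h2 _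
  have h4 : (A : ℤ) ≤ cyc k (q ^ p) := le_trans (by exact_mod_cast h3) h1
  have h5 : (A : ℤ) ^ 2 ≤ (cyc k (q ^ p)) ^ 2 :=
    pow_le_pow_left₀ (Int.natCast_nonneg _) h4 2
  have h6 : q ^ (k * p).totient ≤ A ^ 2 := by
    rw [mul_comm k p, Nat.totient_mul_of_prime_of_dvd hp h, hA, ← pow_mul, ← pow_mul]
    apply Nat.pow_le_pow_right (by omega)
    have : p ≤ (p - 1) * 2 := by omega
    calc p * k.totient ≤ (p - 1) * 2 * k.totient := Nat.mul_le_mul_right _ this
      _ = (p - 1) * (k.totient * 2) := by ring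
  calc ((q ^ (k * p).totient : ℕ) : ℤ) ≤ ((A ^ 2 : ℕ) : ℤ) := by exact_mod_cast h6
    _ = (A : ℤ) ^ 2 := by push_cast; ring
    _ ≤ _ := h5

/-- lower bound, case `p ∤ k`, `p ≥ 3`. -/
theorem cyc_sq_ge_of_not_dvd {p k q : ℕ} (hq : 2 ≤ q) (hp : p.Prime) (hp3 : 3 ≤ p)
    (h : ¬ p ∣ k) :
    ((q ^ (k * p).totient : ℕ) : ℤ) ≤ (cyc (k * p) q) ^ 2 := by
  have hmul := cyc_mul_prime_of_not_dvd q hp h
  have hQ : 2 ≤ q ^ p := le_trans hq (Nat.le_self_pow hp.ne_zero q)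
  have h1 := sub_one_pow_le_cyc (k := k) hQ
  have hY := cyc_le_add_one_pow (k := k) hq
  have hYpos := cyc_pos' (n := k) hq
  have hXpos := cyc_pos' (n := k * p) hq
  have h2 : (q + 1) * q ^ (p - 2) ≤ q ^ p - 1 := by
    obtain ⟨s, rfl⟩ : ∃ s, p = s + 2 := ⟨p - 2, by omega⟩
    have : s + 2 - 2 = s := by omega
    rw [this, pow_add]
    have h1s : 1 ≤ q ^ s := Nat.one_le_pow _ _ (by omega)
    have hq2 : q + 2 ≤ q ^ 2 := by nlinarith
    have : (q + 1) * q ^ s + 1 ≤ q ^ s * q ^ 2 := by nlinarith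
    omega
  set B : ℕ := (q ^ (p - 2)) ^ k.totient with hB
  set C : ℕ := (q + 1) ^ k.totient with hC
  have hCpos : 0 < C := pow_pos (by omega) _
  have h3 : C * B ≤ (q ^ p - 1) ^ k.totient := by
    rw [hC, hB, ← mul_pow]; exact Nat.pow_le_pow_left h2 _
  have h4 : ((C * B : ℕ) : ℤ) ≤ cyc k (q ^ p) := le_trans (by exact_mod_cast h3) h1
  have h5 : (C : ℤ) * (B : ℤ) ≤ cyc (k * p) q * (C : ℤ) := by
    calc (C : ℤ) * (B : ℤ) = ((C * B : ℕ) : ℤ) := by push_cast; ring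
      _ ≤ cyc k (q ^ p) := h4
      _ = cyc (k * p) q * cyc k q := hmul.symm
      _ ≤ cyc (k * p) q * (C : ℤ) := by
        apply mul_le_mul_of_nonneg_left _ hXpos.le
        exact hY
  have h6 : (B : ℤ) ≤ cyc (k * p) q := by
    have hC' : (0 : ℤ) < (C : ℤ) := by exact_mod_cast hCpos
    rw [mul_comm (C : ℤ) (B : ℤ)] at h5
    exact le_of_mul_le_mul_right h5 hC'
  have h7 : (B : ℤ) ^ 2 ≤ (cyc (k * p) q) ^ 2 :=
    pow_le_pow_left₀ (Int.natCast_nonneg _) h6 2
  have h8 : q ^ (k * p).totient ≤ B ^ 2 := by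
    rw [mul_comm k p, Nat.totient_mul_of_prime_of_not_dvd hp h, hB, ← pow_mul, ← pow_mul]
    apply Nat.pow_le_pow_right (by omega)
    have : p - 1 ≤ (p - 2) * 2 := by omega
    calc (p - 1) * k.totient ≤ (p - 2) * 2 * k.totient := Nat.mul_le_mul_right _ this
      _ = (p - 2) * (k.totient * 2) := by ring
  calc ((q ^ (k * p).totient : ℕ) : ℤ) ≤ ((B ^ 2 : ℕ) : ℤ) := by exact_mod_cast h8
    _ = (B : ℤ) ^ 2 := by push_cast; ring
    _ ≤ _ := h7

theorem exists_good_prime {n : ℕ} (hn : 3 ≤ n) :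
    ∃ p k : ℕ, p.Prime ∧ n = k * p ∧ (p ∣ k ∨ 3 ≤ p) := by
  by_cases h : ∃ p : ℕ, p.Prime ∧ p ∣ n ∧ p ≠ 2
  · obtain ⟨p, hp, ⟨k, hk⟩, hne⟩ := h
    refine ⟨p, k, hp, by rw [hk, mul_comm], Or.inr ?_⟩
    have := hp.two_le; omega
  · push Not at h
    obtain ⟨p, hp, hpn⟩ := Nat.exists_prime_and_dvd (by omega : n ≠ 1)
    have hp2 : p = 2 := h p hp hpn
    subst hp2
    obtain ⟨k, hk⟩ := hpn
    have hk1 : k ≠ 1 := by omega
    obtain ⟨p', hp', hp'k⟩ := Nat.exists_prime_and_dvd hk1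
    have hp'2 : p' = 2 := h p' hp' (hk ▸ hp'k.mul_left 2)
    subst hp'2
    exact ⟨2, k, Nat.prime_two, by rw [hk, mul_comm], Or.inl hp'k⟩

theorem cyc_sq_ge {q n : ℕ} (hq : 2 ≤ q) (hn : 3 ≤ n) :
    ((q ^ n.totient : ℕ) : ℤ) ≤ (cyc n q) ^ 2 := by
  obtain ⟨p, k, hp, rfl, h | h⟩ := exists_good_prime hn
  · exact cyc_sq_ge_of_dvd hq hp h
  · by_cases hpk : p ∣ k
    · exact cyc_sq_ge_of_dvd hq hp hpk
    · exact cyc_sq_ge_of_not_dvd hq hp h hpk

/-- existence of a primitive divisor `m` with `Φ_n(q) ≤ m * n`. -/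
theorem exists_prim_div {q n : ℕ} (hq : 2 ≤ q) (hn : 3 ≤ n) :
    ∃ m : ℕ, m ∣ q ^ n - 1 ∧ (∀ i : ℕ, 1 ≤ i → i < n → Nat.Coprime m (q ^ i - 1)) ∧
      (cyc n q).toNat ≤ m * n := by
  have hpos := cyc_pos' (n := n) hq
  set F : ℕ := (cyc n q).toNat with hFdef
  have hF : (F : ℤ) = cyc n q := Int.toNat_of_nonneg hpos.le
  have hn0 : 0 < n := by omega
  set g := Nat.gcd F n with hg
  have hgpos : 0 < g := Nat.gcd_pos_of_pos_right _ hn0
  have hgn : g ≤ n := Nat.gcd_le_right _ hn0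
  have hm : F / g * g = F := Nat.div_mul_cancel (Nat.gcd_dvd_left _ _)
  refine ⟨F / g, ?_, ?_, ?_⟩
  · have h1 : F / g ∣ F := Dvd.intro _ hm
    have h2 : (F : ℤ) ∣ ((q ^ n - 1 : ℕ) : ℤ) := by
      rw [hF, Nat.cast_sub (Nat.one_le_pow _ _ (by omega))]
      push_cast
      exact cyc_dvd n q
    exact h1.trans (Int.natCast_dvd_natCast.1 h2)
  · intro i hi hin
    apply Nat.coprime_of_dvd
    intro r hr hrm hri
    have hrF : r ∣ F := hrm.trans (Dvd.intro _ hm)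
    have hrc : (r : ℤ) ∣ cyc n q := by rw [← hF]; exact_mod_cast hrF
    have hrn : ¬ r ∣ n := by
      intro hrn
      have hrg : r ∣ g := Nat.dvd_gcd hrF hrn
      have hsqF : r * r ∣ F := by rw [← hm]; exact Nat.mul_dvd_mul hrm hrg
      have hsq : (r : ℤ) ^ 2 ∣ cyc n q := by
        rw [← hF, sq]; exact_mod_cast hsqF
      rcases hr.eq_two_or_odd' with rfl | hodd
      · -- r = 2
        obtain ⟨t, ht⟩ := hrn
        have h4n : 4 ∣ n := by
          rcases Nat.even_or_odd t with he | ho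
          · obtain ⟨u, hu⟩ := he
            exact ⟨u, by omega⟩
          · exfalso
            have ht1 : t ≠ 1 := by omega
            obtain ⟨p', hp', hp't⟩ := Nat.exists_prime_and_dvd ht1
            have hne : p' ≠ 2 := by
              rintro rfl
              exact (Nat.not_even_iff_odd.2 ho) (even_iff_two_dvd.2 hp't)
            have hp'n : p' ∣ n := by rw [ht]; exact hp't.mul_left 2
            have := dvd_sub_one_of_prime_dvd (by omega : 1 < q) hn0 hp' hp'n Nat.prime_two hrc hne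
            have := Nat.le_of_dvd (by norm_num) this
            have := hp'.two_le
            omega
        apply not_four_dvd (by omega : 1 < q) hn0 h4n
        have : ((2 : ℕ) : ℤ) ^ 2 = 4 := by norm_num
        rw [this] at hsq
        exact hsq
      · exact not_sq_dvd_of_odd (by omega) hn0 hr hodd hrn hrc hsq
    exact (primitive_of_not_dvd (by omega : 0 < q) hr hrc hrn).2 i (by omega) hin hri
  · calc F = F / g * g := hm.symm
      _ ≤ F / g * n := Nat.mul_le_mul_left _ hgn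

theorem pow_bound {s : ℕ} (hs : 54 ≤ s) : 169 * s ^ 8 ≤ 2 ^ s := by
  induction s, hs using Nat.le_induction with
  | base => norm_num
  | succ s hs ih =>
    have h1 : 25 * (s + 1) ^ 2 ≤ 26 * s ^ 2 := by nlinarith
    have h2 : (25 * (s + 1) ^ 2) ^ 4 ≤ (26 * s ^ 2) ^ 4 := Nat.pow_le_pow_left h1 4
    have h3 : (25 * (s + 1) ^ 2) ^ 4 = 390625 * (s + 1) ^ 8 := by ring
    have h4 : (26 * s ^ 2) ^ 4 = 456976 * s ^ 8 := by ring
    rw [h3, h4] at h2
    rw [pow_succ 2 s]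
    generalize (s + 1) ^ 8 = X at *
    generalize s ^ 8 = Y at *
    generalize 2 ^ s = Z at *
    omega

/-- for `e ≥ 5832`, `(e (3e+1))^2 ≤ 2^φ(e)`. -/
theorem large_bound {e : ℕ} (he : 5832 ≤ e) : (e * (3 * e + 1)) ^ 2 ≤ 2 ^ e.totient := by
  set s := e.totient with hs
  have h1 : e ≤ 2 * s ^ 2 := (totient_sq_bound e).1
  have hs54 : 54 ≤ s := by
    by_contra hlt
    have : s ≤ 53 := by omega
    have : s ^ 2 ≤ 53 ^ 2 := Nat.pow_le_pow_left this 2
    omega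
  have h2 : e * (3 * e + 1) ≤ 13 * s ^ 4 := by
    have hs2 : 2 ≤ s ^ 2 := by nlinarith
    calc e * (3 * e + 1) ≤ (2 * s ^ 2) * (3 * (2 * s ^ 2) + 1) :=
          Nat.mul_le_mul h1 (by omega)
      _ = 12 * s ^ 4 + 2 * s ^ 2 := by ring
      _ ≤ 12 * s ^ 4 + s ^ 2 * s ^ 2 := by nlinarith
      _ = 13 * s ^ 4 := by ring
  calc (e * (3 * e + 1)) ^ 2 ≤ (13 * s ^ 4) ^ 2 := Nat.pow_le_pow_left h2 2
    _ = 169 * s ^ 8 := by ring
    _ ≤ 2 ^ s := pow_bound hs54

end Cfsg.Agent.Lib.H22.PrimPart
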