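import Mathlib
import Cfsg.Agent.Lib.H11.RK2Defs

/-!
# S5289 piece RK2 T3OM (helper22): `T3.omega_le` (`Ω₁(G) ≤ M₀`) and `T3.exp_m0` (`n = 4`: `M₀` has exponent `p`)

Architect: helper11 (`tools/blueprints/S5289.md`, `tools/blueprints/S5289_sigs.lean`).
-/

set_option autoImplicit false
set_option linter.unusedSectionVars false

namespace Cfsg.Agent.Lib.H22.RK2

open Cfsg.Agent.Lib.H11.RK2

section T3

variable {G : Type*} [Group G] [Finite G] {p n s : ℕ} [Fact p.Prime] {x y z : G}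

/-- The `p`-th power map as an endomorphism. -/
def t3om_powHom (p : ℕ) (hpow : ∀ g k : G, (g * k) ^ p = g ^ p * k ^ p) : G →* G where
  toFun g := g ^ p
  map_one' := one_pow p
  map_mul' := hpow

/-- Under a multiplicative power map, `p`-th powers of `M₀ = ⟨x, y, z^p⟩` lie in `⟨z^(p*p)⟩`. -/
theorem T3.t3om_pow_mem (h : T3 p n s x y z) (hpow : ∀ g k : G, (g * k) ^ p = g ^ p * k ^ p) :
    ∀ r ∈ Subgroup.closure ({x, y, z ^ p} : Set G), r ^ p ∈ Subgroup.zpowers (z ^ (p * p)) := by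
  have : Subgroup.closure ({x, y, z ^ p} : Set G) ≤
      (Subgroup.zpowers (z ^ (p * p))).comap (t3om_powHom p hpow) := by
    rw [Subgroup.closure_le]
    intro g hg
    rcases hg with rfl | rfl | rfl
    · simp only [SetLike.mem_coe, Subgroup.mem_comap]
      change g ^ p ∈ _
      rw [h.hx]; exact Subgroup.one_mem _
    · simp only [SetLike.mem_coe, Subgroup.mem_comap]
      change g ^ p ∈ _
      rw [h.hy]; exact Subgroup.one_mem _
    · simp only [SetLike.mem_coe, Subgroup.mem_comap]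
      change (z ^ p) ^ p ∈ _
      rw [← pow_mul]; exact Subgroup.mem_zpowers _
  intro r hr
  exact this hr

/-- **T3OM**.  `Ω₁(G) ≤ M₀`. -/
theorem T3.omega_le (h : T3 p n s x y z) (hpow : ∀ g k : G, (g * k) ^ p = g ^ p * k ^ p)
    (hord : orderOf z = p ^ (n - 2))
    (hm3 : ∀ g : G, ∃ i : ℕ, ∃ r ∈ Subgroup.closure ({x, y, z ^ p} : Set G), g = z ^ i * r) :
    ∀ g : G, g ^ p = 1 → g ∈ Subgroup.closure ({x, y, z ^ p} : Set G) := by
  intro g hg
  obtain ⟨i, r, hr, rfl⟩ := hm3 g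
  have hp0 : (p : ℤ) ≠ 0 := by exact_mod_cast (Fact.out : p.Prime).ne_zero
  obtain ⟨j, hj⟩ := T3.t3om_pow_mem h hpow r hr
  -- z^(i*p) * (z^(p*p))^j = 1
  have e : z ^ ((i : ℤ) * p + (p * p : ℤ) * j) = 1 := by
    rw [zpow_add, zpow_mul, zpow_mul]
    have e1 : (z ^ (i : ℤ)) ^ (p : ℤ) = (z ^ i) ^ p := by
      rw [zpow_natCast, zpow_natCast]
    have e2 : (z ^ ((p : ℤ) * (p : ℤ))) = z ^ (p * p) := by
      rw [← Nat.cast_mul, zpow_natCast]
    rw [e1, e2]
    change (z ^ (p * p)) ^ j = r ^ p at hj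
    rw [hj, ← hpow]
    exact hg
  have hdvd : ((p ^ (n - 2) : ℕ) : ℤ) ∣ (i : ℤ) * p + (p * p : ℤ) * j := by
    rw [← hord]
    exact orderOf_dvd_iff_zpow_eq_one.mpr e
  have hpp2 : ((p : ℤ) * p) ∣ ((p ^ (n - 2) : ℕ) : ℤ) := by
    have hn := h.hn
    have : n - 2 = 2 + (n - 4) := by omega
    rw [this, pow_add]
    push_cast
    exact ⟨(p : ℤ) ^ (n - 4), by ring⟩
  have h3 : ((p : ℤ) * p) ∣ (i : ℤ) * p := by
    have h4 := hpp2.trans hdvd
    have h5 : ((p : ℤ) * p) ∣ (p * p : ℤ) * j := Dvd.intro _ rfl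
    exact (Int.dvd_add_left h5).mp h4
  have h6 : (p : ℤ) ∣ (i : ℤ) := by
    rw [mul_comm (i : ℤ)] at h3
    exact (mul_dvd_mul_iff_left hp0).mp h3
  have h7 : p ∣ i := by exact_mod_cast h6
  obtain ⟨m, rfl⟩ := h7
  have hzp : z ^ p ∈ Subgroup.closure ({x, y, z ^ p} : Set G) := Subgroup.subset_closure (by simp)
  rw [pow_mul]
  exact Subgroup.mul_mem _ (Subgroup.pow_mem _ hzp m) hr

/-- **T3EX**.  For `n = 4`, `M₀` has exponent `p`. -/
theorem T3.exp_m0 (h : T3 p n s x y z) (hpow : ∀ g k : G, (g * k) ^ p = g ^ p * k ^ p) (hn4 : n = 4) :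
    ∀ r ∈ Subgroup.closure ({x, y, z ^ p} : Set G), r ^ p = 1 := by
  intro r hr
  obtain ⟨j, hj⟩ := T3.t3om_pow_mem h hpow r hr
  have hz := h.hz
  subst hn4
  have : z ^ (p * p) = 1 := by
    have e : p * p = p ^ (4 - 2) := by norm_num [sq]
    rw [e]; exact hz
  change (z ^ (p * p)) ^ j = r ^ p at hj
  rw [this, one_zpow] at hj
  exact hj.symm

end T3

end Cfsg.Agent.Lib.H22.RK2
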