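import Cfsg.Agent.Lib.H22.ROKREAL
import Cfsg.Agent.Lib.H24.GlaubOver4
import Cfsg.Agent.Lib.H26.RODefs

/-!
# S4581 piece EMPTY (helper22)

`constituent_props`: `V ≤ Y` a 2-group normalized by `Y`, `z ∈ V` central in `Y`; an irreducible
constituent `μ` of `χ_V`, `χ ∈ CC ρ Y z ζ`, is linear, has `μ z = ζ`, and is real-valued if `ρ`.
-/

set_option autoImplicit false

universe u

namespace Cfsg.Agent.Lib.H22.RO

open Cfsg Cfsg.Agent.Lib.L0 Cfsg.Agent.Lib.H23 Cfsg.Agent.Lib.H24 Cfsg.Agent.Lib.H24.Glaub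
  Cfsg.Agent.Lib.H26.RO

variable {Γ : Type u} [Group Γ] [Finite Γ]

/-- EMPTY. -/
theorem constituent_props (ρ : Prop) (Y V : Subgroup Γ) (hVY : V ≤ Y) (hV : IsPGroup 2 V)
    (hVn : ∀ y ∈ Y, ∀ v ∈ V, y * v * y⁻¹ ∈ V) (z : Γ) (hzV : z ∈ V)
    (hzc : ∀ y ∈ Y, y * z = z * y) (ζ : ℂ) (χ : IrrCharacter ↥Y)
    (hχ : χ ∈ CC ρ ↥Y ⟨z, hVY hzV⟩ ζ) (μ : IrrCharacter ↥V)
    (hov : Over hVY (χ : ↥Y → ℂ) (μ : ↥V → ℂ)) :
    (μ : ↥V → ℂ) 1 = 1 ∧ (μ : ↥V → ℂ) ⟨z, hzV⟩ = ζ ∧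
      (ρ → ∀ v : ↥V, ((μ : ↥V → ℂ) v).im = 0) := by
  classical
  letI : Fintype Γ := Fintype.ofFinite Γ
  letI : Fintype ↥V := Fintype.ofFinite ↥V
  letI : Fintype ↥Y := Fintype.ofFinite ↥Y
  letI : Fintype (IrrCharacter ↥V) := Fintype.ofFinite _
  obtain ⟨hodd, hρ, hpow⟩ := hχ
  have hχc := isCharacter_of_irr χ.2
  have hov' : classInner (res hVY (χ : ↥Y → ℂ)) (μ : ↥V → ℂ) ≠ 0 := by
    convert hov
  have hμm : resMult hVY (χ : ↥Y → ℂ) (μ : ↥V → ℂ) ≠ 0 := (resMult_ne_zero_iff hVY χ μ).2 hov'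
  -- every constituent is a conjugate of `μ`
  have hconj : ∀ φ : IrrCharacter ↥V, resMult hVY (χ : ↥Y → ℂ) (φ : ↥V → ℂ) ≠ 0 →
      ∃ c : Γ, ∃ hc : c ∈ Y, (φ : ↥V → ℂ) =
        (μ : ↥V → ℂ) ∘ conjN V c (hVn c hc) (inv_norm_of_norm (hVn c hc)) :=
    fun φ hφ => exists_conj_of_constituents_amb hVY hVn χ μ φ hμm hφ
  have hdegφ : ∀ φ : IrrCharacter ↥V, resMult hVY (χ : ↥Y → ℂ) (φ : ↥V → ℂ) ≠ 0 →
      charDegree (φ : ↥V → ℂ) = charDegree (μ : ↥V → ℂ) := by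
    intro φ hφ
    obtain ⟨c, hc, h⟩ := hconj φ hφ
    unfold charDegree
    rw [h, Function.comp_apply, map_one]
  have hzφ : ∀ φ : IrrCharacter ↥V, resMult hVY (χ : ↥Y → ℂ) (φ : ↥V → ℂ) ≠ 0 →
      (φ : ↥V → ℂ) ⟨z, hzV⟩ = (μ : ↥V → ℂ) ⟨z, hzV⟩ := by
    intro φ hφ
    obtain ⟨c, hc, h⟩ := hconj φ hφ
    rw [h, Function.comp_apply]
    have he : conjN V c (hVn c hc) (inv_norm_of_norm (hVn c hc)) ⟨z, hzV⟩ = ⟨z, hzV⟩ := by
      apply Subtype.ext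
      rw [conjN_apply]
      show c * z * c⁻¹ = z
      rw [hzc c hc]
      group
    rw [he]
  -- the degree of `χ`
  have hsum := charDegree_eq_sum_resMult hVY χ
  have hsum' : charDegree (χ : ↥Y → ℂ) =
      (∑ φ : IrrCharacter ↥V, resMult hVY (χ : ↥Y → ℂ) (φ : ↥V → ℂ)) *
        charDegree (μ : ↥V → ℂ) := by
    rw [hsum, Finset.sum_mul]
    refine Finset.sum_congr rfl (fun φ _ => ?_)
    by_cases h0 : resMult hVY (χ : ↥Y → ℂ) (φ : ↥V → ℂ) = 0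
    · rw [h0, zero_mul, zero_mul]
    · rw [hdegφ φ h0]
  have hμodd : Odd (charDegree (μ : ↥V → ℂ)) := by
    rw [hsum'] at hodd
    exact (Nat.odd_mul.1 hodd).2
  have hμ1 : charDegree (μ : ↥V → ℂ) = 1 := by
    have h1 := charDegree_dvd_card (μ : ↥V → ℂ) μ.2
    obtain ⟨k, hk⟩ := IsPGroup.iff_card.1 hV
    rw [hk] at h1
    obtain ⟨j, _, hj⟩ := (Nat.dvd_prime_pow Nat.prime_two).1 h1
    rcases Nat.eq_zero_or_pos j with h0 | hpos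
    · rw [hj, h0, pow_zero]
    · exfalso
      rw [hj] at hμodd
      have : Even (2 ^ j) := (Nat.even_pow' hpos.ne').2 even_two
      exact (Nat.not_odd_iff_even.2 this) hμodd
  have hμone : (μ : ↥V → ℂ) 1 = 1 := by
    rw [apply_one_eq_charDegree _ μ.2, hμ1, Nat.cast_one]
  refine ⟨hμone, ?_, ?_⟩
  · -- the value at `z`
    have hexp := classFunction_expansion (res hVY (χ : ↥Y → ℂ))
      (isClassFunction_of_isCharacter (isCharacter_res hVY hχc))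
    have h1 := congrFun hexp ⟨z, hzV⟩
    rw [Finset.sum_apply] at h1
    have h2 : ∀ φ : IrrCharacter ↥V,
        (classInner (res hVY (χ : ↥Y → ℂ)) (φ : ↥V → ℂ) • (φ : ↥V → ℂ)) ⟨z, hzV⟩ =
          (resMult hVY (χ : ↥Y → ℂ) (φ : ↥V → ℂ) : ℂ) * (μ : ↥V → ℂ) ⟨z, hzV⟩ := by
      intro φ
      rw [Pi.smul_apply, smul_eq_mul, ← resMult_spec hVY hχc φ.2]
      by_cases h0 : resMult hVY (χ : ↥Y → ℂ) (φ : ↥V → ℂ) = 0
      · rw [h0, Nat.cast_zero, zero_mul, zero_mul]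
      · rw [hzφ φ h0]
    rw [Finset.sum_congr rfl (fun φ _ => h2 φ), ← Finset.sum_mul] at h1
    have h3 : res hVY (χ : ↥Y → ℂ) ⟨z, hzV⟩ = ζ * (charDegree (χ : ↥Y → ℂ) : ℂ) := by
      have := hpow 1
      rw [pow_one, pow_one, apply_one_eq_charDegree _ χ.2] at this
      exact this
    have h4 : (charDegree (χ : ↥Y → ℂ) : ℂ) =
        ∑ φ : IrrCharacter ↥V, (resMult hVY (χ : ↥Y → ℂ) (φ : ↥V → ℂ) : ℂ) := by
      rw [hsum', hμ1, mul_one]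
      push_cast
      rfl
    rw [h3, ← h4] at h1
    have hne : (charDegree (χ : ↥Y → ℂ) : ℂ) ≠ 0 := by
      have : charDegree (χ : ↥Y → ℂ) ≠ 0 := fun h => by
        rw [h] at hodd
        exact (Nat.not_odd_iff_even.2 Even.zero) hodd
      exact_mod_cast this
    have h5 : (charDegree (χ : ↥Y → ℂ) : ℂ) * ζ =
        (charDegree (χ : ↥Y → ℂ) : ℂ) * (μ : ↥V → ℂ) ⟨z, hzV⟩ := by
      rw [mul_comm, h1]
    exact (mul_left_cancel₀ hne h5).symm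
  · -- reality
    intro hr
    have hreal := hρ hr
    obtain ⟨θ, hθr, hθ⟩ := exists_real_constituent (res hVY (χ : ↥Y → ℂ))
      (isCharacter_res hVY hχc) (fun x => hreal _) (charDegree (χ : ↥Y → ℂ)) (by
        show (χ : ↥Y → ℂ) ⟨((1 : ↥V) : Γ), _⟩ = _
        rw [← apply_one_eq_charDegree _ χ.2]
        rfl) hodd
    have hθm : resMult hVY (χ : ↥Y → ℂ) (θ : ↥V → ℂ) ≠ 0 := (resMult_ne_zero_iff hVY χ θ).2 hθ
    obtain ⟨c, hc, h⟩ := exists_conj_of_constituents_amb hVY hVn χ θ μ hθm hμm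
    intro v
    rw [h, Function.comp_apply]
    exact hθr _

end Cfsg.Agent.Lib.H22.RO
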