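import Mathlib
import Cfsg.Agent.Lib.H4.ReeSpecDefs
import Cfsg.Agent.Lib.H22.RSKER
import Cfsg.Agent.Lib.H3.RSSDP

/-!
# S3626 pieces W9, W6: elements of orders `9` and `6` in `Y K`.
-/

set_option autoImplicit false

namespace Cfsg.Agent.Lib.H22.RS

open Matrix Cfsg.Agent.Lib.H4.ReeSpec

section field

variable {K : Type*} [Field K] [CharP K 3]

variable (K) in
/-- The unipotent matrix `[[1,1],[0,1]]`. -/
def w96J : Matrix.SpecialLinearGroup (Fin 2) K :=
  ⟨!![1, 1; 0, 1], by simp [Matrix.det_fin_two]⟩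

theorem w96_three : (3 : K) = 0 := by
  have := CharP.cast_eq_zero K 3
  exact_mod_cast this

theorem w96J_sq : ((w96J K ^ 2 : Matrix.SpecialLinearGroup (Fin 2) K) : M2 K) = !![1, 2; 0, 1] := by
  rw [Matrix.SpecialLinearGroup.coe_pow]
  show (!![1, 1; 0, 1] : M2 K) ^ 2 = _
  rw [pow_two]
  ext i j
  fin_cases i <;> fin_cases j <;> simp [Matrix.mul_apply, Fin.sum_univ_two] <;> norm_num

theorem w96J_cube : w96J K ^ 3 = 1 := by
  apply Subtype.ext
  rw [pow_succ, Matrix.SpecialLinearGroup.coe_mul, w96J_sq]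
  show (!![1, 2; 0, 1] : M2 K) * !![1, 1; 0, 1] = 1
  ext i j
  fin_cases i <;> fin_cases j <;> simp [Matrix.mul_apply, Fin.sum_univ_two]
  have : (1 : K) + 2 = 3 := by norm_num
  rw [this, w96_three]

theorem w96J_six : w96J K ^ 6 = 1 := by
  have : w96J K ^ 6 = (w96J K ^ 3) ^ 2 := by rw [← pow_mul]
  rw [this, w96J_cube, one_pow]

theorem w96_rhoM_eq_one {g : G0 K} (h : rhoM K g = 1) : rho K g = 1 := by
  have := congrArg (Mq K).subtype h
  simpa using this

theorem w96_W_pow_three (n : W K) : n ^ 3 = 1 := by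
  have : n ^ 3 = Multiplicative.ofAdd ((3 : ℕ) • Multiplicative.toAdd n) := rfl
  rw [this]
  have h0 : (3 : ℕ) • Multiplicative.toAdd n = 0 := by
    ext i j
    simp only [Matrix.smul_apply, Matrix.zero_apply, nsmul_eq_mul]
    have : ((3 : ℕ) : K) = 0 := CharP.cast_eq_zero K 3
    rw [this, zero_mul]
  rw [h0]; rfl

/-- W9: `⟨E₂₂, ρ(1, [[1,1],[0,1]])⟩` has order `9`. -/
theorem exists_orderOf_nine : ∃ y : Y K, orderOf y = 9 := by
  set j : G0 K := (1, w96J K) with hj
  set g : Mq K := rhoM K j with hg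
  set X : M2 K := !![0, 0; 0, 1] with hX
  set n : W K := Multiplicative.ofAdd X with hn
  refine ⟨(⟨n, g⟩ : Y K), ?_⟩
  have hg3 : g ^ 3 = 1 := by
    rw [hg, ← map_pow]
    have : j ^ 3 = 1 := by
      rw [hj]
      apply Prod.ext
      · simp
      · simpa using w96J_cube (K := K)
    rw [this, map_one]
  have h9 : (⟨n, g⟩ : Y K) ^ (3 * 3) = 1 :=
    Cfsg.Agent.Lib.H3.RS.sdp_pow_eq_one (Mq K).subtype 3 3 w96_W_pow_three n g hg3
  have h3 : ¬ (⟨n, g⟩ : Y K) ^ 3 ^ 1 = 1 := by
    intro h
    have hl : ((⟨n, g⟩ : Y K) ^ 3).left = 1 := by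
      rw [pow_one] at h; rw [h]; rfl
    have hexp : ((⟨n, g⟩ : Y K) ^ 3).left = n * (rho K j) n * (rho K j) ((rho K j) n) := by
      rw [pow_succ, pow_two]
      simp only [SemidirectProduct.mul_left, SemidirectProduct.mul_right]
      rfl
    rw [hexp, hn, rho_apply, rho_apply] at hl
    have h00 : (X + act j X + act j (act j X)) 0 0 = 0 := by
      have : Multiplicative.ofAdd (X + act j X + act j (act j X)) = (1 : W K) := hl
      have h' : X + act j X + act j (act j X) = 0 := Multiplicative.ofAdd.injective this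
      rw [h']; rfl
    rw [Matrix.add_apply, Matrix.add_apply, ker_act_apply j (act j X), ker_act_apply j X,
      ker_act_apply j X, ker_act_apply j X, ker_act_apply j X] at h00
    simp [hj, hX, w96J] at h00
    apply ker_two_ne_zero (K := K)
    linear_combination h00 - w96_three (K := K)
  have := orderOf_eq_prime_pow (p := 3) (n := 1) h3 (by simpa using h9)
  simpa using this

/-- W6: `⟨0, ρ(-1, [[1,1],[0,1]])⟩` has order `6`. -/
theorem exists_orderOf_six : ∃ y : Y K, orderOf y = 6 := by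
  set j : G0 K := (-1, w96J K) with hj
  set g : Mq K := rhoM K j with hg
  refine ⟨(SemidirectProduct.inr g : Y K), ?_⟩
  rw [orderOf_injective _ SemidirectProduct.inr_injective]
  have hg6 : g ^ 6 = 1 := by
    rw [hg, ← map_pow]
    have : j ^ 6 = 1 := by
      rw [hj]
      apply Prod.ext
      · show (-1 : ℤˣ) ^ 6 = 1
        decide
      · simpa using w96J_six (K := K)
    rw [this, map_one]
  have hg3 : g ^ 3 ≠ 1 := by
    intro h
    rw [hg, ← map_pow] at h
    have h1 := (rho_eq_one _ (w96_rhoM_eq_one h)).1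
    rw [hj] at h1
    have h2 : (-1 : ℤˣ) ^ 3 = 1 := h1
    exact absurd h2 (by decide)
  have hg2 : g ^ 2 ≠ 1 := by
    intro h
    rw [hg, ← map_pow] at h
    have h1 := (rho_eq_one _ (w96_rhoM_eq_one h)).2
    rw [hj] at h1
    simp only [Prod.pow_mk] at h1
    rcases h1 with h1 | h1
    · have := congrArg (fun A : Matrix.SpecialLinearGroup (Fin 2) K => (A : M2 K) 0 1) h1
      simp only [w96J_sq] at this
      simp at this
      exact ker_two_ne_zero this
    · have := congrArg (fun A : Matrix.SpecialLinearGroup (Fin 2) K => (A : M2 K) 0 1) h1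
      simp only [w96J_sq, Matrix.SpecialLinearGroup.coe_neg] at this
      simp at this
      exact ker_two_ne_zero this
  have hd : orderOf g ∣ 6 := orderOf_dvd_of_pow_eq_one hg6
  have hmem : orderOf g ∈ Nat.divisors 6 := Nat.mem_divisors.2 ⟨hd, by norm_num⟩
  have hdiv : Nat.divisors 6 = {1, 2, 3, 6} := by decide
  rw [hdiv] at hmem
  simp only [Finset.mem_insert, Finset.mem_singleton] at hmem
  rcases hmem with h | h | h | h
  · exfalso; apply hg2; rw [← orderOf_dvd_iff_pow_eq_one, h]; norm_num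
  · exfalso; apply hg2; rw [← orderOf_dvd_iff_pow_eq_one, h]
  · exfalso; apply hg3; rw [← orderOf_dvd_iff_pow_eq_one, h]
  · exact h

end field

end Cfsg.Agent.Lib.H22.RS
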