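/-
REE TORI project (architect helper12), fifth batch, task **REE-K4** (helper22): the elements of orders 3 and 9.
-/
import Cfsg.Agent.Lib.H12.ReeV2
import Cfsg.Agent.Lib.H29.ReeB2
import Cfsg.Agent.Lib.H17.ReeF5
import Cfsg.Agent.Lib.H22.ReeH1

set_option autoImplicit false

namespace Cfsg.Agent.Lib.H22.Ree

open Cfsg.Agent.Lib.H12.ReeC Cfsg.Agent.Lib.H12.ReeC.RSys

variable {G K : Type*} [Group G] [Field K] {R : RSys G K}

/-- the 3-torsion of `U` is `{x(0,u,v)}` -/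
theorem k4_mem_iff (R : RSys G K) (g : G) : (g ∈ R.U ∧ g ^ 3 = 1) ↔ ∃ u v, g = R.x 0 u v := by
  constructor
  · rintro ⟨⟨t, u, v, rfl⟩, h3⟩
    rw [x_pow_three, ← R.x_zero] at h3
    have h4 := (R.x_inj _ _ _ _ _ _ h3).2.2
    have h5 : R.σ t * t ^ 2 = 0 := by linear_combination -h4
    have ht : t = 0 := by
      rcases mul_eq_zero.mp h5 with h6 | h6
      · exact (map_eq_zero R.σ).mp h6
      · exact pow_eq_zero_iff (two_ne_zero) |>.mp h6
    exact ⟨u, v, by rw [ht]⟩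
  · rintro ⟨u, v, rfl⟩
    exact ⟨R.x_mem_U 0 u v, x_zero_pow_three R u v⟩

/-- the subgroup `T = {x(0,u,v)}` of `U` -/
def k4T (R : RSys G K) : Subgroup G where
  carrier := {g | g ∈ R.U ∧ g ^ 3 = 1}
  mul_mem' := by
    intro a b ha hb
    obtain ⟨u, v, rfl⟩ := (k4_mem_iff R a).mp ha
    obtain ⟨u', v', rfl⟩ := (k4_mem_iff R b).mp hb
    apply (k4_mem_iff R _).mpr
    refine ⟨u + u', v + v', ?_⟩
    rw [R.x_mul]
    apply R.x_congr
    · ring
    · rw [map_zero]; ring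
    · rw [map_zero]; ring
  one_mem' := ⟨one_mem _, one_pow 3⟩
  inv_mem' := by
    intro a ha
    exact ⟨inv_mem ha.1, by rw [inv_pow, ha.2, inv_one]⟩

theorem k4_mem_T (R : RSys G K) (g : G) : g ∈ k4T R ↔ g ∈ R.U ∧ g ^ 3 = 1 := Iff.rfl

theorem k4_card_T [Fintype K] (R : RSys G K) : Nat.card (k4T R) = Fintype.card K ^ 2 := by
  rw [← card_three_torsion_U R]
  rfl

theorem k4_conj_pow (g y : G) (n : ℕ) : (g * y * g⁻¹) ^ n = g * y ^ n * g⁻¹ := by
  induction n with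
  | zero => simp
  | succ n ih => rw [pow_succ, ih, pow_succ]; group

theorem k4_B_le_normalizer (R : RSys G K) : R.B ≤ Subgroup.normalizer (k4T R : Set G) := by
  intro b hb
  rw [Subgroup.mem_normalizer_iff]
  intro t
  constructor
  · intro ht
    refine ⟨Cfsg.Agent.Lib.H17.Ree.conj_mem_U_of_mem_B b t hb ht.1, ?_⟩
    rw [k4_conj_pow, ht.2]; group
  · intro ht
    have hb' : b⁻¹ ∈ R.B := inv_mem hb
    have h1 := Cfsg.Agent.Lib.H17.Ree.conj_mem_U_of_mem_B b⁻¹ _ hb' ht.1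
    have e : b⁻¹ * (b * t * b⁻¹) * b⁻¹⁻¹ = t := by group
    rw [e] at h1
    refine ⟨h1, ?_⟩
    have h2 := ht.2
    rw [k4_conj_pow] at h2
    have : t ^ 3 = b⁻¹ * (b * t ^ 3 * b⁻¹) * b := by group
    rw [this, h2]; group

theorem k4_x010_mem (R : RSys G K) : R.x 0 1 0 ∈ k4T R :=
  (k4_mem_iff R _).mpr ⟨1, 0, rfl⟩

theorem k4_x010_ne (R : RSys G K) : R.x 0 1 0 ≠ 1 := by
  intro h
  rw [← R.x_zero] at h
  exact one_ne_zero (R.x_inj _ _ _ _ _ _ h).2.1

theorem k4_normalizer_eq (R : RSys G K) : Subgroup.normalizer (k4T R : Set G) = R.B := by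
  apply le_antisymm
  · intro g hg
    rw [Subgroup.mem_normalizer_iff] at hg
    have h1 := (hg (R.x 0 1 0)).mp (k4_x010_mem R)
    exact R.mem_B_of_conj_mem_U g (R.x 0 1 0) (R.x_mem_U _ _ _) (k4_x010_ne R) h1.1
  · exact k4_B_le_normalizer R

variable [Fintype K] [Finite G]

theorem k4_three_le {q : ℕ} (D : R.ReeData q) : 3 ≤ q := by
  have h1 := D.h3q
  have h2 := D.hq8
  rcases Nat.eq_zero_or_pos q with h | h
  · subst h; omega
  · exact Nat.le_of_dvd h h1

/-- **REE-K4** (first) -/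
theorem ReeData.card_order_three {q : ℕ} (D : R.ReeData q) :
    Nat.card {g : G // orderOf g = 3} = (q ^ 2 - 1) * (q ^ 3 + 1) := by
  have hq3 : 3 ≤ q := k4_three_le D
  have hcov := Cfsg.Agent.Lib.H29.Ree.card_conj_cover (k4T R) (by
    intro g y hy hy1 hgy
    rw [k4_normalizer_eq]
    exact R.mem_B_of_conj_mem_U g y hy.1 hy1 hgy.1)
  rw [k4_normalizer_eq, R.card_B, k4_card_T, D.hq, D.hcard] at hcov
  -- the set is the set of the elements of order 3
  have e : {g : G // orderOf g = 3} ≃ {y : G // y ≠ 1 ∧ ∃ g : G, g⁻¹ * y * g ∈ k4T R} := by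
    apply Equiv.subtypeEquivRight
    intro y
    constructor
    · intro hy
      have hy3 : y ^ 3 = 1 := by rw [← hy]; exact pow_orderOf_eq_one y
      have hy1 : y ≠ 1 := by
        intro h; rw [h, orderOf_one] at hy; omega
      refine ⟨hy1, ?_⟩
      obtain ⟨c, hc⟩ := D.h3q
      have hyq : y ^ (q ^ 3) = 1 := by
        have : q ^ 3 = 3 * (c * q ^ 2) := by rw [hc]; ring
        rw [this, pow_mul, hy3, one_pow]
      obtain ⟨g, hg⟩ := D.exists_conj_mem_U y hyq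
      refine ⟨g, hg, ?_⟩
      have := k4_conj_pow g⁻¹ y 3
      rw [inv_inv] at this
      rw [this, hy3]; group
    · rintro ⟨hy1, g, hg⟩
      have h3 := hg.2
      have := k4_conj_pow g⁻¹ y 3
      rw [inv_inv] at this
      rw [this] at h3
      have hy3 : y ^ 3 = 1 := by
        have e3 : y ^ 3 = g * (g⁻¹ * y ^ 3 * g) * g⁻¹ := by group
        rw [e3, h3]; group
      have hd := orderOf_dvd_of_pow_eq_one hy3
      rcases (Nat.dvd_prime Nat.prime_three).mp hd with h | h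
      · exact absurd (orderOf_eq_one_iff.mp h) hy1
      · exact h
  rw [Nat.card_congr e]
  have hpos : 0 < q ^ 3 * (q - 1) := by
    apply Nat.mul_pos (by positivity) (by omega)
  apply Nat.eq_of_mul_eq_mul_right hpos
  rw [hcov]
  ring

/-- **REE-K4** (second) -/
theorem ReeData.card_order_nine {q : ℕ} (D : R.ReeData q)
    (h3 : Nat.card {g : G // orderOf g = 3} = (q ^ 2 - 1) * (q ^ 3 + 1)) :
    Nat.card {g : G // orderOf g = 9} = q ^ 2 * (q - 1) * (q ^ 3 + 1) := by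
  classical
  have hq3 : 3 ≤ q := k4_three_le D
  have h17 := Cfsg.Agent.Lib.H17.Ree.card_three_elements D
  rw [D.hcard] at h17
  have hpos : 0 < q ^ 3 * (q - 1) := by
    apply Nat.mul_pos (by positivity) (by omega)
  have hcnt : Nat.card {y : G // y ≠ 1 ∧ y ^ (q ^ 3) = 1} = (q ^ 3 + 1) * (q ^ 3 - 1) := by
    apply Nat.eq_of_mul_eq_mul_right hpos
    rw [h17]; ring
  obtain ⟨c, hc⟩ := D.h3q
  have hq9 : q ^ 3 = 9 * (3 * c ^ 3) := by rw [hc]; ring
  have hq3' : q ^ 3 = 3 * (9 * c ^ 3) := by rw [hc]; ring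
  -- elements with `y ≠ 1`, `y^(q^3) = 1` are those of order 3 or 9
  have hiff : ∀ y : G, (y ≠ 1 ∧ y ^ (q ^ 3) = 1) ↔ (orderOf y = 3 ∨ orderOf y = 9) := by
    intro y
    constructor
    · rintro ⟨hy1, hyq⟩
      obtain ⟨g, hg⟩ := D.exists_conj_mem_U y hyq
      have h9 := pow_nine_of_mem_U R _ hg
      have := k4_conj_pow g⁻¹ y 9
      rw [inv_inv] at this
      rw [this] at h9
      have hy9 : y ^ 9 = 1 := by
        have e9 : y ^ 9 = g * (g⁻¹ * y ^ 9 * g) * g⁻¹ := by group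
        rw [e9, h9]; group
      have hd := orderOf_dvd_of_pow_eq_one hy9
      have h99 : (9 : ℕ) = 3 ^ 2 := by norm_num
      rw [h99, Nat.dvd_prime_pow Nat.prime_three] at hd
      obtain ⟨k, hk, hk'⟩ := hd
      interval_cases k
      · exfalso; apply hy1; rw [pow_zero] at hk'; exact orderOf_eq_one_iff.mp hk'
      · left; simpa using hk'
      · right; simpa using hk'
    · rintro (h | h)
      · refine ⟨?_, ?_⟩
        · intro h1; rw [h1, orderOf_one] at h; omega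
        · rw [hq3', pow_mul, ← h, pow_orderOf_eq_one, one_pow]
      · refine ⟨?_, ?_⟩
        · intro h1; rw [h1, orderOf_one] at h; omega
        · rw [hq9, pow_mul, ← h, pow_orderOf_eq_one, one_pow]
  have hsum : Nat.card {y : G // y ≠ 1 ∧ y ^ (q ^ 3) = 1} =
      Nat.card {g : G // orderOf g = 3} + Nat.card {g : G // orderOf g = 9} := by
    have := Fintype.ofFinite G
    rw [Nat.card_congr (Equiv.subtypeEquivRight hiff)]
    simp only [Nat.card_eq_fintype_card, Fintype.card_subtype]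
    rw [Finset.filter_or, Finset.card_union_of_disjoint]
    rw [Finset.disjoint_filter]
    intro y _ h h'
    omega
  rw [hcnt, h3] at hsum
  have hq2 : 1 ≤ q ^ 2 := Nat.one_le_pow _ _ (by omega)
  have hq32 : q ^ 2 ≤ q ^ 3 := Nat.pow_le_pow_right (by omega) (by norm_num)
  obtain ⟨a, ha⟩ : ∃ a, q = a + 3 := ⟨q - 3, by omega⟩
  subst ha
  have e1 : (a + 3) ^ 3 - 1 = (a + 3) ^ 3 - (a + 3) ^ 2 + ((a + 3) ^ 2 - 1) := by omega
  have e2 : (a + 3) ^ 3 - (a + 3) ^ 2 = (a + 3) ^ 2 * (a + 3 - 1) := by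
    have : a + 3 - 1 = a + 2 := by omega
    rw [this]
    have : (a + 3) ^ 3 = (a + 3) ^ 2 * (a + 2) + (a + 3) ^ 2 := by ring
    omega
  rw [e1, e2] at hsum
  have : ((a + 3) ^ 3 + 1) * ((a + 3) ^ 2 * (a + 3 - 1) + ((a + 3) ^ 2 - 1)) =
      ((a + 3) ^ 2 - 1) * ((a + 3) ^ 3 + 1) + (a + 3) ^ 2 * (a + 3 - 1) * ((a + 3) ^ 3 + 1) := by ring
  rw [this] at hsum
  omega

end Cfsg.Agent.Lib.H22.Ree
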