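/-
helper22: averaging projections of a complex representation for a finite abelian subgroup `t(A)` and a complete
orthogonal family of characters `lam i`, `i : I`; conjugation of the projections by normalising elements; traces.
(Mathlib only; generalises helper2's `Lib/H2/RepProj` from `±1`-valued characters to arbitrary ones.)
-/
import Mathlib

set_option autoImplicit false
set_option linter.unusedSectionVars false
set_option linter.unusedVariables false

namespace Cfsg.Agent.Lib.H22.RepFam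

open scoped BigOperators

variable {G : Type*} [Group G] {A : Type*} [AddCommGroup A] [Fintype A] [DecidableEq A]
  {I : Type*} [Fintype I] [DecidableEq I]
  {V : Type*} [AddCommGroup V] [Module ℂ V] [FiniteDimensional ℂ V]

/-- a complete orthogonal family of characters of `A`, and a homomorphism `t : A → G` -/
structure CharFam (t : A → G) (lam : I → A → ℂ) : Prop where
  t_add : ∀ b b', t (b + b') = t b * t b'
  lam_add : ∀ i b b', lam i (b + b') = lam i b * lam i b'
  lam_zero : ∀ i, lam i 0 = 1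
  complete : ∀ b, ∑ i, lam i b = if b = 0 then (Fintype.card A : ℂ) else 0
  orth : ∀ i j, i ≠ j → ∑ b, lam i (-b) * lam j b = 0

variable (ρ : G →* Module.End ℂ V) (t : A → G) (lam : I → A → ℂ)

/-- the averaged operator `|A|⁻¹ ∑ λ_i(-b) ρ(t b)` -/
noncomputable def proj (i : I) : Module.End ℂ V :=
  (Fintype.card A : ℂ)⁻¹ • ∑ b : A, lam i (-b) • ρ (t b)

/-- the rank of the `i`-th projection -/
noncomputable def rk (i : I) : ℕ := Module.finrank ℂ (LinearMap.range (proj ρ t lam i))

theorem card_ne_zero : (Fintype.card A : ℂ) ≠ 0 :=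
  Nat.cast_ne_zero.2 Fintype.card_ne_zero

variable {t lam}

theorem CharFam.t_zero (h : CharFam t lam) : t 0 = 1 := by
  have := h.t_add 0 0
  rw [add_zero] at this
  exact (mul_eq_left.mp this.symm)

theorem CharFam.lam_neg_mul (h : CharFam t lam) (i : I) (b : A) : lam i (-b) * lam i b = 1 := by
  rw [← h.lam_add, neg_add_cancel, h.lam_zero]

theorem map_mul_proj (h : CharFam t lam) (i : I) (b₀ : A) :
    ρ (t b₀) * proj ρ t lam i = lam i b₀ • proj ρ t lam i := by
  have key : ρ (t b₀) * ∑ b : A, lam i (-b) • ρ (t b) = lam i b₀ • ∑ b : A, lam i (-b) • ρ (t b) := by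
    rw [Finset.mul_sum, Finset.smul_sum,
      ← Equiv.sum_comp (Equiv.addLeft b₀) (fun c => lam i b₀ • lam i (-c) • ρ (t c))]
    refine Finset.sum_congr rfl fun b _ => ?_
    have e : lam i (-b) = lam i b₀ * lam i (-(b₀ + b)) := by
      rw [← h.lam_add]
      congr 1
      abel
    rw [Equiv.coe_addLeft, mul_smul_comm, ← map_mul, ← h.t_add, smul_smul, ← e]
  unfold proj
  rw [mul_smul_comm, key, smul_comm]

theorem proj_mul_proj (h : CharFam t lam) (i : I) :
    proj ρ t lam i * proj ρ t lam i = proj ρ t lam i := by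
  have h1 : ∀ b : A, lam i (-b) • ρ (t b) * proj ρ t lam i = proj ρ t lam i := by
    intro b
    rw [smul_mul_assoc, map_mul_proj ρ h, smul_smul, h.lam_neg_mul, one_smul]
  have h2 : (∑ b : A, lam i (-b) • ρ (t b)) * proj ρ t lam i =
      (Fintype.card A : ℂ) • proj ρ t lam i := by
    rw [Finset.sum_mul, Finset.sum_congr rfl (fun b _ => h1 b), Finset.sum_const, Finset.card_univ,
      Nat.cast_smul_eq_nsmul]
  have h3 : proj ρ t lam i * proj ρ t lam i =
      (Fintype.card A : ℂ)⁻¹ • ((∑ b : A, lam i (-b) • ρ (t b)) * proj ρ t lam i) := by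
    conv_lhs => rw [proj]
    rw [smul_mul_assoc]
    rfl
  rw [h3, h2, smul_smul, inv_mul_cancel₀ card_ne_zero, one_smul]

theorem proj_mul_proj_of_ne (h : CharFam t lam) {i j : I} (hij : i ≠ j) :
    proj ρ t lam i * proj ρ t lam j = 0 := by
  have h1 : ∀ b : A, lam i (-b) • ρ (t b) * proj ρ t lam j =
      (lam i (-b) * lam j b) • proj ρ t lam j := by
    intro b
    rw [smul_mul_assoc, map_mul_proj ρ h, smul_smul]
  have h2 : (∑ b : A, lam i (-b) • ρ (t b)) * proj ρ t lam j = 0 := by
    rw [Finset.sum_mul, Finset.sum_congr rfl (fun b _ => h1 b), ← Finset.sum_smul, h.orth i j hij,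
      zero_smul]
  have h3 : proj ρ t lam i * proj ρ t lam j =
      (Fintype.card A : ℂ)⁻¹ • ((∑ b : A, lam i (-b) • ρ (t b)) * proj ρ t lam j) := by
    conv_lhs => rw [proj]
    rw [smul_mul_assoc]
  rw [h3, h2, smul_zero]

theorem sum_proj (h : CharFam t lam) : ∑ i, proj ρ t lam i = 1 := by
  unfold proj
  rw [← Finset.smul_sum, Finset.sum_comm]
  have h1 : ∀ b : A, ∑ i, lam i (-b) • ρ (t b) =
      (if b = 0 then (Fintype.card A : ℂ) else 0) • ρ (t b) := by
    intro b
    rw [← Finset.sum_smul, h.complete (-b)]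
    simp only [neg_eq_zero]
  rw [Finset.sum_congr rfl (fun b _ => h1 b)]
  simp only [ite_smul, zero_smul, Finset.sum_ite_eq', Finset.mem_univ, if_true]
  rw [smul_smul, inv_mul_cancel₀ card_ne_zero, one_smul, h.t_zero, map_one]

/-- conjugation of the projections by an element normalising `t(A)` -/
theorem conj_proj (h : CharFam t lam) {g : G} (f : A ≃+ A) (hg : ∀ b, g * t b * g⁻¹ = t (f b))
    {i j : I} (hij : ∀ b, lam i b = lam j (f b)) :
    ρ g * proj ρ t lam i = proj ρ t lam j * ρ g := by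
  have h1 : ρ g * proj ρ t lam i * ρ g⁻¹ = proj ρ t lam j := by
    unfold proj
    rw [mul_smul_comm, smul_mul_assoc, Finset.mul_sum, Finset.sum_mul]
    congr 1
    rw [← Equiv.sum_comp f.toEquiv (fun c => lam j (-c) • ρ (t c))]
    refine Finset.sum_congr rfl fun b _ => ?_
    rw [mul_smul_comm, smul_mul_assoc, ← map_mul, ← map_mul, hg, hij (-b), map_neg]
    rfl
  rw [← h1, mul_assoc, mul_assoc, ← map_mul, inv_mul_cancel, map_one, mul_one]

theorem trace_proj (h : CharFam t lam) (i : I) :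
    LinearMap.trace ℂ V (proj ρ t lam i) = (rk ρ t lam i : ℂ) :=
  (LinearMap.IsIdempotentElem.isProj_range _ (proj_mul_proj ρ h i)).trace

theorem rk_eq_of_conj (h : CharFam t lam) {g : G} (f : A ≃+ A) (hg : ∀ b, g * t b * g⁻¹ = t (f b))
    {i j : I} (hij : ∀ b, lam i b = lam j (f b)) : rk ρ t lam i = rk ρ t lam j := by
  have h1 := conj_proj ρ h f hg hij
  have h2 : proj ρ t lam j = ρ g * proj ρ t lam i * ρ g⁻¹ := by
    rw [h1, mul_assoc, ← map_mul, mul_inv_cancel, map_one, mul_one]
  have h3 : LinearMap.trace ℂ V (proj ρ t lam j) = LinearMap.trace ℂ V (proj ρ t lam i) := by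
    rw [h2, LinearMap.trace_mul_comm, ← mul_assoc, ← map_mul, inv_mul_cancel, map_one, one_mul]
  rw [trace_proj ρ h, trace_proj ρ h] at h3
  exact (Nat.cast_injective h3).symm

theorem sum_rk (h : CharFam t lam) : ∑ i, rk ρ t lam i = Module.finrank ℂ V := by
  have h1 : LinearMap.trace ℂ V (∑ i, proj ρ t lam i) = LinearMap.trace ℂ V 1 := by
    rw [sum_proj ρ h]
  rw [map_sum, LinearMap.trace_one, Finset.sum_congr rfl (fun i _ => trace_proj ρ h i)] at h1
  exact_mod_cast h1

theorem proj_eq_zero_of_rk (i : I) (hi : rk ρ t lam i = 0) : proj ρ t lam i = 0 := by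
  have h1 : LinearMap.range (proj ρ t lam i) = ⊥ := Submodule.finrank_eq_zero.mp hi
  exact LinearMap.range_eq_bot.mp h1

/-- an element permuting the projections without fixing any non-zero one has trace zero -/
theorem trace_eq_zero (h : CharFam t lam) {g : G} (τ : I → I)
    (hτ : ∀ i, ρ g * proj ρ t lam i = proj ρ t lam (τ i) * ρ g)
    (hfix : ∀ i, rk ρ t lam i ≠ 0 → τ i ≠ i) : LinearMap.trace ℂ V (ρ g) = 0 := by
  have h1 : ρ g = ∑ i, ρ g * proj ρ t lam i := by
    rw [← Finset.mul_sum, sum_proj ρ h, mul_one]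
  rw [h1, map_sum]
  apply Finset.sum_eq_zero
  intro i _
  by_cases hi : rk ρ t lam i = 0
  · rw [proj_eq_zero_of_rk ρ i hi, mul_zero, map_zero]
  · have h2 : ρ g * proj ρ t lam i = proj ρ t lam (τ i) * (ρ g * proj ρ t lam i) := by
      calc ρ g * proj ρ t lam i = ρ g * (proj ρ t lam i * proj ρ t lam i) := by
            rw [proj_mul_proj ρ h i]
        _ = (ρ g * proj ρ t lam i) * proj ρ t lam i := by rw [mul_assoc]
        _ = (proj ρ t lam (τ i) * ρ g) * proj ρ t lam i := by rw [hτ i]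
        _ = proj ρ t lam (τ i) * (ρ g * proj ρ t lam i) := by rw [mul_assoc]
    rw [h2, LinearMap.trace_mul_comm, mul_assoc, proj_mul_proj_of_ne ρ h (hfix i hi).symm, mul_zero,
      map_zero]

/-- if `ρ (t b₀) ≠ 1`, some projection with `lam i b₀ ≠ 1` is non-zero -/
theorem exists_rk_ne_zero (h : CharFam t lam) (b₀ : A) (hb₀ : ρ (t b₀) ≠ 1) :
    ∃ i, lam i b₀ ≠ 1 ∧ rk ρ t lam i ≠ 0 := by
  by_contra hcon
  push Not at hcon
  apply hb₀
  have h1 : ρ (t b₀) = ∑ i, ρ (t b₀) * proj ρ t lam i := by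
    rw [← Finset.mul_sum, sum_proj ρ h, mul_one]
  rw [h1, ← sum_proj ρ h]
  refine Finset.sum_congr rfl fun i _ => ?_
  rw [map_mul_proj ρ h]
  by_cases hi : lam i b₀ = 1
  · rw [hi, one_smul]
  · rw [proj_eq_zero_of_rk ρ i (hcon i hi), smul_zero]

/-- a Klein four-group all of whose involutions have trace zero forces `4 ∣ dim V` -/
theorem four_dvd_finrank (a n : G) (ha : a * a = 1) (hn : n * n = 1) (han : a * n = n * a)
    (h1 : LinearMap.trace ℂ V (ρ a) = 0) (h2 : LinearMap.trace ℂ V (ρ n) = 0)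
    (h3 : LinearMap.trace ℂ V (ρ (a * n)) = 0) : 4 ∣ Module.finrank ℂ V := by
  set e1 : Module.End ℂ V := (2 : ℂ)⁻¹ • (1 + ρ a) with he1
  set e2 : Module.End ℂ V := (2 : ℂ)⁻¹ • (1 + ρ n) with he2
  have haa : ρ a * ρ a = 1 := by rw [← map_mul, ha, map_one]
  have hnn : ρ n * ρ n = 1 := by rw [← map_mul, hn, map_one]
  have hcomm : ρ a * ρ n = ρ n * ρ a := by rw [← map_mul, ← map_mul, han]
  have hi1 : e1 * e1 = e1 := by
    rw [he1, smul_mul_smul_comm, mul_add, add_mul, add_mul, one_mul, mul_one, one_mul, haa]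
    rw [show (1 : Module.End ℂ V) + ρ a + (ρ a + 1) = (2 : ℂ) • (1 + ρ a) by
      rw [two_smul]; abel]
    rw [smul_smul]
    congr 1
    norm_num
  have hi2 : e2 * e2 = e2 := by
    rw [he2, smul_mul_smul_comm, mul_add, add_mul, add_mul, one_mul, mul_one, one_mul, hnn]
    rw [show (1 : Module.End ℂ V) + ρ n + (ρ n + 1) = (2 : ℂ) • (1 + ρ n) by
      rw [two_smul]; abel]
    rw [smul_smul]
    congr 1
    norm_num
  have hc : e1 * e2 = e2 * e1 := by
    rw [he1, he2, smul_mul_smul_comm, smul_mul_smul_comm]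
    congr 1
    simp only [mul_add, add_mul, mul_one, one_mul, hcomm]
    abel
  have hi : (e1 * e2) * (e1 * e2) = e1 * e2 := by
    calc (e1 * e2) * (e1 * e2) = e1 * (e2 * e1) * e2 := by simp only [mul_assoc]
      _ = e1 * (e1 * e2) * e2 := by rw [hc]
      _ = (e1 * e1) * (e2 * e2) := by simp only [mul_assoc]
      _ = e1 * e2 := by rw [hi1, hi2]
  have htr : LinearMap.trace ℂ V (e1 * e2) =
      (Module.finrank ℂ (LinearMap.range (e1 * e2)) : ℂ) :=
    (LinearMap.IsIdempotentElem.isProj_range _ hi).trace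
  have hexp : e1 * e2 = (4 : ℂ)⁻¹ • (1 + ρ a + ρ n + ρ (a * n)) := by
    rw [he1, he2, smul_mul_smul_comm, map_mul]
    congr 1
    · norm_num
    · simp only [mul_add, add_mul, mul_one, one_mul]
      abel
  obtain ⟨r, hr⟩ : ∃ r : ℕ, LinearMap.trace ℂ V (e1 * e2) = (r : ℂ) := ⟨_, htr⟩
  rw [hexp, map_smul, map_add, map_add, map_add, h1, h2, h3, LinearMap.trace_one, smul_eq_mul,
    add_zero, add_zero, add_zero] at hr
  refine ⟨r, ?_⟩
  have h4 : (Module.finrank ℂ V : ℂ) = 4 * (r : ℂ) := by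
    rw [← hr]
    ring
  exact_mod_cast h4

end Cfsg.Agent.Lib.H22.RepFam
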