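/-
helper22: the Landazuri-Seitz type bound `q² - q + 1` for the complex representations of a small Ree group,
on helper12's abstract Ree system (`RSys`, `ReeData`, `TorusFacts`).
-/
import Cfsg.Agent.Lib.H22.RepFam
import Cfsg.Agent.Lib.H12.ReeV2

set_option autoImplicit false
set_option linter.unusedSectionVars false
set_option linter.unusedVariables false

namespace Cfsg.Agent.Lib.H22.ReeLS

open scoped BigOperators
open Cfsg.Agent.Lib.H12.ReeC Cfsg.Agent.Lib.H12.ReeC.RSys Cfsg.Agent.Lib.H22.RepFam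

variable {G K : Type*} [Group G] [Field K] [Fintype K] [DecidableEq K] (R : RSys G K)
  {V : Type*} [AddCommGroup V] [Module ℂ V] [FiniteDimensional ℂ V]
  (ρ : G →* Module.End ℂ V) (ν : AddChar K ℂ)

/-- `t(u,v) = x(0,u,v)` -/
def tt (b : K × K) : G := R.x 0 b.1 b.2

/-- `λ_{(a,c)}(u,v) = ν(a u + c v)` -/
def lamm (i : K × K) (b : K × K) : ℂ := ν (i.1 * b.1 + i.2 * b.2)

theorem sum_nu_mul (hν : ν ≠ 0) (u : K) :
    ∑ a : K, ν (a * u) = if u = 0 then (Fintype.card K : ℂ) else 0 := by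
  split_ifs with hu
  · subst hu
    simp
  · exact (Fintype.sum_equiv (Equiv.mulRight₀ u hu) (fun a => ν (a * u)) (fun x => ν x)
      (fun a => rfl)).trans (AddChar.sum_eq_zero_iff_ne_zero.mpr hν)

theorem sum_nu_mul' (hν : ν ≠ 0) (c : K) :
    ∑ u : K, ν (c * u) = if c = 0 then (Fintype.card K : ℂ) else 0 := by
  rw [← sum_nu_mul ν hν c]
  refine Finset.sum_congr rfl fun u _ => ?_
  rw [mul_comm]

theorem charFam (hν : ν ≠ 0) : CharFam (tt R) (lamm ν) where
  t_add := by
    intro b b'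
    unfold tt
    rw [R.x_mul]
    apply R.x_congr
    · ring
    · rw [map_zero]; simp
    · rw [map_zero]; simp
  lam_add := by
    intro i b b'
    unfold lamm
    rw [← AddChar.map_add_eq_mul]
    congr 1
    simp only [Prod.fst_add, Prod.snd_add]
    ring
  lam_zero := by
    intro i
    unfold lamm
    simp
  complete := by
    intro b
    unfold lamm
    rw [Fintype.sum_prod_type]
    have h1 : ∀ a c : K, ν (a * b.1 + c * b.2) = ν (a * b.1) * ν (c * b.2) := by
      intro a c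
      rw [AddChar.map_add_eq_mul]
    simp only [h1]
    rw [← Finset.sum_mul_sum, sum_nu_mul ν hν, sum_nu_mul ν hν, Fintype.card_prod]
    by_cases hb1 : b.1 = 0
    · by_cases hb2 : b.2 = 0
      · have : b = 0 := Prod.ext hb1 hb2
        simp [this]
      · have : b ≠ 0 := fun h => hb2 (by rw [h]; rfl)
        simp [hb1, hb2, this]
    · have : b ≠ 0 := fun h => hb1 (by rw [h]; rfl)
      simp [hb1, this]
  orth := by
    intro i j hij
    unfold lamm
    have h1 : ∀ b : K × K, ν (i.1 * (-b).1 + i.2 * (-b).2) * ν (j.1 * b.1 + j.2 * b.2) =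
        ν ((j.1 - i.1) * b.1) * ν ((j.2 - i.2) * b.2) := by
      intro b
      rw [← AddChar.map_add_eq_mul, ← AddChar.map_add_eq_mul]
      congr 1
      simp only [Prod.fst_neg, Prod.snd_neg]
      ring
    simp only [h1]
    rw [Fintype.sum_prod_type]
    dsimp only
    rw [← Finset.sum_mul_sum, sum_nu_mul' ν hν, sum_nu_mul' ν hν]
    by_cases h : j.1 - i.1 = 0
    · have h2 : j.2 - i.2 ≠ 0 := by
        intro h2
        apply hij
        exact Prod.ext (sub_eq_zero.mp h).symm (sub_eq_zero.mp h2).symm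
      simp [h2]
    · simp [h]

/-- the shear `(u,v) ↦ (u, v + s u)` -/
def fS (s : K) : (K × K) ≃+ (K × K) where
  toFun b := (b.1, b.2 + s * b.1)
  invFun b := (b.1, b.2 - s * b.1)
  left_inv b := by ext <;> simp
  right_inv b := by ext <;> simp
  map_add' b b' := by
    ext
    · simp
    · simp only [Prod.fst_add, Prod.snd_add]; ring

/-- the diagonal map `(u,v) ↦ (α u, β v)` -/
def fH (α β : K) (hα : α ≠ 0) (hβ : β ≠ 0) : (K × K) ≃+ (K × K) where
  toFun b := (α * b.1, β * b.2)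
  invFun b := (α⁻¹ * b.1, β⁻¹ * b.2)
  left_inv b := by ext <;> simp [hα, hβ]
  right_inv b := by ext <;> simp [hα, hβ]
  map_add' b b' := by
    ext
    · simp only [Prod.fst_add]; ring
    · simp only [Prod.snd_add]; ring

theorem conj_x (s : K) (b : K × K) :
    R.x s 0 0 * tt R b * (R.x s 0 0)⁻¹ = tt R (fS s b) := by
  have h : R.x s 0 0 * tt R b = tt R (fS s b) * R.x s 0 0 := by
    unfold tt fS
    simp only [AddEquiv.coe_mk, Equiv.coe_fn_mk]
    rw [R.x_mul, R.x_mul]
    apply R.x_congr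
    · ring
    · rw [map_zero]; ring
    · rw [map_zero]; ring
  rw [h, mul_assoc, mul_inv_cancel, mul_one]

theorem alpha_ne (z : Kˣ) : R.σ z * (z : K) ≠ 0 :=
  mul_ne_zero ((map_ne_zero R.σ).mpr z.ne_zero) z.ne_zero

theorem beta_ne (z : Kˣ) : R.σ z * (z : K) ^ 2 ≠ 0 :=
  mul_ne_zero ((map_ne_zero R.σ).mpr z.ne_zero) (pow_ne_zero 2 z.ne_zero)

theorem conj_h (z : Kˣ) (b : K × K) :
    R.h z * tt R b * (R.h z)⁻¹ = tt R (fH (R.σ z * z) (R.σ z * (z : K) ^ 2) (alpha_ne R z) (beta_ne R z) b) := by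
  unfold tt fH
  simp only [AddEquiv.coe_mk, Equiv.coe_fn_mk]
  rw [R.h_conj, mul_zero]

/-- ranks are constant along the shears -/
theorem rk_shear (hν : ν ≠ 0) (s : K) (i : K × K) :
    rk ρ (tt R) (lamm ν) i = rk ρ (tt R) (lamm ν) (i.1 - i.2 * s, i.2) := by
  apply rk_eq_of_conj ρ (charFam R ν hν) (fS s) (conj_x R s)
  intro b
  unfold lamm fS
  simp only [AddEquiv.coe_mk, Equiv.coe_fn_mk]
  congr 1
  ring

/-- the projections are permuted by the torus -/
theorem conj_proj_h (hν : ν ≠ 0) (z : Kˣ) (i : K × K) :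
    ρ (R.h z) * proj ρ (tt R) (lamm ν) i =
      proj ρ (tt R) (lamm ν) (i.1 / (R.σ z * z), i.2 / (R.σ z * (z : K) ^ 2)) * ρ (R.h z) := by
  apply conj_proj ρ (charFam R ν hν) (fH _ _ (alpha_ne R z) (beta_ne R z)) (conj_h R z)
  intro b
  unfold lamm fH
  simp only [AddEquiv.coe_mk, Equiv.coe_fn_mk]
  congr 1
  have h1 := alpha_ne R z
  have h2 := beta_ne R z
  field_simp

theorem rk_torus (hν : ν ≠ 0) (z : Kˣ) (i : K × K) :
    rk ρ (tt R) (lamm ν) i =
      rk ρ (tt R) (lamm ν) (i.1 / (R.σ z * z), i.2 / (R.σ z * (z : K) ^ 2)) := by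
  apply rk_eq_of_conj ρ (charFam R ν hν) (fH _ _ (alpha_ne R z) (beta_ne R z)) (conj_h R z)
  intro b
  unfold lamm fH
  simp only [AddEquiv.coe_mk, Equiv.coe_fn_mk]
  congr 1
  have h1 := alpha_ne R z
  have h2 := beta_ne R z
  field_simp

/-- the character `z ↦ σ(z) z²` of the torus is onto -/
theorem exists_beta (hT : R.TorusFacts) (c : K) (hc : c ≠ 0) : ∃ z : Kˣ, R.σ z * (z : K) ^ 2 = c := by
  let φ : Kˣ → Kˣ := fun z => Units.mk0 (R.σ z * (z : K) ^ 2) (beta_ne R z)
  have hmul : ∀ z w : Kˣ, φ (z * w) = φ z * φ w := by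
    intro z w
    apply Units.ext
    simp only [φ, Units.val_mk0, Units.val_mul, map_mul]
    ring
  have hone : φ 1 = 1 := by
    apply Units.ext
    simp [φ]
  have hinj : Function.Injective φ := by
    intro z w hzw
    have h1 : φ (z * w⁻¹) = 1 := by
      have h2 : φ (z * w⁻¹) * φ w = φ z := by rw [← hmul, inv_mul_cancel_right]
      rw [hzw] at h2
      exact mul_eq_right.mp h2
    have h3 : z * w⁻¹ = 1 := by
      apply hT.f2
      have := congrArg Units.val h1
      simpa [φ] using this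
    exact mul_inv_eq_one.mp h3
  obtain ⟨z, hz⟩ := (Finite.injective_iff_surjective.mp hinj) (Units.mk0 c hc)
  exact ⟨z, by have := congrArg Units.val hz; simpa [φ] using this⟩

/-- the rank is constant on the characters which are non-trivial on the centre -/
theorem rk_const (hT : R.TorusFacts) (hν : ν ≠ 0) (a c : K) (hc : c ≠ 0) :
    rk ρ (tt R) (lamm ν) (a, c) = rk ρ (tt R) (lamm ν) (0, 1) := by
  obtain ⟨z, hz⟩ := exists_beta R hT c hc
  have h1 := rk_shear R ρ ν hν (a / c) (a, c)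
  have e1 : (a, c).1 - (a, c).2 * (a / c) = 0 := by
    simp only
    field_simp
    ring
  rw [e1] at h1
  have h2 := rk_torus R ρ ν hν z (0, c)
  simp only [zero_div, hz, div_self hc] at h2
  rw [h1, h2]

theorem sum_rk_split (hT : R.TorusFacts) (hν : ν ≠ 0) :
    Module.finrank ℂ V = ∑ a : K, rk ρ (tt R) (lamm ν) (a, 0) +
      Fintype.card K * (Fintype.card K - 1) * rk ρ (tt R) (lamm ν) (0, 1) := by
  rw [← sum_rk ρ (charFam R ν hν), Fintype.sum_prod_type]
  have h1 : ∀ a : K, ∑ c : K, rk ρ (tt R) (lamm ν) (a, c) =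
      rk ρ (tt R) (lamm ν) (a, 0) + (Fintype.card K - 1) * rk ρ (tt R) (lamm ν) (0, 1) := by
    intro a
    rw [← Finset.add_sum_erase _ _ (Finset.mem_univ (0 : K))]
    congr 1
    rw [Finset.sum_congr rfl (fun c hc => rk_const R ρ ν hT hν a c (Finset.ne_of_mem_erase hc)),
      Finset.sum_const, Finset.card_erase_of_mem (Finset.mem_univ _), Finset.card_univ, smul_eq_mul]
  rw [Finset.sum_congr rfl (fun a _ => h1 a), Finset.sum_add_distrib, Finset.sum_const,
    Finset.card_univ, smul_eq_mul, mul_assoc]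

theorem a_eq_h (R : RSys G K) : R.a = R.h (-1) := rfl

/-- if no character trivial on the centre occurs, the involution `a` has trace zero -/
theorem trace_a (hν : ν ≠ 0) (h0 : ∀ a : K, rk ρ (tt R) (lamm ν) (a, 0) = 0) :
    LinearMap.trace ℂ V (ρ R.a) = 0 := by
  have hα : R.σ ((-1 : Kˣ) : K) * ((-1 : Kˣ) : K) = 1 := by
    simp
  have hβ : R.σ ((-1 : Kˣ) : K) * ((-1 : Kˣ) : K) ^ 2 = -1 := by
    simp
  apply trace_eq_zero ρ (charFam R ν hν) (fun i => (i.1, -i.2))
  · intro i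
    have := conj_proj_h R ρ ν hν (-1) i
    rw [hα, hβ, div_one, div_neg, div_one] at this
    rw [a_eq_h]
    exact this
  · intro i hi hfix
    have h2 : -i.2 = i.2 := congrArg Prod.snd hfix
    have h3 : i.2 = 0 := R.eq_zero_of_neg_eq h2
    apply hi
    have : i = (i.1, 0) := Prod.ext rfl h3
    rw [this]
    exact h0 i.1

theorem trace_conj (g v : G) : LinearMap.trace ℂ V (ρ (g * v * g⁻¹)) = LinearMap.trace ℂ V (ρ v) := by
  have h : ρ (g * v * g⁻¹) = ρ g * ρ v * ρ g⁻¹ := by rw [map_mul ρ, map_mul ρ]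
  rw [h, LinearMap.trace_mul_comm, ← mul_assoc, ← map_mul ρ, inv_mul_cancel, map_one, one_mul]

/-- **the bound `q² - q + 1`** -/
theorem ree_min_degree [Finite G] {q : ℕ} (D : R.ReeData q) (hT : R.TorusFacts)
    (hfaith : ρ (R.x 0 0 1) ≠ 1) : q ^ 2 - q + 1 ≤ Module.finrank ℂ V := by
  have hq : Fintype.card K = q := D.hq
  have hq8 := D.hq8
  have hq3 : 3 ≤ q := by omega
  -- a non-trivial additive character
  have hcard : 1 < Fintype.card (AddChar K ℂ) := by
    rw [AddChar.card_eq, hq]; omega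
  have : Nontrivial (AddChar K ℂ) := Fintype.one_lt_card_iff_nontrivial.mp hcard
  obtain ⟨ν, hν⟩ := exists_ne (0 : AddChar K ℂ)
  have hsplit := sum_rk_split R ρ ν hT hν
  rw [hq] at hsplit
  -- the generic rank is non-zero
  have hD : rk ρ (tt R) (lamm ν) (0, 1) ≠ 0 := by
    obtain ⟨i, hi1, hi2⟩ := exists_rk_ne_zero ρ (charFam R ν hν) ((0 : K), (1 : K)) hfaith
    have hi : i.2 ≠ 0 := by
      intro h
      apply hi1
      unfold lamm
      simp [h]
    have := rk_const R ρ ν hT hν i.1 i.2 hi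
    rw [← this]
    exact hi2
  by_contra hlt
  push Not at hlt
  have hqq : q ≤ q ^ 2 := Nat.le_self_pow (by norm_num) q
  have hle : Module.finrank ℂ V ≤ q ^ 2 - q := by omega
  have hqq' : q * (q - 1) = q ^ 2 - q := by
    rw [Nat.mul_sub, mul_one, sq]
  have hD1 : 1 ≤ rk ρ (tt R) (lamm ν) (0, 1) := Nat.one_le_iff_ne_zero.mpr hD
  have hge : q * (q - 1) ≤ q * (q - 1) * rk ρ (tt R) (lamm ν) (0, 1) := Nat.le_mul_of_pos_right _ hD1
  have hsum0 : ∑ a : K, rk ρ (tt R) (lamm ν) (a, 0) = 0 := by omega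
  have hfin : Module.finrank ℂ V = q ^ 2 - q := by omega
  have h0 : ∀ a : K, rk ρ (tt R) (lamm ν) (a, 0) = 0 := by
    intro a
    exact (Finset.sum_eq_zero_iff.mp hsum0) a (Finset.mem_univ a)
  have htra := trace_a R ρ ν hν h0
  -- all involutions have trace zero
  obtain ⟨k, hN, hk⟩ := D.two_part
  have hconj := R.involution_conj D.hq8' k hN hk D.hZ
  have htr : ∀ v : G, v ≠ 1 → v * v = 1 → LinearMap.trace ℂ V (ρ v) = 0 := by
    intro v hv1 hv2
    obtain ⟨g, rfl⟩ := hconj v hv1 hv2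
    rw [trace_conj, htra]
  have hn1 : R.n ≠ 1 := by
    intro h
    apply R.n_not_mem_B
    rw [h]
    exact one_mem _
  have han1 : R.a * R.n ≠ 1 := by
    intro h
    apply R.n_not_mem_B
    have h2 : R.n = R.a⁻¹ := eq_inv_of_mul_eq_one_right h
    rw [h2, R.a_inv, a_eq_h]
    exact R.h_mem_B _
  have han2 : (R.a * R.n) * (R.a * R.n) = 1 := by
    calc (R.a * R.n) * (R.a * R.n) = R.a * (R.n * R.a) * R.n := by group
      _ = R.a * (R.a * R.n) * R.n := by rw [R.a_comm_n]
      _ = (R.a * R.a) * (R.n * R.n) := by group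
      _ = 1 := by rw [R.a_sq, R.n_sq, one_mul]
  have h4 := four_dvd_finrank ρ R.a R.n R.a_sq R.n_sq R.a_comm_n htra (htr R.n hn1 R.n_sq)
    (htr _ han1 han2)
  rw [hfin] at h4
  obtain ⟨j, hj⟩ : ∃ j, q = 8 * j + 3 := ⟨q / 8, by omega⟩
  subst hj
  have e : (8 * j + 3) ^ 2 = 4 * (16 * j ^ 2 + 10 * j + 1) + 2 + (8 * j + 3) := by ring
  omega

end Cfsg.Agent.Lib.H22.ReeLS
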