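import Mathlib

/-!
# S3366: the model group `Heis ⋊ SL(2,3)` (helper22)

`Heis` is the extraspecial group `3^{1+2}_+` written on `(ZMod 3)^3` with the cocycle `-(b a')`;
`act : SL23 →* MulAut Heis` the natural action of `SL(2,3)` centralising the centre and commuting with
the inversion `tau = act (-1)`.  All facts here are finite checks.
-/

set_option autoImplicit false
set_option linter.unusedVariables false
set_option linter.unusedSimpArgs false
set_option linter.style.longLine false

namespace Cfsg.Agent.Lib.H22.S3366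

abbrev SL23 : Type := Matrix.SpecialLinearGroup (Fin 2) (ZMod 3)

/-- The Heisenberg group of order 27. -/
@[ext] structure Heis where
  a : ZMod 3
  b : ZMod 3
  c : ZMod 3
deriving DecidableEq, Fintype

namespace Heis

instance : Mul Heis := ⟨fun h k => ⟨h.a + k.a, h.b + k.b, h.c + k.c - h.b * k.a⟩⟩
instance : One Heis := ⟨⟨0, 0, 0⟩⟩
instance : Inv Heis := ⟨fun h => ⟨-h.a, -h.b, -h.c - h.a * h.b⟩⟩

@[simp] theorem mul_a (h k : Heis) : (h * k).a = h.a + k.a := rfl
@[simp] theorem mul_b (h k : Heis) : (h * k).b = h.b + k.b := rfl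
@[simp] theorem mul_c (h k : Heis) : (h * k).c = h.c + k.c - h.b * k.a := rfl
@[simp] theorem one_a : (1 : Heis).a = 0 := rfl
@[simp] theorem one_b : (1 : Heis).b = 0 := rfl
@[simp] theorem one_c : (1 : Heis).c = 0 := rfl
@[simp] theorem inv_a (h : Heis) : (h⁻¹).a = -h.a := rfl
@[simp] theorem inv_b (h : Heis) : (h⁻¹).b = -h.b := rfl
@[simp] theorem inv_c (h : Heis) : (h⁻¹).c = -h.c - h.a * h.b := rfl

instance : Group Heis where
  mul_assoc x y z := by ext <;> simp <;> ring
  one_mul x := by ext <;> simp
  mul_one x := by ext <;> simp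
  inv_mul_cancel x := by ext <;> simp <;> ring

end Heis

def xH : Heis := ⟨1, 0, 0⟩
def yH : Heis := ⟨0, 1, 0⟩
def zH : Heis := ⟨0, 0, 1⟩

theorem card_heis : Nat.card Heis = 27 := by
  rw [Nat.card_eq_fintype_card]; decide +kernel

theorem card_SL23 : Nat.card SL23 = 24 := by
  rw [Nat.card_eq_fintype_card]; decide +kernel

/-- the action of `SL(2,3)` on `Heis` as a function -/
def actFun (A : SL23) (h : Heis) : Heis :=
  ⟨A.1 0 0 * h.a + A.1 0 1 * h.b, A.1 1 0 * h.a + A.1 1 1 * h.b,
    h.c - h.a * h.b + (A.1 0 0 * h.a + A.1 0 1 * h.b) * (A.1 1 0 * h.a + A.1 1 1 * h.b)⟩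

theorem actFun_one (h : Heis) : actFun 1 h = h := by
  revert h; decide +kernel

theorem actFun_mul : ∀ (A B : SL23) (h : Heis), actFun (A * B) h = actFun A (actFun B h) := by
  decide +kernel

theorem actFun_map_mul : ∀ (A : SL23) (h k : Heis), actFun A (h * k) = actFun A h * actFun A k := by
  decide +kernel

/-- the action of `SL(2,3)` on `Heis` -/
def act : SL23 →* MulAut Heis where
  toFun A :=
    { toFun := actFun A
      invFun := actFun A⁻¹
      left_inv := fun h => by rw [← actFun_mul, inv_mul_cancel, actFun_one]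
      right_inv := fun h => by rw [← actFun_mul, mul_inv_cancel, actFun_one]
      map_mul' := actFun_map_mul A }
  map_one' := by
    ext h : 1
    exact actFun_one h
  map_mul' A B := by
    ext h : 1
    exact actFun_mul A B h

@[simp] theorem act_apply (A : SL23) (h : Heis) : act A h = actFun A h := rfl

end Cfsg.Agent.Lib.H22.S3366
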