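import Mathlib
import Cfsg.Agent.Lib.H22.S3366Model

/-!
# S3366: finite facts about `Heis` and `SL(2,3)` (helper22)
-/

set_option autoImplicit false
set_option linter.unusedVariables false
set_option linter.unusedSimpArgs false
set_option linter.style.longLine false

namespace Cfsg.Agent.Lib.H22.S3366

open Matrix

/-! ### Facts about `Heis` -/

theorem heis_eq_pow : ∀ h : Heis, h = xH ^ h.a.val * yH ^ h.b.val * zH ^ h.c.val := by
  decide +kernel

theorem xH_pow_three : xH ^ 3 = 1 := by decide +kernel
theorem yH_pow_three : yH ^ 3 = 1 := by decide +kernel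
theorem zH_pow_three : zH ^ 3 = 1 := by decide +kernel
theorem zH_ne_one : zH ≠ 1 := by decide +kernel
theorem zH_central : ∀ h : Heis, zH * h = h * zH := by decide +kernel
theorem xy_rel : xH * yH = zH * yH * xH := by decide +kernel
theorem heis_pow_three : ∀ h : Heis, h ^ 3 = 1 := by decide +kernel

theorem actFun_zH : ∀ A : SL23, actFun A zH = zH := by decide +kernel

theorem tau_apply : ∀ h : Heis, actFun (-1) h = ⟨-h.a, -h.b, h.c⟩ := by decide +kernel

theorem tau_xH : actFun (-1) xH = xH⁻¹ := by decide +kernel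
theorem tau_yH : actFun (-1) yH = yH⁻¹ := by decide +kernel

/-- the fixed points of `tau` are the centre -/
theorem tau_fixed : ∀ h : Heis, actFun (-1) h = h → h = zH ^ h.c.val := by decide +kernel

/-- the kernel lemma: a nontrivial normal subgroup of `Heis` contains the centre -/
theorem heis_normal_closure : ∀ h : Heis, h ≠ 1 →
    h = zH ∨ h * h = zH ∨ ∃ g : Heis, g * h * g⁻¹ * h⁻¹ = zH := by decide +kernel

/-- "Lemma H": automorphisms commuting with `tau` and fixing the centre come from `SL(2,3)` -/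
theorem exists_SL_of_pair : ∀ u v : Heis, (actFun (-1) u = u⁻¹ ∧ actFun (-1) v = v⁻¹ ∧
    u * v = zH * v * u) → ∃ A : SL23, actFun A xH = u ∧ actFun A yH = v := by decide +kernel

theorem actFun_inj : ∀ A B : SL23, (actFun A xH = actFun B xH ∧ actFun A yH = actFun B yH) →
    A = B := by decide +kernel

/-- used to split the extension: an element of `SL(2,3)` fixing the image of a noncentral `h` in
`Heis/Z` fixes the whole centraliser of `h` -/
theorem actFun_fix_centralizer : ∀ (A : SL23) (h : Heis), ((actFun A h).a = h.a ∧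
    (actFun A h).b = h.b ∧ ¬ (h.a = 0 ∧ h.b = 0)) → ∀ h' : Heis, h' * h = h * h' →
    actFun A h' = h' := by decide +kernel

/-- noncentral elements: the centraliser has order 9 (in the form: commuting with a noncentral `h`
and being central-free) -/
theorem heis_comm_iff : ∀ h k : Heis, h * k = k * h ↔ h.a * k.b = h.b * k.a := by decide +kernel

/-! ### Facts about `SL(2,3)` -/

def up : SL23 := ⟨!![1, 1; 0, 1], by decide⟩
def um : SL23 := ⟨!![1, 0; 1, 1], by decide⟩

theorem up_pow_three : up ^ 3 = 1 := by decide +kernel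
theorem um_pow_three : um ^ 3 = 1 := by decide +kernel

/-- `SL(2,3)` is generated by two elements of order 3 -/
theorem SL23_gen : ∀ A : SL23, ∃ i j k l : Fin 3,
    A = up ^ (i : ℕ) * um ^ (j : ℕ) * up ^ (k : ℕ) * um ^ (l : ℕ) := by decide +kernel

/-- every nontrivial normal subgroup of `SL(2,3)` contains `-1` -/
theorem SL23_normal_closure : ∀ A : SL23, A ≠ 1 → (∃ k : Fin 6, A ^ (k : ℕ) = -1) ∨
    ∃ B : SL23, ∃ k : Fin 6, (A * (B * A⁻¹ * B⁻¹)) ^ (k : ℕ) = -1 := by decide +kernel

theorem SL23_neg_one_sq : (-1 : SL23) ^ 2 = 1 := by decide +kernel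
theorem SL23_neg_one_ne : (-1 : SL23) ≠ 1 := by decide +kernel
theorem SL23_neg_one_pow : (-1 : SL23) ^ 27 = -1 := by decide +kernel
theorem SL23_neg_one_central : ∀ A : SL23, A * (-1) = (-1) * A := by decide +kernel
theorem SL23_pow_eight : ∀ A : SL23, A ^ 8 = 1 → A ^ 4 = 1 := by decide +kernel
theorem SL23_pow_four_three : ∀ A : SL23, A ^ 4 = 1 → A ^ 3 = 1 → A = 1 := by decide +kernel
theorem SL23_card_Q8 : (Finset.univ.filter (fun A : SL23 => A ^ 4 = 1)).card = 8 := by
  decide +kernel
theorem SL23_pow_24 : ∀ A : SL23, A ^ 24 = 1 := by decide +kernel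
theorem SL23_pow_three_of : ∀ A : SL23, A ^ 27 = 1 → A ^ 3 = 1 := by decide +kernel

end Cfsg.Agent.Lib.H22.S3366
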