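import Mathlib
import Cfsg.Agent.Lib.H22.S3366Model2

/-!
# S3366: the abstract side, part 1 (helper22)

`Ctx X`: a finite group `X` with a normal subgroup `R` of order 27 and exponent 3, `Z = Z(R)` of order 3,
`R' ≤ Z`, `X/R ≅ SL(2,3)`, `O_2(X) = 1`, and an elementary abelian subgroup `E` of order 27.
Here: `|X| = 648`, `Z` is central in `X`, an involution `t` over `-1`, the Frattini argument
`X = R C_X(t)`, and two non-commuting elements of `R` inverted by `t`.
-/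

set_option autoImplicit false
set_option linter.unusedVariables false
set_option linter.unusedSimpArgs false
set_option linter.unusedSectionVars false
set_option linter.style.longLine false

namespace Cfsg.Agent.Lib.H22.S3366

/-- The abstract setting. -/
structure Ctx (X : Type*) [Group X] where
  R : Subgroup X
  Rn : R.Normal
  pi : X →* SL23
  pi_surj : Function.Surjective pi
  pi_ker : ∀ g, pi g = 1 ↔ g ∈ R
  Rcard : Nat.card R = 27
  Rexp : ∀ r ∈ R, r ^ 3 = 1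
  Z : Subgroup X
  Zle : Z ≤ R
  Zcard : Nat.card Z = 3
  Zcomm : ∀ z ∈ Z, ∀ r ∈ R, r * z = z * r
  Zmem : ∀ z ∈ R, (∀ r ∈ R, r * z = z * r) → z ∈ Z
  comm : ∀ r ∈ R, ∀ s ∈ R, r * s * r⁻¹ * s⁻¹ ∈ Z
  O2 : ∀ N : Subgroup X, N.Normal → IsPGroup 2 N → N = ⊥
  E : Subgroup X
  Ecomm : ∀ a ∈ E, ∀ b ∈ E, a * b = b * a
  Eexp : ∀ a ∈ E, a ^ 3 = 1
  Ecard : Nat.card E = 27

namespace Ctx

variable {X : Type*} [Group X] [Finite X] (K : Ctx X)
include K

theorem ker_eq : K.pi.ker = K.R := by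
  ext g
  rw [MonoidHom.mem_ker]
  exact K.pi_ker g

theorem card_X : Nat.card X = 648 := by
  have h1 := Subgroup.card_mul_index K.pi.ker
  rw [Subgroup.index_ker, MonoidHom.range_eq_top.2 K.pi_surj, Subgroup.card_top, card_SL23,
    K.ker_eq, K.Rcard] at h1
  omega

theorem conj_mem_R {r : X} (hr : r ∈ K.R) (g : X) : g * r * g⁻¹ ∈ K.R := K.Rn.conj_mem r hr g

theorem conj_mem_R' {r : X} (hr : r ∈ K.R) (g : X) : g⁻¹ * r * g ∈ K.R := by
  have := K.Rn.conj_mem r hr g⁻¹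
  rwa [inv_inv] at this

theorem Z_normal {z : X} (hz : z ∈ K.Z) (g : X) : g * z * g⁻¹ ∈ K.Z := by
  apply K.Zmem _ (K.conj_mem_R (K.Zle hz) g)
  intro r hr
  have h1 := K.Zcomm z hz (g⁻¹ * r * g) (K.conj_mem_R' hr g)
  calc r * (g * z * g⁻¹) = g * ((g⁻¹ * r * g) * z) * g⁻¹ := by group
    _ = g * (z * (g⁻¹ * r * g)) * g⁻¹ := by rw [h1]
    _ = g * z * g⁻¹ * r := by group

theorem Z_pow_three {z : X} (hz : z ∈ K.Z) : z ^ 3 = 1 := K.Rexp z (K.Zle hz)

/-- elements of `Z` are powers of any nontrivial element -/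
theorem Z_cases {z w : X} (hz : z ∈ K.Z) (hz1 : z ≠ 1) (hw : w ∈ K.Z) :
    w = 1 ∨ w = z ∨ w = z ^ 2 := by
  haveI : Fact (Nat.Prime 3) := ⟨Nat.prime_three⟩
  have hne : (⟨z, hz⟩ : K.Z) ≠ 1 := by
    intro h
    exact hz1 (congrArg Subtype.val h)
  obtain ⟨n, hn⟩ := mem_powers_of_prime_card (G := K.Z) K.Zcard (g := ⟨z, hz⟩) (g' := ⟨w, hw⟩) hne
  have hn' : z ^ n = w := by
    have := congrArg Subtype.val hn
    simpa using this
  have h3 := K.Z_pow_three hz
  rw [pow_eq_pow_mod n h3] at hn'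
  have : n % 3 < 3 := Nat.mod_lt _ (by norm_num)
  interval_cases (n % 3)
  · left; rw [← hn', pow_zero]
  · right; left; rw [← hn', pow_one]
  · right; right; exact hn'.symm

/-- an element of order dividing 9 centralises `Z` -/
theorem comm_of_pow_nine {g : X} (hg : g ^ 9 = 1) {z : X} (hz : z ∈ K.Z) : g * z = z * g := by
  by_cases hz1 : z = 1
  · rw [hz1, mul_one, one_mul]
  have h3 := K.Z_pow_three hz
  rcases K.Z_cases hz hz1 (K.Z_normal hz g) with h | h | h
  · exfalso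
    apply hz1
    have : z = g⁻¹ * (g * z * g⁻¹) * g := by group
    rw [this, h]; group
  · calc g * z = (g * z * g⁻¹) * g := by simp [mul_assoc]
      _ = z * g := by rw [h]
  · -- g z g⁻¹ = z², so g² centralises z
    have h2 : g * (z ^ 2) * g⁻¹ = z := by
      have : g * (z ^ 2) * g⁻¹ = (g * z * g⁻¹) ^ 2 := by rw [conj_pow]
      rw [this, h, ← pow_mul]
      calc z ^ (2 * 2) = z ^ 3 * z := by rw [← pow_succ]
        _ = z := by rw [h3, one_mul]
    have h4 : (g ^ 2) * z * (g ^ 2)⁻¹ = z := by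
      calc (g ^ 2) * z * (g ^ 2)⁻¹ = g * (g * z * g⁻¹) * g⁻¹ := by
            simp [pow_two, mul_assoc]
        _ = z := by rw [h, h2]
    have h5 : g ^ 2 ∈ Subgroup.centralizer ({z} : Set X) := by
      rw [Subgroup.mem_centralizer_singleton_iff]
      calc g ^ 2 * z = (g ^ 2 * z * (g ^ 2)⁻¹) * g ^ 2 := by simp [mul_assoc]
        _ = z * g ^ 2 := by rw [h4]
    have h6 : g = (g ^ 2) ^ 5 := by
      rw [← pow_mul]
      calc g = g ^ 9 * g := by rw [hg, one_mul]
        _ = g ^ (2 * 5) := by rw [← pow_succ]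
    have h7 : g ∈ Subgroup.centralizer ({z} : Set X) := by
      rw [h6]; exact pow_mem h5 5
    exact Subgroup.mem_centralizer_singleton_iff.1 h7

theorem mem_R_of_pi_eq {g g' : X} (h : K.pi g = K.pi g') : g'⁻¹ * g ∈ K.R := by
  rw [← K.pi_ker, map_mul, map_inv, h, inv_mul_cancel]

theorem pow_nine_of_pi_pow_three {g : X} (h : K.pi g ^ 3 = 1) : g ^ 9 = 1 := by
  have h1 : g ^ 3 ∈ K.R := by rw [← K.pi_ker, map_pow, h]
  have h2 := K.Rexp _ h1
  rw [← pow_mul] at h2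
  exact h2

/-- `Z` is central in `X` -/
theorem Z_central {z : X} (hz : z ∈ K.Z) (g : X) : g * z = z * g := by
  obtain ⟨gp, hgp⟩ := K.pi_surj up
  obtain ⟨gm, hgm⟩ := K.pi_surj um
  have hp : gp ∈ Subgroup.centralizer ({z} : Set X) := by
    rw [Subgroup.mem_centralizer_singleton_iff]
    exact K.comm_of_pow_nine (K.pow_nine_of_pi_pow_three (by rw [hgp, up_pow_three])) hz
  have hm : gm ∈ Subgroup.centralizer ({z} : Set X) := by
    rw [Subgroup.mem_centralizer_singleton_iff]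
    exact K.comm_of_pow_nine (K.pow_nine_of_pi_pow_three (by rw [hgm, um_pow_three])) hz
  obtain ⟨i, j, k, l, hA⟩ := SL23_gen (K.pi g)
  have h1 : K.pi g = K.pi (gp ^ (i : ℕ) * gm ^ (j : ℕ) * gp ^ (k : ℕ) * gm ^ (l : ℕ)) := by
    rw [hA]; simp [map_mul, map_pow, hgp, hgm]
  have h2 := K.mem_R_of_pi_eq h1
  have h3 : (gp ^ (i : ℕ) * gm ^ (j : ℕ) * gp ^ (k : ℕ) * gm ^ (l : ℕ))⁻¹ * g ∈
      Subgroup.centralizer ({z} : Set X) := by
    rw [Subgroup.mem_centralizer_singleton_iff]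
    exact K.Zcomm z hz _ h2
  have h4 : g ∈ Subgroup.centralizer ({z} : Set X) := by
    have : g = (gp ^ (i : ℕ) * gm ^ (j : ℕ) * gp ^ (k : ℕ) * gm ^ (l : ℕ)) *
        ((gp ^ (i : ℕ) * gm ^ (j : ℕ) * gp ^ (k : ℕ) * gm ^ (l : ℕ))⁻¹ * g) := by group
    rw [this]
    exact mul_mem (mul_mem (mul_mem (mul_mem (pow_mem hp _) (pow_mem hm _)) (pow_mem hp _))
      (pow_mem hm _)) h3
  exact Subgroup.mem_centralizer_singleton_iff.1 h4

/-- an involution over `-1` -/
theorem exists_t : ∃ t : X, t * t = 1 ∧ K.pi t = -1 := by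
  obtain ⟨g, hg⟩ := K.pi_surj (-1)
  refine ⟨g ^ 27, ?_, ?_⟩
  · have h1 : g ^ 2 ∈ K.R := by rw [← K.pi_ker, map_pow, hg, SL23_neg_one_sq]
    have h2 := K.Rexp _ h1
    calc g ^ 27 * g ^ 27 = ((g ^ 2) ^ 3) ^ 9 := by group
      _ = 1 := by rw [h2, one_pow]
  · rw [map_pow, hg, SL23_neg_one_pow]

end Ctx

/-- The setting with a chosen involution `t` over `-1`. -/
structure TCtx (X : Type*) [Group X] extends Ctx X where
  t : X
  t_sq : t * t = 1
  pi_t : pi t = -1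

namespace TCtx

variable {X : Type*} [Group X] [Finite X] (K : TCtx X)
include K

theorem t_inv : K.t⁻¹ = K.t := inv_eq_of_mul_eq_one_left K.t_sq

theorem pow_two_eq_inv {r : X} (hr : r ∈ K.R) : r ^ 2 = r⁻¹ := by
  have := K.Rexp r hr
  rw [eq_inv_iff_mul_eq_one, ← pow_succ]
  exact this

/-- involutions over `-1` are conjugate to `t` under `R` -/
theorem invol_conj {s : X} (hs : s * s = 1) (hps : K.pi s = -1) :
    ∃ r ∈ K.R, s = r * K.t * r⁻¹ := by
  have hr0 : K.t * s ∈ K.R := by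
    rw [← K.pi_ker, map_mul, K.pi_t, hps]
    decide +kernel
  refine ⟨K.t * s, hr0, ?_⟩
  have h3 := K.Rexp _ hr0
  have ht := K.t_sq
  have htinv : K.t⁻¹ = K.t := inv_eq_of_mul_eq_one_left ht
  have hsinv : s⁻¹ = s := inv_eq_of_mul_eq_one_left hs
  have h4 : K.t * s * K.t * s * K.t * s = 1 := by
    have : (K.t * s) ^ 3 = K.t * s * K.t * s * K.t * s := by
      simp [pow_succ, mul_assoc]
    rw [← this]; exact h3
  have h5 : K.t * s * K.t * s * K.t = s := by
    have := eq_inv_of_mul_eq_one_left h4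
    rw [hsinv] at this
    exact this
  rw [mul_inv_rev, htinv, hsinv]
  calc s = K.t * s * K.t * s * K.t := h5.symm
    _ = K.t * s * K.t * (s * K.t) := by simp [mul_assoc]

/-- the Frattini argument: `X = R C_X(t)` -/
theorem frattini (g : X) : ∃ r ∈ K.R, (r * g) * K.t = K.t * (r * g) := by
  have hs : (g * K.t * g⁻¹) * (g * K.t * g⁻¹) = 1 := by
    calc (g * K.t * g⁻¹) * (g * K.t * g⁻¹) = g * (K.t * K.t) * g⁻¹ := by group
      _ = 1 := by rw [K.t_sq]; group
  have hps : K.pi (g * K.t * g⁻¹) = -1 := by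
    rw [map_mul, map_mul, map_inv, K.pi_t, SL23_neg_one_central, mul_assoc, mul_inv_cancel, mul_one]
  obtain ⟨r, hr, h⟩ := K.invol_conj hs hps
  refine ⟨r⁻¹, inv_mem hr, ?_⟩
  calc r⁻¹ * g * K.t = r⁻¹ * (g * K.t * g⁻¹) * g := by group
    _ = r⁻¹ * (r * K.t * r⁻¹) * g := by rw [h]
    _ = K.t * (r⁻¹ * g) := by group

/-- `t` does not centralise `R` (this is where `O_2(X) = 1` is used) -/
theorem t_not_central : ¬ ∀ r ∈ K.R, K.t * r = r * K.t := by
  intro hc
  have hconj : ∀ g : X, g * K.t * g⁻¹ = K.t := by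
    intro g
    obtain ⟨r, hr, h⟩ := K.frattini g
    have h1 : g * K.t * g⁻¹ = r⁻¹ * ((r * g) * K.t) * g⁻¹ := by group
    rw [h1, h]
    have h2 : r⁻¹ * (K.t * (r * g)) * g⁻¹ = r⁻¹ * (K.t * r) := by group
    rw [h2, hc r hr]; group
  have hN : (Subgroup.zpowers K.t).Normal := by
    constructor
    intro n hn g
    obtain ⟨k, rfl⟩ := Subgroup.mem_zpowers_iff.1 hn
    have : g * K.t ^ k * g⁻¹ = (g * K.t * g⁻¹) ^ k := by
      rw [conj_zpow]
    rw [this, hconj g]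
    exact Subgroup.zpow_mem_zpowers _ _
  have hP : IsPGroup 2 (Subgroup.zpowers K.t) := by
    intro ⟨n, hn⟩
    obtain ⟨k, rfl⟩ := Subgroup.mem_zpowers_iff.1 hn
    refine ⟨1, ?_⟩
    apply Subtype.ext
    show (K.t ^ k) ^ (2 ^ 1) = 1
    rw [pow_one, ← zpow_natCast, ← zpow_mul, mul_comm, zpow_mul, zpow_natCast, pow_two, K.t_sq,
      one_zpow]
  have hbot := K.O2 _ hN hP
  have ht1 : K.t = 1 := by
    have : K.t ∈ Subgroup.zpowers K.t := Subgroup.mem_zpowers _
    rw [hbot] at this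
    exact Subgroup.mem_bot.1 this
  have := K.pi_t
  rw [ht1, map_one] at this
  exact SL23_neg_one_ne this.symm

end TCtx

end Cfsg.Agent.Lib.H22.S3366
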