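import Mathlib
import Cfsg.Agent.Lib.H22.S3366Abs1

/-!
# S3366: the abstract side, part 2 (helper22)

Two non-commuting elements of `R` inverted by `t`.
-/

set_option autoImplicit false
set_option linter.unusedVariables false
set_option linter.unusedSimpArgs false
set_option linter.unusedSectionVars false
set_option linter.style.longLine false

namespace Cfsg.Agent.Lib.H22.S3366

namespace TCtx

variable {X : Type*} [Group X] [Finite X] (K : TCtx X)

/-- conjugation by the involution `t` -/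
def tau (r : X) : X := K.t * r * K.t

include K

theorem tau_mul (r s : X) : K.tau (r * s) = K.tau r * K.tau s := by
  unfold tau
  calc K.t * (r * s) * K.t = K.t * r * 1 * s * K.t := by simp [mul_assoc]
    _ = K.t * r * (K.t * K.t) * s * K.t := by rw [K.t_sq]
    _ = K.t * r * K.t * (K.t * s * K.t) := by simp [mul_assoc]

theorem tau_tau (r : X) : K.tau (K.tau r) = r := by
  unfold tau
  calc K.t * (K.t * r * K.t) * K.t = (K.t * K.t) * r * (K.t * K.t) := by simp [mul_assoc]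
    _ = r := by rw [K.t_sq, one_mul, mul_one]

theorem tau_one : K.tau 1 = 1 := by
  unfold tau
  rw [mul_one, K.t_sq]

theorem tau_inv (r : X) : K.tau r⁻¹ = (K.tau r)⁻¹ := by
  rw [eq_inv_iff_mul_eq_one, ← K.tau_mul, inv_mul_cancel, K.tau_one]

theorem tau_mem_R {r : X} (hr : r ∈ K.R) : K.tau r ∈ K.R := by
  have := K.conj_mem_R hr K.t
  rw [K.t_inv] at this
  exact this

theorem tau_Z {z : X} (hz : z ∈ K.Z) : K.tau z = z := by
  unfold tau
  rw [K.Z_central hz K.t, mul_assoc, K.t_sq, mul_one]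

theorem comm_of_tau_eq {r : X} (h : K.tau r = r) : K.t * r = r * K.t := by
  unfold tau at h
  calc K.t * r = K.t * r * (K.t * K.t) := by rw [K.t_sq, mul_one]
    _ = (K.t * r * K.t) * K.t := by simp [mul_assoc]
    _ = r * K.t := by rw [h]

theorem tau_eq_of_comm {r : X} (h : K.t * r = r * K.t) : K.tau r = r := by
  unfold tau
  rw [h, mul_assoc, K.t_sq, mul_one]

theorem Z_inv_trivial {z : X} (hz : z ∈ K.Z) (h : K.tau z = z⁻¹) : z = 1 := by
  rw [K.tau_Z hz] at h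
  have h2 : z * z = 1 := by
    nth_rewrite 1 [h]
    exact inv_mul_cancel z
  have h3 := K.Z_pow_three hz
  have h4 : z ^ 3 = z := by rw [pow_succ, pow_two, h2, one_mul]
  rw [h4] at h3
  exact h3

theorem exists_xy : ∃ x ∈ K.R, ∃ y ∈ K.R, K.tau x = x⁻¹ ∧ K.tau y = y⁻¹ ∧ x * y ≠ y * x := by
  by_contra Hc
  have H : ∀ x ∈ K.R, ∀ y ∈ K.R, K.tau x = x⁻¹ → K.tau y = y⁻¹ → x * y = y * x := by
    intro x hx y hy h1 h2
    by_contra h3
    exact Hc ⟨x, hx, y, hy, h1, h2, h3⟩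
  -- every inverted element is trivial
  have key : ∀ a ∈ K.R, K.tau a = a⁻¹ → a = 1 := by
    intro a ha hta
    have haZ : a ∈ K.Z := by
      apply K.Zmem a ha
      intro r hr
      have hu : (K.tau r)⁻¹ * r ∈ K.R := mul_mem (inv_mem (K.tau_mem_R hr)) hr
      have htu : K.tau ((K.tau r)⁻¹ * r) = ((K.tau r)⁻¹ * r)⁻¹ := by
        rw [K.tau_mul, K.tau_inv, K.tau_tau, mul_inv_rev, inv_inv]
      have hu3 := K.Rexp _ hu
      -- a₁ = u⁻¹
      have ha1 : ((K.tau r)⁻¹ * r)⁻¹ ∈ K.R := inv_mem hu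
      have hta1 : K.tau ((K.tau r)⁻¹ * r)⁻¹ = (((K.tau r)⁻¹ * r)⁻¹)⁻¹ := by
        rw [K.tau_inv, htu]
      -- c' = r u is fixed by tau
      have hc' : K.tau (r * ((K.tau r)⁻¹ * r)) = r * ((K.tau r)⁻¹ * r) := by
        rw [K.tau_mul, htu]
        have e3 : ((K.tau r)⁻¹ * r) * ((K.tau r)⁻¹ * r) * ((K.tau r)⁻¹ * r) = 1 := by
          rw [← hu3, pow_succ, pow_two]
        have e4 : ((K.tau r)⁻¹ * r) * ((K.tau r)⁻¹ * r) = ((K.tau r)⁻¹ * r)⁻¹ :=
          eq_inv_of_mul_eq_one_left e3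
        calc K.tau r * ((K.tau r)⁻¹ * r)⁻¹
            = K.tau r * (((K.tau r)⁻¹ * r) * ((K.tau r)⁻¹ * r)) := by rw [e4]
          _ = r * ((K.tau r)⁻¹ * r) := by group
      have hcomm1 := H _ ha1 a ha hta1 hta
      -- r a r⁻¹ = c' a c'⁻¹
      have e5 : r * a * r⁻¹ = (r * ((K.tau r)⁻¹ * r)) * a * (r * ((K.tau r)⁻¹ * r))⁻¹ := by
        have e6 : ((K.tau r)⁻¹ * r)⁻¹ * a * ((K.tau r)⁻¹ * r) = a := by
          rw [hcomm1]; group
        calc r * a * r⁻¹
            = (r * ((K.tau r)⁻¹ * r)) * (((K.tau r)⁻¹ * r)⁻¹ * a * ((K.tau r)⁻¹ * r)) *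
                (r * ((K.tau r)⁻¹ * r))⁻¹ := by group
          _ = _ := by rw [e6]
      have hb : r * a * r⁻¹ ∈ K.R := K.conj_mem_R ha r
      have htb : K.tau (r * a * r⁻¹) = (r * a * r⁻¹)⁻¹ := by
        rw [e5, K.tau_mul, K.tau_mul, K.tau_inv, hc', hta]
        group
      -- w = b a⁻¹ ∈ Z is inverted
      have hw : r * a * r⁻¹ * a⁻¹ ∈ K.Z := K.comm r hr a ha
      have htbi : K.tau (r * a * r⁻¹)⁻¹ = ((r * a * r⁻¹)⁻¹)⁻¹ := by
        rw [K.tau_inv, htb]
      have hcomm2 := H _ (inv_mem hb) a ha htbi hta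
      have htw : K.tau (r * a * r⁻¹ * a⁻¹) = (r * a * r⁻¹ * a⁻¹)⁻¹ := by
        rw [K.tau_mul, K.tau_inv a, htb, hta, inv_inv, hcomm2]
        group
      have hw1 := K.Z_inv_trivial hw htw
      calc r * a = (r * a * r⁻¹ * a⁻¹) * (a * r) := by group
        _ = a * r := by rw [hw1, one_mul]
    exact K.Z_inv_trivial haZ hta
  apply K.t_not_central
  intro r hr
  have hu : (K.tau r)⁻¹ * r ∈ K.R := mul_mem (inv_mem (K.tau_mem_R hr)) hr
  have htu : K.tau ((K.tau r)⁻¹ * r) = ((K.tau r)⁻¹ * r)⁻¹ := by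
    rw [K.tau_mul, K.tau_inv, K.tau_tau, mul_inv_rev, inv_inv]
  have h1 := key _ hu htu
  have h2 : K.tau r = r := by
    have := inv_mul_eq_one.1 h1
    exact this
  exact K.comm_of_tau_eq h2

end TCtx

end Cfsg.Agent.Lib.H22.S3366
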