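import Mathlib
import Cfsg.Agent.Lib.H22.S3366Model2

/-!
# S3366: homomorphisms out of `Heis` (helper22)

Given `x y z` in a group with `x^3 = y^3 = z^3 = 1`, `z` commuting with `x, y` and `x y = z y x`,
`heisHom` is the homomorphism `Heis →* G` with `(a,b,c) ↦ x^a y^b z^c`.
-/

set_option autoImplicit false
set_option linter.unusedVariables false
set_option linter.unusedSimpArgs false
set_option linter.unusedSectionVars false
set_option linter.style.longLine false

namespace Cfsg.Agent.Lib.H22.S3366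

variable {G : Type*} [Group G]

theorem heis_hom_ext (φ ψ : Heis →* G) (hx : φ xH = ψ xH) (hy : φ yH = ψ yH)
    (hz : φ zH = ψ zH) : φ = ψ := by
  ext h
  rw [heis_eq_pow h]
  simp only [map_mul, map_pow, hx, hy, hz]

theorem pow_val_eq {w : G} (hw : w ^ 3 = 1) (n : ℕ) (k : ZMod 3) (h : (n : ZMod 3) = k) :
    w ^ n = w ^ k.val := by
  have h1 : n % 3 = k.val % 3 := by
    have h2 : (n : ZMod 3) = ((k.val : ℕ) : ZMod 3) := by rw [h, ZMod.natCast_zmod_val]
    exact (ZMod.natCast_eq_natCast_iff' _ _ _).1 h2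
  rw [pow_eq_pow_mod n hw, pow_eq_pow_mod k.val hw, h1]

section rel

variable {x y z : G} (hzx : Commute z x) (hzy : Commute z y) (hrel : x * y = z * y * x)
include hzx hzy hrel

theorem rel_A (n : ℕ) : y * x ^ n * z ^ n = x ^ n * y := by
  induction n with
  | zero => simp
  | succ n ih =>
    have h1 : Commute (z ^ n) x := hzx.pow_left n
    have h2 : y * x * z = x * y := by
      rw [hrel, mul_assoc z y x]
      exact ((hzy.mul_right hzx).eq).symm
    calc y * x ^ (n + 1) * z ^ (n + 1) = y * x ^ n * (x * z ^ n) * z := by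
          rw [pow_succ, pow_succ]; simp [mul_assoc]
      _ = y * x ^ n * (z ^ n * x) * z := by rw [h1.eq]
      _ = (y * x ^ n * z ^ n) * x * z := by simp [mul_assoc]
      _ = x ^ n * (y * x * z) := by rw [ih]; simp [mul_assoc]
      _ = x ^ (n + 1) * y := by rw [h2, pow_succ]; simp [mul_assoc]

theorem rel_B (m n : ℕ) : y ^ m * x ^ n * z ^ (m * n) = x ^ n * y ^ m := by
  induction m with
  | zero => simp
  | succ m ih =>
    have h1 : Commute (z ^ n) (y ^ m) := hzy.pow_pow n m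
    calc y ^ (m + 1) * x ^ n * z ^ ((m + 1) * n)
        = y * (y ^ m * x ^ n * z ^ (m * n)) * z ^ n := by
          rw [pow_succ', add_mul, one_mul, pow_add]; simp [mul_assoc]
      _ = y * x ^ n * (y ^ m * z ^ n) := by rw [ih]; simp [mul_assoc]
      _ = y * x ^ n * (z ^ n * y ^ m) := by rw [h1.eq]
      _ = (y * x ^ n * z ^ n) * y ^ m := by simp [mul_assoc]
      _ = x ^ n * y ^ (m + 1) := by
          rw [rel_A hzx hzy hrel n, pow_succ']; simp [mul_assoc]

theorem rel_N (a b c a' b' c' : ℕ) :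
    (x ^ a * y ^ b * z ^ c) * (x ^ a' * y ^ b' * z ^ c') * z ^ (b * a') =
      x ^ (a + a') * y ^ (b + b') * z ^ (c + c') := by
  have h1 : Commute (z ^ c) (x ^ a') := hzx.pow_pow c a'
  have h2 : Commute (z ^ c) (y ^ b') := hzy.pow_pow c b'
  have h3 : Commute (z ^ (b * a')) (z ^ c') := (Commute.refl z).pow_pow _ _
  have h4 : Commute (z ^ (b * a')) (y ^ b') := hzy.pow_pow _ _
  have h5 : Commute (z ^ (b * a')) (z ^ c) := (Commute.refl z).pow_pow _ _
  calc (x ^ a * y ^ b * z ^ c) * (x ^ a' * y ^ b' * z ^ c') * z ^ (b * a')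
      = x ^ a * y ^ b * (z ^ c * x ^ a') * y ^ b' * (z ^ c' * z ^ (b * a')) := by
        simp [mul_assoc]
    _ = x ^ a * y ^ b * (x ^ a' * z ^ c) * y ^ b' * (z ^ (b * a') * z ^ c') := by
        rw [h1.eq, h3.eq]
    _ = x ^ a * y ^ b * x ^ a' * (z ^ c * y ^ b') * z ^ (b * a') * z ^ c' := by
        simp [mul_assoc]
    _ = x ^ a * y ^ b * x ^ a' * (y ^ b' * z ^ c) * z ^ (b * a') * z ^ c' := by
        rw [h2.eq]
    _ = x ^ a * y ^ b * x ^ a' * y ^ b' * (z ^ c * z ^ (b * a')) * z ^ c' := by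
        simp [mul_assoc]
    _ = x ^ a * y ^ b * x ^ a' * y ^ b' * (z ^ (b * a') * z ^ c) * z ^ c' := by
        rw [h5.eq]
    _ = x ^ a * y ^ b * x ^ a' * (y ^ b' * z ^ (b * a')) * z ^ c * z ^ c' := by
        simp [mul_assoc]
    _ = x ^ a * y ^ b * x ^ a' * (z ^ (b * a') * y ^ b') * z ^ c * z ^ c' := by
        rw [h4.eq]
    _ = x ^ a * (y ^ b * x ^ a' * z ^ (b * a')) * y ^ b' * (z ^ c * z ^ c') := by
        simp [mul_assoc]
    _ = x ^ a * (x ^ a' * y ^ b) * y ^ b' * (z ^ c * z ^ c') := by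
        rw [rel_B hzx hzy hrel b a']
    _ = x ^ (a + a') * y ^ (b + b') * z ^ (c + c') := by
        rw [pow_add, pow_add, pow_add]; simp [mul_assoc]

end rel

/-- the map `(a,b,c) ↦ x^a y^b z^c` -/
def heisFun (x y z : G) (h : Heis) : G := x ^ h.a.val * y ^ h.b.val * z ^ h.c.val

theorem heisFun_mul {x y z : G} (hx3 : x ^ 3 = 1) (hy3 : y ^ 3 = 1) (hz3 : z ^ 3 = 1)
    (hzx : Commute z x) (hzy : Commute z y) (hrel : x * y = z * y * x) (h k : Heis) :
    heisFun x y z (h * k) = heisFun x y z h * heisFun x y z k := by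
  have hN := rel_N hzx hzy hrel h.a.val h.b.val h.c.val k.a.val k.b.val k.c.val
  apply mul_right_cancel (b := z ^ (h.b.val * k.a.val))
  rw [show heisFun x y z h * heisFun x y z k * z ^ (h.b.val * k.a.val) = _ from hN]
  unfold heisFun
  rw [mul_assoc, ← pow_add]
  have e1 : x ^ (h.a.val + k.a.val) = x ^ (h * k).a.val :=
    pow_val_eq hx3 _ _ (by push_cast; simp)
  have e2 : y ^ (h.b.val + k.b.val) = y ^ (h * k).b.val :=
    pow_val_eq hy3 _ _ (by push_cast; simp)
  have e3 : z ^ (h.c.val + k.c.val) = z ^ (h.c + k.c).val :=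
    pow_val_eq hz3 _ _ (by push_cast; simp)
  have e4 : z ^ ((h * k).c.val + h.b.val * k.a.val) = z ^ (h.c + k.c).val :=
    pow_val_eq hz3 _ _ (by push_cast; simp)
  rw [e1, e2, e3, e4]

/-- the homomorphism `Heis →* G` attached to `x, y, z` -/
def heisHom (x y z : G) (hx3 : x ^ 3 = 1) (hy3 : y ^ 3 = 1) (hz3 : z ^ 3 = 1)
    (hzx : Commute z x) (hzy : Commute z y) (hrel : x * y = z * y * x) : Heis →* G :=
  MonoidHom.mk' (heisFun x y z) (heisFun_mul hx3 hy3 hz3 hzx hzy hrel)

section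

variable {x y z : G} (hx3 : x ^ 3 = 1) (hy3 : y ^ 3 = 1) (hz3 : z ^ 3 = 1)
    (hzx : Commute z x) (hzy : Commute z y) (hrel : x * y = z * y * x)

theorem heisHom_xH : heisHom x y z hx3 hy3 hz3 hzx hzy hrel xH = x := by
  show heisFun x y z xH = x
  simp [heisFun, xH, ZMod.val_one]

theorem heisHom_yH : heisHom x y z hx3 hy3 hz3 hzx hzy hrel yH = y := by
  show heisFun x y z yH = y
  simp [heisFun, yH, ZMod.val_one]

theorem heisHom_zH : heisHom x y z hx3 hy3 hz3 hzx hzy hrel zH = z := by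
  show heisFun x y z zH = z
  simp [heisFun, zH, ZMod.val_one]

theorem heisHom_injective (hz1 : z ≠ 1) :
    Function.Injective (heisHom x y z hx3 hy3 hz3 hzx hzy hrel) := by
  rw [injective_iff_map_eq_one]
  intro h hh
  by_contra hne
  apply hz1
  rw [← heisHom_zH hx3 hy3 hz3 hzx hzy hrel]
  rcases heis_normal_closure h hne with h1 | h1 | ⟨g, h1⟩
  · rw [← h1, hh]
  · rw [← h1, map_mul, hh, one_mul]
  · rw [← h1, map_mul, map_mul, map_mul, map_inv, map_inv, hh]
    simp

end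

end Cfsg.Agent.Lib.H22.S3366
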