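import Mathlib
import Cfsg.Agent.Lib.H22.S3366Abs2
import Cfsg.Agent.Lib.H22.S3366Hom

/-!
# S3366: the abstract side, part 3 (helper22)

With `x, y ∈ R` inverted by `t` and not commuting: the isomorphism `f : Heis → R`, its compatibility with `t`,
`C_R(t) = Z`, and "Lemma H": every element of `C_X(t)` acts on `R` through `SL(2,3)`.
-/

set_option autoImplicit false
set_option linter.unusedVariables false
set_option linter.unusedSimpArgs false
set_option linter.unusedSectionVars false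
set_option linter.style.longLine false

namespace Cfsg.Agent.Lib.H22.S3366

/-- The setting with chosen `x, y`. -/
structure XCtx (X : Type*) [Group X] extends TCtx X where
  x : X
  y : X
  hx : x ∈ R
  hy : y ∈ R
  tx : t * x * t = x⁻¹
  ty : t * y * t = y⁻¹
  hxy : x * y ≠ y * x

namespace XCtx

variable {X : Type*} [Group X] [Finite X] (K : XCtx X)

/-- the commutator of `x` and `y` -/
def z : X := K.x * K.y * K.x⁻¹ * K.y⁻¹

include K

theorem z_mem : K.z ∈ K.Z := K.comm K.x K.hx K.y K.hy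

theorem z_ne : K.z ≠ 1 := by
  intro h
  apply K.hxy
  unfold z at h
  calc K.x * K.y = (K.x * K.y * K.x⁻¹ * K.y⁻¹) * (K.y * K.x) := by group
    _ = K.y * K.x := by rw [h, one_mul]

theorem hx3 : K.x ^ 3 = 1 := K.Rexp _ K.hx
theorem hy3 : K.y ^ 3 = 1 := K.Rexp _ K.hy
theorem hz3 : K.z ^ 3 = 1 := K.Z_pow_three K.z_mem
theorem hzx : Commute K.z K.x := (K.Z_central K.z_mem K.x).symm
theorem hzy : Commute K.z K.y := (K.Z_central K.z_mem K.y).symm
theorem hrel : K.x * K.y = K.z * K.y * K.x := by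
  unfold z; group

/-- the isomorphism `Heis → R`, as a homomorphism into `X` -/
noncomputable def f : Heis →* X := heisHom K.x K.y K.z K.hx3 K.hy3 K.hz3 K.hzx K.hzy K.hrel

theorem f_x : K.f xH = K.x := heisHom_xH _ _ _ _ _ _
theorem f_y : K.f yH = K.y := heisHom_yH _ _ _ _ _ _
theorem f_z : K.f zH = K.z := heisHom_zH _ _ _ _ _ _

theorem f_inj : Function.Injective K.f := heisHom_injective _ _ _ _ _ _ K.z_ne

theorem f_mem (h : Heis) : K.f h ∈ K.R := by
  show heisFun K.x K.y K.z h ∈ K.R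
  unfold heisFun
  exact mul_mem (mul_mem (pow_mem K.hx _) (pow_mem K.hy _)) (pow_mem (K.Zle K.z_mem) _)

theorem f_range_eq : K.f.range = K.R := by
  haveI : Finite K.R := inferInstance
  apply Subgroup.eq_of_le_of_card_ge
  · rintro _ ⟨h, rfl⟩
    exact K.f_mem h
  · rw [K.Rcard, ← card_heis]
    exact le_of_eq (Nat.card_congr (Equiv.ofInjective K.f K.f_inj))

theorem f_surj {r : X} (hr : r ∈ K.R) : ∃ h : Heis, K.f h = r := by
  rw [← K.f_range_eq] at hr
  exact hr

theorem f_tau (h : Heis) : K.tau (K.f h) = K.f (actFun (-1) h) := by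
  have key : (MonoidHom.mk' (fun h => K.tau (K.f h)) (fun a b => by
      show K.tau (K.f (a * b)) = _
      rw [map_mul, K.tau_mul]) : Heis →* X) = K.f.comp (MulEquiv.toMonoidHom (act (-1))) := by
    apply heis_hom_ext
    · show K.tau (K.f xH) = K.f (actFun (-1) xH)
      rw [tau_xH, map_inv, K.f_x]
      exact K.tx
    · show K.tau (K.f yH) = K.f (actFun (-1) yH)
      rw [tau_yH, map_inv, K.f_y]
      exact K.ty
    · show K.tau (K.f zH) = K.f (actFun (-1) zH)
      rw [actFun_zH, K.f_z]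
      exact K.tau_Z K.z_mem
  exact congrArg (fun φ : Heis →* X => φ h) key

/-- `C_R(t) = Z` -/
theorem mem_Z_of_comm {r : X} (hr : r ∈ K.R) (h : K.t * r = r * K.t) : r ∈ K.Z := by
  obtain ⟨u, rfl⟩ := K.f_surj hr
  have h1 := K.tau_eq_of_comm h
  rw [K.f_tau] at h1
  have h2 := tau_fixed u (K.f_inj h1)
  rw [h2, map_pow, K.f_z]
  exact pow_mem K.z_mem _

/-- elements of `Z` are images of central elements -/
theorem Z_eq_f {w : X} (hw : w ∈ K.Z) : ∃ k : ℕ, w = K.f (zH ^ k) := by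
  rcases K.Z_cases K.z_mem K.z_ne hw with h | h | h
  · exact ⟨0, by rw [h, pow_zero, map_one]⟩
  · exact ⟨1, by rw [h, pow_one, K.f_z]⟩
  · exact ⟨2, by rw [h, map_pow, K.f_z]⟩

/-- Lemma H: an element commuting with `t` acts on `R` through `SL(2,3)` -/
theorem lemmaH {g : X} (hg : g * K.t = K.t * g) :
    ∃ A : SL23, ∀ h : Heis, g * K.f h * g⁻¹ = K.f (actFun A h) := by
  obtain ⟨u, hu⟩ := K.f_surj (K.conj_mem_R K.hx g)
  obtain ⟨v, hv⟩ := K.f_surj (K.conj_mem_R K.hy g)
  have hginv : g⁻¹ * K.t = K.t * g⁻¹ := by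
    calc g⁻¹ * K.t = g⁻¹ * (K.t * g) * g⁻¹ := by group
      _ = g⁻¹ * (g * K.t) * g⁻¹ := by rw [hg]
      _ = K.t * g⁻¹ := by group
  have htconj : ∀ r : X, K.tau (g * r * g⁻¹) = g * K.tau r * g⁻¹ := by
    intro r
    unfold TCtx.tau
    calc K.t * (g * r * g⁻¹) * K.t = (K.t * g) * r * (g⁻¹ * K.t) := by group
      _ = (g * K.t) * r * (K.t * g⁻¹) := by rw [hg, hginv]
      _ = g * (K.t * r * K.t) * g⁻¹ := by group
  have c1 : actFun (-1) u = u⁻¹ := by
    apply K.f_inj
    rw [← K.f_tau, hu, htconj, map_inv, hu]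
    have : K.tau K.x = K.x⁻¹ := K.tx
    rw [this]; group
  have c2 : actFun (-1) v = v⁻¹ := by
    apply K.f_inj
    rw [← K.f_tau, hv, htconj, map_inv, hv]
    have : K.tau K.y = K.y⁻¹ := K.ty
    rw [this]; group
  have hzg : g * K.z * g⁻¹ = K.z := by
    rw [K.Z_central K.z_mem g, mul_assoc, mul_inv_cancel, mul_one]
  have c3 : u * v = zH * v * u := by
    apply K.f_inj
    rw [map_mul, map_mul, map_mul, hu, hv, K.f_z]
    calc g * K.x * g⁻¹ * (g * K.y * g⁻¹) = g * (K.x * K.y) * g⁻¹ := by group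
      _ = g * (K.z * K.y * K.x) * g⁻¹ := by rw [← K.hrel]
      _ = (g * K.z * g⁻¹) * (g * K.y * g⁻¹) * (g * K.x * g⁻¹) := by group
      _ = K.z * (g * K.y * g⁻¹) * (g * K.x * g⁻¹) := by rw [hzg]
  obtain ⟨A, hA1, hA2⟩ := exists_SL_of_pair u v ⟨c1, c2, c3⟩
  refine ⟨A, ?_⟩
  have key : (MulEquiv.toMonoidHom (MulAut.conj g)).comp K.f =
      K.f.comp (MulEquiv.toMonoidHom (act A)) := by
    apply heis_hom_ext
    · show g * K.f xH * g⁻¹ = K.f (actFun A xH)
      rw [hA1, hu, K.f_x]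
    · show g * K.f yH * g⁻¹ = K.f (actFun A yH)
      rw [hA2, hv, K.f_y]
    · show g * K.f zH * g⁻¹ = K.f (actFun A zH)
      rw [actFun_zH, K.f_z, hzg]
  intro h
  exact congrArg (fun φ : Heis →* X => φ h) key

end XCtx

end Cfsg.Agent.Lib.H22.S3366
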