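import Mathlib
import Cfsg.Agent.Lib.H22.S3366Abs3

/-!
# S3366: the abstract side, part 4 (helper22)

The element `c` of order 3 in `C_X(t)` outside `R` (from the elementary abelian subgroup `E`), the normal Sylow
2-subgroup `T` of `C_X(t)`, the complement `L = T⟨c⟩`, faithfulness of `L` on `R`.
-/

set_option autoImplicit false
set_option linter.unusedVariables false
set_option linter.unusedSimpArgs false
set_option linter.unusedSectionVars false
set_option linter.style.longLine false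

namespace Cfsg.Agent.Lib.H22.S3366

theorem zH_pow_ab (k : ℕ) : (zH ^ k).a = 0 ∧ (zH ^ k).b = 0 := by
  induction k with
  | zero => simp
  | succ k ih =>
    rw [pow_succ]
    refine ⟨?_, ?_⟩
    · rw [Heis.mul_a, ih.1]; rfl
    · rw [Heis.mul_b, ih.2]; rfl

theorem eq_one_of_pow_three_eight {G : Type*} [Group G] {s : G} (h3 : s ^ 3 = 1) (h8 : s ^ 8 = 1) :
    s = 1 := by
  have h9 : s ^ 9 = 1 := by
    calc s ^ 9 = (s ^ 3) ^ 3 := by rw [← pow_mul]
      _ = 1 := by rw [h3, one_pow]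
  have h10 : s ^ 9 = s ^ 8 * s := pow_succ s 8
  rw [h9, h8, one_mul] at h10
  exact h10.symm

namespace XCtx

variable {X : Type*} [Group X] [Finite X] (K : XCtx X)
include K

/-- an element of order 3 in `C_X(t)` outside `R` -/
theorem exists_c : ∃ c : X, c * K.t = K.t * c ∧ c ^ 3 = 1 ∧ c ∉ K.R := by
  -- (a) an element of E outside R
  have ha : ∃ g ∈ K.E, g ∉ K.R := by
    by_contra hcon
    push Not at hcon
    have hle : K.E ≤ K.R := hcon
    have heq : K.E = K.R := by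
      apply Subgroup.eq_of_le_of_card_ge hle
      rw [K.Rcard, K.Ecard]
    apply K.hxy
    apply K.Ecomm
    · rw [heq]; exact K.hx
    · rw [heq]; exact K.hy
  -- (b) an element of E ∩ R outside Z
  have hb : ∃ a ∈ K.E, a ∈ K.R ∧ a ∉ K.Z := by
    by_contra hcon
    push Not at hcon
    have h1 := Subgroup.card_mul_index (K.pi.comp K.E.subtype).ker
    rw [Subgroup.index_ker, K.Ecard] at h1
    have h2 : Nat.card (K.pi.comp K.E.subtype).range ∣ 24 := by
      have := Subgroup.card_subgroup_dvd_card (K.pi.comp K.E.subtype).range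
      rwa [card_SL23] at this
    have h3 : Nat.card (K.pi.comp K.E.subtype).range ∣ 27 := Dvd.intro_left _ h1
    have h4 : Nat.card (K.pi.comp K.E.subtype).range ∣ 3 := by
      have h0 := Nat.dvd_gcd h2 h3
      have h00 : Nat.gcd 24 27 = 3 := by norm_num
      rw [h00] at h0
      exact h0
    have h5 : Nat.card (K.pi.comp K.E.subtype).range ≤ 3 := Nat.le_of_dvd (by norm_num) h4
    have h6 : Nat.card (K.pi.comp K.E.subtype).ker ≤ Nat.card K.Z := by
      apply Nat.card_le_card_of_injective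
        (fun e : (K.pi.comp K.E.subtype).ker =>
          (⟨e.1.1, hcon e.1.1 e.1.2 ((K.pi_ker _).1 (MonoidHom.mem_ker.1 e.2))⟩ : K.Z))
      intro e1 e2 h
      apply Subtype.ext
      apply Subtype.ext
      exact congrArg (fun w : K.Z => (w : X)) h
    rw [K.Zcard] at h6
    nlinarith
  obtain ⟨g, hgE, hgR⟩ := ha
  obtain ⟨a, haE, haR, haZ⟩ := hb
  obtain ⟨r, hr, hc⟩ := K.frattini g
  obtain ⟨A, hA⟩ := K.lemmaH hc
  obtain ⟨h, rfl⟩ := K.f_surj haR
  have hga : g * K.f h * g⁻¹ = K.f h := by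
    rw [K.Ecomm g hgE _ haE, mul_assoc, mul_inv_cancel, mul_one]
  have hca : (r * g) * K.f h * (r * g)⁻¹ = r * K.f h * r⁻¹ := by
    calc (r * g) * K.f h * (r * g)⁻¹ = r * (g * K.f h * g⁻¹) * r⁻¹ := by group
      _ = r * K.f h * r⁻¹ := by rw [hga]
  have hzeta : r * K.f h * r⁻¹ * (K.f h)⁻¹ ∈ K.Z := K.comm r hr _ haR
  obtain ⟨k, hk⟩ := K.Z_eq_f hzeta
  have hact : actFun A h = zH ^ k * h := by
    apply K.f_inj
    rw [← hA, hca, map_mul, ← hk]
    group
  have hne : ¬ (h.a = 0 ∧ h.b = 0) := by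
    rintro ⟨h1, h2⟩
    apply haZ
    rw [heis_eq_pow h, h1, h2]
    simp only [ZMod.val_zero, pow_zero, one_mul, map_pow, K.f_z]
    exact pow_mem K.z_mem _
  have hfix := actFun_fix_centralizer A h
    ⟨by rw [hact, Heis.mul_a, (zH_pow_ab k).1, zero_add],
     by rw [hact, Heis.mul_b, (zH_pow_ab k).2, zero_add], hne⟩
  have hAh : actFun A h = h := hfix h rfl
  have hra : r * K.f h * r⁻¹ = K.f h := by
    rw [← hca, hA, hAh]
  obtain ⟨u, rfl⟩ := K.f_surj hr
  have hcomm : u * h = h * u := by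
    apply K.f_inj
    rw [map_mul, map_mul]
    calc K.f u * K.f h = (K.f u * K.f h * (K.f u)⁻¹) * K.f u := by group
      _ = K.f h * K.f u := by rw [hra]
  have hAu : actFun A u = u := hfix u hcomm
  have hcr : (K.f u * g) * K.f u * (K.f u * g)⁻¹ = K.f u := by
    rw [hA, hAu]
  have hcomm2 : Commute (K.f u)⁻¹ (K.f u * g) := by
    have h1 : Commute (K.f u * g) (K.f u) := by
      show (K.f u * g) * K.f u = K.f u * (K.f u * g)
      calc (K.f u * g) * K.f u = ((K.f u * g) * K.f u * (K.f u * g)⁻¹) * (K.f u * g) := by group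
        _ = K.f u * (K.f u * g) := by rw [hcr]
    exact (h1.inv_right).symm
  have hg3 : g ^ 3 = 1 := K.Eexp g hgE
  have hc3 : (K.f u * g) ^ 3 = 1 := by
    have h1 : g = (K.f u)⁻¹ * (K.f u * g) := by group
    rw [h1, hcomm2.mul_pow, inv_pow, K.Rexp _ hr, inv_one, one_mul] at hg3
    exact hg3
  refine ⟨K.f u * g, hc, hc3, ?_⟩
  intro hmem
  apply hgR
  have : g = (K.f u)⁻¹ * (K.f u * g) := by group
  rw [this]
  exact mul_mem (inv_mem hr) hmem

theorem zpowers_t_pgroup : IsPGroup 2 (Subgroup.zpowers K.t) := by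
  intro ⟨n, hn⟩
  obtain ⟨k, rfl⟩ := Subgroup.mem_zpowers_iff.1 hn
  refine ⟨1, ?_⟩
  apply Subtype.ext
  show (K.t ^ k) ^ (2 ^ 1) = 1
  rw [pow_one, ← zpow_natCast, ← zpow_mul, mul_comm, zpow_mul, zpow_natCast, pow_two, K.t_sq,
    one_zpow]

/-- the normal Sylow 2-subgroup of `C_X(t)` -/
theorem exists_T : ∃ T : Subgroup X, Nat.card T = 8 ∧ (∀ s ∈ T, s * K.t = K.t * s) ∧
    (∀ s ∈ T, s ^ 8 = 1) ∧
    (∀ g : X, g * K.t = K.t * g → ∀ s ∈ T, g * s * g⁻¹ ∈ T) := by
  haveI : Fact (Nat.Prime 2) := ⟨Nat.prime_two⟩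
  obtain ⟨P, hP⟩ := K.zpowers_t_pgroup.exists_le_sylow
  have htP : K.t ∈ (P : Subgroup X) := hP (Subgroup.mem_zpowers _)
  have hcard : Nat.card (P : Subgroup X) = 8 := by
    rw [Sylow.card_eq_multiplicity, K.card_X]
    have : (648 : ℕ).factorization 2 = 3 := by
      rw [show (648 : ℕ) = 2 ^ 3 * 81 by norm_num, Nat.factorization_mul (by norm_num) (by norm_num),
        Nat.Prime.factorization_pow Nat.prime_two]
      simp [Nat.factorization_eq_zero_of_not_dvd]
    rw [this]; norm_num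
  have h8 : ∀ s ∈ (P : Subgroup X), s ^ 8 = 1 := by
    intro s hs
    have := pow_card_eq_one' (G := (P : Subgroup X)) (x := ⟨s, hs⟩)
    rw [hcard] at this
    exact congrArg Subtype.val this
  have hinj : ∀ s ∈ (P : Subgroup X), ∀ s' ∈ (P : Subgroup X), K.pi s = K.pi s' → s = s' := by
    intro s hs s' hs' h
    have h1 := K.mem_R_of_pi_eq h
    have h2 := K.Rexp _ h1
    have h3 := h8 _ (mul_mem (inv_mem hs') hs)
    have h4 := eq_one_of_pow_three_eight h2 h3
    exact (inv_mul_eq_one.1 h4).symm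
  have hPC : ∀ s ∈ (P : Subgroup X), s * K.t = K.t * s := by
    intro s hs
    apply hinj _ (mul_mem hs htP) _ (mul_mem htP hs)
    rw [map_mul, map_mul, K.pi_t, SL23_neg_one_central]
  -- π maps P onto the quaternion subgroup
  have hsurj : ∀ A : SL23, A ^ 4 = 1 → ∃ s ∈ (P : Subgroup X), K.pi s = A := by
    have hbij : Function.Bijective (fun s : (P : Subgroup X) =>
        (⟨K.pi s.1, SL23_pow_eight _ (by rw [← map_pow, h8 s.1 s.2, map_one])⟩ :
          {A : SL23 // A ^ 4 = 1})) := by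
      apply Function.Injective.bijective_of_nat_card_le
      · intro s s' h
        apply Subtype.ext
        exact hinj _ s.2 _ s'.2 (congrArg Subtype.val h)
      · rw [hcard, Nat.card_eq_fintype_card, Fintype.card_subtype, SL23_card_Q8]
    intro A hA
    obtain ⟨s, hs⟩ := hbij.2 ⟨A, hA⟩
    exact ⟨s.1, s.2, congrArg Subtype.val hs⟩
  refine ⟨P, hcard, hPC, h8, ?_⟩
  intro g hg s hs
  have hpow : (g * s * g⁻¹) ^ 8 = 1 := by
    rw [conj_pow, h8 s hs]; group
  have hA4 : K.pi (g * s * g⁻¹) ^ 4 = 1 := SL23_pow_eight _ (by rw [← map_pow, hpow, map_one])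
  obtain ⟨s1, hs1, hs1A⟩ := hsurj _ hA4
  have hzR : s1⁻¹ * (g * s * g⁻¹) ∈ K.R := K.mem_R_of_pi_eq hs1A.symm
  have hginv : g⁻¹ * K.t = K.t * g⁻¹ := by
    calc g⁻¹ * K.t = g⁻¹ * (K.t * g) * g⁻¹ := by group
      _ = g⁻¹ * (g * K.t) * g⁻¹ := by rw [hg]
      _ = K.t * g⁻¹ := by group
  have hs1inv : s1⁻¹ * K.t = K.t * s1⁻¹ := by
    have := hPC s1 hs1
    calc s1⁻¹ * K.t = s1⁻¹ * (K.t * s1) * s1⁻¹ := by group
      _ = s1⁻¹ * (s1 * K.t) * s1⁻¹ := by rw [this]
      _ = K.t * s1⁻¹ := by group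
  have hzC : K.t * (s1⁻¹ * (g * s * g⁻¹)) = (s1⁻¹ * (g * s * g⁻¹)) * K.t := by
    have hst := hPC s hs
    calc K.t * (s1⁻¹ * (g * s * g⁻¹)) = (K.t * s1⁻¹) * g * s * g⁻¹ := by group
      _ = (s1⁻¹ * K.t) * g * s * g⁻¹ := by rw [hs1inv]
      _ = s1⁻¹ * (K.t * g) * s * g⁻¹ := by group
      _ = s1⁻¹ * (g * K.t) * s * g⁻¹ := by rw [hg]
      _ = s1⁻¹ * g * (K.t * s) * g⁻¹ := by group
      _ = s1⁻¹ * g * (s * K.t) * g⁻¹ := by rw [hst]
      _ = s1⁻¹ * g * s * (K.t * g⁻¹) := by group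
      _ = s1⁻¹ * g * s * (g⁻¹ * K.t) := by rw [hginv]
      _ = (s1⁻¹ * (g * s * g⁻¹)) * K.t := by group
  have hzZ := K.mem_Z_of_comm hzR hzC
  have hcomm : Commute s1 (s1⁻¹ * (g * s * g⁻¹)) := K.Z_central hzZ s1
  have hprod : g * s * g⁻¹ = s1 * (s1⁻¹ * (g * s * g⁻¹)) := by group
  have hz8 : (s1⁻¹ * (g * s * g⁻¹)) ^ 8 = 1 := by
    have := hpow
    rw [hprod, hcomm.mul_pow, h8 s1 hs1, one_mul] at this
    exact this
  have hz1 := eq_one_of_pow_three_eight (K.Z_pow_three hzZ) hz8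
  rw [hprod, hz1, mul_one]
  exact hs1

end XCtx

end Cfsg.Agent.Lib.H22.S3366
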