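import Mathlib
import Cfsg.Agent.Lib.H22.S3366Abs4

/-!
# S3366: the abstract side, part 5 (helper22)

The complement `L = T⟨c⟩`, faithfulness, and the isomorphism `X ≃* Heis ⋊ SL(2,3)`.
-/

set_option autoImplicit false
set_option linter.unusedVariables false
set_option linter.unusedSimpArgs false
set_option linter.unusedSectionVars false
set_option linter.style.longLine false

namespace Cfsg.Agent.Lib.H22.S3366

namespace XCtx

variable {X : Type*} [Group X] [Finite X] (K : XCtx X)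
include K

/-- a complement to `R` inside `C_X(t)` -/
theorem exists_L : ∃ L : Subgroup X, Nat.card L = 24 ∧ (∀ l ∈ L, l * K.t = K.t * l) ∧
    (∀ l ∈ L, l ∈ K.R → l = 1) := by
  obtain ⟨c, hcC, hc3, hcR⟩ := K.exists_c
  obtain ⟨T, hTcard, hTC, hT8, hTn⟩ := K.exists_T
  have hcpow : ∀ k : ℕ, c ^ k * K.t = K.t * c ^ k := by
    intro k
    have h1 : c ∈ Subgroup.centralizer ({K.t} : Set X) :=
      Subgroup.mem_centralizer_singleton_iff.2 hcC
    exact Subgroup.mem_centralizer_singleton_iff.1 (pow_mem h1 k)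
  have hcinv : ∀ k : ℕ, (c ^ k)⁻¹ = c ^ (2 * k) := by
    intro k
    rw [inv_eq_iff_mul_eq_one, ← pow_add]
    have : k + 2 * k = 3 * k := by ring
    rw [this, pow_mul, hc3, one_pow]
  let L : Subgroup X :=
    { carrier := {g | ∃ s ∈ T, ∃ k : ℕ, g = s * c ^ k}
      one_mem' := ⟨1, one_mem T, 0, by simp⟩
      mul_mem' := by
        rintro _ _ ⟨s, hs, k, rfl⟩ ⟨s', hs', k', rfl⟩
        refine ⟨s * (c ^ k * s' * (c ^ k)⁻¹), mul_mem hs (hTn _ (hcpow k) _ hs'), k + k', ?_⟩
        rw [pow_add]; group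
      inv_mem' := by
        rintro _ ⟨s, hs, k, rfl⟩
        have h1 : (c ^ k)⁻¹ * K.t = K.t * (c ^ k)⁻¹ := by
          rw [hcinv]; exact hcpow _
        refine ⟨(c ^ k)⁻¹ * s⁻¹ * ((c ^ k)⁻¹)⁻¹, hTn _ h1 _ (inv_mem hs), 2 * k, ?_⟩
        rw [← hcinv]; group }
  have hmemL : ∀ g, g ∈ L ↔ ∃ s ∈ T, ∃ k : ℕ, g = s * c ^ k := fun g => Iff.rfl
  have hTL : T ≤ L := fun s hs => ⟨s, hs, 0, by simp⟩
  have hcL : c ∈ L := ⟨1, one_mem T, 1, by simp⟩
  have hLC : ∀ l ∈ L, l * K.t = K.t * l := by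
    rintro _ ⟨s, hs, k, rfl⟩
    calc s * c ^ k * K.t = s * (c ^ k * K.t) := by group
      _ = s * (K.t * c ^ k) := by rw [hcpow]
      _ = (s * K.t) * c ^ k := by group
      _ = (K.t * s) * c ^ k := by rw [hTC s hs]
      _ = K.t * (s * c ^ k) := by group
  have hc1 : c ≠ 1 := by
    intro h; apply hcR; rw [h]; exact one_mem _
  have hLR : ∀ l ∈ L, l ∈ K.R → l = 1 := by
    rintro _ ⟨s, hs, k, rfl⟩ hR
    have h1 : K.pi s * K.pi c ^ k = 1 := by
      rw [← map_pow, ← map_mul]; exact (K.pi_ker _).2 hR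
    have h2 : (K.pi c ^ k) ^ 3 = 1 := by
      rw [← pow_mul, mul_comm, pow_mul, ← map_pow, hc3, map_one, one_pow]
    have h3 : K.pi s ^ 4 = 1 := SL23_pow_eight _ (by rw [← map_pow, hT8 s hs, map_one])
    have h4 : K.pi c ^ k = (K.pi s)⁻¹ := eq_inv_of_mul_eq_one_right h1
    have h5 : (K.pi c ^ k) ^ 4 = 1 := by
      rw [h4, inv_pow, h3, inv_one]
    have h6 : K.pi c ^ k = 1 := SL23_pow_four_three _ h5 h2
    have h7 : K.pi s = 1 := by
      rw [h6, mul_one] at h1; exact h1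
    have hs1 : s = 1 :=
      eq_one_of_pow_three_eight (K.Rexp _ ((K.pi_ker _).1 h7)) (hT8 s hs)
    have hck : c ^ k ∈ K.R := by
      rw [← K.pi_ker, map_pow]; exact h6
    have hck1 : c ^ k = 1 := by
      rw [pow_eq_pow_mod k hc3] at hck ⊢
      have : k % 3 < 3 := Nat.mod_lt _ (by norm_num)
      interval_cases (k % 3)
      · simp
      · exfalso; apply hcR; simpa using hck
      · exfalso; apply hcR
        have h8 : c = (c ^ 2) ^ 2 := by
          rw [← pow_mul]
          calc c = c ^ 3 * c := by rw [hc3, one_mul]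
            _ = c ^ (2 * 2) := by rw [← pow_succ]
        rw [h8]; exact pow_mem hck 2
    rw [hs1, hck1, mul_one]
  have hinj : ∀ l ∈ L, ∀ l' ∈ L, K.pi l = K.pi l' → l = l' := by
    intro l hl l' hl' h
    have h1 := K.mem_R_of_pi_eq h
    have h2 := hLR _ (mul_mem (inv_mem hl') hl) h1
    exact (inv_mul_eq_one.1 h2).symm
  have hle : Nat.card L ≤ 24 := by
    rw [← card_SL23]
    apply Nat.card_le_card_of_injective (fun l : L => K.pi l.1)
    intro l l' h
    exact Subtype.ext (hinj _ l.2 _ l'.2 h)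
  have h8 : 8 ∣ Nat.card L := by
    rw [← hTcard]; exact Subgroup.card_dvd_of_le hTL
  have h3 : 3 ∣ Nat.card L := by
    have h1 : orderOf c = 3 := by
      haveI : Fact (Nat.Prime 3) := ⟨Nat.prime_three⟩
      exact orderOf_eq_prime hc3 hc1
    have h2 : orderOf (⟨c, hcL⟩ : L) = 3 := by
      rw [← h1]; exact Subgroup.orderOf_mk c hcL
    rw [← h2]; exact orderOf_dvd_natCard _
  have h24 : 24 ∣ Nat.card L := by
    have : Nat.Coprime 8 3 := by norm_num
    exact this.mul_dvd_of_dvd_of_dvd h8 h3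
  have hpos : 0 < Nat.card L := Nat.card_pos
  have hcard : Nat.card L = 24 := le_antisymm hle (Nat.le_of_dvd hpos h24)
  exact ⟨L, hcard, hLC, hLR⟩

/-- `C_X(R) ≤ R` -/
theorem centralizer_R_le {d : X} (hd : ∀ r ∈ K.R, r * d = d * r) : d ∈ K.R := by
  rw [← K.pi_ker]
  by_contra hne
  haveI : K.R.Normal := K.Rn
  have hdD : d ∈ Subgroup.centralizer (K.R : Set X) := by
    rw [Subgroup.mem_centralizer_iff]
    exact hd
  have hDn : (Subgroup.centralizer (K.R : Set X)).Normal := Subgroup.normal_centralizer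
  -- an element of the centraliser over -1
  have hex : ∃ d' ∈ Subgroup.centralizer (K.R : Set X), K.pi d' = -1 := by
    rcases SL23_normal_closure (K.pi d) hne with ⟨k, hk⟩ | ⟨B, k, hk⟩
    · exact ⟨d ^ (k : ℕ), pow_mem hdD _, by rw [map_pow, hk]⟩
    · obtain ⟨b, rfl⟩ := K.pi_surj B
      refine ⟨(d * (b * d⁻¹ * b⁻¹)) ^ (k : ℕ),
        pow_mem (mul_mem hdD (hDn.conj_mem _ (inv_mem hdD) b)) _, ?_⟩
      rw [map_pow, map_mul, map_mul, map_mul, map_inv, map_inv, hk]
  obtain ⟨d', hd', hpd'⟩ := hex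
  have hr : d'⁻¹ * K.t ∈ K.R := by
    rw [← K.pi_ker, map_mul, map_inv, hpd', K.pi_t, inv_mul_cancel]
  -- t x t = r x r⁻¹
  have h1 : K.t * K.x * K.t = (d'⁻¹ * K.t) * K.x * (d'⁻¹ * K.t)⁻¹ := by
    have h2 : (d'⁻¹ * K.t) * K.x * (d'⁻¹ * K.t)⁻¹ ∈ K.R := K.conj_mem_R K.hx _
    have h3 := (Subgroup.mem_centralizer_iff.1 hd') _ h2
    calc K.t * K.x * K.t = K.t * K.x * K.t⁻¹ := by rw [K.t_inv]
      _ = d' * ((d'⁻¹ * K.t) * K.x * (d'⁻¹ * K.t)⁻¹) * d'⁻¹ := by group
      _ = ((d'⁻¹ * K.t) * K.x * (d'⁻¹ * K.t)⁻¹) * d' * d'⁻¹ := by rw [h3]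
      _ = _ := by group
  rw [K.tx] at h1
  have h4 : (d'⁻¹ * K.t) * K.x * (d'⁻¹ * K.t)⁻¹ * K.x⁻¹ ∈ K.Z := K.comm _ hr _ K.hx
  rw [← h1] at h4
  have h5 : K.x⁻¹ * K.x⁻¹ = K.x := by
    have := K.hx3
    calc K.x⁻¹ * K.x⁻¹ = K.x⁻¹ * K.x⁻¹ * K.x ^ 3 := by rw [this, mul_one]
      _ = K.x := by
        rw [pow_succ, pow_two]; group
  rw [h5] at h4
  exact K.hxy (K.Zcomm _ h4 _ K.hy).symm

/-- the main theorem of the abstract side -/
theorem exists_iso : Nonempty (X ≃* SemidirectProduct Heis SL23 act) := by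
  obtain ⟨L, hLcard, hLC, hLR⟩ := K.exists_L
  have hspec : ∀ l : L, ∃ A : SL23, ∀ h : Heis, l.1 * K.f h * l.1⁻¹ = K.f (actFun A h) :=
    fun l => K.lemmaH (hLC l.1 l.2)
  choose ρ hρ using hspec
  have hρmul : ∀ l l' : L, ρ (l * l') = ρ l * ρ l' := by
    intro l l'
    apply actFun_inj
    constructor
    · apply K.f_inj
      rw [← hρ, actFun_mul, ← hρ, ← hρ]
      show (l.1 * l'.1) * K.f xH * (l.1 * l'.1)⁻¹ = _
      group
    · apply K.f_inj
      rw [← hρ, actFun_mul, ← hρ, ← hρ]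
      show (l.1 * l'.1) * K.f yH * (l.1 * l'.1)⁻¹ = _
      group
  let ρh : L →* SL23 := MonoidHom.mk' ρ hρmul
  have hρinj : Function.Injective ρh := by
    rw [injective_iff_map_eq_one]
    intro l hl
    have hl' : ρ l = 1 := hl
    have h1 : l.1 ∈ K.R := by
      apply K.centralizer_R_le
      intro r hr
      obtain ⟨h, rfl⟩ := K.f_surj hr
      have h2 := hρ l h
      rw [hl', actFun_one] at h2
      calc K.f h * l.1 = (l.1 * K.f h * l.1⁻¹) * l.1 := by rw [h2]
        _ = l.1 * K.f h := by group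
    exact Subtype.ext (hLR _ l.2 h1)
  have hρbij : Function.Bijective ρh := by
    apply Function.Injective.bijective_of_nat_card_le hρinj
    rw [hLcard, card_SL23]
  let e : L ≃* SL23 := MulEquiv.ofBijective ρh hρbij
  let lam : SL23 →* X := L.subtype.comp e.symm.toMonoidHom
  have hlam : ∀ (A : SL23) (h : Heis), lam A * K.f h * (lam A)⁻¹ = K.f (actFun A h) := by
    intro A h
    have h1 := hρ (e.symm A) h
    have h2 : ρ (e.symm A) = A := e.apply_symm_apply A
    rw [h2] at h1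
    exact h1
  have hcompat : ∀ A : SL23, K.f.comp (MulEquiv.toMonoidHom (act A)) =
      (MulEquiv.toMonoidHom (MulAut.conj (lam A))).comp K.f := by
    intro A
    ext1 h
    exact (hlam A h).symm
  let Ψ : SemidirectProduct Heis SL23 act →* X := SemidirectProduct.lift K.f lam hcompat
  have hΨinj : Function.Injective Ψ := by
    rw [injective_iff_map_eq_one]
    intro p hp
    have hp' : K.f p.left * lam p.right = 1 := hp
    have hmemL : lam p.right ∈ L := (e.symm p.right).2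
    have h1 : lam p.right = (K.f p.left)⁻¹ := eq_inv_of_mul_eq_one_right hp'
    have h2 : lam p.right = 1 := hLR _ hmemL (by rw [h1]; exact inv_mem (K.f_mem _))
    have h3 : K.f p.left = 1 := by
      rw [h2, mul_one] at hp'; exact hp'
    have h4 : p.left = 1 := K.f_inj (by rw [h3, map_one])
    have h5 : e.symm p.right = 1 := Subtype.ext h2
    have h6 : p.right = 1 := by
      have := congrArg e h5
      rwa [e.apply_symm_apply, map_one] at this
    exact SemidirectProduct.ext h4 h6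
  have hΨbij : Function.Bijective Ψ := by
    apply Function.Injective.bijective_of_nat_card_le hΨinj
    rw [K.card_X, SemidirectProduct.card, card_heis, card_SL23]
  exact ⟨(MulEquiv.ofBijective Ψ hΨbij).symm⟩

end XCtx

/-- the abstract side of S3366 -/
theorem Ctx.exists_iso {X : Type*} [Group X] [Finite X] (K : Ctx X) :
    Nonempty (X ≃* SemidirectProduct Heis SL23 act) := by
  obtain ⟨t, ht, hpt⟩ := K.exists_t
  let K1 : TCtx X := { K with t := t, t_sq := ht, pi_t := hpt }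
  obtain ⟨x, hx, y, hy, htx, hty, hxy⟩ := K1.exists_xy
  let K2 : XCtx X := { K1 with x := x, y := y, hx := hx, hy := hy, tx := htx, ty := hty, hxy := hxy }
  exact K2.exists_iso

end Cfsg.Agent.Lib.H22.S3366
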