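import Mathlib
import Cfsg.Agent.Lib.H22.S3366Model2

/-!
# S3366: the model group inside `Sp(4,3)` (helper22)

`PhiM : Heis ⋊[act] SL23 →* Sp(4,3)` is injective with image the stabiliser of the first basis vector.
-/

set_option autoImplicit false
set_option linter.unusedVariables false
set_option linter.unusedSimpArgs false
set_option linter.style.longLine false

namespace Cfsg.Agent.Lib.H22.S3366

open Matrix

abbrev M4 : Type := Matrix (Fin 2 ⊕ Fin 2) (Fin 2 ⊕ Fin 2) (ZMod 3)
abbrev Sp4 : Type := Matrix.symplecticGroup (Fin 2) (ZMod 3)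
abbrev J4 : M4 := J (Fin 2) (ZMod 3)

/-- the unipotent radical -/
def F1mat (h : Heis) : M4 :=
  fromBlocks !![1, -h.b; 0, 1] !![-h.c + h.a * h.b, h.a; h.a, 0] !![0, 0; 0, 0] !![1, 0; h.b, 1]

/-- the Levi complement -/
def F2mat (A : SL23) : M4 :=
  fromBlocks !![1, 0; 0, A.1 0 0] !![0, 0; 0, A.1 0 1] !![0, 0; 0, A.1 1 0] !![1, 0; 0, A.1 1 1]

theorem F1mat_mem : ∀ h : Heis, F1mat h * J4 * (F1mat h)ᵀ = J4 := by decide +kernel
theorem F2mat_mem : ∀ A : SL23, F2mat A * J4 * (F2mat A)ᵀ = J4 := by decide +kernel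
theorem F1mat_mul : ∀ h k : Heis, F1mat (h * k) = F1mat h * F1mat k := by decide +kernel
theorem F2mat_mul : ∀ A B : SL23, F2mat (A * B) = F2mat A * F2mat B := by decide +kernel
theorem F_compat : ∀ (A : SL23) (h : Heis), F2mat A * F1mat h = F1mat (actFun A h) * F2mat A := by
  decide +kernel
theorem F1mat_inj : ∀ h : Heis, F1mat h = 1 → h = 1 := by decide +kernel
theorem F2mat_inj : ∀ A : SL23, F2mat A = 1 → A = 1 := by decide +kernel
theorem F12_inj : ∀ (h : Heis) (A : SL23), F1mat h * F2mat A = 1 → h = 1 ∧ A = 1 := by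
  decide +kernel
theorem F12_ne_neg : ∀ (h : Heis) (A : SL23), F1mat h * F2mat A ≠ -1 := by
  decide +kernel

def F1 : Heis →* Sp4 :=
  MonoidHom.mk' (fun h => ⟨F1mat h, SymplecticGroup.mem_iff.2 (F1mat_mem h)⟩)
    (fun h k => Subtype.ext (F1mat_mul h k))

def F2 : SL23 →* Sp4 :=
  MonoidHom.mk' (fun A => ⟨F2mat A, SymplecticGroup.mem_iff.2 (F2mat_mem A)⟩)
    (fun A B => Subtype.ext (F2mat_mul A B))

@[simp] theorem F1_coe (h : Heis) : ((F1 h : Sp4) : M4) = F1mat h := rfl
@[simp] theorem F2_coe (A : SL23) : ((F2 A : Sp4) : M4) = F2mat A := rfl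

theorem F_compat' (A : SL23) :
    F1.comp (MulEquiv.toMonoidHom (act A)) = (MulEquiv.toMonoidHom (MulAut.conj (F2 A))).comp F1 := by
  ext1 h
  show F1 (actFun A h) = F2 A * F1 h * (F2 A)⁻¹
  rw [eq_mul_inv_iff_mul_eq]
  apply Subtype.ext
  exact (F_compat A h).symm

/-- the model group -/
abbrev PModel : Type := SemidirectProduct Heis SL23 act

/-- the embedding of the model into `Sp(4,3)` -/
def PhiM : PModel →* Sp4 := SemidirectProduct.lift F1 F2 F_compat'

theorem PhiM_apply (p : PModel) : PhiM p = F1 p.left * F2 p.right := rfl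

theorem PhiM_coe (p : PModel) : ((PhiM p : Sp4) : M4) = F1mat p.left * F2mat p.right := rfl

theorem PhiM_injective : Function.Injective PhiM := by
  rw [injective_iff_map_eq_one]
  intro p hp
  have h1 : F1mat p.left * F2mat p.right = 1 := by
    rw [← PhiM_coe, hp]; rfl
  obtain ⟨h2, h3⟩ := F12_inj _ _ h1
  exact SemidirectProduct.ext h2 h3

theorem card_PModel : Nat.card PModel = 648 := by
  rw [SemidirectProduct.card, card_heis, card_SL23]

/-- shape of a symplectic matrix fixing the first basis vector -/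
theorem stab_shape : ∀ p s q α u β γ w δ : ZMod 3,
    (fromBlocks !![1, p; 0, α] !![s, q; u, β] !![0, 0; 0, γ] !![1, 0; w, δ] : M4) * J4 *
      (fromBlocks !![1, p; 0, α] !![s, q; u, β] !![0, 0; 0, γ] !![1, 0; w, δ] : M4)ᵀ = J4 →
    ∃ A : SL23, (A.1 0 0 = α ∧ A.1 0 1 = β ∧ A.1 1 0 = γ ∧ A.1 1 1 = δ) ∧
      (fromBlocks !![1, p; 0, α] !![s, q; u, β] !![0, 0; 0, γ] !![1, 0; w, δ] : M4) =
        F1mat ⟨u, w, u * w - s⟩ * F2mat A := by
  -- (lead, 12/02: the original `decide +kernel` over 3^9 tuples needed > 12 GB; replaced by algebra)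
  intro p s q α u β γ w δ h
  have e1 := congrFun (congrFun h (Sum.inl 1)) (Sum.inr 1)
  have e2 := congrFun (congrFun h (Sum.inl 0)) (Sum.inl 1)
  have e3 := congrFun (congrFun h (Sum.inl 0)) (Sum.inr 1)
  simp [J4, Matrix.J, Matrix.mul_apply, Fintype.sum_sum_type, Fin.sum_univ_two,
    Matrix.fromBlocks_transpose] at e1 e2 e3
  have hdet : α * δ - β * γ = 1 := by linear_combination (-1 : ZMod 3) * e1
  have hp : p = u * γ - w * α := by
    linear_combination (γ) * e2 - α * e3 - p * hdet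
  have hq : q = u * δ - w * β := by
    linear_combination δ * e2 - β * e3 - q * hdet
  refine ⟨⟨!![α, β; γ, δ], by rw [Matrix.det_fin_two_of]; exact hdet⟩, ⟨rfl, rfl, rfl, rfl⟩, ?_⟩
  subst hp hq
  ext i j
  rcases i with i | i <;> rcases j with j | j <;> fin_cases i <;> fin_cases j <;>
    simp [F1mat, F2mat, Matrix.mul_apply, Fintype.sum_sum_type, Fin.sum_univ_two] <;> ring

end Cfsg.Agent.Lib.H22.S3366
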