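import Mathlib
import Cfsg.Agent.Lib.H22.S3366Conc

/-!
# S3366: the stabiliser of the first basis vector in `Sp(4,3)` is the image of the model (helper22)
-/

set_option autoImplicit false
set_option linter.unusedVariables false
set_option linter.unusedSimpArgs false
set_option linter.style.longLine false

namespace Cfsg.Agent.Lib.H22.S3366

open Matrix

theorem J4_apply_inl_inl (i j : Fin 2) : J4 (Sum.inl i) (Sum.inl j) = 0 := by
  simp [J4, J]

theorem J4_apply_inr_inr (i j : Fin 2) : J4 (Sum.inr i) (Sum.inr j) = 0 := by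
  simp [J4, J]

theorem J4_apply_inl_inr (i j : Fin 2) : J4 (Sum.inl i) (Sum.inr j) = if i = j then -1 else 0 := by
  simp only [J4, J, Matrix.fromBlocks_apply₁₂, Matrix.neg_apply, Matrix.one_apply]
  split_ifs <;> simp

theorem J4_apply_inr_inl (i j : Fin 2) : J4 (Sum.inr i) (Sum.inl j) = if i = j then 1 else 0 := by
  simp [J4, J, Matrix.one_apply]

/-- the row indexed by `inr 0` of a symplectic matrix fixing the first basis vector -/
theorem stab_row (g : Sp4)
    (hcol : ∀ k, g.1 k (Sum.inl 0) = if k = Sum.inl 0 then 1 else 0) (l : Fin 2 ⊕ Fin 2) :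
    g.1 (Sum.inr 0) l = if l = Sum.inr 0 then 1 else 0 := by
  have hT : g.1ᵀ * J4 * g.1 = J4 := SymplecticGroup.mem_iff'.1 g.2
  have h1 := congrFun (congrFun hT l) (Sum.inl 0)
  simp only [Matrix.mul_apply, Matrix.transpose_apply, Fintype.sum_sum_type, Fin.sum_univ_two, hcol,
    J4_apply_inl_inl, J4_apply_inr_inr, J4_apply_inl_inr, J4_apply_inr_inl] at h1
  rcases l with l | l <;> fin_cases l <;> simp at h1 ⊢ <;> exact h1

/-- a symplectic matrix fixing the first basis vector lies in the image of the model -/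
theorem stab_mem_range (g : Sp4)
    (hcol : ∀ k, g.1 k (Sum.inl 0) = if k = Sum.inl 0 then 1 else 0) :
    ∃ p : PModel, PhiM p = g := by
  have hrow := stab_row g hcol
  have hshape : g.1 = (fromBlocks
      !![1, g.1 (Sum.inl 0) (Sum.inl 1); 0, g.1 (Sum.inl 1) (Sum.inl 1)]
      !![g.1 (Sum.inl 0) (Sum.inr 0), g.1 (Sum.inl 0) (Sum.inr 1);
         g.1 (Sum.inl 1) (Sum.inr 0), g.1 (Sum.inl 1) (Sum.inr 1)]
      !![0, 0; 0, g.1 (Sum.inr 1) (Sum.inl 1)]
      !![1, 0; g.1 (Sum.inr 1) (Sum.inr 0), g.1 (Sum.inr 1) (Sum.inr 1)] : M4) := by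
    ext i j
    rcases i with i | i <;> rcases j with j | j <;> fin_cases i <;> fin_cases j <;>
      simp [hcol, hrow]
  have hmem : g.1 * J4 * g.1ᵀ = J4 := SymplecticGroup.mem_iff.1 g.2
  rw [hshape] at hmem
  obtain ⟨A, -, hA⟩ := stab_shape _ _ _ _ _ _ _ _ _ hmem
  refine ⟨⟨⟨g.1 (Sum.inl 1) (Sum.inr 0), g.1 (Sum.inr 1) (Sum.inr 0),
    g.1 (Sum.inl 1) (Sum.inr 0) * g.1 (Sum.inr 1) (Sum.inr 0) - g.1 (Sum.inl 0) (Sum.inr 0)⟩, A⟩, ?_⟩
  apply Subtype.ext
  rw [PhiM_coe, hshape]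
  exact hA.symm

end Cfsg.Agent.Lib.H22.S3366
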