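import Mathlib
import Cfsg.Prelude.Def_Classical
import Cfsg.Agent.Lib.H22.S3366Conc2
import Cfsg.Agent.Lib.H2.SpCenter
import Cfsg.Agent.Lib.H2.SpOrder
import Cfsg.Agent.Lib.H2.S43C

/-!
# S3366: the centraliser of a 3-central element of `PSp(4,3)` is the model group (helper22)
-/

set_option autoImplicit false
set_option linter.unusedVariables false
set_option linter.unusedSimpArgs false
set_option linter.style.longLine false

namespace Cfsg.Agent.Lib.H22.S3366

open Matrix

abbrev PSp43 : Type := Cfsg.PSp 2 (ZMod 3)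

/-- `-1` in `Sp(4,3)` -/
abbrev negOne4 : Sp4 := Cfsg.Agent.Lib.H2.Sp.negOne (F := ZMod 3) 2

theorem center_cases {g : Sp4} (hg : g ∈ Subgroup.center Sp4) : g = 1 ∨ g = negOne4 := by
  have h := Cfsg.Agent.Lib.H2.Sp.center_eq (F := ZMod 3) 2 (by norm_num)
  have h2 : g ∈ (Subgroup.center Sp4 : Set Sp4) := hg
  rw [h] at h2
  simpa using h2

theorem negOne4_mem_center : negOne4 ∈ Subgroup.center Sp4 := by
  have h := Cfsg.Agent.Lib.H2.Sp.center_eq (F := ZMod 3) 2 (by norm_num)
  have h2 : negOne4 ∈ (Subgroup.center Sp4 : Set Sp4) := by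
    rw [h]; simp
  exact h2

theorem negOne4_coe : (negOne4 : M4) = -1 := rfl

/-- the embedding of the model in `PSp(4,3)` -/
def PhiBar : PModel →* PSp43 := (QuotientGroup.mk' (Subgroup.center Sp4)).comp PhiM

theorem PhiBar_apply (p : PModel) : PhiBar p = QuotientGroup.mk (PhiM p) := rfl

theorem PhiBar_injective : Function.Injective PhiBar := by
  rw [injective_iff_map_eq_one]
  intro p hp
  rw [PhiBar_apply, QuotientGroup.eq_one_iff] at hp
  rcases center_cases hp with h | h
  · exact PhiM_injective (by rw [h, map_one])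
  · exfalso
    have h1 := congrArg (fun g : Sp4 => (g : M4)) h
    simp only [PhiM_coe, negOne4_coe] at h1
    exact F12_ne_neg _ _ h1

/-- the 3-central element in the model -/
def c0 : PModel := SemidirectProduct.inl zH

theorem c0_central (p : PModel) : p * c0 = c0 * p := by
  apply SemidirectProduct.ext
  · simp only [SemidirectProduct.mul_left, c0, SemidirectProduct.left_inl,
      SemidirectProduct.right_inl, map_one, MulAut.one_apply]
    rw [act_apply, actFun_zH, zH_central]
  · simp [c0]

theorem c0_pow_three : c0 ^ 3 = 1 := by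
  unfold c0
  rw [← map_pow, zH_pow_three, map_one]

theorem c0_ne_one : c0 ≠ 1 := by
  intro h
  have := congrArg SemidirectProduct.left h
  simp only [c0, SemidirectProduct.left_inl, SemidirectProduct.one_left] at this
  exact zH_ne_one this

/-- the 3-central element of `PSp(4,3)` -/
def cbar : PSp43 := PhiBar c0

theorem orderOf_cbar : orderOf cbar = 3 := by
  unfold cbar
  rw [orderOf_injective PhiBar PhiBar_injective]
  haveI : Fact (Nat.Prime 3) := ⟨Nat.prime_three⟩
  exact orderOf_eq_prime c0_pow_three c0_ne_one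

theorem PhiBar_mem_centralizer (p : PModel) : PhiBar p ∈ Subgroup.centralizer ({cbar} : Set PSp43) := by
  rw [Subgroup.mem_centralizer_singleton_iff]
  unfold cbar
  rw [← map_mul, ← map_mul, c0_central]

theorem PhiM_c0_coe : ((PhiM c0 : Sp4) : M4) = F1mat zH := by
  rw [PhiM_coe]
  simp only [c0, SemidirectProduct.left_inl, SemidirectProduct.right_inl]
  have : F2mat 1 = 1 := by decide +kernel
  rw [this, mul_one]

theorem F1mat_zH : F1mat zH = fromBlocks 1 !![-1, 0; 0, 0] 0 1 := by decide +kernel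

theorem zmod3_sq_one : ∀ a : ZMod 3, a * a = 1 → a = 1 ∨ a = -1 := by decide

/-- a symplectic matrix commuting with the transvection scales the first basis vector by `±1` -/
theorem comm_col (g : Sp4) (h : g * PhiM c0 = PhiM c0 * g) :
    (∀ k, g.1 k (Sum.inl 0) = if k = Sum.inl 0 then 1 else 0) ∨
    (∀ k, g.1 k (Sum.inl 0) = if k = Sum.inl 0 then -1 else 0) := by
  have h1 : g.1 * F1mat zH = F1mat zH * g.1 := by
    have := congrArg (fun g : Sp4 => (g : M4)) h
    simp only [Submonoid.coe_mul, PhiM_c0_coe] at this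
    exact this
  rw [F1mat_zH] at h1
  have hk : ∀ k, g.1 k (Sum.inl 0) = if k = Sum.inl 0 then g.1 (Sum.inr 0) (Sum.inr 0) else 0 := by
    intro k
    have h2 := congrFun (congrFun h1 k) (Sum.inr 0)
    rcases k with k | k <;> fin_cases k <;>
      simp [Matrix.mul_apply, Fintype.sum_sum_type, Fin.sum_univ_two, Matrix.one_apply] at h2 ⊢ <;>
      first | exact h2 | exact h2.symm | linear_combination (-1 : ZMod 3) * h2
  have hT : g.1ᵀ * J4 * g.1 = J4 := SymplecticGroup.mem_iff'.1 g.2
  have h3 := congrFun (congrFun hT (Sum.inl 0)) (Sum.inr 0)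
  simp only [Matrix.mul_apply, Matrix.transpose_apply, Fintype.sum_sum_type, Fin.sum_univ_two, hk,
    J4_apply_inl_inl, J4_apply_inr_inr, J4_apply_inl_inr, J4_apply_inr_inl] at h3
  simp at h3
  rcases zmod3_sq_one _ h3 with h4 | h4
  · left; intro k; rw [hk k, h4]
  · right; intro k; rw [hk k, h4]

theorem negOne4_mul_coe (g : Sp4) : ((negOne4 * g : Sp4) : M4) = -g.1 := by
  rw [Submonoid.coe_mul, negOne4_coe, neg_mul, one_mul]

theorem negOne4_ne_one : negOne4 ≠ 1 := by
  intro h
  have h1 := congrArg (fun g : Sp4 => (g : M4) (Sum.inl 0) (Sum.inl 0)) h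
  simp only [negOne4_coe] at h1
  revert h1
  simp only [Matrix.neg_apply, Matrix.one_apply_eq, OneMemClass.coe_one]
  decide

theorem negOne4_pow_three : negOne4 ^ 3 = negOne4 := by
  apply Subtype.ext
  simp only [SubmonoidClass.coe_pow, negOne4_coe]
  exact Odd.neg_one_pow (by decide)

/-- every element of the centraliser of `cbar` comes from the model -/
theorem mem_range_of_mem_centralizer {x : PSp43}
    (hx : x ∈ Subgroup.centralizer ({cbar} : Set PSp43)) : ∃ p : PModel, PhiBar p = x := by
  obtain ⟨g, rfl⟩ := QuotientGroup.mk_surjective x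
  rw [Subgroup.mem_centralizer_singleton_iff] at hx
  have h1 : (QuotientGroup.mk (g * PhiM c0) : PSp43) = QuotientGroup.mk (PhiM c0 * g) := hx
  rw [QuotientGroup.eq] at h1
  have hcomm : g * PhiM c0 = PhiM c0 * g := by
    rcases center_cases h1 with h | h
    · have := inv_mul_eq_one.1 h
      exact this
    · exfalso
      -- g c = c g (-1), so (g c g⁻¹)^3 = -1
      have h2 : PhiM c0 * g = g * PhiM c0 * negOne4 := by
        rw [← h]; group
      have hc3 : PhiM c0 ^ 3 = 1 := by rw [← map_pow, c0_pow_three, map_one]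
      have hcen := Subgroup.mem_center_iff.1 negOne4_mem_center
      have h3 : g⁻¹ * PhiM c0 * g = PhiM c0 * negOne4 := by
        calc g⁻¹ * PhiM c0 * g = g⁻¹ * (PhiM c0 * g) := by group
          _ = g⁻¹ * (g * PhiM c0 * negOne4) := by rw [h2]
          _ = PhiM c0 * negOne4 := by group
      have h4 : (g⁻¹ * PhiM c0 * g) ^ 3 = 1 := by
        have : g⁻¹ * PhiM c0 * g = g⁻¹ * PhiM c0 * (g⁻¹)⁻¹ := by rw [inv_inv]
        rw [this, conj_pow, hc3]; group
      have hcm : Commute (PhiM c0) negOne4 := hcen (PhiM c0)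
      rw [h3, hcm.mul_pow, hc3, one_mul, negOne4_pow_three] at h4
      exact negOne4_ne_one h4
  rcases comm_col g hcomm with hcol | hcol
  · obtain ⟨p, hp⟩ := stab_mem_range g hcol
    exact ⟨p, by rw [PhiBar_apply, hp]⟩
  · have hcol' : ∀ k, (negOne4 * g).1 k (Sum.inl 0) = if k = Sum.inl 0 then 1 else 0 := by
      intro k
      rw [negOne4_mul_coe, Matrix.neg_apply, hcol k]
      split_ifs <;> simp
    obtain ⟨p, hp⟩ := stab_mem_range _ hcol'
    refine ⟨p, ?_⟩
    rw [PhiBar_apply, hp, QuotientGroup.eq]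
    have hcen := Subgroup.mem_center_iff.1 negOne4_mem_center g
    have : (negOne4 * g)⁻¹ * g = negOne4⁻¹ := by
      rw [← hcen]; group
    rw [this]
    exact inv_mem negOne4_mem_center

/-- the model is isomorphic to the centraliser of `cbar` -/
noncomputable def modelEquiv : PModel ≃* Subgroup.centralizer ({cbar} : Set PSp43) :=
  MulEquiv.ofBijective (PhiBar.codRestrict _ PhiBar_mem_centralizer)
    ⟨fun p q h => PhiBar_injective (congrArg Subtype.val h),
     fun x => by
      obtain ⟨p, hp⟩ := mem_range_of_mem_centralizer x.2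
      exact ⟨p, Subtype.ext hp⟩⟩

theorem card_centralizer_cbar : Nat.card (Subgroup.centralizer ({cbar} : Set PSp43)) = 648 := by
  rw [← Nat.card_congr modelEquiv.toEquiv, card_PModel]

theorem card_PSp43 : Nat.card PSp43 = 25920 := by
  have h1 := Cfsg.Agent.Lib.H2.Sp.card_Sp (F := ZMod 3) 2
  have h2 := Cfsg.Agent.Lib.H2.Sp.card_center (F := ZMod 3) 2 (by norm_num)
  have h3 := Subgroup.card_eq_card_quotient_mul_card_subgroup (Subgroup.center Sp4)
  rw [h2, h1, ZMod.card] at h3
  simp [Finset.prod_range_succ] at h3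
  show Nat.card (Sp4 ⧸ Subgroup.center Sp4) = 25920
  omega

theorem fact_648 : (648 : ℕ).factorization 3 = 4 := by
  rw [show (648 : ℕ) = 3 ^ 4 * 8 by norm_num, Nat.factorization_mul (by norm_num) (by norm_num),
    Nat.Prime.factorization_pow Nat.prime_three]
  simp [Nat.factorization_eq_zero_of_not_dvd]

theorem fact_25920 : (25920 : ℕ).factorization 3 = 4 := by
  rw [show (25920 : ℕ) = 3 ^ 4 * 320 by norm_num, Nat.factorization_mul (by norm_num) (by norm_num),
    Nat.Prime.factorization_pow Nat.prime_three]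
  simp [Nat.factorization_eq_zero_of_not_dvd]

/-- the concrete side over `ZMod 3` -/
theorem concrete_zmod3 : ∃ (c : PSp43) (S : Sylow 3 PSp43), orderOf c = 3 ∧
    c ∈ (S : Subgroup PSp43) ∧ c ∈ Subgroup.centralizer ((S : Subgroup PSp43) : Set PSp43) ∧
    Nonempty (PModel ≃* Subgroup.centralizer ({c} : Set PSp43)) := by
  haveI : Fact (Nat.Prime 3) := ⟨Nat.prime_three⟩
  haveI : Finite PSp43 := Nat.finite_of_card_ne_zero (by rw [card_PSp43]; norm_num)
  have hcmem : cbar ∈ Subgroup.centralizer ({cbar} : Set PSp43) :=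
    Subgroup.mem_centralizer_singleton_iff.2 rfl
  -- a Sylow 3-subgroup of the centraliser containing cbar
  have hpg : IsPGroup 3 (Subgroup.zpowers (⟨cbar, hcmem⟩ : Subgroup.centralizer ({cbar} : Set PSp43))) := by
    apply IsPGroup.of_card (n := 1)
    rw [Nat.card_zpowers, pow_one, Subgroup.orderOf_mk, orderOf_cbar]
  obtain ⟨Q, hQ⟩ := hpg.exists_le_sylow
  have hQcard : Nat.card (Q : Subgroup (Subgroup.centralizer ({cbar} : Set PSp43))) = 81 := by
    rw [Sylow.card_eq_multiplicity, card_centralizer_cbar, fact_648]; norm_num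
  have hS0card : Nat.card ((Q : Subgroup (Subgroup.centralizer ({cbar} : Set PSp43))).map
      (Subgroup.centralizer ({cbar} : Set PSp43)).subtype) = 3 ^ (Nat.card PSp43).factorization 3 := by
    rw [Subgroup.card_map_of_injective (Subgroup.subtype_injective _), hQcard, card_PSp43, fact_25920]
    norm_num
  refine ⟨cbar, Sylow.ofCard _ hS0card, orderOf_cbar, ?_, ?_, ⟨modelEquiv⟩⟩
  · rw [Sylow.coe_ofCard]
    exact ⟨⟨cbar, hcmem⟩, hQ (Subgroup.mem_zpowers _), rfl⟩
  · rw [Sylow.coe_ofCard, Subgroup.mem_centralizer_iff]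
    rintro _ ⟨s, hs, rfl⟩
    exact Subgroup.mem_centralizer_singleton_iff.1 s.2

end Cfsg.Agent.Lib.H22.S3366
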