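import Mathlib
import Cfsg.Prelude.Def_Classical
import Cfsg.Prelude.Def_Solvable
import Cfsg.Prelude.Def_Transfer
import Cfsg.Prelude.Def_CaseTheorems
import Cfsg.Agent.Lib.H22.S3366Conc3
import Cfsg.Agent.Lib.H22.S3366Abs5

/-!
# S3366: assembly (helper22)
-/

set_option autoImplicit false
set_option linter.unusedVariables false
set_option linter.unusedSimpArgs false
set_option linter.style.longLine false

namespace Cfsg.Agent.Lib.H22.S3366

open Matrix
open scoped commutatorElement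

/-- the concrete side over any field with three elements -/
theorem concrete {F : Type*} [Field F] [Fintype F] (hF : Fintype.card F = 3) :
    ∃ (c : Cfsg.PSp 2 F) (S : Sylow 3 (Cfsg.PSp 2 F)), orderOf c = 3 ∧
      c ∈ (S : Subgroup (Cfsg.PSp 2 F)) ∧
      c ∈ Subgroup.centralizer ((S : Subgroup (Cfsg.PSp 2 F)) : Set (Cfsg.PSp 2 F)) ∧
      Nonempty (PModel ≃* Subgroup.centralizer ({c} : Set (Cfsg.PSp 2 F))) := by
  haveI : Fact (Nat.Prime 3) := ⟨Nat.prime_three⟩
  haveI : Finite PSp43 := Nat.finite_of_card_ne_zero (by rw [card_PSp43]; norm_num)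
  obtain ⟨c, S, hc3, hcS, hcC, ⟨eM⟩⟩ := concrete_zmod3
  let e0 : Sp4 ≃* symplecticGroup (Fin 2) F :=
    Cfsg.Agent.Lib.H2.S43.spEquiv (ZMod.ringEquivOfPrime F Nat.prime_three hF)
  let e' : PSp43 ≃* Cfsg.PSp 2 F :=
    QuotientGroup.congr _ _ e0 (Cfsg.Agent.Lib.H2.S43.map_center_mulEquiv e0)
  have hsurj : Function.Surjective (e'.toMonoidHom) := e'.surjective
  have hcent : (Subgroup.centralizer ({c} : Set PSp43)).map (e' : PSp43 →* Cfsg.PSp 2 F) =
      Subgroup.centralizer ({e' c} : Set (Cfsg.PSp 2 F)) := by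
    ext y
    rw [Subgroup.mem_map, Subgroup.mem_centralizer_singleton_iff]
    constructor
    · rintro ⟨x, hx, rfl⟩
      rw [Subgroup.mem_centralizer_singleton_iff] at hx
      show e' x * e' c = e' c * e' x
      rw [← map_mul, ← map_mul, hx]
    · intro hy
      refine ⟨e'.symm y, ?_, e'.apply_symm_apply y⟩
      rw [Subgroup.mem_centralizer_singleton_iff]
      apply e'.injective
      rw [map_mul, map_mul, e'.apply_symm_apply]
      exact hy
  refine ⟨e' c, S.mapSurjective hsurj, ?_, ?_, ?_, ?_⟩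
  · rw [MulEquiv.orderOf_eq e' c, hc3]
  · rw [Sylow.coe_mapSurjective]
    exact Subgroup.mem_map_of_mem _ hcS
  · rw [Sylow.coe_mapSurjective, Subgroup.mem_centralizer_iff]
    rintro _ ⟨s, hs, rfl⟩
    have := (Subgroup.mem_centralizer_iff.1 hcC) s hs
    show e' s * e' c = e' c * e' s
    rw [← map_mul, ← map_mul, this]
  · exact ⟨eM.trans ((e'.subgroupMap _).trans (MulEquiv.subgroupCongr hcent))⟩

/-- S3366 -/
theorem main {X : Type*} [Group X] [Finite X]
    (hR : Cfsg.IsExtraspecial 3 (Cfsg.pCore 3 X)) (hRcard : Nat.card (Cfsg.pCore 3 X) = 27)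
    (hRexp : ∀ r ∈ Cfsg.pCore 3 X, r ^ 3 = 1)
    (e : X ⧸ Cfsg.pCore 3 X ≃* Matrix.SpecialLinearGroup (Fin 2) (ZMod 3))
    (hO2 : Cfsg.pCore 2 X = ⊥)
    (hE : ∃ E : Subgroup X, IsMulCommutative E ∧ (∀ a ∈ E, a ^ 3 = 1) ∧ Nat.card E = 27)
    (F : Type*) [Field F] [Fintype F] (hF : Fintype.card F = 3) :
    ∃ (c : Cfsg.PSp 2 F) (S : Sylow 3 (Cfsg.PSp 2 F)), orderOf c = 3 ∧ c ∈ (S : Subgroup (Cfsg.PSp 2 F)) ∧
      c ∈ Subgroup.centralizer ((S : Subgroup (Cfsg.PSp 2 F)) : Set (Cfsg.PSp 2 F)) ∧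
      Nonempty (X ≃* Subgroup.centralizer ({c} : Set (Cfsg.PSp 2 F))) := by
  obtain ⟨E, hEc, hEexp, hEcard⟩ := hE
  have hRn : (Cfsg.pCore 3 X).Normal := Cfsg.pCore_normal 3 X
  have hcomm : commutator (Cfsg.pCore 3 X) = Subgroup.center (Cfsg.pCore 3 X) := hR.1.2.2
  have hZc : Nat.card (Subgroup.center (Cfsg.pCore 3 X)) = 3 := hR.2
  let K : Ctx X :=
    { R := Cfsg.pCore 3 X
      Rn := hRn
      pi := e.toMonoidHom.comp (QuotientGroup.mk' (Cfsg.pCore 3 X))
      pi_surj := e.surjective.comp (QuotientGroup.mk'_surjective _)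
      pi_ker := by
        intro g
        show e (QuotientGroup.mk g) = 1 ↔ _
        rw [MulEquiv.map_eq_one_iff, QuotientGroup.eq_one_iff]
      Rcard := hRcard
      Rexp := hRexp
      Z := (Subgroup.center (Cfsg.pCore 3 X)).map (Cfsg.pCore 3 X).subtype
      Zle := by
        rintro _ ⟨z, -, rfl⟩
        exact z.2
      Zcard := by
        rw [Subgroup.card_map_of_injective (Subgroup.subtype_injective _), hZc]
      Zcomm := by
        rintro _ ⟨z, hz, rfl⟩ r hr
        have := (Subgroup.mem_center_iff.1 hz) ⟨r, hr⟩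
        exact congrArg Subtype.val this
      Zmem := by
        intro z hz hall
        refine ⟨⟨z, hz⟩, ?_, rfl⟩
        show (⟨z, hz⟩ : Cfsg.pCore 3 X) ∈ Subgroup.center (Cfsg.pCore 3 X)
        rw [Subgroup.mem_center_iff]
        intro r
        exact Subtype.ext (hall r.1 r.2)
      comm := by
        intro r hr s hs
        have h1 : ⁅(⟨r, hr⟩ : Cfsg.pCore 3 X), ⟨s, hs⟩⁆ ∈ commutator (Cfsg.pCore 3 X) := by
          rw [commutator_def]
          exact Subgroup.commutator_mem_commutator (Subgroup.mem_top _) (Subgroup.mem_top _)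
        rw [hcomm] at h1
        refine ⟨_, h1, ?_⟩
        simp [commutatorElement_def]
      O2 := by
        intro N hN hp
        have : N ≤ Cfsg.pCore 2 X := le_sSup ⟨hN, hp⟩
        rw [hO2] at this
        exact le_bot_iff.1 this
      E := E
      Ecomm := by
        intro a ha b hb
        have := hEc.is_comm.comm ⟨a, ha⟩ ⟨b, hb⟩
        exact congrArg Subtype.val this
      Eexp := hEexp
      Ecard := hEcard }
  obtain ⟨eX⟩ := K.exists_iso
  obtain ⟨c, S, h1, h2, h3, ⟨eC⟩⟩ := concrete (F := F) hF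
  exact ⟨c, S, h1, h2, h3, ⟨eX.trans eC⟩⟩

end Cfsg.Agent.Lib.H22.S3366
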