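import Mathlib
import Cfsg.Agent.S3224

/-! S3390 (helper22), part A: a finite 2-group acting with the three-point property. -/

set_option autoImplicit false

namespace Cfsg.Agent.Lib.H22.S3390

open MulAction

/-- The three-point property: an element fixing three distinct points is trivial. -/
def ThreePt (P : Type*) (Ω : Type*) [Group P] [MulAction P Ω] : Prop :=
  ∀ (s : P) (a b c : Ω), a ≠ b → a ≠ c → b ≠ c → s • a = a → s • b = b → s • c = c → s = 1

section A

variable {P : Type*} [Group P] [Finite P] {Ω : Type*} [MulAction P Ω]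

theorem exists_normalizer_not_mem (hP : IsPGroup 2 P) (U : Subgroup P) (hU : U ≠ ⊤) :
    ∃ y, y ∈ Subgroup.normalizer (U : Set P) ∧ y ∉ U := by
  haveI : Fact (Nat.Prime 2) := ⟨Nat.prime_two⟩
  haveI : Group.IsNilpotent P := hP.isNilpotent
  have h := Group.normalizerCondition_of_isNilpotent (G := P) U (lt_top_iff_ne_top.mpr hU)
  obtain ⟨y, hy, hyn⟩ := SetLike.exists_of_lt h
  exact ⟨y, hy, hyn⟩

theorem fix_of_normalizer {γ : Ω} {n : P}
    (hn : n ∈ Subgroup.normalizer (stabilizer P γ : Set P))
    {u : P} (hu : u ∈ stabilizer P γ) : u • (n • γ) = n • γ := by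
  have h1 : n⁻¹ * u * n ∈ stabilizer P γ := (Subgroup.mem_normalizer_iff''.mp hn u).mp hu
  rw [mem_stabilizer_iff] at h1
  calc u • (n • γ) = n • ((n⁻¹ * u * n) • γ) := by simp [mul_smul]
    _ = n • γ := by rw [h1]

theorem stabilizer_smul_of_normalizer {γ : Ω} {n : P}
    (hn : n ∈ Subgroup.normalizer (stabilizer P γ : Set P)) :
    stabilizer P (n • γ) = stabilizer P γ := by
  ext h
  have key := Subgroup.mem_normalizer_iff''.mp hn h
  rw [key, mem_stabilizer_iff, mem_stabilizer_iff]
  constructor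
  · intro h1
    rw [mul_smul, mul_smul, h1, inv_smul_smul]
  · intro h1
    have : n • ((n⁻¹ * h * n) • γ) = n • γ := by rw [h1]
    simpa [mul_smul] using this

theorem fixset (h3 : ThreePt P Ω) {γ δ : Ω} (hγδ : γ ≠ δ) (hU1 : stabilizer P γ ≠ ⊥)
    (hδ : ∀ u ∈ stabilizer P γ, u • δ = δ) {ω : Ω}
    (hω : ∀ u ∈ stabilizer P γ, u • ω = ω) : ω = γ ∨ ω = δ := by
  by_contra hne
  push Not at hne
  obtain ⟨u, hu, hu1⟩ := (Subgroup.bot_or_exists_ne_one (stabilizer P γ)).resolve_left hU1
  exact hu1 (h3 u γ δ ω hγδ (Ne.symm hne.1) (Ne.symm hne.2) hu (hδ u hu) (hω u hu))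

theorem relIndex_normalizer (h3 : ThreePt P Ω) {γ : Ω} (hU1 : stabilizer P γ ≠ ⊥)
    {y : P} (hy : y ∈ Subgroup.normalizer (stabilizer P γ : Set P))
    (hyU : y ∉ stabilizer P γ) :
    (stabilizer P γ).relIndex (Subgroup.normalizer (stabilizer P γ : Set P)) = 2 := by
  have hδ : ∀ u ∈ stabilizer P γ, u • (y • γ) = y • γ := fun u hu => fix_of_normalizer hy hu
  have hγδ : γ ≠ y • γ := fun h => hyU (by rw [mem_stabilizer_iff]; exact h.symm)
  have key : ∀ n ∈ Subgroup.normalizer (stabilizer P γ : Set P), n ∉ stabilizer P γ →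
      n • γ = y • γ := by
    intro n hn hnU
    have hω : ∀ u ∈ stabilizer P γ, u • (n • γ) = n • γ := fun u hu => fix_of_normalizer hn hu
    rcases fixset h3 hγδ hU1 hδ hω with h | h
    · exact absurd (mem_stabilizer_iff.mpr h) hnU
    · exact h
  rw [Subgroup.relIndex, Subgroup.index_eq_two_iff]
  refine ⟨⟨y⁻¹, inv_mem hy⟩, ?_⟩
  intro b
  simp only [Subgroup.mem_subgroupOf, Subgroup.coe_mul]
  by_cases hb : (b : P) ∈ stabilizer P γ
  · right
    refine ⟨hb, ?_⟩
    intro h
    have h1 : y⁻¹ ∈ stabilizer P γ := by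
      have := (stabilizer P γ).mul_mem ((stabilizer P γ).inv_mem hb) h
      simpa using this
    exact hyU (by simpa using (stabilizer P γ).inv_mem h1)
  · left
    refine ⟨?_, hb⟩
    have h1 : (b : P)⁻¹ • γ = y • γ :=
      key _ (inv_mem b.2) (fun h => hb (by simpa using (stabilizer P γ).inv_mem h))
    have h2 : y⁻¹ • γ = y • γ :=
      key _ (inv_mem hy) (fun h => hyU (by simpa using (stabilizer P γ).inv_mem h))
    rw [mem_stabilizer_iff, mul_smul, h2, ← h1, smul_inv_smul]

theorem card_normalizer (h3 : ThreePt P Ω) {γ : Ω} (hU1 : stabilizer P γ ≠ ⊥)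
    {y : P} (hy : y ∈ Subgroup.normalizer (stabilizer P γ : Set P))
    (hyU : y ∉ stabilizer P γ) :
    Nat.card (Subgroup.normalizer (stabilizer P γ : Set P)) = 2 * Nat.card (stabilizer P γ) := by
  have h := relIndex_normalizer h3 hU1 hy hyU
  have h1 := Subgroup.card_mul_index
    ((stabilizer P γ).subgroupOf (Subgroup.normalizer (stabilizer P γ : Set P)))
  rw [← Subgroup.relIndex, h] at h1
  have h2 : Nat.card ((stabilizer P γ).subgroupOf (Subgroup.normalizer (stabilizer P γ : Set P)))
      = Nat.card (stabilizer P γ) :=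
    Nat.card_congr (Subgroup.subgroupOfEquivOfLe Subgroup.le_normalizer).toEquiv
  omega

theorem card_stab_eq_two (hP : IsPGroup 2 P) (h3 : ThreePt P Ω) {γ : Ω}
    (hU1 : stabilizer P γ ≠ ⊥) (hU2 : stabilizer P γ ≠ ⊤)
    (hidx : (stabilizer P γ).index ≠ 2) : Nat.card (stabilizer P γ) = 2 := by
  obtain ⟨y, hy, hyU⟩ := exists_normalizer_not_mem hP (stabilizer P γ) hU2
  have hrel := relIndex_normalizer h3 hU1 hy hyU
  have hN : Subgroup.normalizer (stabilizer P γ : Set P) ≠ ⊤ := by
    intro h
    rw [h, Subgroup.relIndex_top_right] at hrel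
    exact hidx hrel
  obtain ⟨z, hz, hzN⟩ :=
    exists_normalizer_not_mem hP (Subgroup.normalizer (stabilizer P γ : Set P)) hN
  have hδ : ∀ u ∈ stabilizer P γ, u • (y • γ) = y • γ := fun u hu => fix_of_normalizer hy hu
  have hγδ : γ ≠ y • γ := fun h => hyU (by rw [mem_stabilizer_iff]; exact h.symm)
  have hstabδ : stabilizer P (y • γ) = stabilizer P γ := stabilizer_smul_of_normalizer hy
  have hz' : ¬ ((z • γ = γ ∨ z • γ = y • γ) ∧ (z • (y • γ) = γ ∨ z • (y • γ) = y • γ)) := by
    rintro ⟨h1, h2⟩
    apply hzN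
    have hinv : z⁻¹ • γ = γ ∨ z⁻¹ • γ = y • γ := by
      rcases h1 with h1 | h1
      · left; rw [inv_smul_eq_iff]; exact h1.symm
      · rcases h2 with h2 | h2
        · right; rw [inv_smul_eq_iff]; exact h2.symm
        · exfalso
          have : z • γ = z • (y • γ) := by rw [h1, h2]
          exact hγδ (MulAction.injective z this)
    rw [Subgroup.mem_normalizer_iff]
    intro h
    have e : z * h * z⁻¹ ∈ stabilizer P γ ↔ h • (z⁻¹ • γ) = z⁻¹ • γ := by
      rw [mem_stabilizer_iff, mul_smul, mul_smul, smul_eq_iff_eq_inv_smul]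
    rw [e]
    rcases hinv with hi | hi
    · rw [hi]; exact mem_stabilizer_iff
    · rw [hi, ← mem_stabilizer_iff, hstabδ]
  have hU'N : (stabilizer P γ).map (MulAut.conj z).toMonoidHom ≤
      Subgroup.normalizer (stabilizer P γ : Set P) := by
    rintro _ ⟨u, hu, rfl⟩
    have huN : u ∈ Subgroup.normalizer (stabilizer P γ : Set P) := Subgroup.le_normalizer hu
    exact (Subgroup.mem_normalizer_iff.mp hz u).mp huN
  have hinf : stabilizer P γ ⊓ (stabilizer P γ).map (MulAut.conj z).toMonoidHom = ⊥ := by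
    rw [eq_bot_iff]
    rintro w ⟨hw1, u, hu, rfl⟩
    rw [Subgroup.mem_bot]
    simp only [MulEquiv.coe_toMonoidHom, MulAut.conj_apply] at hw1 ⊢
    have f1 : (z * u * z⁻¹) • γ = γ := hw1
    have f2 : (z * u * z⁻¹) • (y • γ) = y • γ := hδ _ hw1
    have f3 : (z * u * z⁻¹) • (z • γ) = z • γ := by
      rw [mul_smul, mul_smul, inv_smul_smul, mem_stabilizer_iff.mp hu]
    have f4 : (z * u * z⁻¹) • (z • (y • γ)) = z • (y • γ) := by
      rw [mul_smul, mul_smul, inv_smul_smul, hδ u hu]
    by_contra hne
    apply hz'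
    constructor
    · by_contra h; push Not at h
      exact hne (h3 _ γ (y • γ) (z • γ) hγδ (Ne.symm h.1) (Ne.symm h.2) f1 f2 f3)
    · by_contra h; push Not at h
      exact hne (h3 _ γ (y • γ) (z • (y • γ)) hγδ (Ne.symm h.1) (Ne.symm h.2) f1 f2 f4)
  have hcard' : Nat.card ((stabilizer P γ).map (MulAut.conj z).toMonoidHom)
      = Nat.card (stabilizer P γ) :=
    Subgroup.card_map_of_injective (MulAut.conj z).injective
  have hle : Nat.card ((stabilizer P γ).map (MulAut.conj z).toMonoidHom) ≤ 2 := by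
    calc Nat.card ((stabilizer P γ).map (MulAut.conj z).toMonoidHom)
        = (⊥ : Subgroup P).relIndex ((stabilizer P γ).map (MulAut.conj z).toMonoidHom) :=
          (Subgroup.relIndex_bot_left _).symm
      _ = (stabilizer P γ ⊓ (stabilizer P γ).map (MulAut.conj z).toMonoidHom).relIndex
            ((stabilizer P γ).map (MulAut.conj z).toMonoidHom) := by rw [hinf]
      _ = (stabilizer P γ).relIndex ((stabilizer P γ).map (MulAut.conj z).toMonoidHom) :=
          Subgroup.inf_relIndex_right _ _
      _ ≤ (stabilizer P γ).relIndex (Subgroup.normalizer (stabilizer P γ : Set P)) :=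
          Subgroup.relIndex_le_of_le_right hU'N (by rw [hrel]; norm_num)
      _ = 2 := hrel
  have hge : 1 < Nat.card (stabilizer P γ) := (Subgroup.one_lt_card_iff_ne_bot _).mpr hU1
  omega

theorem exists_involution_cent (hP : IsPGroup 2 P) (h3 : ThreePt P Ω) {γ : Ω}
    (hU2 : stabilizer P γ ≠ ⊤) (hc : Nat.card (stabilizer P γ) = 2) :
    ∃ u : P, u ∈ stabilizer P γ ∧ orderOf u = 2 ∧
      Nat.card (Subgroup.centralizer ({u} : Set P)) = 4 := by
  haveI : Fact (Nat.Prime 2) := ⟨Nat.prime_two⟩
  have hU1 : stabilizer P γ ≠ ⊥ :=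
    (Subgroup.one_lt_card_iff_ne_bot _).mp (by rw [hc]; norm_num)
  obtain ⟨y, hy, hyU⟩ := exists_normalizer_not_mem hP (stabilizer P γ) hU2
  have hN := card_normalizer h3 hU1 hy hyU
  obtain ⟨u', hu'1, hu'2⟩ := (Nat.card_eq_two_iff' (1 : stabilizer P γ)).mp hc
  have hall : ∀ t ∈ stabilizer P γ, t = 1 ∨ t = (u' : P) := by
    intro t ht
    by_cases h : t = 1
    · left; exact h
    · right
      have := hu'2 ⟨t, ht⟩ (fun h' => h (congrArg Subtype.val h'))
      exact congrArg Subtype.val this
  have hu1 : (u' : P) ≠ 1 := fun h => hu'1 (Subtype.ext h)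
  have hsq : (u' : P) ^ 2 = 1 := by
    rcases hall _ ((stabilizer P γ).pow_mem u'.2 2) with h | h
    · exact h
    · exfalso; apply hu1
      have h' : (u' : P) * u' = u' * 1 := by rw [← pow_two, mul_one]; exact h
      exact mul_left_cancel h'
  refine ⟨u', u'.2, orderOf_eq_prime hsq hu1, ?_⟩
  have hcn : Subgroup.centralizer ({(u' : P)} : Set P)
      = Subgroup.normalizer (stabilizer P γ : Set P) := by
    ext c
    rw [Subgroup.mem_centralizer_singleton_iff, Subgroup.mem_normalizer_iff]
    constructor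
    · intro hcu t
      have hconj : c * (u' : P) * c⁻¹ = u' := by rw [hcu, mul_inv_cancel_right]
      constructor
      · intro ht
        rcases hall t ht with rfl | rfl
        · simp
        · rw [hconj]; exact u'.2
      · intro ht
        rcases hall _ ht with h | h
        · have : t = 1 := by
            have := congrArg (fun w => c⁻¹ * w * c) h
            simpa [mul_assoc] using this
          rw [this]; exact Subgroup.one_mem _
        · have : t = u' := by
            have h' : c * t * c⁻¹ = c * (u' : P) * c⁻¹ := by rw [h, hconj]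
            have := congrArg (fun w => c⁻¹ * w * c) h'
            simpa [mul_assoc] using this
          rw [this]; exact u'.2
    · intro hn
      have h1 := (hn u').mp u'.2
      rcases hall _ h1 with h | h
      · exfalso; apply hu1
        have := congrArg (fun w => c⁻¹ * w * c) h
        simpa [mul_assoc] using this
      · have := congrArg (fun w => w * c) h
        simpa [mul_assoc] using this
  rw [hcn, hN, hc]

theorem small_stab (hP : IsPGroup 2 P) (h3 : ThreePt P Ω) {γ : Ω}
    (hU2 : stabilizer P γ ≠ ⊤) (hc : Nat.card (stabilizer P γ) = 2) :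
    (∃ n : ℕ, Nonempty (P ≃* DihedralGroup n)) ∨ Cfsg.IsQuasiDihedral P ∨ Nat.card P = 4 := by
  obtain ⟨u, -, hu2, hcent⟩ := exists_involution_cent hP h3 hU2 hc
  exact Cfsg.Agent.S3224.result hP u hu2 hcent

end A

theorem klein_of_two_involutions {P : Type*} [Group P] [Finite P] (h4 : Nat.card P = 4)
    (a b : P) (ha : a ≠ 1) (hb : b ≠ 1) (hab : a ≠ b) (ha2 : a ^ 2 = 1) (hb2 : b ^ 2 = 1) :
    Nonempty (P ≃* DihedralGroup 2) := by
  classical
  haveI := Fintype.ofFinite P
  have hnc : ¬ IsCyclic P := by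
    intro hc
    have h := IsCyclic.card_pow_eq_one_le (α := P) (n := 2) (by norm_num)
    have h2 : 2 < (Finset.univ.filter (fun x : P => x ^ 2 = 1)).card := by
      rw [Finset.two_lt_card_iff]
      exact ⟨1, a, b, by simp, by simp [ha2], by simp [hb2], Ne.symm ha, Ne.symm hb, hab⟩
    omega
  have hsq : ∀ g : P, g ^ 2 = 1 := by
    intro g
    have hd : orderOf g ∣ 4 := h4 ▸ orderOf_dvd_natCard g
    have hne : orderOf g ≠ 4 := by
      intro h
      exact hnc (isCyclic_of_orderOf_eq_card g (by rw [h, h4]))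
    have hle : orderOf g ≤ 4 := Nat.le_of_dvd (by norm_num) hd
    have hd2 : orderOf g ∣ 2 := by
      interval_cases h : orderOf g
      · simp at hd
      · norm_num
      · norm_num
      · norm_num at hd
      · exact absurd rfl hne
    exact orderOf_dvd_iff_pow_eq_one.mp hd2
  have hexp : Monoid.exponent P = 2 := by
    have hd := Monoid.exponent_dvd_of_forall_pow_eq_one hsq
    rcases (Nat.dvd_prime Nat.prime_two).mp hd with h | h
    · exfalso
      have := Monoid.exp_eq_one_iff.mp h
      have h1 : Nat.card P = 1 := Nat.card_unique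
      omega
    · exact h
  haveI : IsKleinFour P := ⟨h4, hexp⟩
  exact IsKleinFour.nonempty_mulEquiv

section Main

variable {P : Type*} [Group P] [Finite P] {Ω : Type*} [MulAction P Ω]

theorem fpf_of_regular {α : Ω} (hidx : (stabilizer P α).index = 2)
    (hreg : ∀ ω, ω ∉ orbit P α → stabilizer P ω = ⊥) {x : P} (hx : x ∉ stabilizer P α)
    (ω : Ω) : x • ω ≠ ω := by
  intro hfix
  have hn : (stabilizer P α).Normal := Subgroup.normal_of_index_eq_two hidx
  by_cases hω : ω ∈ orbit P α
  · obtain ⟨s, hs⟩ := hω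
    have hs' : s • α = ω := hs
    subst hs'
    apply hx
    have h1 : s⁻¹ * x * s ∈ stabilizer P α := by
      rw [mem_stabilizer_iff, mul_smul, mul_smul, hfix, inv_smul_smul]
    have h2 := hn.conj_mem _ h1 s
    simpa [mul_assoc] using h2
  · have := hreg ω hω
    have hx' : x ∈ stabilizer P ω := hfix
    rw [this, Subgroup.mem_bot] at hx'
    exact hx (hx' ▸ Subgroup.one_mem _)

theorem pmain (hP : IsPGroup 2 P) (h3 : ThreePt P Ω) (α : Ω) :
    stabilizer P α = ⊥ ∨ stabilizer P α = ⊤ ∨
    (((∃ n : ℕ, Nonempty (P ≃* DihedralGroup n)) ∨ Cfsg.IsQuasiDihedral P) ∧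
      (Nat.card (stabilizer P α) = 2 ∨ (stabilizer P α).index = 2)) ∨
    ((stabilizer P α).index = 2 ∧ 4 ≤ Nat.card P ∧
      ∀ ω, ω ∉ orbit P α → stabilizer P ω = ⊥) := by
  by_cases hU1 : stabilizer P α = ⊥
  · exact Or.inl hU1
  by_cases hU2 : stabilizer P α = ⊤
  · exact Or.inr (Or.inl hU2)
  right; right
  have hge : 1 < Nat.card (stabilizer P α) := (Subgroup.one_lt_card_iff_ne_bot _).mpr hU1
  have hci := Subgroup.card_mul_index (stabilizer P α)
  by_cases hidx : (stabilizer P α).index = 2
  · -- Case I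
    have h4 : 4 ≤ Nat.card P := by rw [← hci, hidx]; omega
    by_cases hreg : ∀ ω, ω ∉ orbit P α → stabilizer P ω = ⊥
    · exact Or.inr ⟨hidx, h4, hreg⟩
    · left
      push Not at hreg
      obtain ⟨ω, hω, hW⟩ := hreg
      haveI hn : (stabilizer P α).Normal := Subgroup.normal_of_index_eq_two hidx
      obtain ⟨y, hy, hyU⟩ := exists_normalizer_not_mem hP (stabilizer P α) hU2
      have hβ : ∀ u ∈ stabilizer P α, u • (y • α) = y • α := fun u hu => fix_of_normalizer hy hu
      have hαβ : α ≠ y • α := fun h => hyU (by rw [mem_stabilizer_iff]; exact h.symm)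
      have hαω : α ≠ ω := fun h => hω (h ▸ mem_orbit_self α)
      have hβω : y • α ≠ ω := fun h => hω (h ▸ mem_orbit α y)
      have hinf : stabilizer P α ⊓ stabilizer P ω = ⊥ := by
        rw [eq_bot_iff]
        rintro w ⟨hw1, hw2⟩
        rw [Subgroup.mem_bot]
        exact h3 w α (y • α) ω hαβ hαω hβω hw1 (hβ w hw1) hw2
      have hdvd : Nat.card (stabilizer P ω) ∣ 2 := by
        have h1 := Subgroup.relIndex_dvd_index_of_normal (stabilizer P α) (stabilizer P ω)
        rw [hidx, ← Subgroup.inf_relIndex_right, hinf, Subgroup.relIndex_bot_left] at h1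
        exact h1
      have hWc : Nat.card (stabilizer P ω) = 2 := by
        rcases (Nat.dvd_prime Nat.prime_two).mp hdvd with h | h
        · have := (Subgroup.one_lt_card_iff_ne_bot _).mpr hW
          omega
        · exact h
      have hWtop : stabilizer P ω ≠ ⊤ := by
        intro h
        rw [h, Subgroup.card_top] at hWc
        omega
      rcases small_stab hP h3 hWtop hWc with hD | hD | hD
      · exact ⟨Or.inl hD, Or.inr hidx⟩
      · exact ⟨Or.inr hD, Or.inr hidx⟩
      · refine ⟨Or.inl ⟨2, ?_⟩, Or.inr hidx⟩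
        have hTc : Nat.card (stabilizer P α) = 2 := by rw [hD, hidx] at hci; omega
        obtain ⟨t, ht, ht1⟩ := (Subgroup.bot_or_exists_ne_one (stabilizer P α)).resolve_left hU1
        obtain ⟨w, hw, hw1⟩ := (Subgroup.bot_or_exists_ne_one (stabilizer P ω)).resolve_left hW
        have ht2 : t ^ 2 = 1 := by
          have := pow_card_eq_one' (G := stabilizer P α) (x := ⟨t, ht⟩)
          rw [hTc] at this
          exact congrArg Subtype.val this
        have hw2 : w ^ 2 = 1 := by
          have := pow_card_eq_one' (G := stabilizer P ω) (x := ⟨w, hw⟩)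
          rw [hWc] at this
          exact congrArg Subtype.val this
        have htw : t ≠ w := by
          intro h
          have : w ∈ stabilizer P α ⊓ stabilizer P ω := ⟨h ▸ ht, hw⟩
          rw [hinf, Subgroup.mem_bot] at this
          exact hw1 this
        exact klein_of_two_involutions hD t w ht1 hw1 htw ht2 hw2
  · -- Case II
    left
    have hc := card_stab_eq_two hP h3 hU1 hU2 hidx
    rcases small_stab hP h3 hU2 hc with hD | hD | hD
    · exact ⟨Or.inl hD, Or.inl hc⟩
    · exact ⟨Or.inr hD, Or.inl hc⟩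
    · exfalso
      rw [hD, hc] at hci
      omega

end Main

end Cfsg.Agent.Lib.H22.S3390
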