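import Mathlib
import Cfsg.Agent.Lib.H22.S3390A
import Cfsg.Agent.Lib.H16.ThompsonTransfer
import Cfsg.Prelude.Def_Solvable

/-! S3390 (helper22), part B: the index-two subgroup and the Frobenius complement. -/

set_option autoImplicit false

namespace Cfsg.Agent.Lib.H22.S3390

open MulAction

section B

variable {G : Type*} [Group G] [Finite G] {Ω : Type*} [MulAction G Ω]

theorem threePt_of_hfix [Finite Ω]
    (hfix : ∀ g : G, g ≠ 1 → Nat.card (fixedBy Ω g) ≤ 2) : ThreePt G Ω := by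
  intro s a b c hab hac hbc ha hb hc
  by_contra hs
  have h1 := hfix s hs
  have hsub : ({a, b, c} : Set Ω) ⊆ fixedBy Ω s := by
    intro x hx
    simp only [Set.mem_insert_iff, Set.mem_singleton_iff] at hx
    rcases hx with rfl | rfl | rfl <;> assumption
  have h2 : ({a, b, c} : Set Ω).ncard ≤ (fixedBy Ω s).ncard :=
    Set.ncard_le_ncard hsub (Set.toFinite _)
  have h3 : ({a, b, c} : Set Ω).ncard = 3 :=
    Set.ncard_eq_three.mpr ⟨a, b, c, hab, hac, hbc, rfl⟩
  rw [Nat.card_coe_set_eq] at h1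
  omega

theorem threePt_subgroup (h3 : ThreePt G Ω) (S : Subgroup G) : ThreePt S Ω := by
  intro s a b c hab hac hbc ha hb hc
  exact Subtype.ext (h3 (s : G) a b c hab hac hbc ha hb hc)

theorem transfer_eq_one_of_fix (S : Sylow 2 G) (T : Subgroup G)
    (hM : T.relIndex (S : Subgroup G) = 2)
    (hfpf : ∀ x ∈ (S : Subgroup G), x ∉ T → ∀ ω : Ω, x • ω ≠ ω)
    (k : G) (ω : Ω) (hk : k • ω = ω) :
    Cfsg.Agent.Lib.H16.thompsonTransfer S T hM k = 1 := by
  classical
  haveI : Fintype (Quotient (MulAction.orbitRel (Subgroup.zpowers k) (G ⧸ (S : Subgroup G)))) :=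
    Fintype.ofFinite _
  unfold Cfsg.Agent.Lib.H16.thompsonTransfer
  rw [MonoidHom.transfer_eq_prod_quotient_orbitRel_zpowers_quot]
  apply Finset.prod_eq_one
  intro q _
  apply Cfsg.Agent.Lib.H16.sgnHom_of_mem
  by_contra hnot
  have hmem := QuotientGroup.out_conj_pow_minimalPeriod_mem (S : Subgroup G) k q.out
  refine hfpf _ hmem hnot (q.out.out⁻¹ • ω) ?_
  rw [mul_smul, mul_smul, smul_inv_smul]
  congr 1
  exact (stabilizer G ω).pow_mem hk _

end B

section C

variable {G : Type*} [Group G] [Finite G] {Ω : Type*} [Finite Ω] [MulAction G Ω]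

/-- Data of case (C): a normal subgroup `K` of index two containing the point stabilizer, missed by
an element `x` of `S`. -/
theorem exists_index_two (h3 : ThreePt G Ω) (α : Ω) (S : Sylow 2 G)
    (hidx : (stabilizer (↥(S : Subgroup G)) α).index = 2)
    (hreg : ∀ ω, ω ∉ orbit (↥(S : Subgroup G)) α → stabilizer (↥(S : Subgroup G)) ω = ⊥) :
    ∃ K : Subgroup G, K.Normal ∧ K.index = 2 ∧ stabilizer G α ≤ K ∧
      ∃ x ∈ (S : Subgroup G), x ∉ K := by
  set T : Subgroup G := (S : Subgroup G) ⊓ stabilizer G α with hT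
  have hTsub : T.subgroupOf (S : Subgroup G) = stabilizer (↥(S : Subgroup G)) α := by
    ext s
    simp only [Subgroup.mem_subgroupOf, hT, Subgroup.mem_inf, mem_stabilizer_iff]
    constructor
    · intro h; exact h.2
    · intro h; exact ⟨s.2, h⟩
  have hM : T.relIndex (S : Subgroup G) = 2 := by
    rw [Subgroup.relIndex, hTsub]; exact hidx
  have hfpf : ∀ x ∈ (S : Subgroup G), x ∉ T → ∀ ω : Ω, x • ω ≠ ω := by
    intro x hx hxT ω
    have := fpf_of_regular hidx hreg (x := ⟨x, hx⟩) (fun h => hxT ⟨hx, h⟩) ω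
    exact this
  -- an element of S outside T of minimal order
  have hne : ({x : G | x ∈ (S : Subgroup G) ∧ x ∉ T} : Set G).Nonempty := by
    have : ¬ (S : Subgroup G) ≤ T := by
      intro h
      have := Subgroup.relIndex_eq_one.mpr h
      omega
    obtain ⟨x, hx, hxT⟩ := SetLike.not_le_iff_exists.mp this
    exact ⟨x, hx, hxT⟩
  obtain ⟨x, ⟨hxS, hxT⟩, hmin⟩ := Set.exists_min_image _ (fun x : G => orderOf x)
    (Set.toFinite _) hne
  obtain ⟨n, hn⟩ := (IsPGroup.iff_orderOf.mp S.isPGroup') ⟨x, hxS⟩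
  have hxn : orderOf x = 2 ^ n := by
    rw [← hn]; exact (Subgroup.orderOf_mk x hxS).symm
  have hx1 : x ≠ 1 := fun h => hxT (h ▸ Subgroup.one_mem _)
  have hn0 : n ≠ 0 := by
    intro h
    rw [h, pow_zero, orderOf_eq_one_iff] at hxn
    exact hx1 hxn
  have hord : ∀ y ∈ (S : Subgroup G), y ∉ T → 2 ^ (n - 1) < orderOf y := by
    intro y hy hyT
    have h1 : orderOf x ≤ orderOf y := hmin y ⟨hy, hyT⟩
    have h2 : 2 ^ (n - 1) < 2 ^ n := Nat.pow_lt_pow_right (by norm_num) (by omega)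
    omega
  have hcon : ∀ g : G, g * x * g⁻¹ ∉ T := by
    intro g hg
    refine hfpf x hxS hxT (g⁻¹ • α) ?_
    have h1 : (g * x * g⁻¹) • α = α := hg.2
    rw [mul_smul, mul_smul] at h1
    exact eq_inv_smul_iff.mpr h1
  have hVx := Cfsg.Agent.Lib.H16.thompsonTransfer_eq_neg_one S T hM n hord x hxn hcon
  refine ⟨(Cfsg.Agent.Lib.H16.thompsonTransfer S T hM).ker, inferInstance,
    Cfsg.Agent.Lib.H16.index_ker_eq_two_of_apply_eq_neg_one _ x hVx, ?_, x, hxS, ?_⟩
  · intro k hk
    rw [MonoidHom.mem_ker]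
    exact transfer_eq_one_of_fix S T hM hfpf k α hk
  · intro hmem
    rw [MonoidHom.mem_ker, hVx] at hmem
    exact absurd hmem (by decide)

end C

end Cfsg.Agent.Lib.H22.S3390
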