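import Mathlib
import Cfsg.Agent.Lib.H22.S3390B

/-! S3390 (helper22), part C: the point stabilizer is a Frobenius complement in the index-two
subgroup. -/

set_option autoImplicit false

namespace Cfsg.Agent.Lib.H22.S3390

open MulAction

theorem exists_prime_order_mem {G : Type*} [Group G] [Finite G] (D : Subgroup G) (hD : D ≠ ⊥) :
    ∃ r : ℕ, r.Prime ∧ ∃ e ∈ D, orderOf e = r := by
  have h1 : 1 < Nat.card D := (Subgroup.one_lt_card_iff_ne_bot _).mpr hD
  obtain ⟨r, hr, hdvd⟩ := Nat.exists_prime_and_dvd (by omega : Nat.card D ≠ 1)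
  haveI : Fact r.Prime := ⟨hr⟩
  obtain ⟨e, he⟩ := exists_prime_orderOf_dvd_card' r hdvd
  exact ⟨r, hr, e, e.2, by rw [← he]; exact Subgroup.orderOf_coe e⟩

theorem card_modEq_two {H : Type*} [Group H] {X : Type*} [MulAction H X] [Finite X] {r : ℕ}
    (hr : r.Prime) (d : H) (hd : orderOf d = r) (a b : X) (hab : a ≠ b) (ha : d • a = a)
    (hb : d • b = b) (hall : ∀ ω, d • ω = ω → ω = a ∨ ω = b) : Nat.card X ≡ 2 [MOD r] := by
  haveI : Fact r.Prime := ⟨hr⟩
  have hZ : IsPGroup r (Subgroup.zpowers d) :=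
    IsPGroup.of_card (n := 1) (by rw [Nat.card_zpowers, hd, pow_one])
  have h1 := hZ.card_modEq_card_fixedPoints X
  have h2 : fixedPoints (Subgroup.zpowers d) X = {a, b} := by
    ext ω
    simp only [mem_fixedPoints, Set.mem_insert_iff, Set.mem_singleton_iff]
    constructor
    · intro h
      exact hall ω (h ⟨d, Subgroup.mem_zpowers d⟩)
    · intro h z
      have hle : Subgroup.zpowers d ≤ stabilizer H ω := by
        rw [Subgroup.zpowers_le]
        rcases h with rfl | rfl
        · exact ha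
        · exact hb
      exact hle z.2
  rw [h2] at h1
  have h3 : Nat.card ({a, b} : Set X) = 2 := by rw [Nat.card_coe_set_eq, Set.ncard_pair hab]
  rw [h3] at h1
  exact h1

section D

variable {G : Type*} [Group G] [Finite G] {Ω : Type*} [Finite Ω] [MulAction G Ω]

theorem frobenius [FaithfulSMul G Ω] (htr : IsPretransitive G Ω) (h3 : ThreePt G Ω) (α : Ω)
    (S : Sylow 2 G)
    (hidx : (stabilizer (↥(S : Subgroup G)) α).index = 2)
    (h4 : 4 ≤ Nat.card (↥(S : Subgroup G)))
    (hreg : ∀ ω, ω ∉ orbit (↥(S : Subgroup G)) α → stabilizer (↥(S : Subgroup G)) ω = ⊥) :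
    ∃ N : Subgroup G, N.Normal ∧ N.index = 2 ∧
      ∃ H : Subgroup ↥N, Cfsg.IsFrobeniusComplement H := by
  obtain ⟨K, hKn, hKi, hstabK, x, hxS, hxK⟩ := exists_index_two h3 α S hidx hreg
  haveI := hKn
  -- a nontrivial element of `S` fixing `α`
  have hT1 : ∃ t0 : G, t0 ∈ (S : Subgroup G) ∧ t0 • α = α ∧ t0 ≠ 1 := by
    have hci := Subgroup.card_mul_index (stabilizer (↥(S : Subgroup G)) α)
    rw [hidx] at hci
    have : 1 < Nat.card (stabilizer (↥(S : Subgroup G)) α) := by
      have hpos : 0 < Nat.card (stabilizer (↥(S : Subgroup G)) α) := Nat.card_pos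
      by_contra hlt
      have : Nat.card (stabilizer (↥(S : Subgroup G)) α) = 1 := by omega
      rw [this] at hci
      omega
    have hne := (Subgroup.one_lt_card_iff_ne_bot _).mp this
    obtain ⟨t, ht, ht1⟩ := (Subgroup.bot_or_exists_ne_one _).resolve_left hne
    exact ⟨t, t.2, ht, fun h => ht1 (Subtype.ext h)⟩
  obtain ⟨t0, ht0S, ht0α, ht01⟩ := hT1
  have hfpf : ∀ s ∈ (S : Subgroup G), s • α ≠ α → ∀ ω : Ω, s • ω ≠ ω := by
    intro s hs hsα ω
    exact fpf_of_regular hidx hreg (x := ⟨s, hs⟩) (fun h => hsα h) ω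
  have hxα : x • α ≠ α := fun h => hxK (hstabK h)
  have hTβ : ∀ t ∈ (S : Subgroup G), t • α = α → t • (x • α) = x • α := by
    intro t ht htα
    have hn : (stabilizer (↥(S : Subgroup G)) α).Normal := Subgroup.normal_of_index_eq_two hidx
    have h1 : (⟨t, ht⟩ : ↥(S : Subgroup G)) ∈ stabilizer (↥(S : Subgroup G)) α := htα
    have h2 := hn.conj_mem _ h1 ⟨x⁻¹, inv_mem hxS⟩
    have h3' : (x⁻¹ * t * x⁻¹⁻¹) • α = α := h2
    rw [inv_inv, mul_smul, mul_smul] at h3'
    exact inv_smul_eq_iff.mp h3'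
  have hmal : ∀ d : G, d ≠ 1 → d • α = α → ∀ k ∈ K, k • α ≠ α → d • (k • α) = k • α → False := by
    intro d hd1 hdα k hkK hkα hdk
    have hDne : stabilizer G α ⊓ stabilizer G (k • α) ≠ ⊥ := by
      intro h
      have : d ∈ stabilizer G α ⊓ stabilizer G (k • α) := ⟨hdα, hdk⟩
      rw [h, Subgroup.mem_bot] at this
      exact hd1 this
    obtain ⟨r, hr, e, heD, her⟩ := exists_prime_order_mem _ hDne
    have he1 : e ≠ 1 := by
      intro h; rw [h, orderOf_one] at her; exact hr.one_lt.ne' her.symm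
    have heα : e • α = α := heD.1
    have hek : e • (k • α) = k • α := heD.2
    have heK : e ∈ K := hstabK heα
    have hall : ∀ ω, e • ω = ω → ω = α ∨ ω = k • α := by
      intro ω hω
      by_contra hne; push Not at hne
      exact he1 (h3 e α (k • α) ω (Ne.symm hkα) (Ne.symm hne.1) (Ne.symm hne.2) heα hek hω)
    have hc1 : Nat.card Ω ≡ 2 [MOD r] :=
      card_modEq_two hr e her α (k • α) (Ne.symm hkα) heα hek hall
    have hc2 : Nat.card (orbit K α) ≡ 2 [MOD r] := by
      refine card_modEq_two (H := ↥K) (X := orbit K α) hr ⟨e, heK⟩ ?_ ⟨α, mem_orbit_self α⟩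
        ⟨k • α, ⟨⟨k, hkK⟩, rfl⟩⟩ ?_ ?_ ?_ ?_
      · rw [← her]; exact Subgroup.orderOf_mk e heK
      · intro h; exact hkα (congrArg Subtype.val h).symm
      · exact Subtype.ext heα
      · exact Subtype.ext hek
      · intro ω hω
        have : e • (ω : Ω) = ω := congrArg Subtype.val hω
        rcases hall ω this with h | h
        · left; exact Subtype.ext h
        · right; exact Subtype.ext h
    have hc3 : Nat.card Ω = Nat.card (orbit K α) * 2 := by
      rw [← index_stabilizer_of_transitive G α, ← Subgroup.relIndex_mul_index hstabK, hKi]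
      congr 1
      rw [Nat.card_coe_set_eq, ← index_stabilizer, Subgroup.relIndex]
      congr 1
    have hr2 : r = 2 := by
      rw [hc3] at hc1
      have h5 : Nat.card (orbit K α) * 2 ≡ 2 * 2 [MOD r] := hc2.mul_right 2
      have h6 : 2 ≡ 2 * 2 [MOD r] := hc1.symm.trans h5
      have h7 : r ∣ 2 * 2 - 2 := (Nat.modEq_iff_dvd' (by norm_num)).mp h6
      exact (Nat.prime_dvd_prime_iff_eq hr Nat.prime_two).mp (by simpa using h7)
    subst hr2
    haveI : Fact (Nat.Prime 2) := ⟨Nat.prime_two⟩
    have hZ : IsPGroup 2 (Subgroup.zpowers e) :=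
      IsPGroup.of_card (n := 1) (by rw [Nat.card_zpowers, her, pow_one])
    obtain ⟨Q, hQ⟩ := hZ.exists_le_sylow
    obtain ⟨g, hg⟩ := MulAction.exists_smul_eq G S Q
    have heQ : e ∈ (Q : Subgroup G) := hQ (Subgroup.mem_zpowers e)
    rw [← hg, Sylow.coe_subgroup_smul] at heQ
    obtain ⟨s, hsS, hse⟩ := (Subgroup.mem_smul_pointwise_iff_exists _ _ _).mp heQ
    have hse' : g * s * g⁻¹ = e := by simpa [MulAut.smul_def] using hse
    have hsfix : s • (g⁻¹ • α) = g⁻¹ • α := by
      have : (g * s * g⁻¹) • α = α := by rw [hse']; exact heα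
      rw [mul_smul, mul_smul] at this
      exact eq_inv_smul_iff.mpr this
    have hsα : s • α = α := by
      by_contra h
      exact hfpf s hsS h _ hsfix
    have hsβ : s • (x • α) = x • α := hTβ s hsS hsα
    have heg1 : e • (g • α) = g • α := by
      rw [← hse', mul_smul, mul_smul, inv_smul_smul, hsα]
    have heg2 : e • (g • x • α) = g • x • α := by
      rw [← hse', mul_smul, mul_smul, inv_smul_smul, hsβ]
    have hgK : g ∈ K := by
      rcases hall _ heg1 with h | h
      · exact hstabK h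
      · have h1 : k⁻¹ * g ∈ K :=
          hstabK (by rw [mem_stabilizer_iff, mul_smul, h, inv_smul_smul])
        have := K.mul_mem hkK h1
        simpa using this
    have hgxK : g * x ∈ K := by
      rcases hall _ heg2 with h | h
      · exact hstabK (by rw [mem_stabilizer_iff, mul_smul]; exact h)
      · have h1 : k⁻¹ * (g * x) ∈ K :=
          hstabK (by rw [mem_stabilizer_iff, mul_smul, mul_smul, h, inv_smul_smul])
        have := K.mul_mem hkK h1
        simpa using this
    apply hxK
    have := K.mul_mem (K.inv_mem hgK) hgxK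
    simpa using this
  refine ⟨K, hKn, hKi, (stabilizer G α).subgroupOf K, ?_, ?_, ?_⟩
  · intro h
    have ht0K : t0 ∈ K := hstabK ht0α
    have : (⟨t0, ht0K⟩ : ↥K) ∈ (stabilizer G α).subgroupOf K := by
      rw [Subgroup.mem_subgroupOf]; exact ht0α
    rw [h, Subgroup.mem_bot] at this
    exact ht01 (congrArg Subtype.val this)
  · intro h
    have hK : K ≤ stabilizer G α := Subgroup.subgroupOf_eq_top.mp h
    have ht0K : t0 ∈ K := hstabK ht0α
    apply ht01
    apply FaithfulSMul.eq_of_smul_eq_smul (α := Ω)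
    intro ω
    obtain ⟨g, rfl⟩ := MulAction.exists_smul_eq G α ω
    rw [one_smul]
    have h1 : g⁻¹ * t0 * g ∈ K := by
      have := hKn.conj_mem t0 ht0K g⁻¹
      simpa using this
    have h2 := hK h1
    rw [mem_stabilizer_iff, mul_smul, mul_smul] at h2
    exact inv_smul_eq_iff.mp h2
  · intro g hg
    rw [eq_bot_iff]
    rintro h ⟨hh1, hh2⟩
    rw [Subgroup.mem_bot]
    have hh1' : (h : G) • α = α := hh1
    have hgα : (g : G) • α ≠ α := fun hga => hg (by rw [Subgroup.mem_subgroupOf]; exact hga)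
    obtain ⟨h', hh', hconj⟩ := (Subgroup.mem_smul_pointwise_iff_exists _ _ _).mp hh2
    have hconj' : (g : G) * h' * (g : G)⁻¹ = h := by
      have := congrArg Subtype.val hconj
      simpa [MulAut.smul_def] using this
    have hh'' : (h' : G) • α = α := hh'
    have hfix2 : (h : G) • ((g : G) • α) = (g : G) • α := by
      rw [← hconj', mul_smul, mul_smul, inv_smul_smul, hh'']
    by_contra hne
    exact hmal (h : G) (fun h1 => hne (Subtype.ext h1)) hh1' (g : G) g.2 hgα hfix2

end D

end Cfsg.Agent.Lib.H22.S3390
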