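import Cfsg.Agent.Lib.H9.S3571Defs

/-! S3571, block GR, piece C3: a transitive imprimitive permutation group of degree `m`
has no element of prime order `p' > m/2`. -/

set_option autoImplicit false

namespace Cfsg.Agent.Lib.H22.S3571C3

open MulAction
open scoped Pointwise

/-- An element of prime order `p` fixes every point of an invariant finite set of size `< p`. -/
theorem smul_eq_of_ncard_lt {G X : Type*} [Group G] [MulAction G X] (s : G) (p : ℕ)
    (hp : p.Prime) (hs : orderOf s = p) (A : Set X) (hA : A.Finite)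
    (hinv : ∀ x ∈ A, s • x ∈ A) (hcard : A.ncard < p) (x : X) (hx : x ∈ A) : s • x = x := by
  have hmem : ∀ i : ℕ, s ^ i • x ∈ A := by
    intro i
    induction i with
    | zero => simpa using hx
    | succ i ih => rw [pow_succ', mul_smul]; exact hinv _ ih
  -- a repetition among `s^i • x`, `i < p`
  have key : ∃ d : ℕ, 0 < d ∧ d < p ∧ s ^ d • x = x := by
    have hc : A.ncard < (Set.Iio p : Set ℕ).ncard := by
      rw [← Finset.coe_Iio, Set.ncard_coe_finset, Nat.card_Iio]; exact hcard
    obtain ⟨i, hi, j, hj, hij, heq⟩ :=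
      Set.exists_ne_map_eq_of_ncard_lt_of_maps_to hc (f := fun i => s ^ i • x)
        (fun i _ => hmem i) hA
    have aux : ∀ i j : ℕ, i < j → j < p → s ^ i • x = s ^ j • x →
        ∃ d : ℕ, 0 < d ∧ d < p ∧ s ^ d • x = x := by
      intro i j hlt hjp h
      refine ⟨j - i, by omega, by omega, ?_⟩
      have h2 : s ^ j = s ^ i * s ^ (j - i) := by
        rw [← pow_add]; congr 1; omega
      rw [h2, mul_smul] at h
      exact (smul_left_cancel _ h).symm
    rcases lt_or_gt_of_ne hij with h | h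
    · exact aux i j h hj heq
    · exact aux j i h hi heq.symm
  obtain ⟨d, hd0, hdp, hd⟩ := key
  have hcop : Nat.Coprime d (orderOf s) := by
    rw [hs]
    exact Nat.Coprime.symm ((Nat.Prime.coprime_iff_not_dvd hp).2 (Nat.not_dvd_of_pos_of_lt hd0 hdp))
  obtain ⟨k, hk⟩ := exists_pow_eq_self_of_coprime hcop
  have hstab : s ^ d ∈ stabilizer G x := hd
  have : (s ^ d) ^ k ∈ stabilizer G x := Subgroup.pow_mem _ hstab k
  rw [hk] at this
  exact this

theorem c3 : Cfsg.Agent.Lib.H9.S3571.C3Stmt := by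
  intro m H htr hnp p' hp' hm hdvd
  -- a nontrivial block
  have hblk : ∃ B : Set (Fin m), IsBlock ↥H B ∧ ¬ IsTrivialBlock B := by
    by_contra hcon
    refine hnp { htr with isTrivialBlock_of_isBlock := fun {B} hB => ?_ }
    by_contra hB'
    exact hcon ⟨B, hB, hB'⟩
  obtain ⟨B, hB, hBt⟩ := hblk
  have : Fact p'.Prime := ⟨hp'⟩
  obtain ⟨s, hs⟩ := exists_prime_orderOf_dvd_card' p' hdvd
  obtain ⟨hBs, hBu⟩ : ¬ B.Subsingleton ∧ B ≠ Set.univ := not_or.mp hBt
  have hBne : B.Nonempty := by
    by_contra h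
    rw [Set.not_nonempty_iff_eq_empty] at h
    exact hBs (h ▸ Set.subsingleton_empty)
  have hmul := hB.ncard_block_mul_ncard_orbit_eq hBne
  rw [Nat.card_eq_fintype_card, Fintype.card_fin] at hmul
  -- 2 ≤ |B|
  have hb2 : 2 ≤ B.ncard := by
    by_contra h
    exact hBs ((Set.ncard_le_one_iff_subsingleton (s := B)).1 (by omega))
  -- |B| ≠ m
  have hbm : B.ncard ≠ m := by
    intro h
    apply hBu
    rw [Set.eq_univ_iff_ncard, h, Nat.card_eq_fintype_card, Fintype.card_fin]
  have hk1 : 1 ≤ (orbit ↥H B).ncard := by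
    rw [Nat.one_le_iff_ne_zero, Ne, Set.ncard_eq_zero (Set.toFinite _)]
    exact (Set.nonempty_of_mem (mem_orbit_self B)).ne_empty
  have hk2 : 2 ≤ (orbit ↥H B).ncard := by
    by_contra h
    have : (orbit ↥H B).ncard = 1 := by omega
    rw [this, mul_one] at hmul
    exact hbm hmul
  have hbp : B.ncard < p' := by nlinarith
  have hkp : (orbit ↥H B).ncard < p' := by nlinarith
  -- `s` fixes every block of the system
  have hfixB : ∀ C ∈ orbit ↥H B, s • C = C := by
    intro C hC
    refine smul_eq_of_ncard_lt s p' hp' hs (orbit ↥H B) (Set.toFinite _) ?_ hkp C hC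
    rintro D ⟨g, rfl⟩
    exact ⟨s * g, mul_smul _ _ _⟩
  -- `s` fixes every point
  have hfix : ∀ x : Fin m, s • x = x := by
    intro x
    obtain ⟨a, ha⟩ := hBne
    obtain ⟨g, hg⟩ := htr.exists_smul_eq a x
    have hxC : x ∈ g • B := hg ▸ Set.smul_mem_smul_set ha
    have hC := hfixB (g • B) ⟨g, rfl⟩
    refine smul_eq_of_ncard_lt s p' hp' hs (g • B) (Set.toFinite _) ?_ ?_ x hxC
    · intro y hy
      rw [← hC]
      exact Set.smul_mem_smul_set hy
    · rw [Set.ncard_smul_set]; exact hbp
  have hs1 : s = 1 := by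
    apply Subtype.ext
    apply Equiv.Perm.ext
    intro x
    exact hfix x
  rw [hs1, orderOf_one] at hs
  exact hp'.one_lt.ne hs

end Cfsg.Agent.Lib.H22.S3571C3
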