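import Cfsg.Agent.Lib.H9.S3776Defs

/-!
# S3776 piece (4) LEMEM: the multiplicative LEMMA E from the additive one
-/

set_option autoImplicit false

namespace Cfsg.Agent.Lib.H22.S3776LemEM

open Cfsg.Agent.Lib.H9.S3776

universe u

theorem mul_comm_of_sq {V : Type u} [Group V] (h : ∀ v : V, v * v = 1) (a b : V) :
    a * b = b * a := by
  have inv_eq : ∀ a : V, a⁻¹ = a := fun a => inv_eq_of_mul_eq_one_right (h a)
  calc a * b = (a * b)⁻¹ := (inv_eq (a * b)).symm
    _ = b⁻¹ * a⁻¹ := mul_inv_rev a b
    _ = b * a := by rw [inv_eq, inv_eq]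

theorem lemem : LemEMStmt.{u} := by
  intro hE E V T _ _ iV _ iT _ aV aT b hsol hV2 hT2 aVmul aVcomp aVone aTmul aTcomp aTone htwo
    htrans hirr bl br beq bne t v ht hv
  let cV : CommGroup V := { iV with mul_comm := mul_comm_of_sq hV2 }
  let cT : CommGroup T := { iT with mul_comm := mul_comm_of_sq hT2 }
  have key := hE E (Additive V) (Additive T) aV aT b hsol hV2 hT2 aVmul aVcomp aVone aTmul aTcomp
    aTone htwo htrans ?_ bl br beq bne t v ht hv
  · exact key
  · intro S hS
    let S' : Subgroup T :=
      { carrier := {t | Additive.ofMul t ∈ S}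
        mul_mem' := fun {a b} ha hb => S.add_mem ha hb
        one_mem' := S.zero_mem
        inv_mem' := fun {a} ha => S.neg_mem ha }
    have hS' : ∀ e, ∀ t ∈ S', aT e t ∈ S' := fun e t ht => hS e t ht
    rcases hirr S' hS' with h | h
    · left
      ext x
      constructor
      · intro hx
        have h1 : Additive.toMul x ∈ S' := hx
        rw [h] at h1
        have h2 : Additive.toMul x = 1 := Subgroup.mem_bot.mp h1
        exact AddSubgroup.mem_bot.mpr h2
      · intro hx
        rw [AddSubgroup.mem_bot.mp hx]
        exact S.zero_mem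
    · right
      ext x
      constructor
      · intro _
        exact AddSubgroup.mem_top x
      · intro _
        have h1 : Additive.toMul x ∈ S' := by rw [h]; exact Subgroup.mem_top _
        exact h1

example : LemEMStmt.{0} := lemem

end Cfsg.Agent.Lib.H22.S3776LemEM
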