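import Mathlib

/-!
# S3776: the number-theoretic Claim NC (helper11's Lemma N)

For `n`, `k ∣ n`, `m * k = 2 ^ n - 1` and exponents `i j t < n`:
`1 + 2 ^ (i + t) ≡ 2 ^ j + 2 ^ t [MOD m]` (that is `(1 - 2 ^ j) ≡ 2 ^ t * (1 - 2 ^ i)`) forces `i = j`.
Small `n` by a kernel-evaluated Bool checker, `n ≥ 25` by the gap / size argument.
Mathlib only.
-/

namespace Cfsg.Agent.Lib.H22.S3776NC

/-- binary uniqueness, ordered form -/
theorem two_pow_add_aux {a b c d : ℕ} (hab : a ≤ b) (hcd : c ≤ d) (hac : a ≤ c)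
    (h : 2 ^ a + 2 ^ b = 2 ^ c + 2 ^ d) : a = c ∧ b = d := by
  obtain ⟨β, rfl⟩ := Nat.exists_eq_add_of_le hab
  obtain ⟨γ, rfl⟩ := Nat.exists_eq_add_of_le hac
  have had : a ≤ d := le_trans hac hcd
  obtain ⟨δ, rfl⟩ := Nat.exists_eq_add_of_le had
  have hγδ : γ ≤ δ := by omega
  have h2 : 1 + 2 ^ β = 2 ^ γ + 2 ^ δ := by
    have hpos : 0 < 2 ^ a := Nat.two_pow_pos _
    apply Nat.eq_of_mul_eq_mul_left hpos
    rw [mul_add, mul_add, mul_one, ← pow_add, ← pow_add, ← pow_add]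
    exact h
  rcases Nat.eq_zero_or_pos γ with hγ | hγ
  · subst hγ
    simp only [pow_zero] at h2
    have h3 : 2 ^ β = 2 ^ δ := by omega
    have := Nat.pow_right_injective (le_refl 2) h3
    omega
  · exfalso
    obtain ⟨γ', rfl⟩ := Nat.exists_eq_add_one_of_ne_zero (by omega : γ ≠ 0)
    obtain ⟨δ', rfl⟩ := Nat.exists_eq_add_one_of_ne_zero (by omega : δ ≠ 0)
    rw [pow_succ, pow_succ] at h2
    have p1 : 0 < 2 ^ γ' := Nat.two_pow_pos _
    have p2 : 0 < 2 ^ δ' := Nat.two_pow_pos _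
    rcases Nat.eq_zero_or_pos β with hβ | hβ
    · subst hβ
      simp only [pow_zero] at h2
      omega
    · obtain ⟨β', rfl⟩ := Nat.exists_eq_add_one_of_ne_zero (by omega : β ≠ 0)
      rw [pow_succ] at h2
      omega

/-- binary uniqueness: `2^a + 2^b = 2^c + 2^d` forces `{a,b} = {c,d}`. -/
theorem two_pow_add_eq {a b c d : ℕ} (h : 2 ^ a + 2 ^ b = 2 ^ c + 2 ^ d) :
    (a = c ∧ b = d) ∨ (a = d ∧ b = c) := by
  rcases le_total a b with hab | hab <;> rcases le_total c d with hcd | hcd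
  · rcases le_total a c with hac | hac
    · exact Or.inl (two_pow_add_aux hab hcd hac h)
    · have := two_pow_add_aux hcd hab hac h.symm; omega
  · have h' : 2 ^ a + 2 ^ b = 2 ^ d + 2 ^ c := by omega
    rcases le_total a d with had | had
    · have := two_pow_add_aux hab hcd had h'; omega
    · have := two_pow_add_aux hcd hab had h'.symm; omega
  · have h' : 2 ^ b + 2 ^ a = 2 ^ c + 2 ^ d := by omega
    rcases le_total b c with hbc | hbc
    · have := two_pow_add_aux hab hcd hbc h'; omega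
    · have := two_pow_add_aux hcd hab hbc h'.symm; omega
  · have h' : 2 ^ b + 2 ^ a = 2 ^ d + 2 ^ c := by omega
    rcases le_total b d with hbd | hbd
    · have := two_pow_add_aux hab hcd hbd h'; omega
    · have := two_pow_add_aux hcd hab hbd h'.symm; omega

theorem gap_point {w u x : ℕ} (hx : u ≠ x / w) :
    x + w < (u + 1) * w ∨ (u + 1) * w ≤ x := by
  by_contra hc
  push Not at hc
  apply hx
  symm
  apply Nat.div_eq_of_lt_le
  · have : (u + 1) * w = u * w + w := by ring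
    omega
  · exact hc.2

/-- among the five arcs of length `w` one is free of the four points -/
theorem exists_gap {n w : ℕ} (a b c d : ℕ) (hw : 5 * w ≤ n) :
    ∃ P, w ≤ P ∧ P ≤ n ∧ (a + w < P ∨ P ≤ a) ∧ (b + w < P ∨ P ≤ b) ∧
      (c + w < P ∨ P ≤ c) ∧ (d + w < P ∨ P ≤ d) := by
  have key : ∃ u ∈ Finset.range 5, u ∉ ({a / w, b / w, c / w, d / w} : Finset ℕ) := by
    apply Finset.exists_mem_notMem_of_card_lt_card
    calc _ ≤ 4 := Finset.card_le_four
      _ < _ := by simp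
  obtain ⟨u, hu, hnot⟩ := key
  simp only [Finset.mem_insert, Finset.mem_singleton, not_or] at hnot
  obtain ⟨na, nb, nc, nd⟩ := hnot
  have hu5 : u < 5 := Finset.mem_range.mp hu
  refine ⟨(u + 1) * w, ?_, ?_, gap_point na, gap_point nb, gap_point nc, gap_point nd⟩
  · calc w = 1 * w := (one_mul w).symm
      _ ≤ (u + 1) * w := Nat.mul_le_mul_right _ (by omega)
  · calc (u + 1) * w ≤ 5 * w := Nat.mul_le_mul_right _ (by omega)
      _ ≤ n := hw

/-- rotation of an exponent by `n - P` on the circle `ℤ/n` -/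
def rot (n P x : ℕ) : ℕ := if P ≤ x then x - P else x + n - P

theorem rot_lt {n w P x : ℕ} (hwP : w ≤ P) (hPn : P ≤ n) (hx : x < n)
    (hg : x + w < P ∨ P ≤ x) : rot n P x + 1 ≤ n - w := by
  unfold rot; split_ifs <;> omega

theorem rot_inj {n P x y : ℕ} (hPn : P ≤ n) (hx : x < n) (hy : y < n)
    (h : rot n P x = rot n P y) : x = y := by
  unfold rot at h; split_ifs at h <;> omega

theorem rot_modEq {n m P : ℕ} (x : ℕ) (hPn : P ≤ n) (hm : 2 ^ n ≡ 1 [MOD m]) :
    2 ^ x * 2 ^ (n - P) ≡ 2 ^ rot n P x [MOD m] := by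
  unfold rot
  split_ifs with h
  · have e : x + (n - P) = (x - P) + n := by omega
    rw [← pow_add, e, pow_add]
    calc 2 ^ (x - P) * 2 ^ n ≡ 2 ^ (x - P) * 1 [MOD m] := Nat.ModEq.mul_left _ hm
      _ = 2 ^ (x - P) := mul_one _
  · have e : x + (n - P) = x + n - P := by omega
    rw [← pow_add, e]

/-- four exponents on the circle with a free arc and a small enough modulus -/
theorem four_pow {n m w a b c d : ℕ} (hm : 2 ^ n ≡ 1 [MOD m]) (hw : 5 * w ≤ n)
    (hsz : 2 ^ (n - w) < m) (ha : a < n) (hb : b < n) (hc : c < n) (hd : d < n)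
    (h : 2 ^ a + 2 ^ b ≡ 2 ^ c + 2 ^ d [MOD m]) : (a = c ∧ b = d) ∨ (a = d ∧ b = c) := by
  obtain ⟨P, hwP, hPn, ga, gb, gc, gd⟩ := exists_gap a b c d hw
  have h1 : 2 ^ rot n P a + 2 ^ rot n P b ≡ 2 ^ rot n P c + 2 ^ rot n P d [MOD m] := by
    have := h.mul_right (2 ^ (n - P))
    rw [add_mul, add_mul] at this
    exact ((rot_modEq a hPn hm).add (rot_modEq b hPn hm)).symm.trans
      (this.trans ((rot_modEq c hPn hm).add (rot_modEq d hPn hm)))
  have bound : ∀ x y, x + 1 ≤ n - w → y + 1 ≤ n - w → 2 ^ x + 2 ^ y < m := by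
    intro x y hx hy
    have h1 : 2 ^ (x + 1) ≤ 2 ^ (n - w) := Nat.pow_le_pow_right (by norm_num) hx
    have h2 : 2 ^ (y + 1) ≤ 2 ^ (n - w) := Nat.pow_le_pow_right (by norm_num) hy
    rw [pow_succ] at h1 h2
    omega
  have h2 := Nat.ModEq.eq_of_lt_of_lt h1
    (bound _ _ (rot_lt hwP hPn ha ga) (rot_lt hwP hPn hb gb))
    (bound _ _ (rot_lt hwP hPn hc gc) (rot_lt hwP hPn hd gd))
  rcases two_pow_add_eq h2 with ⟨e1, e2⟩ | ⟨e1, e2⟩
  · exact Or.inl ⟨rot_inj hPn ha hc e1, rot_inj hPn hb hd e2⟩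
  · exact Or.inr ⟨rot_inj hPn ha hd e1, rot_inj hPn hb hc e2⟩

theorem five_mul_le_two_pow {q : ℕ} (hq : 5 ≤ q) : 5 * (q + 1) ≤ 2 ^ q := by
  induction q, hq using Nat.le_induction with
  | base => norm_num
  | succ q hq ih => rw [pow_succ]; omega

theorem size_bound {n k m : ℕ} (hn : 25 ≤ n) (hk : k ∣ n) (hm : m * k = 2 ^ n - 1) :
    2 ^ (n - n / 5) < m := by
  have hw5 : 5 ≤ n / 5 := by omega
  have hB : n + 1 ≤ 2 ^ (n / 5) := by
    have := five_mul_le_two_pow hw5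
    omega
  have hkn : k ≤ n := Nat.le_of_dvd (by omega) hk
  by_contra hcon
  push Not at hcon
  have hAB : 2 ^ (n - n / 5) * 2 ^ (n / 5) = 2 ^ n := by
    rw [← pow_add]; congr 1; omega
  have hA2 : 2 ≤ 2 ^ (n - n / 5) := by
    calc 2 = 2 ^ 1 := (pow_one 2).symm
      _ ≤ 2 ^ (n - n / 5) := Nat.pow_le_pow_right (by norm_num) (by omega)
  have h1 : m * k ≤ 2 ^ (n - n / 5) * n := Nat.mul_le_mul hcon hkn
  have h2 : 2 ^ (n - n / 5) * (n + 1) ≤ 2 ^ (n - n / 5) * 2 ^ (n / 5) :=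
    Nat.mul_le_mul_left _ hB
  rw [mul_add, mul_one, hAB] at h2
  omega

theorem pow_modEq_of_mod {n m : ℕ} (e : ℕ) (hm : 2 ^ n ≡ 1 [MOD m]) :
    2 ^ e ≡ 2 ^ (e % n) [MOD m] := by
  calc 2 ^ e = 2 ^ (e % n + n * (e / n)) := by rw [Nat.mod_add_div]
    _ = 2 ^ (e % n) * (2 ^ n) ^ (e / n) := by rw [pow_add, pow_mul]
    _ ≡ 2 ^ (e % n) * 1 ^ (e / n) [MOD m] := Nat.ModEq.mul_left _ (hm.pow _)
    _ = 2 ^ (e % n) := by rw [one_pow, mul_one]

/-! ### the Bool checker for `n < 25` -/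

def allLt : ℕ → (ℕ → Bool) → Bool
  | 0, _ => true
  | n + 1, f => f n && allLt n f

theorem allLt_spec {n : ℕ} {f : ℕ → Bool} (h : allLt n f = true) : ∀ i < n, f i = true := by
  induction n with
  | zero => intro i hi; omega
  | succ n ih =>
    intro i hi
    simp only [allLt, Bool.and_eq_true] at h
    rcases Nat.lt_succ_iff_lt_or_eq.mp hi with h1 | h1
    · exact ih h.2 i h1
    · rw [h1]; exact h.1

def chkTriple (n m : ℕ) : Bool :=
  allLt n fun i => allLt n fun j => allLt n fun t =>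
    decide ((2 ^ (i + t) + 1) % m = (2 ^ j + 2 ^ t) % m → i = j)

def chkN (n : ℕ) : Bool :=
  allLt (n + 1) fun k =>
    decide (n % k = 0 → (2 ^ n - 1) % k = 0 → chkTriple n ((2 ^ n - 1) / k) = true)

def chkAll : Bool := allLt 25 chkN

set_option maxRecDepth 100000 in
theorem chkAll_true : chkAll = true := by decide +kernel

theorem small_case {n k m i j t : ℕ} (hn : n < 25) (hk : k ∣ n) (hm : m * k = 2 ^ n - 1)
    (hi : i < n) (hj : j < n) (ht : t < n)
    (h : 2 ^ (i + t) + 1 ≡ 2 ^ j + 2 ^ t [MOD m]) : i = j := by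
  have hn0 : 0 < n := by omega
  have hk0 : 0 < k := Nat.pos_of_dvd_of_pos hk hn0
  have hkn : k < n + 1 := Nat.lt_succ_of_le (Nat.le_of_dvd hn0 hk)
  have h1 : chkN n = true := allLt_spec chkAll_true n hn
  have h2 := of_decide_eq_true (allLt_spec h1 k hkn)
  have h3 : chkTriple n m = true := by
    have e : (2 ^ n - 1) / k = m := Nat.div_eq_of_eq_mul_left hk0 hm.symm
    rw [← e]
    exact h2 (Nat.mod_eq_zero_of_dvd hk) (Nat.mod_eq_zero_of_dvd (Dvd.intro_left m hm))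
  exact of_decide_eq_true (allLt_spec (allLt_spec (allLt_spec h3 i hi) j hj) t ht) h

/-- **Claim NC / Lemma N.** -/
theorem nc {n k m i j t : ℕ} (hk : k ∣ n) (hm : m * k = 2 ^ n - 1) (hi : i < n) (hj : j < n)
    (ht : t < n) (h : 2 ^ (i + t) + 1 ≡ 2 ^ j + 2 ^ t [MOD m]) : i = j := by
  rcases Nat.lt_or_ge n 25 with hn | hn
  · exact small_case hn hk hm hi hj ht h
  · have hn0 : 0 < n := by omega
    have hpos : 1 ≤ 2 ^ n := Nat.one_le_two_pow
    have hmod : 2 ^ n ≡ 1 [MOD m] := by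
      have hd : m ∣ 2 ^ n - 1 := Dvd.intro k hm
      exact ((Nat.modEq_iff_dvd' hpos).mpr hd).symm
    have hsz := size_bound hn hk hm
    have hw : 5 * (n / 5) ≤ n := Nat.mul_div_le n 5
    have ha : (i + t) % n < n := Nat.mod_lt _ hn0
    have h' : 2 ^ ((i + t) % n) + 2 ^ 0 ≡ 2 ^ j + 2 ^ t [MOD m] := by
      rw [pow_zero]
      exact ((pow_modEq_of_mod (i + t) hmod).symm.add_right 1).trans h
    rcases four_pow hmod hw hsz ha hn0 hj ht h' with ⟨e1, e2⟩ | ⟨e1, e2⟩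
    · -- t = 0, (i+t) % n = j
      subst e2
      rw [add_zero, Nat.mod_eq_of_lt hi] at e1
      exact e1
    · -- j = 0, (i+t) % n = t
      subst e2
      rcases Nat.lt_or_ge (i + t) n with hlt | hge
      · rw [Nat.mod_eq_of_lt hlt] at e1; omega
      · have : (i + t) % n = i + t - n := by
          rw [Nat.mod_eq_sub_mod hge, Nat.mod_eq_of_lt (by omega)]
        omega

end Cfsg.Agent.Lib.H22.S3776NC
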