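import Cfsg.Agent.Lib.H9.S3776Defs

/-!
# S3776 piece (8) S1C (twin): step (1c)
-/

set_option autoImplicit false

namespace Cfsg.Agent.Lib.H22.S3776S1C

open Cfsg.Agent.Lib.H9.S3776

universe u

section generic

variable {G : Type u} [Group G]

/-- the standing elementwise hypotheses of step (1c) -/
structure Cl2 (V : Subgroup G) : Prop where
  mem : ∀ x : G, x ∈ V ↔ x ^ 2 = 1
  cen : ∀ v ∈ V, ∀ g : G, g * v = v * g
  com : ∀ x y : G, x * y * x⁻¹ * y⁻¹ ∈ V
  sqc : ∀ x : G, x ^ 2 ∈ V → x ∈ Subgroup.center G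

variable {V : Subgroup G}

theorem Cl2.sq_comm (h : Cl2 V) (x y : G) : x ^ 2 * y = y * x ^ 2 := by
  have hc : x * y * x⁻¹ * y⁻¹ ∈ V := h.com x y
  have hcc : (x * y * x⁻¹ * y⁻¹) * (x * y * x⁻¹ * y⁻¹) = 1 := by
    rw [← pow_two]; exact (h.mem _).mp hc
  rw [pow_two]
  calc x * x * y = x * (x * y * x⁻¹ * y⁻¹) * y * x := by group
    _ = (x * y * x⁻¹ * y⁻¹) * x * y * x := by rw [h.cen _ hc x]
    _ = (x * y * x⁻¹ * y⁻¹) * (x * y * x⁻¹ * y⁻¹) * (y * (x * x)) := by group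
    _ = y * (x * x) := by rw [hcc, one_mul]

theorem Cl2.sq_mem_center (h : Cl2 V) (x : G) : x ^ 2 ∈ Subgroup.center G :=
  Subgroup.mem_center_iff.mpr (fun y => (h.sq_comm x y).symm)

theorem Cl2.mem_center (h : Cl2 V) {v : G} (hv : v ∈ V) : v ∈ Subgroup.center G :=
  Subgroup.mem_center_iff.mpr (fun y => h.cen v hv y)

theorem Cl2.pow_four_mul (h : Cl2 V) (a b : G) : (a * b) ^ 4 = a ^ 4 * b ^ 4 := by
  have hc : b * a * b⁻¹ * a⁻¹ ∈ V := h.com b a
  have hcc : (b * a * b⁻¹ * a⁻¹) ^ 2 = 1 := (h.mem _).mp hc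
  have e1 : (a * b) ^ 2 = (b * a * b⁻¹ * a⁻¹) * (a ^ 2 * b ^ 2) := by
    rw [pow_two, pow_two, pow_two]
    calc (a * b) * (a * b) = a * (b * a * b⁻¹ * a⁻¹) * a * b * b := by group
      _ = (b * a * b⁻¹ * a⁻¹) * a * a * b * b := by rw [h.cen _ hc a]
      _ = (b * a * b⁻¹ * a⁻¹) * (a * a * (b * b)) := by group
  have hcomm1 : Commute (b * a * b⁻¹ * a⁻¹) (a ^ 2 * b ^ 2) := (h.cen _ hc _).symm
  have hcomm2 : Commute (a ^ 2) (b ^ 2) := h.sq_comm a (b ^ 2)
  calc (a * b) ^ 4 = ((a * b) ^ 2) ^ 2 := by rw [← pow_mul]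
    _ = ((b * a * b⁻¹ * a⁻¹) * (a ^ 2 * b ^ 2)) ^ 2 := by rw [e1]
    _ = (b * a * b⁻¹ * a⁻¹) ^ 2 * (a ^ 2 * b ^ 2) ^ 2 := hcomm1.mul_pow 2
    _ = (a ^ 2 * b ^ 2) ^ 2 := by rw [hcc, one_mul]
    _ = (a ^ 2) ^ 2 * (b ^ 2) ^ 2 := hcomm2.mul_pow 2
    _ = a ^ 4 * b ^ 4 := by rw [← pow_mul, ← pow_mul]

theorem Cl2.pow_four_comm (h : Cl2 V) (a b : G) : Commute (a ^ 4) (b ^ 4) := by
  have h2 : Commute (a ^ 2) (b ^ 2) := h.sq_comm a (b ^ 2)
  have := h2.pow_pow 2 2
  rwa [← pow_mul, ← pow_mul] at this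

/-- `x ↦ x ^ (2 ^ (s + 2))` as a homomorphism -/
def Cl2.iota (h : Cl2 V) (s : ℕ) : G →* G :=
  MonoidHom.mk' (fun x => (x ^ 4) ^ (2 ^ s)) (by
    intro a b
    show ((a * b) ^ 4) ^ (2 ^ s) = (a ^ 4) ^ (2 ^ s) * (b ^ 4) ^ (2 ^ s)
    rw [h.pow_four_mul, (h.pow_four_comm a b).mul_pow])

theorem Cl2.iota_apply (h : Cl2 V) (s : ℕ) (x : G) : h.iota s x = (x ^ 4) ^ (2 ^ s) := rfl

theorem Cl2.iota_of_mem (h : Cl2 V) (s : ℕ) {v : G} (hv : v ∈ V) : h.iota s v = 1 := by
  rw [h.iota_apply]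
  have : v ^ 4 = 1 := by
    have h2 : v ^ 2 = 1 := (h.mem v).mp hv
    calc v ^ 4 = (v ^ 2) ^ 2 := by rw [← pow_mul]
      _ = 1 := by rw [h2, one_pow]
  rw [this, one_pow]

/-- commutator map -/
def cc (x y : G) : G := x * y * x⁻¹ * y⁻¹

theorem Cl2.cc_mem (h : Cl2 V) (x y : G) : cc x y ∈ V := h.com x y

theorem Cl2.cc_mul_left (h : Cl2 V) (x y g : G) : cc (x * y) g = cc x g * cc y g := by
  have hc : cc y g ∈ V := h.cc_mem y g
  unfold cc at *
  calc x * y * g * (x * y)⁻¹ * g⁻¹ = x * (y * g * y⁻¹ * g⁻¹) * g * x⁻¹ * g⁻¹ := by group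
    _ = (y * g * y⁻¹ * g⁻¹) * x * g * x⁻¹ * g⁻¹ := by rw [h.cen _ hc x]
    _ = (y * g * y⁻¹ * g⁻¹) * (x * g * x⁻¹ * g⁻¹) := by group
    _ = (x * g * x⁻¹ * g⁻¹) * (y * g * y⁻¹ * g⁻¹) := (h.cen _ hc _).symm

theorem Cl2.cc_mul_right (h : Cl2 V) (x g g' : G) : cc x (g * g') = cc x g * cc x g' := by
  have hc : cc x g' ∈ V := h.cc_mem x g'
  unfold cc at *
  calc x * (g * g') * x⁻¹ * (g * g')⁻¹
      = (x * g * x⁻¹) * (x * g' * x⁻¹ * g'⁻¹) * g⁻¹ := by group
    _ = (x * g' * x⁻¹ * g'⁻¹) * (x * g * x⁻¹) * g⁻¹ := by rw [h.cen _ hc (x * g * x⁻¹)]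
    _ = (x * g' * x⁻¹ * g'⁻¹) * (x * g * x⁻¹ * g⁻¹) := by group
    _ = (x * g * x⁻¹ * g⁻¹) * (x * g' * x⁻¹ * g'⁻¹) := (h.cen _ hc _).symm

theorem cc_self (x : G) : cc x x = 1 := by unfold cc; group

theorem cc_of_mem_center_left {z : G} (hz : z ∈ Subgroup.center G) (g : G) : cc z g = 1 := by
  unfold cc
  have := Subgroup.mem_center_iff.mp hz g
  rw [← this]; group

theorem cc_of_mem_center_right {z : G} (hz : z ∈ Subgroup.center G) (g : G) : cc g z = 1 := by
  unfold cc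
  have := Subgroup.mem_center_iff.mp hz g
  rw [this]; group

/-- the counting step: the kernel of `iota` is central -/
theorem Cl2.ker_le_center [Finite G] (h : Cl2 V) (s : ℕ) (hV : ∀ x : G, h.iota s x ∈ V)
    (hsurj : ∀ v ∈ V, ∃ x, h.iota s x = v) : (h.iota s).ker ≤ Subgroup.center G := by
  have : V.Normal := ⟨fun v hv g => by rw [h.cen v hv g, mul_inv_cancel_right]; exact hv⟩
  have hAcomm : ∀ a b : G ⧸ V, a * b = b * a := by
    intro a b
    obtain ⟨x, rfl⟩ := QuotientGroup.mk_surjective a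
    obtain ⟨y, rfl⟩ := QuotientGroup.mk_surjective b
    rw [← QuotientGroup.mk_mul, ← QuotientGroup.mk_mul, QuotientGroup.eq]
    have := h.com y⁻¹ x⁻¹
    convert this using 1
    group
  let sqA : G ⧸ V →* G ⧸ V :=
    MonoidHom.mk' (fun a => a ^ 2) (fun a b => (show Commute a b from hAcomm a b).mul_pow 2)
  have sqA_apply : ∀ a, sqA a = a ^ 2 := fun a => rfl
  set M : Subgroup G := sqA.range.comap (QuotientGroup.mk' V) with hM
  set N : Subgroup G := (h.iota s).ker with hN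
  -- description of `M`
  have hMdesc : ∀ x ∈ M, ∃ y : G, ∃ v ∈ V, x = y ^ 2 * v := by
    intro x hx
    obtain ⟨a, ha⟩ := hx
    obtain ⟨y, rfl⟩ := QuotientGroup.mk_surjective a
    rw [sqA_apply, ← QuotientGroup.mk_pow] at ha
    have : (y ^ 2)⁻¹ * x ∈ V := QuotientGroup.eq.mp ha
    exact ⟨y, _, this, by group⟩
  have hMN : M ≤ N := by
    intro x hx
    obtain ⟨y, v, hv, rfl⟩ := hMdesc x hx
    rw [hN, MonoidHom.mem_ker, map_mul, map_pow, h.iota_of_mem s hv, mul_one]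
    exact (h.mem _).mp (hV y)
  have hMc : M ≤ Subgroup.center G := by
    intro x hx
    obtain ⟨y, v, hv, rfl⟩ := hMdesc x hx
    exact Subgroup.mul_mem _ (h.sq_mem_center y) (h.mem_center hv)
  -- index computations
  have i1 : M.index = sqA.range.index :=
    Subgroup.index_comap_of_surjective _ (QuotientGroup.mk'_surjective V)
  have i2 : sqA.range.index * Nat.card sqA.range = Nat.card (G ⧸ V) := Subgroup.index_mul_card _
  have i3 : sqA.ker.index = Nat.card sqA.range := Subgroup.index_ker sqA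
  have i4 : sqA.ker.index * Nat.card sqA.ker = Nat.card (G ⧸ V) := Subgroup.index_mul_card _
  have i5 : sqA.range.index = Nat.card sqA.ker := by
    have hpos : 0 < Nat.card sqA.range := Nat.card_pos
    rw [i3] at i4
    have : sqA.range.index * Nat.card sqA.range = Nat.card sqA.ker * Nat.card sqA.range := by
      rw [i2, mul_comm, i4]
    exact Nat.eq_of_mul_eq_mul_right hpos this
  -- `|A[2]| ≤ |V|`
  have i6 : Nat.card sqA.ker ≤ Nat.card V := by
    have hout : ∀ a : sqA.ker, (Quotient.out (a : G ⧸ V)) ^ 2 ∈ V := by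
      intro a
      have h1 : sqA (a : G ⧸ V) = 1 := a.2
      rw [sqA_apply] at h1
      have h2 : ((Quotient.out (a : G ⧸ V) : G) : G ⧸ V) = a := QuotientGroup.out_eq' _
      rw [← h2, ← QuotientGroup.mk_pow, QuotientGroup.eq_one_iff] at h1
      exact h1
    let f : sqA.ker → V := fun a => ⟨(Quotient.out (a : G ⧸ V)) ^ 2, hout a⟩
    apply Nat.card_le_card_of_injective f
    intro a b hab
    have h1 : (Quotient.out (a : G ⧸ V)) ^ 2 = (Quotient.out (b : G ⧸ V)) ^ 2 :=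
      congrArg Subtype.val hab
    have hza : Quotient.out (a : G ⧸ V) ∈ Subgroup.center G := h.sqc _ (hout a)
    have h3 : ((Quotient.out (a : G ⧸ V))⁻¹ * Quotient.out (b : G ⧸ V)) ^ 2 = 1 := by
      have hcm : Commute (Quotient.out (a : G ⧸ V))⁻¹ (Quotient.out (b : G ⧸ V)) :=
        (Subgroup.mem_center_iff.mp (Subgroup.inv_mem _ hza) _).symm
      rw [hcm.mul_pow, inv_pow, h1, inv_mul_cancel]
    have h4 : (Quotient.out (a : G ⧸ V))⁻¹ * Quotient.out (b : G ⧸ V) ∈ V := (h.mem _).mpr h3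
    have h5 : ((Quotient.out (a : G ⧸ V) : G) : G ⧸ V) = (Quotient.out (b : G ⧸ V) : G) :=
      QuotientGroup.eq.mpr h4
    rw [QuotientGroup.out_eq', QuotientGroup.out_eq'] at h5
    exact Subtype.ext h5
  -- `|G : N| = |V|`
  have i7 : N.index = Nat.card V := by
    rw [hN, Subgroup.index_ker]
    have : (h.iota s).range = V := by
      ext v
      constructor
      · rintro ⟨x, rfl⟩; exact hV x
      · intro hv; obtain ⟨x, hx⟩ := hsurj v hv; exact ⟨x, hx⟩
    rw [this]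
  have i8 : N.index ∣ M.index := Subgroup.index_dvd_of_le hMN
  have hMpos : M.index ≠ 0 := Subgroup.index_ne_zero_of_finite
  have i9 : N.index ≤ M.index := Nat.le_of_dvd (Nat.pos_of_ne_zero hMpos) i8
  have i10 : M.index = N.index := by
    apply le_antisymm _ i9
    rw [i1, i5, i7]; exact i6
  have i11 : M.relIndex N = 1 := by
    have := Subgroup.relIndex_mul_index hMN
    rw [i10] at this
    have hNpos : 0 < N.index := Nat.pos_of_ne_zero Subgroup.index_ne_zero_of_finite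
    exact Nat.eq_of_mul_eq_mul_right hNpos (by rw [this, one_mul])
  have hNM : N ≤ M := Subgroup.relIndex_eq_one.mp i11
  exact hNM.trans hMc

end generic


theorem s1c : S1CStmt.{u} := by
  intro G E _ _ _ _ φ V lemE hyp fr h1 h2 h3 a0 b0
  by_contra hab
  have h : Cl2 V := ⟨fr.mem, fr.cen, h3, h2⟩
  have hex : ∃ s, ∀ x : G, (x ^ 4) ^ (2 ^ s) ∈ V := by
    obtain ⟨n, hn⟩ := IsPGroup.iff_card.mp hyp.pG
    refine ⟨n, fun x => ?_⟩
    have : (x ^ 4) ^ (2 ^ n) = 1 := by rw [← hn]; exact pow_card_eq_one'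
    rw [this]; exact V.one_mem
  classical
  obtain ⟨s, hs, hmin⟩ : ∃ s, (∀ x : G, (x ^ 4) ^ (2 ^ s) ∈ V) ∧
      ∀ m < s, ¬ ∀ x : G, (x ^ 4) ^ (2 ^ m) ∈ V :=
    ⟨Nat.find hex, Nat.find_spec hex, fun m hm => Nat.find_min hex hm⟩
  have hne : ∃ g : G, (g ^ 4) ^ (2 ^ s) ≠ 1 := by
    by_contra hall
    push Not at hall
    rcases Nat.eq_zero_or_pos s with h0 | hpos
    · have hcen : ∀ g : G, g ∈ Subgroup.center G := by
        intro g
        apply h2
        rw [fr.mem]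
        have := hall g
        rw [h0, pow_zero, pow_one] at this
        rw [← pow_mul]; exact this
      exact hab (Subgroup.mem_center_iff.mp (hcen b0) a0)
    · apply hmin (s - 1) (by omega)
      intro x
      rw [fr.mem, ← pow_mul, ← pow_succ]
      have : s - 1 + 1 = s := by omega
      rw [this]; exact hall x
  set ι : G →* G := h.iota s with hι
  have hV : ∀ x : G, ι x ∈ V := hs
  have hequiv : ∀ (e : E) (x : G), ι (φ e x) = φ e (ι x) := by
    intro e x
    rw [hι, h.iota_apply, h.iota_apply, map_pow, map_pow]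
  have hsurj : ∀ v ∈ V, ∃ x, ι x = v := by
    have hWV : ι.range ≤ V := by rintro _ ⟨x, rfl⟩; exact hV x
    have hWinv : Inv φ ι.range := by
      rintro e _ ⟨x, rfl⟩
      exact ⟨φ e x, hequiv e x⟩
    rcases fr.irr _ hWV hWinv with hW | hW
    · exfalso
      obtain ⟨g, hg⟩ := hne
      have : ι g ∈ ι.range := ⟨g, rfl⟩
      rw [hW, Subgroup.mem_bot] at this
      exact hg this
    · intro v hv
      rw [← hW] at hv
      exact hv
  have hNZ : ι.ker ≤ Subgroup.center G := h.ker_le_center s hV hsurj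
  set N : Subgroup G := ι.ker with hNdef
  have hNinv : ∀ e : E, N ≤ N.comap (φ e).toMonoidHom := by
    intro e x hx
    rw [Subgroup.mem_comap]
    show ι (φ e x) = 1
    rw [hequiv, MonoidHom.mem_ker.mp hx, map_one]
  let aT : E → (G ⧸ N) → (G ⧸ N) :=
    fun e t => QuotientGroup.map N N (φ e).toMonoidHom (hNinv e) t
  have aT_mk : ∀ (e : E) (g : G), aT e (g : G ⧸ N) = ((φ e g : G) : G ⧸ N) := fun e g => rfl
  let aV : E → V → V := fun e v => ⟨φ e v, fr.inv e v v.2⟩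
  have hsec : ∀ v : V, ∃ x : G, ι x = v := fun v => hsurj v v.2
  let sec : V → G := fun v => Classical.choose (hsec v)
  have hsec' : ∀ v : V, ι (sec v) = v := fun v => Classical.choose_spec (hsec v)
  let b : (G ⧸ N) → V → V := fun t v => ⟨cc (sec v) (Quotient.out t), h.cc_mem _ _⟩
  have b_val : ∀ t v, ((b t v : V) : G) = cc (sec v) (Quotient.out t) := fun t v => rfl
  have L : ∀ x x' g g' : G, ι x = ι x' → ((g : G ⧸ N) = g') → cc x g = cc x' g' := by
    intro x x' g g' hx hg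
    have hn : x⁻¹ * x' ∈ Subgroup.center G :=
      hNZ (by rw [MonoidHom.mem_ker, map_mul, map_inv, hx, inv_mul_cancel])
    have hn' : g⁻¹ * g' ∈ Subgroup.center G := hNZ (QuotientGroup.eq.mp hg)
    have e : cc x' g' = cc (x * (x⁻¹ * x')) (g * (g⁻¹ * g')) := by
      rw [mul_inv_cancel_left, mul_inv_cancel_left]
    rw [e, h.cc_mul_left, cc_of_mem_center_left hn, mul_one, h.cc_mul_right,
      cc_of_mem_center_right hn', mul_one]
  have out_mk : ∀ t : G ⧸ N, ((Quotient.out t : G) : G ⧸ N) = t := fun t => QuotientGroup.out_eq' t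
  obtain ⟨g0, hg0⟩ := hne
  have key := lemE E V (G ⧸ N) aV aT b hyp.solv ?_ ?_ ?_ ?_ ?_ ?_ ?_ ?_ ?_ ?_ ?_ ?_ ?_ ?_ ?_
    ((g0 : G) : G ⧸ N) ⟨ι g0, hV g0⟩ ?_ ?_
  · apply key
    apply Subtype.ext
    rw [b_val]
    have : cc (sec ⟨ι g0, hV g0⟩) (Quotient.out ((g0 : G) : G ⧸ N)) = cc g0 g0 :=
      L _ _ _ _ (hsec' _) (out_mk _)
    rw [this, cc_self]; rfl
  · -- V exponent 2
    intro v
    apply Subtype.ext
    have := (fr.mem v).mp v.2
    rw [pow_two] at this
    exact this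
  · -- T exponent 2
    intro t
    obtain ⟨g, rfl⟩ := QuotientGroup.mk_surjective t
    rw [← QuotientGroup.mk_mul, QuotientGroup.eq_one_iff, hNdef, MonoidHom.mem_ker, map_mul,
      ← pow_two]
    exact (fr.mem _).mp (hV g)
  · intro e v w; apply Subtype.ext; exact map_mul _ _ _
  · intro e f v; apply Subtype.ext; show φ (e * f) v = φ e (φ f v); rw [map_mul]; rfl
  · intro v; apply Subtype.ext; show φ 1 v = v; rw [map_one]; rfl
  · intro e t t'; exact map_mul _ _ _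
  · intro e f t
    obtain ⟨g, rfl⟩ := QuotientGroup.mk_surjective t
    rw [aT_mk, aT_mk, aT_mk, map_mul]; rfl
  · intro t
    obtain ⟨g, rfl⟩ := QuotientGroup.mk_surjective t
    rw [aT_mk, map_one]; rfl
  · obtain ⟨x, y, hx, hy, hxy, hx1, hy1⟩ := fr.two
    exact ⟨⟨x, hx⟩, ⟨y, hy⟩, fun hh => hx1 (congrArg Subtype.val hh),
      fun hh => hy1 (congrArg Subtype.val hh), fun hh => hxy (congrArg Subtype.val hh)⟩
  · intro v w hv hw
    obtain ⟨e, he⟩ := fr.trans v w v.2 w.2 (fun hh => hv (Subtype.ext hh))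
      (fun hh => hw (Subtype.ext hh))
    exact ⟨e, Subtype.ext he⟩
  · -- irreducibility of T
    intro S hS
    have hWV : ((S.comap (QuotientGroup.mk' N)).map ι) ≤ V := by
      rintro _ ⟨x, _, rfl⟩; exact hV x
    have hWinv : Inv φ ((S.comap (QuotientGroup.mk' N)).map ι) := by
      rintro e _ ⟨x, hx, rfl⟩
      exact ⟨φ e x, hS e _ hx, hequiv e x⟩
    rcases fr.irr _ hWV hWinv with hW | hW
    · left
      rw [eq_bot_iff]
      intro t ht
      obtain ⟨g, rfl⟩ := QuotientGroup.mk_surjective t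
      have : ι g ∈ (S.comap (QuotientGroup.mk' N)).map ι := ⟨g, ht, rfl⟩
      rw [hW, Subgroup.mem_bot] at this
      rw [Subgroup.mem_bot, QuotientGroup.eq_one_iff]
      exact MonoidHom.mem_ker.mpr this
    · right
      rw [eq_top_iff]
      intro t _
      obtain ⟨g, rfl⟩ := QuotientGroup.mk_surjective t
      have : ι g ∈ (S.comap (QuotientGroup.mk' N)).map ι := by rw [hW]; exact hV g
      obtain ⟨x, hx, hxg⟩ := this
      have : ((x : G) : G ⧸ N) = g :=
        QuotientGroup.eq.mpr (by rw [hNdef, MonoidHom.mem_ker, map_mul, map_inv, hxg, inv_mul_cancel])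
      rw [← this]; exact hx
  · -- bl
    intro t t' v
    apply Subtype.ext
    show cc (sec v) (Quotient.out (t * t')) = cc (sec v) (Quotient.out t) * cc (sec v) (Quotient.out t')
    rw [← h.cc_mul_right]
    apply L _ _ _ _ rfl
    rw [out_mk, QuotientGroup.mk_mul, out_mk, out_mk]
  · -- br
    intro t v w
    apply Subtype.ext
    show cc (sec (v * w)) (Quotient.out t) = cc (sec v) (Quotient.out t) * cc (sec w) (Quotient.out t)
    rw [← h.cc_mul_left]
    apply L _ _ _ _ _ rfl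
    rw [map_mul, hsec', hsec', hsec']; rfl
  · -- beq
    intro e t v
    apply Subtype.ext
    show cc (sec (aV e v)) (Quotient.out (aT e t)) = φ e (cc (sec v) (Quotient.out t))
    have e1 : φ e (cc (sec v) (Quotient.out t)) = cc (φ e (sec v)) (φ e (Quotient.out t)) := by
      unfold cc; rw [map_mul, map_mul, map_mul, map_inv, map_inv]
    rw [e1]
    apply L
    · rw [hsec', hequiv, hsec']
    · rw [out_mk, ← aT_mk, out_mk]
  · -- bne
    refine ⟨((b0 : G) : G ⧸ N), ⟨ι a0, hV a0⟩, ?_⟩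
    intro hh
    have h1' : cc (sec ⟨ι a0, hV a0⟩) (Quotient.out ((b0 : G) : G ⧸ N)) = 1 := by
      have := congrArg Subtype.val hh
      exact this
    have h2' : cc (sec ⟨ι a0, hV a0⟩) (Quotient.out ((b0 : G) : G ⧸ N)) = cc a0 b0 :=
      L _ _ _ _ (hsec' _) (out_mk _)
    rw [h2'] at h1'
    apply hab
    unfold cc at h1'
    calc a0 * b0 = (a0 * b0 * a0⁻¹ * b0⁻¹) * (b0 * a0) := by group
      _ = b0 * a0 := by rw [h1', one_mul]
  · -- t ≠ 1
    intro hh
    rw [QuotientGroup.eq_one_iff, hNdef, MonoidHom.mem_ker] at hh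
    exact hg0 hh
  · -- v ≠ 1
    intro hh
    exact hg0 (congrArg Subtype.val hh)

example : S1CStmt.{0} := s1c

end Cfsg.Agent.Lib.H22.S3776S1C
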