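import Cfsg.Agent.Lib.H25.S3777P2Defs

/-! S3777, P2 sub-cut, piece (ALG): `K0 K1 = G` centralises `M0 / M0'` and `M / M0` is cyclic,
so `M' ≤ M0'`. -/

set_option autoImplicit false

namespace Cfsg.Agent.Lib.H22.S3777Alg

open Cfsg.Agent.Lib.H25.S3777P2
open scoped commutatorElement

universe u

theorem comm_mul' {G : Type*} [Group G] (a g h : G) :
    ⁅a, g * h⁆ = ⁅a, g⁆ * (g * ⁅a, h⁆ * g⁻¹) := by
  simp only [commutatorElement_def]; group

theorem comm_inv' {G : Type*} [Group G] (a g : G) :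
    ⁅a, g⁻¹⁆ = g⁻¹ * ⁅a, g⁆⁻¹ * g⁻¹⁻¹ := by
  simp only [commutatorElement_def]; group

/-- the elements `y` with `⁅x, y⁆ ∈ N`, for `N` normal: a subgroup -/
def commSub {G : Type*} [Group G] (N : Subgroup G) (hN : N.Normal) (x : G) : Subgroup G where
  carrier := {y | ⁅x, y⁆ ∈ N}
  one_mem' := by
    show ⁅x, (1 : G)⁆ ∈ N
    rw [commutatorElement_one_right]; exact N.one_mem
  mul_mem' := by
    intro g h hg hh
    show ⁅x, g * h⁆ ∈ N
    rw [comm_mul']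
    exact N.mul_mem hg (hN.conj_mem _ hh g)
  inv_mem' := by
    intro g hg
    show ⁅x, g⁻¹⁆ ∈ N
    rw [comm_inv']
    exact hN.conj_mem _ (N.inv_mem hg) g⁻¹

theorem mem_commSub {G : Type*} [Group G] (N : Subgroup G) (hN : N.Normal) (x y : G) :
    y ∈ commSub N hN x ↔ ⁅x, y⁆ ∈ N := Iff.rfl

theorem alg : AlgStmt.{u} := by
  intro G _ K0 K1 M0 M hM0 hK hM0K0 hM0K1 h0 h1 m hM
  have hNn : (⁅M0, M0⁆ : Subgroup G).Normal := Subgroup.commutator_normal M0 M0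
  -- every `a ∈ M0` commutes with everything modulo `N`
  have hall : ∀ a ∈ M0, ∀ g : G, ⁅a, g⁆ ∈ ⁅M0, M0⁆ := by
    intro a ha g
    have hK0 : K0 ≤ commSub ⁅M0, M0⁆ hNn a := fun k hk =>
      h0 (Subgroup.commutator_mem_commutator (hM0K0 ha) hk)
    have hK1 : K1 ≤ commSub ⁅M0, M0⁆ hNn a := fun k hk =>
      h1 (Subgroup.commutator_mem_commutator (hM0K1 ha) hk)
    have : (⊤ : Subgroup G) ≤ commSub ⁅M0, M0⁆ hNn a := hK ▸ sup_le hK0 hK1
    exact this (Subgroup.mem_top g)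
  -- symmetric form
  have hsymm : ∀ x y : G, ⁅x, y⁆ ∈ ⁅M0, M0⁆ → ⁅y, x⁆ ∈ ⁅M0, M0⁆ := by
    intro x y h
    rw [← commutatorElement_inv]
    exact Subgroup.inv_mem _ h
  -- `M ≤ commSub x` for `x ∈ M0` and for `x = m`
  have hM_le_of_M0 : ∀ a ∈ M0, M ≤ commSub ⁅M0, M0⁆ hNn a := by
    intro a ha
    rw [hM]
    refine sup_le (fun b _ => hall a ha b) ?_
    rw [Subgroup.zpowers_le]
    exact hall a ha m
  have hM_le_m : M ≤ commSub ⁅M0, M0⁆ hNn m := by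
    rw [hM]
    refine sup_le (fun b hb => hsymm b m (hall b hb m)) ?_
    rw [Subgroup.zpowers_le]
    show ⁅m, m⁆ ∈ ⁅M0, M0⁆
    rw [commutatorElement_self]; exact Subgroup.one_mem _
  rw [Subgroup.commutator_le]
  intro x hx y hy
  -- fix `y ∈ M`; `{x | ⁅y, x⁆ ∈ N}` contains `M0` and `m`
  have hMy : M ≤ commSub ⁅M0, M0⁆ hNn y := by
    conv_lhs => rw [hM]
    refine sup_le (fun b hb => hsymm b y (hM_le_of_M0 b hb hy)) ?_
    rw [Subgroup.zpowers_le]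
    exact hsymm m y (hM_le_m hy)
  exact hsymm y x (hMy hx)

end Cfsg.Agent.Lib.H22.S3777Alg
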