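import Cfsg.Agent.Lib.H5.S3777P1Defs

/-! S3777, P1 sub-cut, piece (S6): the elements outside `M` generate `G`, so if they all act
trivially on `A/A'` then so does `G`. -/

set_option autoImplicit false

namespace Cfsg.Agent.Lib.H22.S3777S6

open Cfsg.Agent.Lib.H5.S3777
open scoped commutatorElement

universe u

theorem comm_mul {G : Type*} [Group G] (a g h : G) :
    ⁅a, g * h⁆ = ⁅a, g⁆ * (g * ⁅a, h⁆ * g⁻¹) := by
  simp only [commutatorElement_def]; group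

theorem comm_inv {G : Type*} [Group G] (a g : G) :
    ⁅a, g⁻¹⁆ = g⁻¹ * ⁅a, g⁆⁻¹ * g⁻¹⁻¹ := by
  simp only [commutatorElement_def]; group

theorem s6 : S6Stmt.{u} := by
  intro p hp G _ _ M A hM hA hy
  have hNn : (⁅A, A⁆ : Subgroup G).Normal := Subgroup.commutator_normal A A
  rw [Subgroup.commutator_le]
  -- the predicate
  have hP_out : ∀ y : G, y ∉ M → ∀ a ∈ A, ⁅a, y⁆ ∈ ⁅A, A⁆ := by
    intro y hyM a ha
    exact hy y hyM (Subgroup.commutator_mem_commutator ha (Subgroup.mem_zpowers y))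
  have hP_mul : ∀ g h : G, (∀ a ∈ A, ⁅a, g⁆ ∈ ⁅A, A⁆) → (∀ a ∈ A, ⁅a, h⁆ ∈ ⁅A, A⁆) →
      ∀ a ∈ A, ⁅a, g * h⁆ ∈ ⁅A, A⁆ := by
    intro g h hg hh a ha
    rw [comm_mul]
    exact Subgroup.mul_mem _ (hg a ha) (hNn.conj_mem _ (hh a ha) g)
  have hP_inv : ∀ g : G, (∀ a ∈ A, ⁅a, g⁆ ∈ ⁅A, A⁆) → ∀ a ∈ A, ⁅a, g⁻¹⁆ ∈ ⁅A, A⁆ := by
    intro g hg a ha
    rw [comm_inv]
    exact hNn.conj_mem _ (Subgroup.inv_mem _ (hg a ha)) g⁻¹
  -- an element outside `M`
  have hMtop : M ≠ ⊤ := by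
    intro h
    rw [h, Subgroup.index_top] at hM
    exact hp.out.one_lt.ne hM
  obtain ⟨y, hyM⟩ : ∃ y : G, y ∉ M := by
    by_contra hcon
    push Not at hcon
    exact hMtop (eq_top_iff.mpr fun x _ => hcon x)
  intro a ha g _
  by_cases hg : g ∈ M
  · have hgy : g * y ∉ M := fun h => hyM (by
      have := M.mul_mem (M.inv_mem hg) h
      simpa using this)
    have h1 := hP_mul (g * y) y⁻¹ (hP_out (g * y) hgy) (hP_inv y (hP_out y hyM)) a ha
    simpa using h1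
  · exact hP_out g hg a ha

end Cfsg.Agent.Lib.H22.S3777S6
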