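import Mathlib

/-!
# S3797, main lemma, piece M4: the abstract END GAME (helper22)

`U` a finite additive group of exponent 2, `M ≤ U` with `|U| = |M|²`, a family `F x ⊆ M` of
additively closed sets, trivial for `x ∈ M`, such that a nonzero `m` lies in `F x` for `x` in at most
one coset of `M`, all nonzero `F x` of the same cardinality; two additive maps `θ₁ θ₂` with
`θ x ∈ F x`, both nonzero.  Then `θ₁ = θ₂`.
-/

set_option autoImplicit false
set_option linter.unusedVariables false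

namespace Cfsg.Agent.Lib.H22.S3797M4End

universe u

/-- the comparison step: if `φ x0 ≠ 0`, `ψ x0 ≠ 0` then `ker φ ≤ ker ψ` -/
theorem ker_le {U : Type u} [AddCommGroup U] (hU2 : ∀ x : U, x + x = 0) (M : AddSubgroup U)
    (F : U → Set U)
    (hFuniq : ∀ m : U, m ≠ 0 → ∀ x y : U, m ∈ F x → m ∈ F y → x + y ∈ M)
    (huniq : ∀ x : U, ∀ m ∈ F x, m ≠ 0 → ∀ m' ∈ F x, m' ≠ 0 → m = m')
    (φ ψ : U → U) (hφadd : ∀ x y, φ (x + y) = φ x + φ y) (hψadd : ∀ x y, ψ (x + y) = ψ x + ψ y)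
    (hφF : ∀ x, φ x ∈ F x) (hψF : ∀ x, ψ x ∈ F x) (hφM : ∀ x ∈ M, φ x = 0)
    (x0 : U) (hφ0 : φ x0 ≠ 0) (hψ0 : ψ x0 ≠ 0) : ∀ a : U, φ a = 0 → ψ a = 0 := by
  intro a ha
  have h1 : φ (x0 + a) = φ x0 := by rw [hφadd, ha, add_zero]
  have h1ne : φ (x0 + a) ≠ 0 := by rw [h1]; exact hφ0
  have h0 : φ x0 = ψ x0 := huniq x0 _ (hφF x0) hφ0 _ (hψF x0) hψ0
  by_cases h2 : ψ (x0 + a) = 0
  · exfalso
    rw [hψadd] at h2
    have h3 : ψ a = ψ x0 := by
      calc ψ a = (ψ x0 + ψ x0) + ψ a := by rw [hU2, zero_add]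
        _ = ψ x0 + (ψ x0 + ψ a) := by abel
        _ = ψ x0 := by rw [h2, add_zero]
    have hmem : ψ x0 ∈ F a := by rw [← h3]; exact hψF a
    have := hFuniq (ψ x0) hψ0 x0 a (hψF x0) hmem
    exact h1ne (hφM _ this)
  · have h3 : φ (x0 + a) = ψ (x0 + a) :=
      huniq (x0 + a) _ (hφF _) h1ne _ (hψF _) h2
    rw [h1, hψadd, ← h0] at h3
    -- φ x0 = φ x0 + ψ a
    have : φ x0 + 0 = φ x0 + ψ a := by rw [add_zero]; exact h3
    exact (add_left_cancel this).symm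

theorem m4end' {U : Type u} [AddCommGroup U] [Finite U] (hU2 : ∀ x : U, x + x = 0)
    (M : AddSubgroup U) (hcard : Nat.card U = Nat.card M ^ 2)
    (F : U → Set U) (hF0 : ∀ x, (0 : U) ∈ F x) (hFM : ∀ x, ∀ m ∈ F x, m ∈ M)
    (hFbot : ∀ x ∈ M, ∀ m ∈ F x, m = 0)
    (hFuniq : ∀ m : U, m ≠ 0 → ∀ x y : U, m ∈ F x → m ∈ F y → x + y ∈ M)
    (hFcard : ∀ x y : U, (∃ m ∈ F x, m ≠ 0) → (∃ m ∈ F y, m ≠ 0) →
      Nat.card (F x) = Nat.card (F y))
    (θ₁ θ₂ : U → U) (h1add : ∀ x y, θ₁ (x + y) = θ₁ x + θ₁ y)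
    (h2add : ∀ x y, θ₂ (x + y) = θ₂ x + θ₂ y)
    (h1F : ∀ x, θ₁ x ∈ F x) (h2F : ∀ x, θ₂ x ∈ F x)
    (h1ne : ∃ x, θ₁ x ≠ 0) (h2ne : ∃ x, θ₂ x ≠ 0) : ∀ x, θ₁ x = θ₂ x := by
  classical
  have hθ1M : ∀ x ∈ M, θ₁ x = 0 := fun x hx => hFbot x hx _ (h1F x)
  have hθ2M : ∀ x ∈ M, θ₂ x = 0 := fun x hx => hFbot x hx _ (h2F x)
  have hθ10 : θ₁ 0 = 0 := hθ1M 0 M.zero_mem
  have hneg : ∀ v : U, -v = v := fun v => neg_eq_of_add_eq_zero_left (hU2 v)
  -- the kernel of θ₁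
  let K : AddSubgroup U :=
    { carrier := {x | θ₁ x = 0}
      add_mem' := by
        intro a b ha hb
        show θ₁ (a + b) = 0
        rw [h1add, (ha : θ₁ a = 0), (hb : θ₁ b = 0), add_zero]
      zero_mem' := hθ10
      neg_mem' := by
        intro a ha
        show θ₁ (-a) = 0
        rw [hneg]; exact ha }
  have hKmem : ∀ x, x ∈ K ↔ θ₁ x = 0 := fun x => Iff.rfl
  have hKtop : K ≠ ⊤ := by
    intro h
    obtain ⟨x, hx⟩ := h1ne
    exact hx ((hKmem x).1 (h ▸ AddSubgroup.mem_top x))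
  -- 2 |K| ≤ |U|
  have hKidx : 2 * Nat.card K ≤ Nat.card U := by
    have h1 := K.card_mul_index
    have h2 : K.index ≠ 1 := fun h => hKtop (AddSubgroup.index_eq_one.mp h)
    have h3 : K.index ≠ 0 := AddSubgroup.index_ne_zero_of_finite
    have h4 : 2 ≤ K.index := by omega
    calc 2 * Nat.card K = Nat.card K * 2 := by ring
      _ ≤ Nat.card K * K.index := Nat.mul_le_mul_left _ h4
      _ = Nat.card U := h1
  -- |K| + |N| = |U|
  have hsplit : Nat.card K + Nat.card {x : U // ¬ x ∈ K} = Nat.card U := by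
    rw [← Nat.card_sum]
    exact Nat.card_congr (Equiv.sumCompl (fun x : U => x ∈ K))
  have hN : Nat.card U ≤ 2 * Nat.card {x : U // ¬ x ∈ K} := by omega
  have hMpos : 0 < Nat.card M := Nat.card_pos
  -- uniqueness of the nonzero element of F x
  have huniq : ∀ x : U, ∀ m ∈ F x, m ≠ 0 → ∀ m' ∈ F x, m' ≠ 0 → m = m' := by
    by_contra hcon
    push Not at hcon
    obtain ⟨x1, m1, hm1, hm10, m2, hm2, hm20, hne⟩ := hcon
    have h3 : 3 ≤ (F x1).ncard := by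
      have hsub : ({0, m1, m2} : Set U) ⊆ F x1 := by
        intro y hy
        rcases hy with rfl | rfl | rfl
        · exact hF0 x1
        · exact hm1
        · exact hm2
      have hc : ({0, m1, m2} : Set U).ncard = 3 := by
        rw [Set.ncard_insert_of_notMem, Set.ncard_pair hne]
        simp only [Set.mem_insert_iff, Set.mem_singleton_iff, not_or]
        exact ⟨hm10.symm, hm20.symm⟩
      rw [← hc]
      exact Set.ncard_le_ncard hsub (Set.toFinite _)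
    -- for x outside K there is a second nonzero element
    have hsecond : ∀ x : U, θ₁ x ≠ 0 → ∃ m ∈ F x, m ≠ 0 ∧ m ≠ θ₁ x := by
      intro x hx
      by_contra hno
      push Not at hno
      have hsub : F x ⊆ ({0, θ₁ x} : Set U) := by
        intro y hy
        by_cases hy0 : y = 0
        · left; exact hy0
        · right; exact hno y hy hy0
      have hle : (F x).ncard ≤ 2 := by
        calc (F x).ncard ≤ ({0, θ₁ x} : Set U).ncard := Set.ncard_le_ncard hsub (Set.toFinite _)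
          _ ≤ 2 := Set.ncard_insert_le _ _ |>.trans (by simp)
      have heq := hFcard x x1 ⟨θ₁ x, h1F x, hx⟩ ⟨m1, hm1, hm10⟩
      rw [Nat.card_coe_set_eq, Nat.card_coe_set_eq] at heq
      omega
    choose sec hsecF hsec0 hsecne using hsecond
    -- representatives
    have hrep : ∀ m : U, ∃ y : U, (∃ z, m ∈ F z) → m ∈ F y := by
      intro m
      by_cases h : ∃ z, m ∈ F z
      · obtain ⟨z, hz⟩ := h
        exact ⟨z, fun _ => hz⟩
      · exact ⟨0, fun h' => absurd h' h⟩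
    choose r hr using hrep
    -- the element attached to (x, b)
    let e : {x : U // ¬ x ∈ K} → Bool → U := fun x b =>
      if b then sec x.1 x.2 else θ₁ x.1
    have heF : ∀ x b, e x b ∈ F x.1 := by
      intro x b
      cases b
      · exact h1F x.1
      · exact hsecF x.1 x.2
    have he0 : ∀ x b, e x b ≠ 0 := by
      intro x b
      cases b
      · exact x.2
      · exact hsec0 x.1 x.2
    have heinj : ∀ x b b', e x b = e x b' → b = b' := by
      intro x b b' h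
      cases b <;> cases b'
      · rfl
      · exact absurd h.symm (hsecne x.1 x.2)
      · exact absurd h (hsecne x.1 x.2)
      · rfl
    let Ψ : {x : U // ¬ x ∈ K} × Bool → ↥((M : Set U) \ {0}) × ↥M := fun p =>
      (⟨e p.1 p.2, ⟨hFM _ _ (heF p.1 p.2), he0 p.1 p.2⟩⟩,
       ⟨p.1.1 + r (e p.1 p.2),
        hFuniq _ (he0 p.1 p.2) _ _ (heF p.1 p.2) (hr _ ⟨p.1.1, heF p.1 p.2⟩)⟩)
    have hΨ : Function.Injective Ψ := by
      rintro ⟨x, b⟩ ⟨x', b'⟩ h
      have h1 : e x b = e x' b' := congrArg (fun q => (q.1 : U)) h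
      have h2 : x.1 + r (e x b) = x'.1 + r (e x' b') := congrArg (fun q => (q.2 : U)) h
      rw [← h1] at h2
      have hx : x = x' := Subtype.ext (add_right_cancel h2)
      subst hx
      have hb : b = b' := heinj x b b' h1
      subst hb
      rfl
    have hcardle := Nat.card_le_card_of_injective Ψ hΨ
    rw [Nat.card_prod, Nat.card_prod, Nat.card_eq_fintype_card (α := Bool), Fintype.card_bool,
      Nat.card_coe_set_eq, Set.ncard_sdiff_singleton_of_mem (show (0 : U) ∈ (M : Set U) from M.zero_mem),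
      ← Nat.card_coe_set_eq] at hcardle
    have hMM : Nat.card (↥(M : Set U)) = Nat.card M := rfl
    rw [hMM] at hcardle
    -- arithmetic
    set k := Nat.card M with hk
    set n := Nat.card {x : U // ¬ x ∈ K} with hn
    have : (k - 1) * k < k ^ 2 := by
      obtain ⟨j, hj⟩ : ∃ j, k = j + 1 := ⟨k - 1, by omega⟩
      rw [hj]; simp; nlinarith
    rw [hcard] at hN
    omega
  -- end game
  obtain ⟨x0, hx01, hx02⟩ : ∃ x0, θ₁ x0 ≠ 0 ∧ θ₂ x0 ≠ 0 := by
    obtain ⟨x, hx⟩ := h1ne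
    obtain ⟨y, hy⟩ := h2ne
    by_cases hx2 : θ₂ x = 0
    · by_cases hy1 : θ₁ y = 0
      · refine ⟨x + y, ?_, ?_⟩
        · rw [h1add, hy1, add_zero]; exact hx
        · rw [h2add, hx2, zero_add]; exact hy
      · exact ⟨y, hy1, hy⟩
    · exact ⟨x, hx, hx2⟩
  have h12 := ker_le hU2 M F hFuniq huniq θ₁ θ₂ h1add h2add h1F h2F hθ1M x0 hx01 hx02
  have h21 := ker_le hU2 M F hFuniq huniq θ₂ θ₁ h2add h1add h2F h1F hθ2M x0 hx02 hx01
  intro x
  by_cases h1 : θ₁ x = 0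
  · rw [h1, h12 x h1]
  · have h2 : θ₂ x ≠ 0 := fun h => h1 (h21 x h)
    exact huniq x _ (h1F x) h1 _ (h2F x) h2

/-- the statement as announced on the board (#M4 second half); `hFadd` is not needed -/
theorem m4end {U : Type u} [AddCommGroup U] [Finite U] (hU2 : ∀ x : U, x + x = 0)
    (M : AddSubgroup U) (hcard : Nat.card U = Nat.card M ^ 2)
    (F : U → Set U) (hF0 : ∀ x, (0 : U) ∈ F x) (hFM : ∀ x, ∀ m ∈ F x, m ∈ M)
    (hFadd : ∀ x, ∀ m ∈ F x, ∀ m' ∈ F x, m + m' ∈ F x)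
    (hFbot : ∀ x ∈ M, ∀ m ∈ F x, m = 0)
    (hFuniq : ∀ m : U, m ≠ 0 → ∀ x y : U, m ∈ F x → m ∈ F y → x + y ∈ M)
    (hFcard : ∀ x y : U, (∃ m ∈ F x, m ≠ 0) → (∃ m ∈ F y, m ≠ 0) →
      Nat.card (F x) = Nat.card (F y))
    (θ₁ θ₂ : U → U) (h1add : ∀ x y, θ₁ (x + y) = θ₁ x + θ₁ y)
    (h2add : ∀ x y, θ₂ (x + y) = θ₂ x + θ₂ y)
    (h1F : ∀ x, θ₁ x ∈ F x) (h2F : ∀ x, θ₂ x ∈ F x)
    (h1ne : ∃ x, θ₁ x ≠ 0) (h2ne : ∃ x, θ₂ x ≠ 0) : ∀ x, θ₁ x = θ₂ x  :=
  m4end' hU2 M hcard F hF0 hFM hFbot hFuniq hFcard θ₁ θ₂ h1add h2add h1F h2F h1ne h2ne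

end Cfsg.Agent.Lib.H22.S3797M4End
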