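import Cfsg.Agent.Lib.H27.S3814C1Defs
import Cfsg.Agent.Lib.H19.HHD2
import Cfsg.Agent.Lib.H1.PGroupBasic

/-!
# S3814, Case 1, piece (21) LCYC (pure group theory)

A `t`-group `P`, `α` of prime order `t' ∣ t - 1` normalising and not centralising `P`: some cyclic
`α`-invariant `⟨g⟩ ≤ P` is not centralised.  Route (i) of the cut: minimal configuration `K`
(helper19's `MinConf`), `K = [K, α]`, eigenvector of `α` on `K / Φ(K)` (explicit projections), the
preimage of the eigenline is `K` by minimality, Frattini non-generation gives `K` cyclic.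
-/

set_option autoImplicit false
set_option linter.style.haveILetI false

namespace Cfsg.Agent.Lib.H22.S3814C1LCyc

open Finset
open scoped commutatorElement

universe u

/-- eigenvector for a linear map of prime order `t' ∣ t - 1` on a `ZMod t`-module -/
theorem exists_eigen_module {t t' : ℕ} [ht : Fact t.Prime] (ht' : t'.Prime) (hdvd : t' ∣ t - 1)
    {M : Type*} [AddCommGroup M] [Module (ZMod t) M] (f : M →ₗ[ZMod t] M)
    (hf : ∀ v, f^[t'] v = v) (v : M) (hv : f v ≠ v) :
    ∃ w : M, w ≠ 0 ∧ ∃ c : ZMod t, c ≠ 1 ∧ f w = c • w := by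
  -- a unit of order t'
  have hcard : Nat.card (ZMod t)ˣ = t - 1 := by
    rw [Nat.card_eq_fintype_card, ZMod.card_units_eq_totient, Nat.totient_prime ht.out]
  have : Fact t'.Prime := ⟨ht'⟩
  obtain ⟨ζ, hζ⟩ := exists_prime_orderOf_dvd_card' (G := (ZMod t)ˣ) t' (by rw [hcard]; exact hdvd)
  have hζt : ζ ^ t' = 1 := by rw [← hζ]; exact pow_orderOf_eq_one ζ
  have hζne : ∀ k, 0 < k → k < t' → (ζ : ZMod t) ^ k ≠ 1 := by
    intro k hk0 hkt h1
    have : ζ ^ k = 1 := by
      apply Units.ext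
      rw [Units.val_pow_eq_pow_val, h1, Units.val_one]
    have := orderOf_dvd_of_pow_eq_one this
    rw [hζ] at this
    exact absurd (Nat.le_of_dvd hk0 this) (not_le.mpr hkt)
  have hζt' : (ζ : ZMod t) ^ t' = 1 := by
    rw [← Units.val_pow_eq_pow_val, hζt, Units.val_one]
  -- the projections
  let e : ℕ → M := fun k => ∑ j ∈ range t', ((ζ : ZMod t) ^ k) ^ j • f^[j] v
  -- eigen property
  have heig : ∀ k, ((ζ : ZMod t) ^ k) • f (e k) = e k := by
    intro k
    set μ : ZMod t := (ζ : ZMod t) ^ k with hμ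
    have hμt : μ ^ t' = 1 := by rw [hμ, ← pow_mul, mul_comm, pow_mul, hζt', one_pow]
    show μ • f (∑ j ∈ range t', μ ^ j • f^[j] v) = ∑ j ∈ range t', μ ^ j • f^[j] v
    rw [map_sum, smul_sum]
    have h1 : ∀ j ∈ range t', μ • f (μ ^ j • f^[j] v) = μ ^ (j + 1) • f^[j + 1] v := by
      intro j _
      rw [map_smul, smul_smul, ← pow_succ', Function.iterate_succ_apply']
    rw [sum_congr rfl h1]
    have h2 := sum_range_succ' (fun j => μ ^ j • f^[j] v) t'
    have h3 := sum_range_succ (fun j => μ ^ j • f^[j] v) t'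
    simp only [pow_zero, Function.iterate_zero, id_eq, one_smul] at h2
    rw [hμt, hf v, one_smul] at h3
    rw [h3] at h2
    exact (add_right_cancel h2).symm
  -- sum of the projections
  have hsum : ∑ k ∈ range t', e k = (t' : ZMod t) • v := by
    show ∑ k ∈ range t', ∑ j ∈ range t', ((ζ : ZMod t) ^ k) ^ j • f^[j] v = _
    rw [sum_comm]
    have h1 : ∀ j ∈ range t', ∑ k ∈ range t', ((ζ : ZMod t) ^ k) ^ j • f^[j] v =
        (∑ k ∈ range t', ((ζ : ZMod t) ^ j) ^ k) • f^[j] v := by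
      intro j _
      rw [sum_smul]
      apply sum_congr rfl
      intro k _
      rw [← pow_mul, ← pow_mul, mul_comm]
    rw [sum_congr rfl h1]
    rw [sum_eq_single 0]
    · simp
    · intro j hj hj0
      have hjt : j < t' := mem_range.mp hj
      have hne := hζne j (Nat.pos_of_ne_zero hj0) hjt
      have hg := geom_sum_mul ((ζ : ZMod t) ^ j) t'
      have hpow : ((ζ : ZMod t) ^ j) ^ t' = 1 := by
        rw [← pow_mul, mul_comm, pow_mul, hζt', one_pow]
      rw [hpow, sub_self] at hg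
      have : (∑ k ∈ range t', ((ζ : ZMod t) ^ j) ^ k) = 0 := by
        rcases mul_eq_zero.mp hg with h | h
        · exact h
        · exact absurd (sub_eq_zero.mp h) hne
      rw [this, zero_smul]
    · intro h0
      exact absurd (mem_range.mpr ht'.pos) h0
  -- t' is invertible mod t
  have htt' : (t' : ZMod t) ≠ 0 := by
    intro h0
    have hd : t ∣ t' := (ZMod.natCast_eq_zero_iff t' t).mp h0
    have h1 : t' ≤ t - 1 := Nat.le_of_dvd (by have := ht.out.two_le; omega) hdvd
    have h2 : t ≤ t' := Nat.le_of_dvd ht'.pos hd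
    have := ht.out.two_le
    omega
  -- some projection with k ≠ 0 is nonzero
  by_contra hcon
  push Not at hcon
  have hzero : ∀ k, 0 < k → k < t' → e k = 0 := by
    intro k hk0 hkt
    by_contra hne
    have h1 := hcon (e k) hne (((ζ : ZMod t) ^ k)⁻¹) (by
      intro h
      apply hζne k hk0 hkt
      rw [inv_eq_one] at h
      exact h)
    apply h1
    have hu : ((ζ : ZMod t) ^ k) ≠ 0 := by
      rw [← Units.val_pow_eq_pow_val]; exact Units.ne_zero _
    have := heig k
    calc f (e k) = ((ζ : ZMod t) ^ k)⁻¹ • (((ζ : ZMod t) ^ k) • f (e k)) := by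
          rw [smul_smul, inv_mul_cancel₀ hu, one_smul]
      _ = ((ζ : ZMod t) ^ k)⁻¹ • e k := by rw [this]
  have he0 : e 0 = (t' : ZMod t) • v := by
    rw [← hsum]
    symm
    apply sum_eq_single 0
    · intro k hk hk0
      exact hzero k (Nat.pos_of_ne_zero hk0) (mem_range.mp hk)
    · intro h0
      exact absurd (mem_range.mpr ht'.pos) h0
  have h0 := heig 0
  rw [pow_zero, one_smul, he0, map_smul] at h0
  apply hv
  have : (t' : ZMod t) • (f v - v) = 0 := by rw [smul_sub, h0, sub_self]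
  rcases smul_eq_zero.mp this with h | h
  · exact absurd h htt'
  · exact sub_eq_zero.mp h


/-- eigen-element for an endomorphism of prime order `t' ∣ t - 1` of a commutative group of
exponent `t` -/
theorem exists_eigen_group {t t' : ℕ} [ht : Fact t.Prime] (ht' : t'.Prime) (hdvd : t' ∣ t - 1)
    {Q : Type*} [CommGroup Q] (hexp : ∀ q : Q, q ^ t = 1) (φ : Q →* Q)
    (hφ : ∀ q, φ^[t'] q = q) (q0 : Q) (h0 : φ q0 ≠ q0) :
    ∃ q : Q, ∃ m : ℕ, φ q = q ^ m ∧ q ^ m ≠ q := by
  have : NeZero t := ⟨ht.out.ne_zero⟩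
  letI : Module (ZMod t) (Additive Q) := AddCommGroup.zmodModule (fun x => hexp (Additive.toMul x))
  obtain ⟨w, hw, c, hc, hfw⟩ := exists_eigen_module ht' hdvd
    ((MonoidHom.toAdditive φ).toZModLinearMap t) (fun v => hφ v) (Additive.ofMul q0) (by
    intro h
    exact h0 (congrArg Additive.toMul h))
  have hcw : c • w = c.val • w := by
    conv_lhs => rw [← ZMod.natCast_zmod_val c]
    exact Nat.cast_smul_eq_nsmul (ZMod t) c.val w
  refine ⟨Additive.toMul w, c.val, ?_, ?_⟩
  · have h1 := hfw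
    rw [hcw] at h1
    exact congrArg Additive.toMul h1
  · intro h
    have h1 : c.val • w = w := congrArg Additive.ofMul h
    rw [← hcw] at h1
    have h2 : (c - 1) • w = 0 := by rw [sub_smul, one_smul, h1, sub_self]
    have hc1 : c - 1 ≠ 0 := sub_ne_zero.mpr hc
    apply hw
    calc w = ((c - 1)⁻¹ * (c - 1)) • w := by rw [inv_mul_cancel₀ hc1, one_smul]
      _ = (c - 1)⁻¹ • ((c - 1) • w) := by rw [mul_smul]
      _ = 0 := by rw [h2, smul_zero]

variable {G : Type u} [Group G]

theorem pow_conj_mem {L : Subgroup G} {α : G} (h : ∀ a ∈ L, α * a * α⁻¹ ∈ L) (n : ℕ) :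
    ∀ a ∈ L, α ^ n * a * (α ^ n)⁻¹ ∈ L := by
  induction n with
  | zero => intro a ha; simpa using ha
  | succ n ih =>
    intro a ha
    have h1 := h _ (ih a ha)
    have e : α ^ (n + 1) * a * (α ^ (n + 1))⁻¹ = α * (α ^ n * a * (α ^ n)⁻¹) * α⁻¹ := by
      rw [pow_succ']; group
    rw [e]; exact h1

theorem zpowers_le_normalizer [Finite G] {L : Subgroup G} {α : G}
    (h : ∀ a ∈ L, α * a * α⁻¹ ∈ L) : Subgroup.zpowers α ≤ Subgroup.normalizer (L : Set G) := by
  intro b hb
  have hfin : IsOfFinOrder α := isOfFinOrder_of_finite α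
  rw [← hfin.mem_powers_iff_mem_zpowers] at hb
  obtain ⟨n, rfl⟩ := (Submonoid.mem_powers_iff _ _).mp hb
  rw [Subgroup.mem_normalizer_iff]
  intro a
  constructor
  · exact pow_conj_mem h n a
  · intro ha
    have hinv : (α ^ n)⁻¹ ∈ Submonoid.powers α := by
      rw [hfin.mem_powers_iff_mem_zpowers]
      exact Subgroup.inv_mem _ (Subgroup.pow_mem _ (Subgroup.mem_zpowers α) n)
    obtain ⟨k, hk⟩ := (Submonoid.mem_powers_iff _ _).mp hinv
    have h1 := pow_conj_mem h k _ ha
    rw [hk] at h1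
    have e : (α ^ n)⁻¹ * (α ^ n * a * (α ^ n)⁻¹) * (α ^ n)⁻¹⁻¹ = a := by group
    rw [e] at h1
    exact h1

theorem lcyc : Cfsg.Agent.H27.S3814C1.LCycStmt.{u} := by
  intro G _ _ P t t' ht ht' hdvd hP α hα hnorm hex
  obtain ⟨a0, ha0P, ha0⟩ := hex
  have : Fact t.Prime := ⟨ht⟩
  have : Fact t'.Prime := ⟨ht'⟩
  have htt' : t ≠ t' := by
    intro h
    have h1 := Nat.le_of_dvd (by have := ht.two_le; omega) hdvd
    have := ht.two_le
    omega
  have hAP : Subgroup.zpowers α ≤ Subgroup.normalizer (P : Set G) := zpowers_le_normalizer hnorm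
  have hnc : ¬ P ≤ Subgroup.centralizer ((Subgroup.zpowers α : Subgroup G) : Set G) := by
    intro hle
    exact ha0 (Subgroup.mem_centralizer_iff.mp (hle ha0P) α (Subgroup.mem_zpowers α))
  obtain ⟨K, hKP, hmc⟩ := Cfsg.Agent.Lib.H19.HH.exists_minConf hAP hnc
  have hKt : IsPGroup t K := hP.to_le hKP
  have hAt' : IsPGroup t' (Subgroup.zpowers α) := by
    apply IsPGroup.of_card (n := 1)
    rw [pow_one, Nat.card_zpowers, hα]
  have hcop : (Nat.card K).Coprime t' := by
    obtain ⟨n, hn⟩ := IsPGroup.iff_card.mp hKt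
    rw [hn]
    exact Nat.Coprime.pow_left n ((Nat.coprime_primes ht ht').mpr htt')
  have hcomm : ⁅K, Subgroup.zpowers α⁆ = K :=
    hmc.commutator_eq hAt' le_rfl Subgroup.le_normalizer hcop
  have hKα : ∀ x ∈ K, α * x * α⁻¹ ∈ K := by
    intro x hx
    exact (Subgroup.mem_normalizer_iff.mp (hmc.hBK (Subgroup.mem_zpowers α)) x).mp hx
  have hαt' : α ^ t' = 1 := by rw [← hα]; exact pow_orderOf_eq_one α
  -- the automorphism of `K`
  let φ : ↥K →* ↥K :=
    { toFun := fun x => ⟨α * x * α⁻¹, hKα x x.2⟩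
      map_one' := by apply Subtype.ext; simp
      map_mul' := fun x y => by
        apply Subtype.ext
        show α * (x * y) * α⁻¹ = (α * x * α⁻¹) * (α * y * α⁻¹)
        group }
  have φ_val : ∀ x : ↥K, ((φ x : ↥K) : G) = α * x * α⁻¹ := fun x => rfl
  have hiter : ∀ (n : ℕ) (x : ↥K), ((φ^[n] x : ↥K) : G) = α ^ n * x * (α ^ n)⁻¹ := by
    intro n
    induction n with
    | zero => intro x; simp
    | succ n ih =>
      intro x
      rw [Function.iterate_succ_apply', φ_val, ih, pow_succ']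
      group
  have hφt' : ∀ x : ↥K, φ^[t'] x = x := by
    intro x
    apply Subtype.ext
    rw [hiter, hαt']
    simp
  have hφinj : Function.Injective φ := by
    intro x y hxy
    apply Subtype.ext
    have h1 : α * (x : G) * α⁻¹ = α * (y : G) * α⁻¹ := congrArg Subtype.val hxy
    exact mul_left_cancel (mul_right_cancel h1)
  let ψ : ↥K ≃* ↥K := MulEquiv.ofBijective φ (Finite.injective_iff_bijective.mp hφinj)
  have hΦle : frattini ↥K ≤ (frattini ↥K).comap φ := by
    intro x hx
    have h1 := (inferInstance : (frattini ↥K).Characteristic).fixed ψ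
    rw [← h1] at hx
    exact hx
  let φbar : (↥K ⧸ frattini ↥K) →* (↥K ⧸ frattini ↥K) :=
    QuotientGroup.map (frattini ↥K) (frattini ↥K) φ hΦle
  have φbar_mk : ∀ x : ↥K, φbar (x : ↥K ⧸ frattini ↥K) = ((φ x : ↥K) : ↥K ⧸ frattini ↥K) :=
    fun x => rfl
  have hbiter : ∀ (n : ℕ) (x : ↥K),
      φbar^[n] (x : ↥K ⧸ frattini ↥K) = ((φ^[n] x : ↥K) : ↥K ⧸ frattini ↥K) := by
    intro n
    induction n with
    | zero => intro x; rfl
    | succ n ih =>
      intro x
      rw [Function.iterate_succ_apply', Function.iterate_succ_apply', ih, φbar_mk]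
  have hQcomm : ∀ a b : ↥K ⧸ frattini ↥K, a * b = b * a := by
    intro a b
    obtain ⟨x, rfl⟩ := QuotientGroup.mk_surjective a
    obtain ⟨y, rfl⟩ := QuotientGroup.mk_surjective b
    rw [← QuotientGroup.mk_mul, ← QuotientGroup.mk_mul, QuotientGroup.eq]
    apply Cfsg.Agent.Lib.H1.isPGroup_commutator_le_frattini hKt
    have e : (x * y)⁻¹ * (y * x) = ⁅y⁻¹, x⁻¹⁆ := by
      rw [commutatorElement_def]; group
    rw [e, commutator_def]
    exact Subgroup.commutator_mem_commutator (Subgroup.mem_top _) (Subgroup.mem_top _)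
  letI : CommGroup (↥K ⧸ frattini ↥K) :=
    { (inferInstance : Group (↥K ⧸ frattini ↥K)) with mul_comm := hQcomm }
  have hQexp : ∀ q : ↥K ⧸ frattini ↥K, q ^ t = 1 := by
    intro q
    obtain ⟨x, rfl⟩ := QuotientGroup.mk_surjective q
    rw [← QuotientGroup.mk_pow, QuotientGroup.eq_one_iff]
    exact Cfsg.Agent.Lib.H1.isPGroup_pow_mem_frattini hKt x
  have hφbar : ∀ q, φbar^[t'] q = q := by
    intro q
    obtain ⟨x, rfl⟩ := QuotientGroup.mk_surjective q
    rw [hbiter, hφt']
  by_cases hid : ∀ q : ↥K ⧸ frattini ↥K, φbar q = q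
  · -- impossible: `K = [K, α] ≤ Φ(K)`
    exfalso
    have hF : ⁅K, Subgroup.zpowers α⁆ ≤ (frattini ↥K).map K.subtype := by
      rw [Subgroup.commutator_le]
      intro k hk a ha
      have hfin : IsOfFinOrder α := isOfFinOrder_of_finite α
      rw [← hfin.mem_powers_iff_mem_zpowers] at ha
      obtain ⟨n, rfl⟩ := (Submonoid.mem_powers_iff _ _).mp ha
      have hy : (⟨k, hk⟩ : ↥K) * φ^[n] (⟨k, hk⟩⁻¹) ∈ frattini ↥K := by
        rw [← QuotientGroup.eq_one_iff, QuotientGroup.mk_mul, ← hbiter,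
          Function.iterate_fixed (hid _), ← QuotientGroup.mk_mul, mul_inv_cancel]
        rfl
      refine ⟨_, hy, ?_⟩
      show (k : G) * ((φ^[n] (⟨k, hk⟩⁻¹) : ↥K) : G) = ⁅k, α ^ n⁆
      rw [hiter, commutatorElement_def]
      show k * (α ^ n * k⁻¹ * (α ^ n)⁻¹) = k * α ^ n * k⁻¹ * (α ^ n)⁻¹
      group
    rw [hcomm] at hF
    have htop : frattini ↥K = ⊤ := by
      rw [eq_top_iff]
      intro x _
      obtain ⟨y, hy, hyx⟩ := hF x.2
      have : y = x := Subtype.ext hyx
      rw [← this]; exact hy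
    have hbot : (⊥ : Subgroup ↥K) = ⊤ := frattini_nongenerating (by rw [htop, sup_top_eq])
    apply hmc.ne_bot
    rw [eq_bot_iff]
    intro x hx
    have : (⟨x, hx⟩ : ↥K) ∈ (⊥ : Subgroup ↥K) := by rw [hbot]; exact Subgroup.mem_top _
    exact congrArg Subtype.val (Subgroup.mem_bot.mp this)
  · push Not at hid
    obtain ⟨q0, hq0⟩ := hid
    obtain ⟨q, m, hqm, hqne⟩ := exists_eigen_group ht' hdvd hQexp φbar hφbar q0 hq0
    obtain ⟨x, rfl⟩ := QuotientGroup.mk_surjective q
    have hxm : (x ^ m)⁻¹ * φ x ∈ frattini ↥K := by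
      rw [φbar_mk, ← QuotientGroup.mk_pow] at hqm
      exact QuotientGroup.eq.mp hqm.symm
    have hφx : φ x ≠ x := by
      intro h
      apply hqne
      rw [← hqm, φbar_mk, h]
    -- the preimage of the eigenline
    have hLφ : Subgroup.zpowers x ⊔ frattini ↥K ≤ (Subgroup.zpowers x ⊔ frattini ↥K).comap φ := by
      apply sup_le
      · rw [Subgroup.zpowers_le]
        show φ x ∈ Subgroup.zpowers x ⊔ frattini ↥K
        have e : φ x = x ^ m * ((x ^ m)⁻¹ * φ x) := by group
        rw [e]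
        exact Subgroup.mul_mem_sup (Subgroup.pow_mem _ (Subgroup.mem_zpowers x) m) hxm
      · intro y hy
        exact (le_sup_right : frattini ↥K ≤ _) (hΦle hy)
    have hL'inv : ∀ y ∈ (Subgroup.zpowers x ⊔ frattini ↥K).map K.subtype,
        α * y * α⁻¹ ∈ (Subgroup.zpowers x ⊔ frattini ↥K).map K.subtype := by
      rintro _ ⟨z, hz, rfl⟩
      exact ⟨φ z, hLφ hz, rfl⟩
    have hL'K : (Subgroup.zpowers x ⊔ frattini ↥K).map K.subtype ≤ K := Subgroup.map_subtype_le _
    have hL'nc : ¬ (Subgroup.zpowers x ⊔ frattini ↥K).map K.subtype ≤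
        Subgroup.centralizer ((Subgroup.zpowers α : Subgroup G) : Set G) := by
      intro hle
      have hxL : (x : G) ∈ (Subgroup.zpowers x ⊔ frattini ↥K).map K.subtype :=
        ⟨x, (le_sup_left : Subgroup.zpowers x ≤ _) (Subgroup.mem_zpowers x), rfl⟩
      have h1 := Subgroup.mem_centralizer_iff.mp (hle hxL) α (Subgroup.mem_zpowers α)
      apply hφx
      apply Subtype.ext
      rw [φ_val, h1]
      group
    have hLK := hmc.hmin _ hL'K (zpowers_le_normalizer hL'inv) hL'nc
    have hLtop : Subgroup.zpowers x ⊔ frattini ↥K = ⊤ := by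
      apply Subgroup.map_injective K.subtype_injective
      rw [hLK, ← MonoidHom.range_eq_map, Subgroup.range_subtype]
    have hxtop : Subgroup.zpowers x = ⊤ := frattini_nongenerating hLtop
    refine ⟨(x : G), hKP x.2, ?_, ?_⟩
    · have h1 : φ x ∈ Subgroup.zpowers x := by rw [hxtop]; exact Subgroup.mem_top _
      obtain ⟨k, hk⟩ := Subgroup.mem_zpowers_iff.mp h1
      refine Subgroup.mem_zpowers_iff.mpr ⟨k, ?_⟩
      have := congrArg Subtype.val hk
      rw [φ_val] at this
      rw [← this]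
      simp
    · intro h
      apply hφx
      apply Subtype.ext
      rw [φ_val, h]
      group

example : Cfsg.Agent.H27.S3814C1.LCycStmt.{0} := lcyc

end Cfsg.Agent.Lib.H22.S3814C1LCyc
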