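import Cfsg.Agent.Lib.H8.S3814MPDefs
import Cfsg.Agent.Lib.H7.DihedralLemma2
import Cfsg.Agent.Lib.H1.Fitting
import Cfsg.Agent.Lib.H22.UniqueOrderP

/-!
# S3814, block (MP), piece (13) FIT: the labelled Fitting data
-/

set_option autoImplicit false

namespace Cfsg.Agent.Lib.H22.S3814MPFit

open Cfsg.Agent.H7.S3814Defs Cfsg.Agent.Lib.H8.S3814MP

universe u

/-- elementwise uniqueness of the subgroup of order `p` gives `AtMostOneOrderP` -/
theorem atMostOne_of {p : ℕ} [Fact p.Prime] {A : Type*} [Group A] [Finite A]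
    (hz : ∀ x y : A, orderOf x = p → orderOf y = p → y ∈ Subgroup.zpowers x) :
    Cfsg.Agent.Lib.H22.AtMostOneOrderP p A := by
  intro H K hH hK
  have gen : ∀ L : Subgroup A, Nat.card L = p →
      ∃ x : A, orderOf x = p ∧ Subgroup.zpowers x = L := by
    intro L hL
    have : Fact (Nat.card L).Prime := by rw [hL]; infer_instance
    have : IsCyclic L := isCyclic_of_prime_card rfl
    obtain ⟨g, hg⟩ := IsCyclic.exists_generator (α := L)
    refine ⟨(g : A), ?_, ?_⟩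
    · rw [Subgroup.orderOf_coe, orderOf_eq_card_of_forall_mem_zpowers hg, hL]
    · apply le_antisymm
      · exact Subgroup.zpowers_le.mpr g.2
      · intro l hl
        obtain ⟨k, hk⟩ := Subgroup.mem_zpowers_iff.mp (hg ⟨l, hl⟩)
        refine Subgroup.mem_zpowers_iff.mpr ⟨k, ?_⟩
        have := congrArg Subtype.val hk
        simpa using this
  obtain ⟨x, hx, rfl⟩ := gen H hH
  obtain ⟨y, hy, rfl⟩ := gen K hK
  have hle : Subgroup.zpowers y ≤ Subgroup.zpowers x := Subgroup.zpowers_le.mpr (hz x y hx hy)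
  exact (Subgroup.eq_of_le_of_card_ge hle (by rw [hH, hK])).symm

variable {G : Type u} [Group G]

/-- `O_r(X)` is cyclic for odd `r` -/
theorem cyc_of [Finite G] (uq : UniqProp.{u}) {r s : ℕ} {V W X : Subgroup G}
    (h : Hyp r s V W X) (hr2 : r ≠ 2) : IsCyclic ↥(Cfsg.pCore r ↥X) := by
  have : Fact r.Prime := ⟨h.hr⟩
  have hOp : IsPGroup r ↥(Cfsg.pCore r ↥X) := Cfsg.Agent.Lib.H1.pCore_isPGroup r ↥X
  have hOn : (Cfsg.pCore r ↥X).Normal := Cfsg.Agent.Lib.H1.pCore_normal r ↥X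
  have hDX : (Cfsg.pCore r ↥X).map X.subtype ≤ X := Subgroup.map_subtype_le _
  have hDinv : ∀ x ∈ X, ∀ d ∈ (Cfsg.pCore r ↥X).map X.subtype,
      x * d * x⁻¹ ∈ (Cfsg.pCore r ↥X).map X.subtype := by
    rintro x hx _ ⟨d, hd, rfl⟩
    exact ⟨⟨x, hx⟩ * d * ⟨x, hx⟩⁻¹, hOn.conj_mem d hd ⟨x, hx⟩, rfl⟩
  have hDp : IsPGroup r ↥((Cfsg.pCore r ↥X).map X.subtype) := hOp.map X.subtype
  have key := uq h _ hDX hDinv hDp
  have huniq : Cfsg.Agent.Lib.H22.AtMostOneOrderP r ↥(Cfsg.pCore r ↥X) := by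
    apply atMostOne_of
    intro x y hx hy
    have hxm : ((x : ↥X) : G) ∈ (Cfsg.pCore r ↥X).map X.subtype := ⟨x, x.2, rfl⟩
    have hym : ((y : ↥X) : G) ∈ (Cfsg.pCore r ↥X).map X.subtype := ⟨y, y.2, rfl⟩
    have hxo : orderOf ((x : ↥X) : G) = r := by
      rw [Subgroup.orderOf_coe, Subgroup.orderOf_coe, hx]
    have hyo : orderOf ((y : ↥X) : G) = r := by
      rw [Subgroup.orderOf_coe, Subgroup.orderOf_coe, hy]
    obtain ⟨k, hk⟩ := Subgroup.mem_zpowers_iff.mp ((key _ hxm hxo).1 _ hym hyo)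
    refine Subgroup.mem_zpowers_iff.mpr ⟨k, ?_⟩
    apply Subtype.ext
    apply Subtype.ext
    simpa using hk
  exact Cfsg.Agent.Lib.H22.isCyclic_of_atMostOne_of_odd hr2 _
    ↥(Cfsg.pCore r ↥X) rfl hOp huniq

/-- `F(X) ≤ O_r(X) O_s(X)` for an `{r,s}`-group -/
theorem fitting_le [Finite G] {r s : ℕ} {V W X : Subgroup G} (h : Hyp r s V W X) :
    Cfsg.fittingSubgroup ↥X ≤ Cfsg.pCore r ↥X ⊔ Cfsg.pCore s ↥X := by
  rw [Cfsg.Agent.Lib.H1.fittingSubgroup_eq_iSup_pCore]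
  apply iSup_le
  intro p
  have : Fact (p : ℕ).Prime := ⟨p.2⟩
  by_cases hpr : (p : ℕ) = r
  · rw [hpr]; exact le_sup_left
  by_cases hps : (p : ℕ) = s
  · rw [hps]; exact le_sup_right
  have hnd : ¬ (p : ℕ) ∣ Nat.card ↥X := by
    obtain ⟨i, j, hij⟩ := h.cardX
    rw [hij]
    intro hd
    rcases (Nat.Prime.dvd_mul p.2).mp hd with h1 | h1
    · exact hpr ((Nat.prime_dvd_prime_iff_eq p.2 h.hr).mp (p.2.dvd_of_dvd_pow h1))
    · exact hps ((Nat.prime_dvd_prime_iff_eq p.2 h.hs).mp (p.2.dvd_of_dvd_pow h1))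
  rw [Cfsg.Agent.Lib.H1.pCore_eq_bot_of_not_dvd hnd]
  exact bot_le

theorem good_of [Finite G] {r s : ℕ} {V W X : Subgroup G} (h : Hyp r s V W X)
    (hne : Cfsg.pCore r ↥X ≠ ⊥) (hcyc : IsCyclic ↥(Cfsg.pCore s ↥X)) :
    Good r s X ((Cfsg.pCore r ↥X).map X.subtype) ((Cfsg.pCore s ↥X).map X.subtype) := by
  have : Fact r.Prime := ⟨h.hr⟩
  have : Fact s.Prime := ⟨h.hs⟩
  have := h.solv
  have hRn := Cfsg.Agent.Lib.H1.pCore_normal r ↥X
  have hSn := Cfsg.Agent.Lib.H1.pCore_normal s ↥X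
  refine ⟨Subgroup.map_subtype_le _, Subgroup.map_subtype_le _, ?_, ?_, ?_, ?_, ?_, ?_, ?_⟩
  · rintro x hx _ ⟨d, hd, rfl⟩
    exact ⟨⟨x, hx⟩ * d * ⟨x, hx⟩⁻¹, hRn.conj_mem d hd ⟨x, hx⟩, rfl⟩
  · rintro x hx _ ⟨d, hd, rfl⟩
    exact ⟨⟨x, hx⟩ * d * ⟨x, hx⟩⁻¹, hSn.conj_mem d hd ⟨x, hx⟩, rfl⟩
  · exact (Cfsg.Agent.Lib.H1.pCore_isPGroup r ↥X).map X.subtype
  · exact (Cfsg.Agent.Lib.H1.pCore_isPGroup s ↥X).map X.subtype
  · intro hbot
    apply hne
    exact (Subgroup.map_eq_bot_iff_of_injective _ X.subtype_injective).mp hbot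
  · exact isCyclic_of_surjective
      ((Cfsg.pCore s ↥X).equivMapOfInjective X.subtype X.subtype_injective)
      (MulEquiv.surjective _)
  · intro x hx hcR hcS
    have hle : Cfsg.pCore r ↥X ⊔ Cfsg.pCore s ↥X ≤
        Subgroup.centralizer ({(⟨x, hx⟩ : ↥X)} : Set ↥X) := by
      apply sup_le
      · intro y hy
        rw [Subgroup.mem_centralizer_iff]
        intro z hz
        rw [Set.mem_singleton_iff] at hz
        rw [hz]
        apply Subtype.ext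
        exact hcR (y : G) ⟨y, hy, rfl⟩
      · intro y hy
        rw [Subgroup.mem_centralizer_iff]
        intro z hz
        rw [Set.mem_singleton_iff] at hz
        rw [hz]
        apply Subtype.ext
        exact hcS (y : G) ⟨y, hy, rfl⟩
    have hcent : (⟨x, hx⟩ : ↥X) ∈ Subgroup.centralizer (Cfsg.fittingSubgroup ↥X : Set ↥X) := by
      rw [Subgroup.mem_centralizer_iff]
      intro f hf
      have := hle (fitting_le h hf)
      rw [Subgroup.mem_centralizer_iff] at this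
      exact (this _ rfl).symm
    have hxF := fitting_le h
      (Cfsg.Agent.Lib.H7.centralizer_fittingSubgroup_le_of_isSolvable ↥X hcent)
    rw [← Subgroup.map_sup]
    exact ⟨⟨x, hx⟩, hxF, rfl⟩

theorem fit : FitStmt.{u} := by
  intro uq G _ _ r s V W X h
  have : Fact r.Prime := ⟨h.hr⟩
  have : Fact s.Prime := ⟨h.hs⟩
  have := h.solv
  have hFne : Cfsg.fittingSubgroup ↥X ≠ ⊥ := by
    intro hbot
    have hc := Cfsg.Agent.Lib.H7.centralizer_fittingSubgroup_le_of_isSolvable ↥X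
    rw [hbot] at hc
    obtain ⟨a, ha, b, hb, hab⟩ := h.rk_r
    have hmem : (⟨a, ha⟩ : ↥X) ∈ (⊥ : Subgroup ↥X) := hc (by
      rw [Subgroup.mem_centralizer_iff]
      intro z hz
      rw [Subgroup.coe_bot, Set.mem_singleton_iff] at hz
      rw [hz, one_mul, mul_one])
    have ha1 : a = 1 := congrArg Subtype.val (Subgroup.mem_bot.mp hmem)
    have ho := hab.1
    rw [ha1, orderOf_one] at ho
    exact h.hr.ne_one ho.symm
  have hsup : Cfsg.pCore r ↥X ≠ ⊥ ∨ Cfsg.pCore s ↥X ≠ ⊥ := by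
    by_contra hcon
    push Not at hcon
    apply hFne
    have := fitting_le h
    rw [hcon.1, hcon.2, sup_bot_eq] at this
    exact le_bot_iff.mp this
  have cr : r ≠ 2 → IsCyclic ↥(Cfsg.pCore r ↥X) := fun h2 => cyc_of uq h h2
  have cs : s ≠ 2 → IsCyclic ↥(Cfsg.pCore s ↥X) := fun h2 => cyc_of uq h.swapRS h2
  have cbot : ∀ t : ℕ, Cfsg.pCore t ↥X = ⊥ → IsCyclic ↥(Cfsg.pCore t ↥X) := by
    intro t ht
    rw [ht]
    infer_instance
  by_cases h1 : Cfsg.pCore r ↥X ≠ ⊥ ∧ IsCyclic ↥(Cfsg.pCore s ↥X)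
  · exact Or.inl ⟨_, _, good_of h h1.1 h1.2⟩
  by_cases h2 : Cfsg.pCore s ↥X ≠ ⊥ ∧ IsCyclic ↥(Cfsg.pCore r ↥X)
  · exact Or.inr ⟨_, _, good_of h.swapRS h2.1 h2.2⟩
  exfalso
  by_cases hR : Cfsg.pCore r ↥X = ⊥
  · have hS : Cfsg.pCore s ↥X ≠ ⊥ := by
      rcases hsup with h' | h'
      · exact absurd hR h'
      · exact h'
    exact h2 ⟨hS, cbot r hR⟩
  · have ncs : ¬ IsCyclic ↥(Cfsg.pCore s ↥X) := fun c => h1 ⟨hR, c⟩
    have hs2 : s = 2 := by
      by_contra hne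
      exact ncs (cs hne)
    have hS : Cfsg.pCore s ↥X ≠ ⊥ := fun hb => ncs (cbot s hb)
    have ncr : ¬ IsCyclic ↥(Cfsg.pCore r ↥X) := fun c => h2 ⟨hS, c⟩
    have hr2 : r = 2 := by
      by_contra hne
      exact ncr (cr hne)
    exact h.hrs (hr2.trans hs2.symm)

example : FitStmt.{0} := fit

end Cfsg.Agent.Lib.H22.S3814MPFit
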