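import Cfsg.Agent.Lib.H22.S3901Defs
import Cfsg.Agent.Lib.H23.BurnsidePQ

/-!
# S3901: the final assembly (helper22)

`PropAStmt` + `StepBStmt` + the landed Burnside two-prime theorem give the row.
-/

set_option autoImplicit false

namespace Cfsg.Agent.Lib.H22.S3901Main

open Cfsg.Agent.Lib.H22.S3901Defs

universe u

/-- a positive integer all of whose prime divisors are `p` or `q` is `p ^ a * q ^ b` -/
theorem eq_pow_mul_pow_of_primes (p q : ℕ) :
    ∀ n : ℕ, n ≠ 0 → (∀ r : ℕ, r.Prime → r ∣ n → r = p ∨ r = q) → ∃ a b : ℕ, n = p ^ a * q ^ b := by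
  intro n
  induction n using Nat.strong_induction_on with
  | _ n ih =>
    intro hn h
    by_cases h1 : n = 1
    · exact ⟨0, 0, by simp [h1]⟩
    · have hr : (Nat.minFac n).Prime := Nat.minFac_prime h1
      have hdvd : Nat.minFac n ∣ n := Nat.minFac_dvd n
      obtain ⟨m, hm⟩ := hdvd
      have hm0 : m ≠ 0 := by
        rintro rfl
        simp at hm
        exact hn hm
      have hlt : m < n := by
        have h2 : 2 ≤ Nat.minFac n := hr.two_le
        have hmpos : 0 < m := Nat.pos_of_ne_zero hm0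
        nlinarith
      obtain ⟨a, b, hab⟩ := ih m hlt hm0 (fun r hrp hrd => h r hrp (hm ▸ Dvd.dvd.mul_left hrd _))
      rcases h _ hr (Nat.minFac_dvd n) with h3 | h3
      · refine ⟨a + 1, b, ?_⟩
        rw [hm, h3, hab]; ring
      · refine ⟨a, b + 1, ?_⟩
        rw [hm, h3, hab]; ring

/-- **The assembly.** -/
theorem main (hA : PropAStmt.{u}) (hB : StepBStmt.{u}) {G : Type u} [Group G] [Finite G]
    (N : Subgroup G) [N.Normal] (hns : ¬ Group.IsSolvable ↥N)
    (h : ∀ x : G, x ∉ N → IsPrimePow (orderOf x)) : Group.IsSolvable (G ⧸ N) := by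
  classical
  by_contra hsol
  -- `|G / N|` is not a prime power
  have hnpp : ¬ ∃ p k : ℕ, p.Prime ∧ Nat.card (G ⧸ N) = p ^ k := by
    rintro ⟨p, k, hp, hk⟩
    have hpf : Fact p.Prime := Fact.mk hp
    have h1 : IsPGroup p (G ⧸ N) := IsPGroup.of_card hk
    have h2 : Group.IsNilpotent (G ⧸ N) := h1.isNilpotent
    exact hsol inferInstance
  obtain ⟨p, q, hp, hq, hpq, H, hH, hH1, y, hyN, hyq⟩ := hB (G ⧸ N) hnpp
  set π : G →* G ⧸ N := QuotientGroup.mk' N with hπ
  have hπs : Function.Surjective π := QuotientGroup.mk'_surjective N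
  -- the normaliser of `H`, its preimage `G0`, and the map `ψ : G0 → N_X(H) / H`
  set NH : Subgroup (G ⧸ N) := Subgroup.normalizer (H : Set (G ⧸ N)) with hNH
  have hHNH : H ≤ NH := Subgroup.le_normalizer
  set G0 : Subgroup G := NH.comap π with hG0
  set ρ : ↥G0 →* ↥NH := π.subgroupComap NH with hρ
  have hρs : Function.Surjective ρ := π.subgroupComap_surjective_of_surjective NH hπs
  set φ : ↥NH →* ↥NH ⧸ H.subgroupOf NH := QuotientGroup.mk' (H.subgroupOf NH) with hφ
  set ψ : ↥G0 →* ↥NH ⧸ H.subgroupOf NH := φ.comp ρ with hψ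
  have hψs : Function.Surjective ψ := (QuotientGroup.mk'_surjective _).comp hρs
  -- membership in the kernel of `ψ`
  have hker : ∀ g : ↥G0, ψ g = 1 ↔ π (g : G) ∈ H := by
    intro g
    rw [hψ, MonoidHom.comp_apply, hφ, QuotientGroup.mk'_apply, QuotientGroup.eq_one_iff,
      Subgroup.mem_subgroupOf]
    rfl
  -- the element `ybar` as an element of `N_X(H) / H`
  set yb : ↥NH ⧸ H.subgroupOf NH := φ ⟨y, hyN⟩ with hyb
  have hqp : Fact q.Prime := Fact.mk hq
  -- `y ∉ H`
  have hyH : y ∉ H := by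
    intro hy
    obtain ⟨k, hk⟩ := hH ⟨y, hy⟩
    have h1 : y ^ p ^ k = 1 := by
      have := congrArg Subtype.val hk
      simpa using this
    have h2 : q ∣ p ^ k := hyq ▸ orderOf_dvd_of_pow_eq_one h1
    exact hpq ((Nat.prime_dvd_prime_iff_eq hq hp).mp (hq.dvd_of_dvd_pow h2)).symm
  have hyb1 : yb ≠ 1 := by
    intro h1
    rw [hyb, hφ, QuotientGroup.mk'_apply, QuotientGroup.eq_one_iff, Subgroup.mem_subgroupOf] at h1
    exact hyH h1
  have hybq : yb ^ q = 1 := by
    rw [hyb, ← map_pow]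
    have : (⟨y, hyN⟩ : ↥NH) ^ q = 1 := by
      apply Subtype.ext
      simp only [Subgroup.coe_pow, Subgroup.coe_one]
      rw [← hyq]; exact pow_orderOf_eq_one y
    rw [this, map_one]
  have hybo : orderOf yb = q := orderOf_eq_prime hybq hyb1
  -- the two subgroups of `G0`
  set K1 : Subgroup ↥G0 := ψ.ker with hK1
  set G1 : Subgroup ↥G0 := (Subgroup.zpowers yb).comap ψ with hG1
  have hK1G1 : K1 ≤ G1 := by
    intro g hg
    rw [hK1, MonoidHom.mem_ker] at hg
    rw [hG1, Subgroup.mem_comap, hg]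
    exact one_mem _
  have hrel : K1.relIndex G1 = q := by
    have h1 : K1 = (⊥ : Subgroup (↥NH ⧸ H.subgroupOf NH)).comap ψ := by
      rw [hK1, MonoidHom.comap_bot]
    rw [h1, Subgroup.relIndex_comap, hG1, Subgroup.map_comap_eq_self_of_surjective hψs,
      Subgroup.relIndex_bot_left, Nat.card_zpowers, hybo]
  -- `N` inside `G0` and inside `G1`
  have hNG0 : N ≤ G0 := by
    intro n hn
    rw [hG0, Subgroup.mem_comap]
    have : π n = 1 := by
      rw [hπ, QuotientGroup.mk'_apply, QuotientGroup.eq_one_iff]; exact hn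
    rw [this]; exact one_mem _
  set N0 : Subgroup ↥G0 := N.subgroupOf G0 with hN0
  have hN0K1 : N0 ≤ K1 := by
    intro g hg
    rw [hN0, Subgroup.mem_subgroupOf] at hg
    rw [hK1, MonoidHom.mem_ker, hker]
    have : π (g : G) = 1 := by
      rw [hπ, QuotientGroup.mk'_apply, QuotientGroup.eq_one_iff]; exact hg
    rw [this]; exact one_mem _
  -- apply PROP A in the group `↥G1`
  have hidx : (K1.subgroupOf G1).index = q := hrel
  have hle : N0.subgroupOf G1 ≤ K1.subgroupOf G1 := by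
    intro g hg
    rw [Subgroup.mem_subgroupOf] at hg ⊢
    exact hN0K1 hg
  have hpk : ∀ k ∈ K1.subgroupOf G1, ∃ j : ℕ, k ^ (p ^ j) ∈ N0.subgroupOf G1 := by
    intro k hk
    rw [Subgroup.mem_subgroupOf, hK1, MonoidHom.mem_ker, hker] at hk
    obtain ⟨j, hj⟩ := hH ⟨_, hk⟩
    refine ⟨j, ?_⟩
    rw [Subgroup.mem_subgroupOf, hN0, Subgroup.mem_subgroupOf]
    have h1 : (π ((k : ↥G0) : G)) ^ p ^ j = 1 := by
      have := congrArg Subtype.val hj
      simpa using this
    have h2 : π ((((k ^ p ^ j : ↥G1) : ↥G0) : G)) = 1 := by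
      simp only [Subgroup.coe_pow, map_pow]
      exact h1
    rw [hπ, QuotientGroup.mk'_apply, QuotientGroup.eq_one_iff] at h2
    exact h2
  have hex : ∃ k ∈ K1.subgroupOf G1, k ∉ N0.subgroupOf G1 := by
    obtain ⟨x, hx, hx1⟩ := (Subgroup.ne_bot_iff_exists_ne_one (H := H)).mp hH1 |> fun ⟨x, hx⟩ =>
      (⟨(x : G ⧸ N), x.2, fun h => hx (Subtype.ext h)⟩ : ∃ x : G ⧸ N, x ∈ H ∧ x ≠ 1)
    obtain ⟨g, rfl⟩ := hπs x
    have hg0 : g ∈ G0 := by
      rw [hG0, Subgroup.mem_comap]; exact hHNH hx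
    have hgK : (⟨g, hg0⟩ : ↥G0) ∈ K1 := by
      rw [hK1, MonoidHom.mem_ker, hker]; exact hx
    refine ⟨⟨⟨g, hg0⟩, hK1G1 hgK⟩, ?_, ?_⟩
    · rw [Subgroup.mem_subgroupOf]; exact hgK
    · rw [Subgroup.mem_subgroupOf, hN0, Subgroup.mem_subgroupOf]
      intro hgN
      apply hx1
      rw [hπ, QuotientGroup.mk'_apply, QuotientGroup.eq_one_iff]; exact hgN
  have hpp : ∀ x : ↥G1, x ∉ N0.subgroupOf G1 → IsPrimePow (orderOf x) := by
    intro x hx
    rw [Subgroup.mem_subgroupOf, hN0, Subgroup.mem_subgroupOf] at hx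
    have := h _ hx
    rwa [Subgroup.orderOf_coe, Subgroup.orderOf_coe] at this
  have hprimes := hA ↥G1 (N0.subgroupOf G1) (K1.subgroupOf G1) p q hp hq hpq hle hidx hpk hex hpp
  -- `|N|` is the order of the copy of `N` inside `G1`
  have hN0G1 : N0 ≤ G1 := hN0K1.trans hK1G1
  have hcard : Nat.card (N0.subgroupOf G1) = Nat.card N := by
    rw [Nat.card_congr (Subgroup.subgroupOfEquivOfLe hN0G1).toEquiv, hN0,
      Nat.card_congr (Subgroup.subgroupOfEquivOfLe hNG0).toEquiv]
  rw [hcard] at hprimes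
  obtain ⟨a, b, hab⟩ := eq_pow_mul_pow_of_primes p q (Nat.card N) Nat.card_pos.ne' hprimes
  exact hns (Cfsg.Agent.Lib.H23.isSolvable_of_card_eq_prime_pow_mul_prime_pow p q a b hp hq hab)

end Cfsg.Agent.Lib.H22.S3901Main
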