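/-
S4625 (architect helper6), piece SP: the Sylow 2-subgroups `P` of `Sp_{2m}(F)`, `F` finite of characteristic 2, have `P / P'` of
exponent ≤ 2.  `U = {l(s) t(X) | s unitriangular, X symmetric}` has order `q^(m²)`; `t(X)² = 1`, and `l(s)² ∈ l(UT') ≤ U'` by the
`SL` case.
-/
import Mathlib
import Cfsg.Agent.Lib.H6.SEADefs
import Cfsg.Agent.Lib.H11.S2524G0
import Cfsg.Agent.Lib.H13.AutPSLSylow
import Cfsg.Agent.Lib.H27.SpBNK
import Cfsg.Agent.Lib.H8.SpBNL
import Cfsg.Agent.Lib.H3.SEASL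

set_option autoImplicit false
set_option linter.unusedSectionVars false
set_option linter.unusedVariables false

namespace Cfsg.Agent.Lib.H22.SEA

open Cfsg Cfsg.Agent.Lib.H6.SEA
open Matrix Cfsg.Agent.Lib.H12.LS2 Cfsg.Agent.Lib.H5.LS2 Cfsg.Agent.Lib.H11.SpU Cfsg.Agent.Lib.H13.AutPSL

section

variable {F : Type*} [Field F] [Fintype F] {n : ℕ}

/-- the Levi embedding of `SL_n` -/
noncomputable def lS (n : ℕ) (F : Type*) [Field F] : SpecialLinearGroup (Fin n) F →* Sp n F :=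
  (lHom n).comp Matrix.SpecialLinearGroup.toGL

theorem lS_apply (s : SpecialLinearGroup (Fin n) F) : lS n F s = lEl (Matrix.SpecialLinearGroup.toGL s) := rfl

/-- `l(s)⁻¹ t(X) l(s) = t(s⁻¹ X s⁻ᵀ)` -/
theorem lS_inv_conj (s : SpecialLinearGroup (Fin n) F) (X : Symm n F) :
    (lS n F s)⁻¹ * tEl X * lS n F s = tEl (symConj (Matrix.SpecialLinearGroup.toGL s)⁻¹ X) := by
  have h := lEl_conj_tEl' (Matrix.SpecialLinearGroup.toGL s)⁻¹ X
  have e : (lEl (Matrix.SpecialLinearGroup.toGL s)⁻¹ : Sp n F) = (lS n F s)⁻¹ := by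
    rw [lS_apply]
    exact map_inv (lHom n) _
  rw [e, inv_inv] at h
  exact h

/-- the unipotent radical of the Borel subgroup -/
noncomputable def Usp (n : ℕ) (F : Type*) [Field F] [Fintype F] : Subgroup (Sp n F) where
  carrier := {g | ∃ s ∈ (UT : Subgroup (SpecialLinearGroup (Fin n) F)), ∃ X : Symm n F, g = lS n F s * tEl X}
  one_mem' := ⟨1, Subgroup.one_mem _, 0, by rw [map_one, tEl_zero, one_mul]⟩
  mul_mem' := by
    rintro _ _ ⟨s, hs, X, rfl⟩ ⟨s', hs', X', rfl⟩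
    refine ⟨s * s', Subgroup.mul_mem _ hs hs', symConj (Matrix.SpecialLinearGroup.toGL s')⁻¹ X + X', ?_⟩
    rw [tEl_add, ← lS_inv_conj, map_mul]
    group
  inv_mem' := by
    rintro _ ⟨s, hs, X, rfl⟩
    refine ⟨s⁻¹, Subgroup.inv_mem _ hs, symConj (Matrix.SpecialLinearGroup.toGL s⁻¹)⁻¹ (-X), ?_⟩
    rw [← lS_inv_conj, map_inv, ← tEl_inv]
    group

theorem mem_Usp {g : Sp n F} :
    g ∈ Usp n F ↔ ∃ s ∈ (UT : Subgroup (SpecialLinearGroup (Fin n) F)), ∃ X : Symm n F, g = lS n F s * tEl X :=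
  Iff.rfl

theorem lS_mem_Usp {s : SpecialLinearGroup (Fin n) F} (hs : s ∈ (UT : Subgroup (SpecialLinearGroup (Fin n) F))) :
    lS n F s ∈ Usp n F := ⟨s, hs, 0, by rw [tEl_zero, mul_one]⟩

theorem tEl_mem_Usp (X : Symm n F) : (tEl X : Sp n F) ∈ Usp n F :=
  ⟨1, Subgroup.one_mem _, X, by rw [map_one, one_mul]⟩

/-- the parametrisation of `Usp` is injective -/
theorem lS_mul_tEl_injective (s s' : SpecialLinearGroup (Fin n) F) (X X' : Symm n F)
    (h : lS n F s * tEl X = lS n F s' * tEl X') : s = s' ∧ X = X' := by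
  have h2 := congrArg Subtype.val h
  rw [lS_apply, lS_apply, Submonoid.coe_mul, Submonoid.coe_mul, lEl_val, lEl_val, tEl_val, tEl_val,
    Matrix.fromBlocks_multiply, Matrix.fromBlocks_multiply, Matrix.fromBlocks_inj] at h2
  have hs : s = s' := by
    apply Subtype.ext
    have := h2.1
    simpa using this
  subst hs
  refine ⟨rfl, ?_⟩
  exact tEl_injective (mul_left_cancel h)

/-- `|Usp| = q^(n²)` -/
theorem card_Usp : Nat.card (Usp n F) = Fintype.card F ^ (n ^ 2) := by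
  have key : Nat.card (Usp n F) =
      Nat.card (↥(UT : Subgroup (SpecialLinearGroup (Fin n) F)) × Symm n F) := by
    symm
    apply Nat.card_congr
    refine Equiv.ofBijective
      (fun p : ↥(UT : Subgroup (SpecialLinearGroup (Fin n) F)) × Symm n F =>
        (⟨lS n F p.1.1 * tEl p.2, ⟨p.1.1, p.1.2, p.2, rfl⟩⟩ : Usp n F)) ⟨?_, ?_⟩
    · rintro ⟨s, X⟩ ⟨s', X'⟩ h
      have h1 : lS n F s.1 * tEl X = lS n F s'.1 * tEl X' := congrArg Subtype.val h
      obtain ⟨h2, h3⟩ := lS_mul_tEl_injective _ _ _ _ h1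
      rw [Subtype.ext h2, h3]
    · rintro ⟨g, s, hs, X, rfl⟩
      exact ⟨(⟨s, hs⟩, X), rfl⟩
  rw [key, Nat.card_prod, card_UT, Cfsg.Agent.Lib.H27.SpBN.card_Symm, ← pow_add,
    Cfsg.Agent.Lib.H27.SpBN.half_add_half]

variable [CharP F 2]

theorem tEl_sq (X : Symm n F) : (tEl X : Sp n F) ^ 2 = 1 := by
  rw [pow_two, ← tEl_add]
  have : X + X = 0 := by
    apply Subtype.ext
    ext i j
    simp only [AddSubgroup.coe_add, Matrix.add_apply, ZeroMemClass.coe_zero, Matrix.zero_apply]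
    exact CharTwo.add_self_eq_zero _
  rw [this, tEl_zero]

/-- squares of elements of `UT` are commutators (from the piece `SL`) -/
theorem sq_mem_commutator_UT (s : SpecialLinearGroup (Fin n) F)
    (hs : s ∈ (UT : Subgroup (SpecialLinearGroup (Fin n) F))) :
    s ^ 2 ∈ ⁅(UT : Subgroup (SpecialLinearGroup (Fin n) F)), UT⁆ := by
  have : Fact (Nat.Prime 2) := ⟨Nat.prime_two⟩
  have h := Cfsg.Agent.Lib.H3.SEA.sylEA_SL F n ((isPGroup_UT (p := 2) (n := n) (F := F)).toSylow not_dvd_index_UT) ⟨s, hs⟩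
  rw [← Subgroup.map_subtype_commutator]
  exact ⟨_, h, rfl⟩

theorem ea_Usp : EA ↥(Usp n F) := by
  apply EA.of_gen (Usp n F) ((lS n F) '' (UT : Subgroup (SpecialLinearGroup (Fin n) F)) ∪ Set.range (tEl (n := n) (F := F)))
  · rintro _ (⟨s, hs, rfl⟩ | ⟨X, rfl⟩)
    · exact lS_mem_Usp hs
    · exact tEl_mem_Usp X
  · rintro _ ⟨s, hs, X, rfl⟩
    exact Subgroup.mul_mem _ (Subgroup.subset_closure (Or.inl ⟨s, hs, rfl⟩))
      (Subgroup.subset_closure (Or.inr ⟨X, rfl⟩))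
  · rintro _ (⟨s, hs, rfl⟩ | ⟨X, rfl⟩)
    · rw [← map_pow]
      have h1 := sq_mem_commutator_UT s hs
      have h2 : (lS n F) (s ^ 2) ∈ (⁅(UT : Subgroup (SpecialLinearGroup (Fin n) F)), UT⁆).map (lS n F) :=
        Subgroup.mem_map_of_mem _ h1
      rw [Subgroup.map_commutator] at h2
      refine Subgroup.commutator_mono ?_ ?_ h2
      · rintro _ ⟨t, ht, rfl⟩
        exact lS_mem_Usp ht
      · rintro _ ⟨t, ht, rfl⟩
        exact lS_mem_Usp ht
    · rw [tEl_sq]
      exact Subgroup.one_mem _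

end

/-- SP : `Sp_{2m}(F)`, `F` of characteristic 2. -/
theorem sylEA_Sp (F : Type*) [Field F] [Fintype F] [CharP F 2] (m : ℕ) :
    SylEA (Matrix.symplecticGroup (Fin m) F) := by
  have : Fact (Nat.Prime 2) := ⟨Nat.prime_two⟩
  rcases m with _ | m
  · intro P x
    have hsub : Subsingleton (Matrix.symplecticGroup (Fin 0) F) := by
      constructor
      intro a b
      apply Subtype.ext
      ext i j
      rcases i with i | i <;> exact i.elim0
    have hx : x = 1 := Subsingleton.elim _ _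
    rw [hx, one_pow]
    exact Subgroup.one_mem _
  · apply sylEA_of_card (Usp (m + 1) F) _ ea_Usp
    rw [card_Usp, ← Cfsg.Agent.Lib.H8.SpBN.factorization_card_Sp 2]

end Cfsg.Agent.Lib.H22.SEA
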