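import Mathlib
import Cfsg.Agent.Lib.L0.SFDefs
import Cfsg.Agent.Lib.H26.SFA
import Cfsg.Agent.Lib.H29.SFF1
import Cfsg.Agent.Lib.H16.SFG1
import Cfsg.Agent.Lib.H22.SFC1

set_option autoImplicit false
set_option linter.unusedSectionVars false

/-!
S4130-G2: a normal Sylow `r`-subgroup with abelian quotient in a group with squarefree class sizes:
`|G'| ∣ r`.  (No Schur–Zassenhaus needed: elementwise coprime arguments.)
-/

namespace Cfsg.Agent.Lib.H22.SF

open Cfsg.Agent.Lib.L0.SF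

section basic

variable {G : Type*} [Group G]

theorem eq_zpow_of_coprime {x : G} {a b : ℕ} (hab : a.Coprime b) (hx : x ^ b = 1) :
    x = (x ^ a) ^ (Nat.gcdA a b) := by
  have h := Nat.gcd_eq_gcd_ab a b
  rw [hab.gcd_eq_one] at h
  calc x = x ^ (1 : ℤ) := (zpow_one x).symm
    _ = x ^ ((a : ℤ) * Nat.gcdA a b + (b : ℤ) * Nat.gcdB a b) := by
        rw [← h]
        simp
    _ = (x ^ a) ^ (Nat.gcdA a b) * (x ^ b) ^ (Nat.gcdB a b) := by
        rw [zpow_add, zpow_mul, zpow_mul, zpow_natCast, zpow_natCast]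
    _ = (x ^ a) ^ (Nat.gcdA a b) := by rw [hx, one_zpow, mul_one]

theorem eq_one_of_pow_coprime {x : G} {a b : ℕ} (hab : a.Coprime b) (ha : x ^ a = 1)
    (hb : x ^ b = 1) : x = 1 := by
  have := pow_gcd_eq_one.2 ⟨ha, hb⟩
  rwa [hab.gcd_eq_one, pow_one] at this

/-- if `c = [x,y]` commutes with `x` then `[x^j, y] = c^j` -/
theorem pow_comm_eq {x y : G} (hc : Commute (x * y * x⁻¹ * y⁻¹) x) (j : ℕ) :
    x ^ j * y * (x ^ j)⁻¹ * y⁻¹ = (x * y * x⁻¹ * y⁻¹) ^ j := by
  induction j with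
  | zero => simp
  | succ j ih =>
    have h1 : x ^ (j + 1) * y * (x ^ (j + 1))⁻¹ * y⁻¹ =
        x * (x ^ j * y * (x ^ j)⁻¹ * y⁻¹) * x⁻¹ * (x * y * x⁻¹ * y⁻¹) := by
      rw [pow_succ']
      group
    rw [h1, ih]
    have h2 : Commute ((x * y * x⁻¹ * y⁻¹) ^ j) x := hc.pow_left j
    have h3 : x * (x * y * x⁻¹ * y⁻¹) ^ j * x⁻¹ = (x * y * x⁻¹ * y⁻¹) ^ j := by
      rw [← h2.eq]
      group
    rw [h3, pow_succ]

/-- if `k g k⁻¹ = g c` and `k` commutes with `c` then `k^j g k^-j = g c^j` -/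
theorem conj_pow_eq {k g c : G} (h1 : k * g * k⁻¹ = g * c) (h2 : Commute k c) (j : ℕ) :
    k ^ j * g * (k ^ j)⁻¹ = g * c ^ j := by
  induction j with
  | zero => simp
  | succ j ih =>
    have e1 : k ^ (j + 1) * g * (k ^ (j + 1))⁻¹ = k * (k ^ j * g * (k ^ j)⁻¹) * k⁻¹ := by
      rw [pow_succ']
      group
    rw [e1, ih]
    have e2 : k * (g * c ^ j) * k⁻¹ = (k * g * k⁻¹) * (k * c ^ j * k⁻¹) := by group
    have e3 : k * c ^ j * k⁻¹ = c ^ j := by
      rw [(h2.pow_right j).eq]
      group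
    rw [e2, h1, e3, pow_succ]
    group

end basic

section lemZ

variable {G : Type*} [Group G] [Finite G]

/-- if `P/A` is central in `G/A`, `G' ≤ P` and `|P|`, `|G:P|` are coprime, then `G' ≤ A` -/
theorem commutator_le_of_central_mod (Pg A : Subgroup G) [Pg.Normal] [A.Normal]
    (hGP : commutator G ≤ Pg) (hcop : (Nat.card Pg).Coprime Pg.index)
    (hA : ∀ g : G, ∀ u ∈ Pg, g * u * g⁻¹ * u⁻¹ ∈ A) : commutator G ≤ A := by
  rw [commutator_eq_closure, Subgroup.closure_le]
  rintro c ⟨x, y, rfl⟩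
  rw [SetLike.mem_coe, commutatorElement_def]
  have hcP : x * y * x⁻¹ * y⁻¹ ∈ Pg := by
    apply hGP
    rw [commutator_eq_closure]
    exact Subgroup.subset_closure ⟨x, y, commutatorElement_def x y⟩
  set f := QuotientGroup.mk' A with hf
  have hker : ∀ z : G, f z = 1 ↔ z ∈ A := fun z => QuotientGroup.eq_one_iff z
  have hcen : ∀ u ∈ Pg, ∀ g : G, Commute (f u) (f g) := by
    intro u hu g
    have h1 := (hker _).2 (hA g u hu)
    rw [map_mul, map_mul, map_mul, map_inv, map_inv] at h1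
    have h2 : f g * f u = f u * f g := by
      have := mul_inv_eq_one.1 h1
      have h3 := mul_inv_eq_iff_eq_mul.1 this
      exact h3
    exact h2.symm
  rw [← hker]
  have hc : Commute (f x * f y * (f x)⁻¹ * (f y)⁻¹) (f x) := by
    have := hcen _ hcP x
    rwa [map_mul, map_mul, map_mul, map_inv, map_inv] at this
  have key := pow_comm_eq hc Pg.index
  have hxm : Commute (f x ^ Pg.index) (f y) := by
    rw [← map_pow]
    exact hcen _ (Subgroup.pow_index_mem Pg x) y
  have h0 : f x ^ Pg.index * f y * (f x ^ Pg.index)⁻¹ * (f y)⁻¹ = 1 := by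
    rw [hxm.eq]
    group
  rw [h0] at key
  have h1 : (f (x * y * x⁻¹ * y⁻¹)) ^ Pg.index = 1 := by
    rw [map_mul, map_mul, map_mul, map_inv, map_inv]
    exact key.symm
  have h2 : (f (x * y * x⁻¹ * y⁻¹)) ^ Nat.card Pg = 1 := by
    rw [← map_pow]
    have : (x * y * x⁻¹ * y⁻¹) ^ Nat.card Pg = 1 := by
      have := pow_card_eq_one' (x := (⟨_, hcP⟩ : Pg))
      exact congrArg Subtype.val this
    rw [this, map_one]
  exact eq_one_of_pow_coprime hcop h2 h1

end lemZ

section abelianCase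

variable {G : Type*} [Group G] [Finite G] {r : ℕ} [Fact r.Prime] (Pg : Subgroup G) [Pg.Normal]
  (hab : ∀ a ∈ Pg, ∀ b ∈ Pg, a * b = b * a)

theorem comm_mem_commutator (x y : G) : x * y * x⁻¹ * y⁻¹ ∈ commutator G := by
  rw [commutator_eq_closure]
  exact Subgroup.subset_closure ⟨x, y, commutatorElement_def x y⟩

/-- conjugating `g` does not change `cm g` when `G' ≤ P` and `P` is abelian -/
theorem cm_conj (hGP : commutator G ≤ Pg) (x g : G) :
    cm Pg hab (x * g * x⁻¹) = cm Pg hab g := by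
  apply MonoidHom.ext
  intro u
  apply Subtype.ext
  rw [cm_coe, cm_coe]
  have hc : x * g * x⁻¹ * g⁻¹ ∈ Pg := hGP (comm_mem_commutator x g)
  have hv : g * (u : G) * g⁻¹ ∈ Pg := ‹Pg.Normal›.conj_mem _ u.2 g
  have h1 := hab _ hc _ hv
  calc x * g * x⁻¹ * (u : G) * (x * g * x⁻¹)⁻¹ * (u : G)⁻¹
      = (x * g * x⁻¹ * g⁻¹) * (g * (u : G) * g⁻¹) * (x * g * x⁻¹ * g⁻¹)⁻¹ * (u : G)⁻¹ := by group
    _ = (g * (u : G) * g⁻¹) * (x * g * x⁻¹ * g⁻¹) * (x * g * x⁻¹ * g⁻¹)⁻¹ * (u : G)⁻¹ := by rw [h1]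
    _ = g * (u : G) * g⁻¹ * (u : G)⁻¹ := by group

theorem exists_ne_one_of_card_prime {H : Type*} [Group H] (K : Subgroup H) (hK : Nat.card K = r) :
    ∃ a ∈ K, a ≠ 1 := by
  have hrp : r.Prime := Fact.out
  by_contra hne
  push Not at hne
  have : K = ⊥ := (Subgroup.eq_bot_iff_forall K).2 hne
  rw [this, Subgroup.card_bot] at hK
  exact hrp.one_lt.ne hK

theorem range_inf_ker_eq_bot (hcop : (Nat.card Pg).Coprime Pg.index) (g : G)
    (hg : Nat.card (cm Pg hab g).range = r) :
    (cm Pg hab g).range ⊓ (cm Pg hab g).ker = ⊥ := by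
  have hrp : r.Prime := Fact.out
  rcases inf_eq_bot_or_le_of_card_prime hrp _ (cm Pg hab g).ker hg with h | h
  · exact h
  · exfalso
    have hall : ∀ u : Pg, cm Pg hab g u = 1 := by
      intro u
      have ha : cm Pg hab g u ∈ (cm Pg hab g).ker := h ⟨u, rfl⟩
      have hga : g * ((cm Pg hab g u : Pg) : G) = ((cm Pg hab g u : Pg) : G) * g :=
        (mem_ker_cm Pg hab g _).1 ha
      have h1 : g * (u : G) * g⁻¹ = (u : G) * ((cm Pg hab g u : Pg) : G) := by
        rw [hab _ u.2 _ (cm Pg hab g u).2, cm_coe]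
        group
      have h2 := conj_pow_eq h1 hga Pg.index
      have hgm : g ^ Pg.index ∈ Pg := Subgroup.pow_index_mem Pg g
      have h3 : g ^ Pg.index * (u : G) * (g ^ Pg.index)⁻¹ = (u : G) := by
        rw [hab _ hgm _ u.2]
        group
      rw [h3] at h2
      have h4 : ((cm Pg hab g u : Pg) : G) ^ Pg.index = 1 := by
        have := mul_eq_left.1 h2.symm
        exact this
      have h5 : ((cm Pg hab g u : Pg) : G) ^ Nat.card Pg = 1 := by
        have := pow_card_eq_one' (x := (cm Pg hab g u : Pg))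
        exact congrArg Subtype.val this
      exact Subtype.ext (eq_one_of_pow_coprime hcop h5 h4)
    obtain ⟨a, ⟨u, rfl⟩, ha1⟩ := exists_ne_one_of_card_prime (r := r) _ hg
    exact ha1 (hall u)

/-- Step 3: all non-trivial `[P,g]` coincide -/
theorem range_eq_of_nontrivial (hGP : commutator G ≤ Pg) (hcop : (Nat.card Pg).Coprime Pg.index)
    (hcr : ∀ g : G, Nat.card (cm Pg hab g).range ∣ r) (g g0 : G)
    (hg : Nat.card (cm Pg hab g).range = r) (hg0 : Nat.card (cm Pg hab g0).range = r) :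
    (cm Pg hab g).range = (cm Pg hab g0).range := by
  have hrp : r.Prime := Fact.out
  rcases range_eq_or_ker_eq Pg hab g g0 hg hg0 (hcr _) with h | hk
  · exact h
  · obtain ⟨a, ha, ha1⟩ := exists_ne_one_of_card_prime (r := r) _ hg
    have hak : a ∉ (cm Pg hab g).ker := by
      intro hk'
      have : a ∈ (cm Pg hab g).range ⊓ (cm Pg hab g).ker := ⟨ha, hk'⟩
      rw [range_inf_ker_eq_bot Pg hab hcop g hg, Subgroup.mem_bot] at this
      exact ha1 this
    have hak0 : a ∉ (cm Pg hab g0).ker := hk ▸ hak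
    have hb1 : cm Pg hab g0 a ≠ 1 := hak0
    have hb0 : cm Pg hab g0 a ∈ (cm Pg hab g0).range := ⟨a, rfl⟩
    have hbg : cm Pg hab g0 a ∈ (cm Pg hab g).range := by
      obtain ⟨u, rfl⟩ := ha
      have hu' : g0 * (u : G) * g0⁻¹ ∈ Pg := ‹Pg.Normal›.conj_mem _ u.2 g0
      have e1 : cm Pg hab g0 (cm Pg hab g u) =
          cm Pg hab (g0 * g * g0⁻¹) ⟨g0 * (u : G) * g0⁻¹, hu'⟩ * (cm Pg hab g u)⁻¹ := by
        apply Subtype.ext
        rw [Subgroup.coe_mul, Subgroup.coe_inv, cm_coe, cm_coe, cm_coe]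
        group
      rw [e1, cm_conj Pg hab hGP]
      exact Subgroup.mul_mem _ ⟨_, rfl⟩ (Subgroup.inv_mem _ ⟨u, rfl⟩)
    rcases inf_eq_bot_or_le_of_card_prime hrp (cm Pg hab g).range (cm Pg hab g0).range hg
      with hbot | hle
    · exfalso
      have : cm Pg hab g0 a ∈ (cm Pg hab g).range ⊓ (cm Pg hab g0).range := ⟨hbg, hb0⟩
      rw [hbot, Subgroup.mem_bot] at this
      exact hb1 this
    · exact Subgroup.eq_of_le_of_card_ge hle (by rw [hg, hg0])

end abelianCase

section step1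

variable {G : Type*} [Group G] [Finite G] {r : ℕ} [Fact r.Prime] (Pg : Subgroup G) [Pg.Normal]

theorem mem_cent {g k : G} : k ∈ Subgroup.centralizer ({g} : Set G) ↔ Commute k g :=
  Subgroup.mem_centralizer_singleton_iff

/-- sandwich: `C ≤ D ≤ P`, `|P : C| = r` prime, `D ≰ C` ⟹ `P ≤ D` -/
theorem le_of_relIndex_prime {C D : Subgroup G} (hCD : C ≤ D) (hDP : D ≤ Pg)
    (hC : C.relIndex Pg = r) (hne : ¬ D ≤ C) : Pg ≤ D := by
  have hrp : r.Prime := Fact.out
  have h := Subgroup.relIndex_mul_relIndex C D Pg hCD hDP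
  rw [hC] at h
  have hd : C.relIndex D ∣ r := Dvd.intro _ h
  rcases (Nat.dvd_prime hrp).1 hd with h1 | h1
  · exact absurd (Subgroup.relIndex_eq_one.1 h1) hne
  · rw [h1] at h
    have : D.relIndex Pg = 1 := Nat.eq_of_mul_eq_mul_left hrp.pos (h.trans (mul_one r).symm)
    exact Subgroup.relIndex_eq_one.1 this

theorem pow_card_eq_one_of_mem {u : G} (hu : u ∈ Pg) : u ^ Nat.card Pg = 1 := by
  have := pow_card_eq_one' (x := (⟨u, hu⟩ : Pg))
  exact congrArg Subtype.val this

/-- Step 1: if `P` is not abelian, every `r'`-element centralises `P` -/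
theorem centralizes_of_not_abelian (hcop : (Nat.card Pg).Coprime Pg.index)
    (hr4 : ∀ g : G, (Subgroup.centralizer ({g} : Set G)).relIndex Pg ∣ r)
    (hcen : ∀ a ∈ Pg, ∀ b ∈ Pg, ∀ c ∈ Pg, Commute (a * b * a⁻¹ * b⁻¹) c)
    (hnab : ¬ ∀ a ∈ Pg, ∀ b ∈ Pg, a * b = b * a)
    (k : G) (hk : k ^ Pg.index = 1) : ∀ u ∈ Pg, k * u = u * k := by
  have hrp : r.Prime := Fact.out
  by_contra hcon
  push Not at hcon
  obtain ⟨u0, hu0, hu0k⟩ := hcon
  apply hnab
  set C := Subgroup.centralizer ({k} : Set G) ⊓ Pg with hC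
  have hCP : C ≤ Pg := inf_le_right
  have hCr : C.relIndex Pg = r := by
    rw [hC, Subgroup.inf_relIndex_right]
    rcases (Nat.dvd_prime hrp).1 (hr4 k) with h1 | h1
    · exfalso
      have h2 := Subgroup.relIndex_eq_one.1 h1 hu0
      rw [mem_cent] at h2
      exact hu0k h2.eq.symm
    · exact h1
  -- (i) the elements of `C` commute pairwise
  have hi : ∀ x ∈ C, ∀ y ∈ C, Commute y x := by
    intro x hx y hy
    have hxk : Commute k x := (mem_cent.1 hx.1).symm
    have hxP : x ^ Nat.card Pg = 1 := pow_card_eq_one_of_mem Pg hx.2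
    have hle : Subgroup.centralizer ({k * x} : Set G) ⊓ Pg ≤ C := by
      intro g hg
      obtain ⟨hg1, hg2⟩ := Subgroup.mem_inf.1 hg
      refine Subgroup.mem_inf.2 ⟨?_, hg2⟩
      rw [mem_cent] at hg1 ⊢
      have h1 : (k * x) ^ Nat.card Pg = k ^ Nat.card Pg := by
        rw [hxk.mul_pow, hxP, mul_one]
      have h2 : Commute g (k ^ Nat.card Pg) := h1 ▸ hg1.pow_right _
      have h3 : k = (k ^ Nat.card Pg) ^ (Nat.gcdA (Nat.card Pg) Pg.index) :=
        eq_zpow_of_coprime hcop hk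
      rw [h3]
      exact h2.zpow_right _
    have hle' : Subgroup.centralizer ({k * x} : Set G) ⊓ Pg ≤
        Subgroup.centralizer ({x} : Set G) := by
      intro g hg
      obtain ⟨hg1, -⟩ := Subgroup.mem_inf.1 hg
      rw [mem_cent] at hg1 ⊢
      have h1 : (k * x) ^ Pg.index = x ^ Pg.index := by
        rw [hxk.mul_pow, hk, one_mul]
      have h2 : Commute g (x ^ Pg.index) := h1 ▸ hg1.pow_right _
      have h3 : x = (x ^ Pg.index) ^ (Nat.gcdA Pg.index (Nat.card Pg)) :=
        eq_zpow_of_coprime hcop.symm hxP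
      rw [h3]
      exact h2.zpow_right _
    have h5 : (Subgroup.centralizer ({k * x} : Set G) ⊓ Pg).relIndex Pg = r := by
      have hd1 : C.relIndex Pg ∣ (Subgroup.centralizer ({k * x} : Set G) ⊓ Pg).relIndex Pg :=
        Subgroup.relIndex_dvd_of_le_left Pg hle
      have hd2 : (Subgroup.centralizer ({k * x} : Set G) ⊓ Pg).relIndex Pg ∣ r := by
        rw [Subgroup.inf_relIndex_right]
        exact hr4 _
      rw [hCr] at hd1
      exact Nat.dvd_antisymm hd2 hd1
    have h6 : C ≤ Subgroup.centralizer ({k * x} : Set G) ⊓ Pg := by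
      have h7 := Subgroup.relIndex_mul_relIndex _ C Pg hle hCP
      rw [h5, hCr] at h7
      have h1 : (Subgroup.centralizer ({k * x} : Set G) ⊓ Pg).relIndex C = 1 :=
        Nat.eq_of_mul_eq_mul_right hrp.pos (by rw [h7, one_mul])
      exact Subgroup.relIndex_eq_one.1 h1
    exact mem_cent.1 (hle' (h6 hy))
  by_cases hCZ : ∀ x ∈ C, ∀ y ∈ Pg, Commute y x
  · -- `C` central in `P`: `P` abelian
    intro a ha b hb
    by_cases haC : a ∈ C
    · exact (hCZ a haC b hb).eq.symm
    · have hD : Pg ≤ Subgroup.centralizer ({a} : Set G) ⊓ Pg := by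
        refine le_of_relIndex_prime Pg (C := C) ?_ inf_le_right hCr ?_
        · intro x hx
          exact ⟨mem_cent.2 (hCZ x hx a ha).symm, hCP hx⟩
        · intro hle
          exact haC (hle ⟨mem_cent.2 (Commute.refl a), ha⟩)
      exact (mem_cent.1 (hD hb).1).eq.symm
  · exfalso
    push Not at hCZ
    obtain ⟨x, hxC, y0, hy0, hxy0⟩ := hCZ
    have hxP : x ∈ Pg := hCP hxC
    have hDx : Subgroup.centralizer ({x} : Set G) ⊓ Pg ≤ C := by
      by_contra hne
      have h1 : Pg ≤ Subgroup.centralizer ({x} : Set G) ⊓ Pg := by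
        refine le_of_relIndex_prime Pg (C := C) ?_ inf_le_right hCr hne
        intro y hy
        exact ⟨mem_cent.2 (hi x hxC y hy), hCP hy⟩
      exact hxy0 (mem_cent.1 (h1 hy0).1)
    have hxk : Commute k x := (mem_cent.1 hxC.1).symm
    have hkey : ∀ g ∈ Pg, k * g * k⁻¹ = g := by
      intro g hg
      have hg' : k * g * k⁻¹ ∈ Pg := ‹Pg.Normal›.conj_mem _ hg k
      have hcP : g⁻¹ * (k * g * k⁻¹) ∈ Pg := Pg.mul_mem (Pg.inv_mem hg) hg'
      have hz : x * g * x⁻¹ * g⁻¹ ∈ C :=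
        hDx ⟨mem_cent.2 (hcen x hxP g hg x hxP),
          Pg.mul_mem (Pg.mul_mem (Pg.mul_mem hxP hg) (Pg.inv_mem hxP)) (Pg.inv_mem hg)⟩
      have hzk : Commute k (x * g * x⁻¹ * g⁻¹) := (mem_cent.1 hz.1).symm
      have hxk' : x⁻¹ * k⁻¹ = k⁻¹ * x⁻¹ := by
        rw [← mul_inv_rev, ← mul_inv_rev, hxk.eq]
      have e1 : x * (k * g * k⁻¹) * x⁻¹ * (k * g * k⁻¹)⁻¹ = x * g * x⁻¹ * g⁻¹ := by
        calc x * (k * g * k⁻¹) * x⁻¹ * (k * g * k⁻¹)⁻¹
            = (x * k) * g * (k⁻¹ * x⁻¹) * k * g⁻¹ * k⁻¹ := by group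
          _ = (k * x) * g * (x⁻¹ * k⁻¹) * k * g⁻¹ * k⁻¹ := by rw [hxk.eq, hxk']
          _ = k * (x * g * x⁻¹ * g⁻¹) * k⁻¹ := by group
          _ = x * g * x⁻¹ * g⁻¹ := by
              rw [hzk.eq]
              group
      have hcx : Commute (g⁻¹ * (k * g * k⁻¹)) x := by
        have e2 : (k * g * k⁻¹) * x⁻¹ * (k * g * k⁻¹)⁻¹ = g * x⁻¹ * g⁻¹ := by
          calc (k * g * k⁻¹) * x⁻¹ * (k * g * k⁻¹)⁻¹
              = x⁻¹ * (x * (k * g * k⁻¹) * x⁻¹ * (k * g * k⁻¹)⁻¹) := by group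
            _ = x⁻¹ * (x * g * x⁻¹ * g⁻¹) := by rw [e1]
            _ = g * x⁻¹ * g⁻¹ := by group
        have e3 : (g⁻¹ * (k * g * k⁻¹)) * x⁻¹ = x⁻¹ * (g⁻¹ * (k * g * k⁻¹)) := by
          calc (g⁻¹ * (k * g * k⁻¹)) * x⁻¹
              = g⁻¹ * ((k * g * k⁻¹) * x⁻¹ * (k * g * k⁻¹)⁻¹) * (k * g * k⁻¹) := by group
            _ = g⁻¹ * (g * x⁻¹ * g⁻¹) * (k * g * k⁻¹) := by rw [e2]
            _ = x⁻¹ * (g⁻¹ * (k * g * k⁻¹)) := by group
        have h8 : Commute (g⁻¹ * (k * g * k⁻¹)) x⁻¹ := e3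
        exact (Commute.inv_right_iff).1 h8
      have hcC : g⁻¹ * (k * g * k⁻¹) ∈ C := hDx ⟨mem_cent.2 hcx, hcP⟩
      have hck : Commute k (g⁻¹ * (k * g * k⁻¹)) := (mem_cent.1 hcC.1).symm
      have h1 : k * g * k⁻¹ = g * (g⁻¹ * (k * g * k⁻¹)) := by group
      have h2 := conj_pow_eq h1 hck Pg.index
      rw [hk, one_mul, inv_one, mul_one] at h2
      have h3 : (g⁻¹ * (k * g * k⁻¹)) ^ Pg.index = 1 := mul_eq_left.1 h2.symm
      have h4 : g⁻¹ * (k * g * k⁻¹) = 1 :=
        eq_one_of_pow_coprime hcop (pow_card_eq_one_of_mem Pg hcP) h3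
      rw [h1, h4, mul_one]
    apply hu0k
    have := hkey u0 hu0
    calc k * u0 = k * u0 * k⁻¹ * k := by group
      _ = u0 * k := by rw [this]

end step1

section assembly

open Cfsg.Agent.Lib.H26.SF Cfsg.Agent.Lib.H29.SF Cfsg.Agent.Lib.H16.SF

/-- **S4130-G2**.  `P` normal Sylow `r`-subgroup with `G/P` abelian: `|G'| ∣ r`. -/
theorem SFClass.card_commutator_dvd_of_normal_sylow {G : Type*} [Group G] [Finite G] (h : SFClass G)
    {r : ℕ} [Fact r.Prime] (P : Sylow r G) [(P : Subgroup G).Normal]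
    (hab : commutator G ≤ (P : Subgroup G)) :
    Nat.card (commutator G) ∣ r := by
  have hrp : r.Prime := Fact.out
  have hcop : (Nat.card (P : Subgroup G)).Coprime (P : Subgroup G).index := P.card_coprime_index
  have hr4 : ∀ g : G, (Subgroup.centralizer ({g} : Set G)).relIndex (P : Subgroup G) ∣ r :=
    fun g => Cfsg.Agent.Lib.H26.SF.SFClass.relIndex_dvd_prime h (P : Subgroup G) P.isPGroup' g
  by_cases habP : ∀ a ∈ (P : Subgroup G), ∀ b ∈ (P : Subgroup G), a * b = b * a
  · -- `P` abelian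
    have hcr : ∀ g : G, Nat.card (cm (P : Subgroup G) habP g).range ∣ r := fun g => by
      rw [card_range_cm]
      exact hr4 g
    have hcr' : ∀ g : G, (∃ u, cm (P : Subgroup G) habP g u ≠ 1) →
        Nat.card (cm (P : Subgroup G) habP g).range = r := by
      rintro g ⟨u, hu⟩
      rcases (Nat.dvd_prime hrp).1 (hcr g) with h1 | h1
      · exfalso
        have hb : (cm (P : Subgroup G) habP g).range = ⊥ := Subgroup.card_eq_one.1 h1
        have : cm (P : Subgroup G) habP g u ∈ (cm (P : Subgroup G) habP g).range := ⟨u, rfl⟩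
        rw [hb, Subgroup.mem_bot] at this
        exact hu this
      · exact h1
    by_cases hall : ∀ g : G, ∀ u : (P : Subgroup G), cm (P : Subgroup G) habP g u = 1
    · have hle : commutator G ≤ ⊥ :=
        commutator_le_of_central_mod (P : Subgroup G) ⊥ hab hcop (fun g u hu => by
          have h1 := congrArg Subtype.val (hall g ⟨u, hu⟩)
          rw [cm_coe] at h1
          rw [Subgroup.mem_bot]
          exact h1)
      have : commutator G = ⊥ := le_bot_iff.1 hle
      rw [this, Subgroup.card_bot]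
      exact one_dvd r
    · push Not at hall
      obtain ⟨g0, u0, hg0⟩ := hall
      have hg0r := hcr' g0 ⟨u0, hg0⟩
      have hAmem : ∀ g : G, ∀ u ∈ (P : Subgroup G), g * u * g⁻¹ * u⁻¹ ∈
          (cm (P : Subgroup G) habP g0).range.map (P : Subgroup G).subtype := by
        intro g u hu
        by_cases hgt : ∃ v, cm (P : Subgroup G) habP g v ≠ 1
        · have he := range_eq_of_nontrivial (P : Subgroup G) habP hab hcop hcr g g0
            (hcr' g hgt) hg0r
          refine ⟨cm (P : Subgroup G) habP g ⟨u, hu⟩, ?_, rfl⟩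
          rw [SetLike.mem_coe, ← he]
          exact ⟨_, rfl⟩
        · push Not at hgt
          have h1 := congrArg Subtype.val (hgt ⟨u, hu⟩)
          rw [cm_coe] at h1
          rw [h1]
          exact Subgroup.one_mem _
      have hAn : ((cm (P : Subgroup G) habP g0).range.map (P : Subgroup G).subtype).Normal := by
        refine ⟨fun y hy x => ?_⟩
        obtain ⟨w, ⟨u, rfl⟩, rfl⟩ := hy
        have hxu : x * (u : G) * x⁻¹ ∈ (P : Subgroup G) :=
          ‹(P : Subgroup G).Normal›.conj_mem _ u.2 x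
        have h1 := hAmem (x * g0 * x⁻¹) (x * (u : G) * x⁻¹) hxu
        have h2 : x * ((P : Subgroup G).subtype (cm (P : Subgroup G) habP g0 u)) * x⁻¹ =
            x * g0 * x⁻¹ * (x * (u : G) * x⁻¹) * (x * g0 * x⁻¹)⁻¹ * (x * (u : G) * x⁻¹)⁻¹ := by
          rw [Subgroup.coe_subtype, cm_coe]
          group
        rw [h2]
        exact h1
      have hle := commutator_le_of_central_mod (P : Subgroup G) _ hab hcop hAmem
      have hcA : Nat.card ((cm (P : Subgroup G) habP g0).range.map (P : Subgroup G).subtype) = r := by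
        rw [Nat.card_congr (Subgroup.equivMapOfInjective _ _
          (P : Subgroup G).subtype_injective).symm.toEquiv]
        exact hg0r
      rw [← hcA]
      exact Subgroup.card_dvd_of_le hle
  · -- `P` not abelian
    have hSFP : SFClass ↥(P : Subgroup G) :=
      Cfsg.Agent.Lib.H26.SF.SFClass.of_normal h (P : Subgroup G)
    have hF1 := Cfsg.Agent.Lib.H29.SF.SFClass.commutator_le_center_of_isPGroup P.isPGroup' hSFP
    have hG1 := Cfsg.Agent.Lib.H16.SF.SFClass.card_commutator_dvd_of_isPGroup P.isPGroup' hSFP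
    have hcen : ∀ a ∈ (P : Subgroup G), ∀ b ∈ (P : Subgroup G), ∀ c ∈ (P : Subgroup G),
        Commute (a * b * a⁻¹ * b⁻¹) c := by
      intro a ha b hb c hc
      have hm : (⟨a, ha⟩ : (P : Subgroup G)) * ⟨b, hb⟩ * (⟨a, ha⟩ : (P : Subgroup G))⁻¹ *
          (⟨b, hb⟩ : (P : Subgroup G))⁻¹ ∈ commutator ↥(P : Subgroup G) :=
        comm_mem_commutator _ _
      have h1 := Subgroup.mem_center_iff.1 (hF1 hm) ⟨c, hc⟩
      have h2 := congrArg Subtype.val h1
      simp only [Subgroup.coe_mul, Subgroup.coe_inv] at h2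
      exact h2.symm
    have hS1 := centralizes_of_not_abelian (P : Subgroup G) hcop hr4 hcen habP
    have hAn : (⁅(P : Subgroup G), (P : Subgroup G)⁆).Normal :=
      Subgroup.commutator_normal (P : Subgroup G) (P : Subgroup G)
    have hAmem : ∀ g : G, ∀ u ∈ (P : Subgroup G),
        g * u * g⁻¹ * u⁻¹ ∈ ⁅(P : Subgroup G), (P : Subgroup G)⁆ := by
      intro g u hu
      have hk : (g ^ Nat.card (P : Subgroup G)) ^ (P : Subgroup G).index = 1 := by
        rw [← pow_mul, Subgroup.card_mul_index, pow_card_eq_one']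
      have hp : g ^ (P : Subgroup G).index ∈ (P : Subgroup G) :=
        Subgroup.pow_index_mem (P : Subgroup G) g
      have hbez := Nat.gcd_eq_gcd_ab (Nat.card (P : Subgroup G)) (P : Subgroup G).index
      rw [hcop.gcd_eq_one] at hbez
      have hg : g = (g ^ Nat.card (P : Subgroup G)) ^
            (Nat.gcdA (Nat.card (P : Subgroup G)) (P : Subgroup G).index) *
          (g ^ (P : Subgroup G).index) ^
            (Nat.gcdB (Nat.card (P : Subgroup G)) (P : Subgroup G).index) := by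
        calc g = g ^ (1 : ℤ) := (zpow_one g).symm
          _ = g ^ ((Nat.card (P : Subgroup G) : ℤ) *
                Nat.gcdA (Nat.card (P : Subgroup G)) (P : Subgroup G).index +
              ((P : Subgroup G).index : ℤ) *
                Nat.gcdB (Nat.card (P : Subgroup G)) (P : Subgroup G).index) := by
              rw [← hbez]
              simp
          _ = _ := by
              rw [zpow_add, zpow_mul, zpow_mul, zpow_natCast, zpow_natCast]
      set ks := (g ^ Nat.card (P : Subgroup G)) ^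
            (Nat.gcdA (Nat.card (P : Subgroup G)) (P : Subgroup G).index) with hks
      set pt := (g ^ (P : Subgroup G).index) ^
            (Nat.gcdB (Nat.card (P : Subgroup G)) (P : Subgroup G).index) with hpt
      have hptP : pt ∈ (P : Subgroup G) := Subgroup.zpow_mem _ hp _
      have hksc : ∀ v ∈ (P : Subgroup G), Commute ks v := by
        intro v hv
        have : Commute (g ^ Nat.card (P : Subgroup G)) v := hS1 _ hk v hv
        exact this.zpow_left _
      have hv : pt * u * pt⁻¹ ∈ (P : Subgroup G) :=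
        ‹(P : Subgroup G).Normal›.conj_mem _ hu pt
      have e1 : g * u * g⁻¹ * u⁻¹ = pt * u * pt⁻¹ * u⁻¹ := by
        calc g * u * g⁻¹ * u⁻¹ = ks * (pt * u * pt⁻¹) * ks⁻¹ * u⁻¹ := by
              rw [hg]
              group
          _ = (pt * u * pt⁻¹) * ks * ks⁻¹ * u⁻¹ := by rw [(hksc _ hv).eq]
          _ = pt * u * pt⁻¹ * u⁻¹ := by group
      rw [e1, ← commutatorElement_def]
      exact Subgroup.commutator_mem_commutator hptP hu
    have hle := commutator_le_of_central_mod (P : Subgroup G) _ hab hcop hAmem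
    have hcA : Nat.card (⁅(P : Subgroup G), (P : Subgroup G)⁆ : Subgroup G) =
        Nat.card (commutator ↥(P : Subgroup G)) := by
      rw [← Subgroup.map_subtype_commutator]
      exact Nat.card_congr (Subgroup.equivMapOfInjective _ _
          (P : Subgroup G).subtype_injective).symm.toEquiv
    exact (Subgroup.card_dvd_of_le hle).trans (hcA ▸ hG1)

end assembly

end Cfsg.Agent.Lib.H22.SF
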