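import Cfsg.Agent.Lib.H24.GlaubOver5

/-!
# S3016 (I), step (4) of the paper proof (helper22)

`D, L, S` subgroups of one finite group `Γ`, `L ≤ D` normalised by `D` and by the `p`-group `S`;
`β ∈ Irr(D)` is `S`-invariant of degree prime to `p`, and the only `S`-invariant irreducible
character of `L` is the principal one.  Then `L ≤ ker β`.

Proof: `β(1) = ∑_φ [β_L, φ] φ(1)`, the summand is `S`-invariant, so modulo `p` only the `S`-invariant
`φ`, i.e. `φ = 1_L`, contribute: `[β_L, 1_L] ≠ 0`.  By Clifford every constituent of `β_L` is a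
`D`-conjugate of `1_L`, hence equal to `1_L`, so `β_L = [β_L, 1_L] 1_L` is constant.
-/

set_option autoImplicit false
set_option linter.style.haveILetI false

universe u

namespace Cfsg.Agent.Lib.H22.SH16

open Cfsg Cfsg.Agent.Lib.L0 Cfsg.Agent.Lib.H23 Cfsg.Agent.Lib.H24 Cfsg.Agent.Lib.H24.Glaub

variable {Γ : Type u} [Group Γ] [Finite Γ]

theorem ker_of_inv_trivial {p : ℕ} [hp : Fact p.Prime] (D L S : Subgroup Γ) (hLD : L ≤ D)
    (hLn : ∀ d ∈ D, ∀ l ∈ L, d * l * d⁻¹ ∈ L)
    (hSL : ∀ s ∈ S, ∀ l ∈ L, s * l * s⁻¹ ∈ L) (hS : IsPGroup p S)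
    (β : IrrCharacter D) (hβ : ∀ s ∈ S, InvUnder D s (β : D → ℂ))
    (hdeg : ¬ p ∣ charDegree (β : D → ℂ))
    (htriv : ∀ φ : IrrCharacter L, (∀ s ∈ S, InvUnder L s (φ : L → ℂ)) →
      (φ : L → ℂ) = fun _ => 1) :
    ∀ l : L, (β : D → ℂ) ⟨l, hLD l.2⟩ = (β : D → ℂ) 1 := by
  classical
  letI : Fintype Γ := Fintype.ofFinite Γ
  letI : Fintype D := Fintype.ofFinite D
  letI : Fintype L := Fintype.ofFinite L
  letI : Fintype (IrrCharacter L) := Fintype.ofFinite _
  have hβc := isCharacter_of_irr β.2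
  have hone_irr : IsIrrCharacter L (fun _ => (1 : ℂ)) :=
    Cfsg.Agent.Lib.H24.isIrrCharacter_one
  set one : IrrCharacter L := ⟨fun _ => 1, hone_irr⟩ with hone
  have hexp := classFunction_expansion (res hLD (β : D → ℂ))
    (isClassFunction_of_isCharacter (isCharacter_res hLD hβc))
  -- degree formula
  have h1 := congrFun hexp 1
  rw [Finset.sum_apply] at h1
  have h2 : ∀ φ : IrrCharacter L,
      (classInner (res hLD (β : D → ℂ)) (φ : L → ℂ) • (φ : L → ℂ)) 1 =
        ((resMult hLD (β : D → ℂ) (φ : L → ℂ) * charDegree (φ : L → ℂ) : ℕ) : ℂ) := by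
    intro φ
    rw [Pi.smul_apply, smul_eq_mul, ← resMult_spec hLD hβc φ.2,
      apply_one_eq_charDegree _ φ.2]
    push_cast
    rfl
  rw [Finset.sum_congr rfl (fun φ _ => h2 φ)] at h1
  have h3 : res hLD (β : D → ℂ) 1 = (charDegree (β : D → ℂ) : ℂ) := by
    rw [← apply_one_eq_charDegree _ β.2]
    rfl
  rw [h3, ← Nat.cast_sum] at h1
  have h4 : charDegree (β : D → ℂ) =
      ∑ φ : IrrCharacter L, resMult hLD (β : D → ℂ) (φ : L → ℂ) * charDegree (φ : L → ℂ) := by
    exact_mod_cast h1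
  -- the weight function and its invariance
  set f : IrrCharacter L → ℤ := fun φ =>
    ((resMult hLD (β : D → ℂ) (φ : L → ℂ) * charDegree (φ : L → ℂ) : ℕ) : ℤ) with hf
  have hfinv : ∀ (q : S) (φ : IrrCharacter L), f ((irrAct L S hSL).smul q φ) = f φ := by
    intro q φ
    have hq' : ((q : Γ))⁻¹ ∈ S := S.inv_mem q.2
    have e1 : resMult hLD (β : D → ℂ) (((irrAct L S hSL).smul q φ : IrrCharacter L) : L → ℂ) =
        resMult hLD (β : D → ℂ) (φ : L → ℂ) := by
      rw [irrAct_smul_coe]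
      exact resMult_conj_right hLD (hSL _ hq') (inv_norm_of_norm (hSL _ hq')) (hβ _ hq') _
    have e2 : charDegree (((irrAct L S hSL).smul q φ : IrrCharacter L) : L → ℂ) =
        charDegree (φ : L → ℂ) := by
      apply charDegree_eq_of_apply_one
      rw [irrAct_smul_coe, Function.comp_apply, map_one]
      exact apply_one_eq_charDegree _ φ.2
    show ((resMult hLD (β : D → ℂ) (((irrAct L S hSL).smul q φ : IrrCharacter L) : L → ℂ) *
      charDegree (((irrAct L S hSL).smul q φ : IrrCharacter L) : L → ℂ) : ℕ) : ℤ) = _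
    rw [e1, e2]
  have hmod := sum_irr_modEq L S hSL hp.out hS f hfinv
  -- the right-hand side is `f one`
  have hone_inv : ∀ q ∈ S, InvUnder L q (one : L → ℂ) := by
    intro q _ g g' _
    rfl
  have hrhs : (∑ φ : IrrCharacter L,
      (if ∀ q ∈ S, InvUnder L q (φ : L → ℂ) then f φ else 0)) = f one := by
    rw [Finset.sum_eq_single one]
    · rw [if_pos hone_inv]
    · intro φ _ hφ
      rw [if_neg]
      intro hinv
      exact hφ (Subtype.ext (htriv φ hinv))
    · intro h
      exact absurd (Finset.mem_univ one) h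
  rw [hrhs] at hmod
  have hlhs : (∑ φ : IrrCharacter L, f φ) = (charDegree (β : D → ℂ) : ℤ) := by
    rw [h4]
    push_cast
    rfl
  rw [hlhs] at hmod
  have hd1 : charDegree (one : L → ℂ) = 1 := by
    apply charDegree_eq_of_apply_one
    simp [hone]
  have hne : resMult hLD (β : D → ℂ) (one : L → ℂ) ≠ 0 := by
    intro h0
    apply hdeg
    have h5 : f one = 0 := by
      show ((resMult hLD (β : D → ℂ) (one : L → ℂ) * charDegree (one : L → ℂ) : ℕ) : ℤ) = 0
      rw [h0, zero_mul]
      rfl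
    rw [h5] at hmod
    have h6 : (p : ℤ) ∣ (charDegree (β : D → ℂ) : ℤ) := (Int.modEq_zero_iff_dvd).mp hmod
    exact_mod_cast h6
  -- every constituent is the principal character
  have hall : ∀ φ : IrrCharacter L, resMult hLD (β : D → ℂ) (φ : L → ℂ) ≠ 0 → φ = one := by
    intro φ hφ
    obtain ⟨c, hc, hφc⟩ := exists_conj_of_constituents_amb hLD hLn β one φ hne hφ
    apply Subtype.ext
    rw [hφc]
    rfl
  have hres : res hLD (β : D → ℂ) =
      classInner (res hLD (β : D → ℂ)) (one : L → ℂ) • (one : L → ℂ) := by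
    conv_lhs => rw [hexp]
    rw [Finset.sum_eq_single one]
    · intro φ _ hφ
      have h0 : resMult hLD (β : D → ℂ) (φ : L → ℂ) = 0 := by
        by_contra hcon
        exact hφ (hall φ hcon)
      have h7 := resMult_spec hLD hβc φ.2
      rw [h0, Nat.cast_zero] at h7
      rw [← h7, zero_smul]
    · intro h
      exact absurd (Finset.mem_univ one) h
  intro l
  have ha := congrFun hres l
  have hb := congrFun hres 1
  rw [Pi.smul_apply] at ha hb
  have hc : (β : D → ℂ) ⟨l, hLD l.2⟩ = res hLD (β : D → ℂ) l := rfl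
  have hd : (β : D → ℂ) 1 = res hLD (β : D → ℂ) 1 := rfl
  rw [hc, hd, ha, hb]

end Cfsg.Agent.Lib.H22.SH16
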