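import Mathlib
import Cfsg.Agent.Lib.H22.SchAutA

/-!
# Consequences of the semi-extraspecial structure (helper22)

`SE.lemmaK` (hyperplane commutator lemma), `Cfg.q_eq_two_of_three`, `Cfg.false_of_q_two`,
`Cfg.false_of_two` (the exceptional configurations of order `p^3`).
-/

set_option autoImplicit false
open scoped commutatorElement

namespace Cfsg.Agent.Lib.H22.SchAut

section se

variable {S : Type*} [Group S] {p : ℕ} {Z : Subgroup S}

theorem SE.hc (h : SE p Z) : ∀ a b s : S, s * ⁅a, b⁆ = ⁅a, b⁆ * s :=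
  fun a b s => h.central _ (h.comm a b) s

theorem SE.comm_eq_one_of_mem (h : SE p Z) {z : S} (hz : z ∈ Z) (x : S) : ⁅x, z⁆ = 1 := by
  rw [commutatorElement_eq_one_iff_mul_comm]
  exact h.central z hz x

theorem SE.comm_eq_one_of_mem' (h : SE p Z) {z : S} (hz : z ∈ Z) (x : S) : ⁅z, x⁆ = 1 := by
  rw [commutatorElement_eq_one_iff_mul_comm]
  exact (h.central z hz x).symm

theorem SE.pow_eq_one (h : SE p Z) (hne : Z ≠ ⊤) {z : S} (hz : z ∈ Z) : z ^ p = 1 := by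
  obtain ⟨x, hx⟩ : ∃ x : S, x ∉ Z := by
    by_contra hcon
    push Not at hcon
    exact hne (eq_top_iff.2 fun x _ => hcon x)
  obtain ⟨s, rfl⟩ := h.surj x hx z hz
  have h1 : ⁅x, s⁆ ^ p = ⁅x ^ p, s⁆ := by
    have := map_pow (cr h.hc s) x p
    rw [cr_apply, cr_apply] at this
    exact this.symm
  rw [h1]
  exact h.comm_eq_one_of_mem' (h.ppow x) s

/-- **Hyperplane commutator lemma.** -/
theorem SE.lemmaK (h : SE p Z) (V S0 : Subgroup S) (x : S)
    (hgen : ∀ s : S, ∃ i : ℕ, ∃ s0 ∈ S0, s = x ^ i * s0) :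
    (∀ v ∈ V, ⁅x, v⁆ ∈ Subgroup.closure {y | ∃ s ∈ S0, ∃ w ∈ V, y = ⁅s, w⁆}) ∨
    (∃ a ∈ V, a ∉ Z ∧ ∀ v ∈ V, ∃ j : ℕ, ∃ z ∈ Z, v = a ^ j * z) := by
  set Y := Subgroup.closure {y | ∃ s ∈ S0, ∃ w ∈ V, y = ⁅s, w⁆} with hY
  by_cases hall : ∀ v ∈ V, ⁅x, v⁆ ∈ Y
  · left; exact hall
  right
  push Not at hall
  obtain ⟨a, haV, hax⟩ := hall
  have haZ : a ∉ Z := by
    intro haZ
    apply hax
    rw [h.comm_eq_one_of_mem haZ]
    exact Y.one_mem
  refine ⟨a, haV, haZ, ?_⟩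
  have hgenY : ∀ s ∈ S0, ∀ w ∈ V, ⁅w, s⁆ ∈ Y := by
    intro s hs w hw
    rw [← commutatorElement_inv]
    exact Y.inv_mem (Subgroup.subset_closure ⟨s, hs, w, hw, rfl⟩)
  have hexp : ∀ w : S, ∀ i : ℕ, ∀ s0 : S, ⁅w, x ^ i * s0⁆ = ⁅w, x⁆ ^ i * ⁅w, s0⁆ := by
    intro w i s0
    have := map_mul (cl h.hc w) (x ^ i) s0
    rw [map_pow] at this
    exact this
  intro v hvV
  obtain ⟨s, hs⟩ := h.surj a haZ ⁅v, x⁆ (h.comm v x)
  obtain ⟨i, s0, hs0, rfl⟩ := hgen s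
  rw [hexp] at hs
  have hwV : v * (a ^ i)⁻¹ ∈ V := V.mul_mem hvV (V.inv_mem (V.pow_mem haV i))
  have hwx : ⁅v * (a ^ i)⁻¹, x⁆ ∈ Y := by
    have h1 : ⁅v * (a ^ i)⁻¹, x⁆ = ⁅v, x⁆ * (⁅a, x⁆ ^ i)⁻¹ := by
      have := map_mul (cr h.hc x) v (a ^ i)⁻¹
      rw [map_inv, map_pow] at this
      exact this
    rw [h1, ← hs]
    have h2 : ⁅a, x⁆ ^ i * ⁅a, s0⁆ = ⁅a, s0⁆ * ⁅a, x⁆ ^ i := h.central _ (h.comm a s0) _
    rw [h2, mul_inv_cancel_right]
    exact hgenY s0 hs0 a haV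
  have hwZ : v * (a ^ i)⁻¹ ∈ Z := by
    by_contra hwZ
    obtain ⟨s', hs'⟩ := h.surj _ hwZ ⁅a, x⁆ (h.comm a x)
    obtain ⟨i', s0', hs0', rfl⟩ := hgen s'
    rw [hexp] at hs'
    apply hax
    rw [← commutatorElement_inv]
    apply Y.inv_mem
    rw [← hs']
    exact Y.mul_mem (Y.pow_mem hwx i') (hgenY s0' hs0' _ hwV)
  refine ⟨i, v * (a ^ i)⁻¹, hwZ, ?_⟩
  have h3 : a ^ i * (v * (a ^ i)⁻¹) = v * (a ^ i)⁻¹ * a ^ i := h.central _ hwZ (a ^ i)
  rw [h3, inv_mul_cancel_right]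

end se

section cfg

variable {S : Type*} [Group S] [Finite S] {p q : ℕ} {ψ : S ≃* S}

theorem Cfg.card_modEq (h : Cfg p q ψ) : Nat.card S ≡ Nat.card (fixSub ψ) [MOD q] := by
  classical
  letI : Fintype S := Fintype.ofFinite S
  haveI : Fact q.Prime := ⟨h.hq⟩
  let f : Function.End S := ⇑ψ
  have hpow : ∀ n : ℕ, ((f ^ n : Function.End S) : S → S) = (⇑ψ)^[n] := by
    intro n
    induction n with
    | zero => rfl
    | succ n ih =>
      rw [pow_succ, Function.iterate_succ, ← ih]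
      rfl
  have hf : f ^ q ^ 1 = 1 := by
    rw [pow_one]
    have h1 := hpow q
    funext x
    have h2 := congrFun h1 x
    rw [h.pow x] at h2
    exact h2
  have h1 := Equiv.Perm.card_fixedPoints_modEq (p := q) (n := 1) hf
  rw [← Nat.card_eq_fintype_card, ← Nat.card_eq_fintype_card] at h1
  exact h1

/-- if `ψ g` lies in `⟨g, Z⟩` and `S` is not commutative then `ψ g = g` -/
theorem Cfg.fixed_of_mem_closure (h : Cfg p q ψ) (hna : ∃ u v : S, u * v ≠ v * u) (g : S)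
    (hg : ψ g ∈ Subgroup.closure ({g} ∪ (fixSub ψ : Set S))) : ψ g = g := by
  obtain ⟨u, v, huv⟩ := hna
  have hne : Subgroup.closure ({g} ∪ (fixSub ψ : Set S)) ≠ ⊤ := by
    intro htop
    exact huv (comm_of_closure_eq_top h.central g htop u v)
  have hinv : ∀ y ∈ Subgroup.closure ({g} ∪ (fixSub ψ : Set S)),
      ψ y ∈ Subgroup.closure ({g} ∪ (fixSub ψ : Set S)) := by
    have hle : Subgroup.closure ({g} ∪ (fixSub ψ : Set S)) ≤
        (Subgroup.closure ({g} ∪ (fixSub ψ : Set S))).comap ψ.toMonoidHom := by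
      rw [Subgroup.closure_le]
      rintro y (hy | hy)
      · rw [Set.mem_singleton_iff] at hy
        subst hy
        exact hg
      · show ψ y ∈ Subgroup.closure ({g} ∪ (fixSub ψ : Set S))
        have hy' : ψ y = y := hy
        rw [hy']
        exact Subgroup.subset_closure (Or.inr hy)
    exact fun y hy => hle hy
  exact h.inv _ hne hinv g (Subgroup.subset_closure (Or.inl rfl))

/-- `q = 2` is impossible for a non-commutative `S` -/
theorem Cfg.false_of_q_two (h : Cfg p q ψ) (hq2 : q = 2) (hna : ∃ u v : S, u * v ≠ v * u) :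
    False := by
  have hinvol : ∀ s : S, ψ (ψ s) = s := by
    intro s
    have := h.pow s
    rw [hq2] at this
    exact this
  obtain ⟨w, hw⟩ := h.ne
  have h1 : ψ (w * ψ w) = w * ψ w := by
    apply h.fixed_of_mem_closure hna
    rw [map_mul, hinvol]
    have h2 : ψ w * w = (w * ψ w) * ⁅(ψ w)⁻¹, w⁻¹⁆ := by
      simp only [commutatorElement_def]; group
    rw [h2]
    exact Subgroup.mul_mem _ (Subgroup.subset_closure (Or.inl rfl))
      (Subgroup.subset_closure (Or.inr (h.comm_mem _ _)))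
  apply hw
  apply h.fixed_of_mem_closure hna
  have h2 : ψ w = w⁻¹ * (w * ψ w) := by group
  rw [h2]
  exact Subgroup.mul_mem _ (Subgroup.inv_mem _ (Subgroup.subset_closure (Or.inl rfl)))
    (Subgroup.subset_closure (Or.inr h1))

/-- for `p = 3` and `|S : Z| ≤ 9` the prime `q` must be `2` -/
theorem Cfg.q_eq_two_of_three (h : Cfg p q ψ) (hp3 : p = 3) (x a : S)
    (hgen : ∀ s : S, ∃ i j : ℕ, ∃ z ∈ fixSub ψ, s = x ^ i * a ^ j * z) : q = 2 := by
  subst hp3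
  haveI : Fact (Nat.Prime 3) := ⟨h.hp⟩
  set Z := fixSub ψ with hZ
  have hse := h.se
  have hx3 : x ^ 3 ∈ Z := hse.ppow x
  have ha3 : a ^ 3 ∈ Z := hse.ppow a
  have hle : Nat.card S ≤ 9 * Nat.card Z := by
    let g : (Fin 3 × Fin 3) × Z → S := fun t => x ^ (t.1.1 : ℕ) * a ^ (t.1.2 : ℕ) * (t.2 : S)
    have hg : Function.Surjective g := by
      intro s
      obtain ⟨i, j, z, hz, rfl⟩ := hgen s
      refine ⟨((⟨i % 3, Nat.mod_lt _ (by norm_num)⟩, ⟨j % 3, Nat.mod_lt _ (by norm_num)⟩),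
        ⟨(x ^ 3) ^ (i / 3) * (a ^ 3) ^ (j / 3) * z,
          Z.mul_mem (Z.mul_mem (Z.pow_mem hx3 _) (Z.pow_mem ha3 _)) hz⟩), ?_⟩
      show x ^ (i % 3) * a ^ (j % 3) * ((x ^ 3) ^ (i / 3) * (a ^ 3) ^ (j / 3) * z) =
        x ^ i * a ^ j * z
      have hxi : x ^ i = x ^ (i % 3) * (x ^ 3) ^ (i / 3) := by
        rw [← pow_mul, ← pow_add, Nat.mod_add_div]
      have haj : a ^ j = a ^ (j % 3) * (a ^ 3) ^ (j / 3) := by
        rw [← pow_mul, ← pow_add, Nat.mod_add_div]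
      rw [hxi, haj]
      have hc1 : a ^ (j % 3) * (x ^ 3) ^ (i / 3) = (x ^ 3) ^ (i / 3) * a ^ (j % 3) :=
        hse.central _ (Z.pow_mem hx3 _) _
      simp only [mul_assoc]
      congr 1
      rw [← mul_assoc (a ^ (j % 3)), hc1, mul_assoc]
    have h1 := Nat.card_le_card_of_surjective g hg
    rw [Nat.card_prod, Nat.card_prod, Nat.card_fin] at h1
    linarith
  have hmod := h.card_modEq
  obtain ⟨α, hα⟩ := IsPGroup.iff_card.1 h.pgroup
  obtain ⟨β, hβ⟩ := IsPGroup.iff_card.1 (h.pgroup.to_subgroup Z)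
  have hdvd : Nat.card Z ∣ Nat.card S := Subgroup.card_subgroup_dvd_card Z
  rw [hα, hβ] at hdvd hle
  have hβα : β ≤ α := (Nat.pow_dvd_pow_iff_le_right (by norm_num)).1 hdvd
  obtain ⟨γ, rfl⟩ := Nat.exists_eq_add_of_le hβα
  have hγ0 : γ ≠ 0 := by
    rintro rfl
    apply h.fix_ne_top
    rw [← Subgroup.card_eq_iff_eq_top, hα, ← hZ, hβ, add_zero]
  have hγ2 : γ ≤ 2 := by
    by_contra hcon
    push Not at hcon
    have h27 : 27 ≤ 3 ^ γ := by
      calc 27 = 3 ^ 3 := by norm_num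
        _ ≤ 3 ^ γ := Nat.pow_le_pow_right (by norm_num) (by omega)
    rw [pow_add] at hle
    have h3 : 3 ^ β * 27 ≤ 3 ^ β * 3 ^ γ := Nat.mul_le_mul_left _ h27
    have hpos : 0 < 3 ^ β := by positivity
    linarith
  have hq3 : q ≠ 3 := fun hh => h.hpq hh.symm
  have hqdvd : q ∣ 3 ^ (β + γ) - 3 ^ β := by
    rw [hα, ← hZ, hβ] at hmod
    exact (Nat.modEq_iff_dvd' (Nat.pow_le_pow_right (by norm_num) (by omega))).1 hmod.symm
  have hfac : 3 ^ (β + γ) - 3 ^ β = 3 ^ β * (3 ^ γ - 1) := by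
    rw [pow_add, Nat.mul_sub, mul_one]
  rw [hfac] at hqdvd
  have hcop : Nat.Coprime q (3 ^ β) :=
    Nat.Coprime.pow_right β ((Nat.coprime_primes h.hq (by norm_num)).2 hq3)
  have hq' : q ∣ 3 ^ γ - 1 := hcop.dvd_of_dvd_mul_left hqdvd
  have hγ : γ = 1 ∨ γ = 2 := by omega
  rcases hγ with rfl | rfl
  · norm_num at hq'
    exact (Nat.prime_dvd_prime_iff_eq h.hq Nat.prime_two).1 hq'
  · norm_num at hq'
    have h8 : q ∣ 2 ^ 3 := by norm_num; exact hq'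
    exact (Nat.prime_dvd_prime_iff_eq h.hq Nat.prime_two).1 (h.hq.dvd_of_dvd_pow h8)

end cfg

end Cfsg.Agent.Lib.H22.SchAut
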