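import Mathlib
import Cfsg.Agent.Lib.H22.SchAutB

/-!
# The exceptional configuration for `p = 2` (helper22)
-/

set_option autoImplicit false
open scoped commutatorElement

namespace Cfsg.Agent.Lib.H22.SchAut

variable {S : Type*} [Group S] [Finite S] {p q : ℕ} {ψ : S ≃* S}

theorem Cfg.false_of_two (h : Cfg p q ψ) (hp2 : p = 2) (x a : S)
    (hgen : ∀ s : S, ∃ i j : ℕ, ∃ z ∈ fixSub ψ, s = x ^ i * a ^ j * z)
    (haZ : a ∉ fixSub ψ) (F : Subgroup S) (haF : a ^ 2 ∈ F)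
    (hF : ∃ j : ℕ, ∃ z ∈ fixSub ψ, ⁅x, a ^ j * z⁆ ∉ F) : False := by
  subst hp2
  set Z := fixSub ψ with hZ
  have hse := h.se
  have hc := hse.hc
  have hZne : Z ≠ ⊤ := h.fix_ne_top
  have hsq : ∀ z ∈ Z, z ^ 2 = 1 := fun z hz => hse.pow_eq_one hZne hz
  have hxa : ⁅x, a⁆ ∉ F := by
    obtain ⟨j, z, hz, hjz⟩ := hF
    intro hmem
    apply hjz
    have h1 : ⁅x, a ^ j * z⁆ = ⁅x, a⁆ ^ j * ⁅x, z⁆ := by
      have := map_mul (cl hc x) (a ^ j) z
      rw [map_pow] at this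
      exact this
    rw [h1, hse.comm_eq_one_of_mem hz, mul_one]
    exact F.pow_mem hmem j
  have hcF : ⁅a, x⁆ ∉ F := by
    intro hmem
    apply hxa
    rw [← commutatorElement_inv]
    exact F.inv_mem hmem
  have hcZ : ⁅a, x⁆ ∈ Z := hse.comm a x
  have hc2 : ⁅a, x⁆ ^ 2 = 1 := hsq _ hcZ
  have hc1 : ⁅a, x⁆ ≠ 1 := fun h1 => hcF (h1 ▸ F.one_mem)
  have hZc : ∀ z ∈ Z, z = 1 ∨ z = ⁅a, x⁆ := by
    intro z hz
    obtain ⟨s, hs⟩ := hse.surj a haZ z hz
    obtain ⟨i, j, z', hz', rfl⟩ := hgen s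
    have h1 : ⁅a, x ^ i * a ^ j * z'⁆ = ⁅a, x⁆ ^ i := by
      show cl hc a (x ^ i * a ^ j * z') = _
      rw [map_mul, map_mul, map_pow, map_pow, cl_apply, cl_apply, cl_apply,
        commutatorElement_self, one_pow, mul_one, hse.comm_eq_one_of_mem hz', mul_one]
    rw [h1] at hs
    rcases Nat.even_or_odd' i with ⟨k, rfl | rfl⟩
    · left; rw [← hs, pow_mul, hc2, one_pow]
    · right; rw [← hs, pow_succ, pow_mul, hc2, one_pow, one_mul]
  have ha2 : a ^ 2 = 1 := by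
    rcases hZc _ (hse.ppow a) with h1 | h1
    · exact h1
    · exact absurd (h1 ▸ haF) hcF
  have hna : ∃ u v : S, u * v ≠ v * u := by
    refine ⟨a, x, fun hcomm => hc1 ?_⟩
    rw [commutatorElement_eq_one_iff_mul_comm]; exact hcomm
  have hainv : a⁻¹ = a := by
    rw [inv_eq_iff_mul_eq_one, ← pow_two]; exact ha2
  have hb2 : (ψ a) ^ 2 = 1 := by rw [← map_pow, ha2, map_one]
  have hbZ : ψ a ∉ Z := by
    intro hbZ
    have h1 : ψ (ψ a) = ψ a := hbZ
    exact haZ (ψ.injective h1)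
  have hbinv : (ψ a)⁻¹ = ψ a := by rw [inv_eq_iff_mul_eq_one, ← pow_two]; exact hb2
  have hbaz : ∀ z ∈ Z, ψ a ≠ a * z := by
    intro z hz hbz
    apply haZ
    show ψ a = a
    apply h.fixed_of_mem_closure hna
    rw [hbz]
    exact Subgroup.mul_mem _ (Subgroup.subset_closure (Or.inl rfl))
      (Subgroup.subset_closure (Or.inr hz))
  have hx2 : x ^ 2 ∈ Z := hse.ppow x
  have nf : ∀ s : S, ∃ e d : ℕ, e < 2 ∧ d < 2 ∧ ∃ z ∈ Z, s = x ^ e * a ^ d * z := by
    intro s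
    obtain ⟨i, j, z, hz, rfl⟩ := hgen s
    refine ⟨i % 2, j % 2, Nat.mod_lt _ (by norm_num), Nat.mod_lt _ (by norm_num),
      (x ^ 2) ^ (i / 2) * z, Z.mul_mem (Z.pow_mem hx2 _) hz, ?_⟩
    have hxi : x ^ i = x ^ (i % 2) * (x ^ 2) ^ (i / 2) := by
      rw [← pow_mul, ← pow_add, Nat.mod_add_div]
    have haj : a ^ j = a ^ (j % 2) := by
      conv_lhs => rw [← Nat.mod_add_div j 2]
      rw [pow_add, pow_mul, ha2, one_pow, mul_one]
    rw [hxi, haj]
    have hc1 : a ^ (j % 2) * (x ^ 2) ^ (i / 2) = (x ^ 2) ^ (i / 2) * a ^ (j % 2) :=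
      hse.central _ (Z.pow_mem hx2 _) _
    simp only [mul_assoc]
    congr 1
    rw [← mul_assoc (a ^ (j % 2)), hc1, mul_assoc]
  obtain ⟨e, d, he, hd, z0, hz0, hbnf⟩ := nf (ψ a)
  have he1 : e = 1 := by
    interval_cases e
    · exfalso
      rw [pow_zero, one_mul] at hbnf
      interval_cases d
      · rw [pow_zero, one_mul] at hbnf
        exact hbZ (hbnf ▸ hz0)
      · rw [pow_one] at hbnf
        exact hbaz z0 hz0 hbnf
    · rfl
  subst he1
  rw [pow_one] at hbnf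
  have hxb : x = ψ a * a ^ d * z0⁻¹ := by
    have hz0c : a ^ d * z0⁻¹ = z0⁻¹ * a ^ d := hse.central _ (Z.inv_mem hz0) _
    rw [hbnf, mul_assoc (x * a ^ d * z0), hz0c, ← mul_assoc, mul_inv_cancel_right, mul_assoc,
      ← pow_add, ← two_mul, pow_mul, ha2, one_pow, mul_one]
  have cover : ∀ s : S, s ∈ Z ∨ (∃ z ∈ Z, s = a * z) ∨ (∃ z ∈ Z, s = ψ a * z) ∨
      (∃ z ∈ Z, s = ψ a * a * z) := by
    intro s
    obtain ⟨e', d', he', hd', z, hz, rfl⟩ := nf s
    interval_cases e'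
    · rw [pow_zero, one_mul]
      interval_cases d'
      · left; rw [pow_zero, one_mul]; exact hz
      · right; left; exact ⟨z, hz, by rw [pow_one]⟩
    · have hmove : x ^ 1 * a ^ d' * z = ψ a * a ^ (d + d') * (z0⁻¹ * z) := by
        have hz0c : z0⁻¹ * a ^ d' = a ^ d' * z0⁻¹ := (hse.central _ (Z.inv_mem hz0) _).symm
        rw [pow_one]
        conv_lhs => rw [hxb]
        rw [mul_assoc (ψ a * a ^ d), hz0c, ← mul_assoc (ψ a * a ^ d), mul_assoc (ψ a), ← pow_add,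
          mul_assoc]
      rw [hmove]
      have hzz : z0⁻¹ * z ∈ Z := Z.mul_mem (Z.inv_mem hz0) hz
      have hdd : d + d' = 0 ∨ d + d' = 1 ∨ d + d' = 2 := by omega
      rcases hdd with h0 | h0 | h0
      · right; right; left
        exact ⟨_, hzz, by rw [h0, pow_zero, mul_one]⟩
      · right; right; right
        exact ⟨_, hzz, by rw [h0, pow_one]⟩
      · right; right; left
        exact ⟨_, hzz, by rw [h0, ha2, mul_one]⟩
  have hc'2 : (ψ (ψ a)) ^ 2 = 1 := by rw [← map_pow, hb2, map_one]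
  have hc'Z : ψ (ψ a) ∉ Z := by
    intro hmem
    have h1 : ψ (ψ (ψ a)) = ψ (ψ a) := hmem
    exact hbZ (ψ.injective h1)
  rcases cover (ψ (ψ a)) with h1 | ⟨z, hz, h1⟩ | ⟨z, hz, h1⟩ | ⟨z, hz, h1⟩
  · exact hc'Z h1
  · have hq_odd : ∃ k, q + 1 = 2 * k := by
      have hq2 : q ≠ 2 := fun hh => h.hpq hh.symm
      rcases h.hq.eq_two_or_odd' with h2 | h2
      · exact absurd h2 hq2
      · obtain ⟨k, hk⟩ := h2
        exact ⟨k + 1, by omega⟩
    obtain ⟨k, hk⟩ := hq_odd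
    have hInA : ∀ n : ℕ, (⇑ψ)^[2 * n] a ∈ Z ∨ ∃ z' ∈ Z, (⇑ψ)^[2 * n] a = a * z' := by
      intro n
      induction n with
      | zero => right; exact ⟨1, Z.one_mem, by simp⟩
      | succ n ih =>
        have hstep : (⇑ψ)^[2 * (n + 1)] a = ψ (ψ ((⇑ψ)^[2 * n] a)) := by
          rw [show 2 * (n + 1) = (2 * n + 1) + 1 by ring, Function.iterate_succ_apply',
            Function.iterate_succ_apply']
        rw [hstep]
        rcases ih with ih | ⟨z', hz', ih⟩
        · left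
          have e1 : ψ ((⇑ψ)^[2 * n] a) = (⇑ψ)^[2 * n] a := ih
          rw [e1, e1]
          exact ih
        · right
          have hz'f : ψ z' = z' := hz'
          rw [ih, map_mul, map_mul, hz'f, hz'f]
          refine ⟨z * z', Z.mul_mem hz hz', ?_⟩
          rw [h1, mul_assoc]
    have hfin : (⇑ψ)^[2 * k] a = ψ a := by
      rw [← hk, Function.iterate_succ_apply', h.pow a]
    rcases hInA k with h2 | ⟨z', hz', h2⟩
    · rw [hfin] at h2
      exact hbZ h2
    · rw [hfin] at h2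
      exact hbaz z' hz' h2
  · apply hbZ
    show ψ (ψ a) = ψ a
    apply h.fixed_of_mem_closure hna
    rw [h1]
    exact Subgroup.mul_mem _ (Subgroup.subset_closure (Or.inl rfl))
      (Subgroup.subset_closure (Or.inr hz))
  · have hzc : Commute (ψ a * a) z := hse.central z hz _
    have hsq' : (ψ a * a * z) ^ 2 = ⁅ψ a, a⁆ := by
      rw [hzc.mul_pow, hsq z hz, mul_one, commutatorElement_def, hbinv, hainv, pow_two,
        ← mul_assoc]
    rw [h1, hsq'] at hc'2
    have hab : Commute (ψ a) a := commutatorElement_eq_one_iff_mul_comm.1 hc'2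
    apply hc1
    rw [commutatorElement_eq_one_iff_mul_comm]
    have hcomm : Commute a x := by
      rcases cover x with hx | ⟨z1, hz1, hx⟩ | ⟨z1, hz1, hx⟩ | ⟨z1, hz1, hx⟩
      · exact hse.central x hx a
      · rw [hx]
        exact (Commute.refl a).mul_right (hse.central z1 hz1 a)
      · rw [hx]
        exact hab.symm.mul_right (hse.central z1 hz1 a)
      · rw [hx]
        exact (hab.symm.mul_right (Commute.refl a)).mul_right (hse.central z1 hz1 a)
    exact hcomm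

end Cfsg.Agent.Lib.H22.SchAut
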