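import Mathlib
import Cfsg.Agent.Lib.H22.SchAutC
import Cfsg.Agent.Lib.H19.HHE15
import Cfsg.Agent.Lib.H19.HHD9
import Cfsg.Agent.Lib.H7.CoprimeGen
import Cfsg.Agent.Lib.H1.PSolvDual
import Cfsg.Agent.Lib.H1.Complement
import Cfsg.Agent.Lib.H21.NormMax
import Cfsg.Agent.Lib.H27.Basic
import Cfsg.Agent.Lib.H10.PSolvable
import Cfsg.Agent.Lib.H10.PSolvable2
import Cfsg.Agent.Lib.H7.InvCent4

/-!
# Generic lemmas for the Sylow-of-Schmidt-type theorem (helper22)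

`chain_pow_eq_one` : commutators `[g, x]` with `x` stabilizing a `g`-invariant chain
`0 ≤ Y ≤ M` act unipotently.  `exists_pow_mul_of_relIndex` : a subgroup of prime relative index
in an abelian group.
-/

set_option autoImplicit false
open scoped commutatorElement

namespace Cfsg.Agent.Lib.H22.SchAut

section chain

variable {k M Γ : Type*} [Field k] [AddCommGroup M] [Module k M] [Group Γ]

theorem chain_pow_eq_one (p : ℕ) [CharP k p] (ρ : Representation k Γ M) (Y : Submodule k M)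
    (g x : Γ) (hgY : ∀ y ∈ Y, ρ g y ∈ Y) (hgY' : ∀ y ∈ Y, ρ g⁻¹ y ∈ Y)
    (hx1 : ∀ m, ρ x m - m ∈ Y) (hx2 : ∀ y ∈ Y, ρ x y = y) :
    ρ ((g⁻¹ * x⁻¹ * g * x) ^ p) = 1 := by
  have hmul : ∀ a b : Γ, ∀ m, ρ (a * b) m = ρ a (ρ b m) := by
    intro a b m
    rw [map_mul]
    rfl
  have hinvl : ∀ a : Γ, ∀ m, ρ a⁻¹ (ρ a m) = m := by
    intro a m
    rw [← hmul, inv_mul_cancel, map_one]
    rfl
  have hxi2 : ∀ y ∈ Y, ρ x⁻¹ y = y := by
    intro y hy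
    have := hinvl x y
    rw [hx2 y hy] at this
    exact this
  have hxi1 : ∀ m, ρ x⁻¹ m - m ∈ Y := by
    intro m
    have h1 : ρ x⁻¹ (ρ x m - m) = ρ x m - m := hxi2 _ (hx1 m)
    rw [map_sub, hinvl] at h1
    have h2 : ρ x⁻¹ m - m = -(ρ x m - m) := by
      rw [← h1]
      abel
    rw [h2]
    exact Y.neg_mem (hx1 m)
  have hc1 : ∀ m, ρ (g⁻¹ * x⁻¹ * g) m - m ∈ Y := by
    intro m
    rw [hmul, hmul]
    have h1 : ρ g⁻¹ (ρ x⁻¹ (ρ g m)) - m = ρ g⁻¹ (ρ x⁻¹ (ρ g m) - ρ g m) := by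
      rw [map_sub, hinvl]
    rw [h1]
    exact hgY' _ (hxi1 _)
  have hc2 : ∀ y ∈ Y, ρ (g⁻¹ * x⁻¹ * g) y = y := by
    intro y hy
    rw [hmul, hmul, hxi2 _ (hgY y hy), hinvl]
  have hγ1 : ∀ m, ρ (g⁻¹ * x⁻¹ * g * x) m - m ∈ Y := by
    intro m
    rw [hmul]
    have h1 : ρ (g⁻¹ * x⁻¹ * g) (ρ x m) - m =
        (ρ (g⁻¹ * x⁻¹ * g) (ρ x m) - ρ x m) + (ρ x m - m) := by abel
    rw [h1]
    exact Y.add_mem (hc1 _) (hx1 m)
  have hγ2 : ∀ y ∈ Y, ρ (g⁻¹ * x⁻¹ * g * x) y = y := by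
    intro y hy
    rw [hmul, hx2 y hy, hc2 y hy]
  have hpow : ∀ j : ℕ, ∀ m, ρ ((g⁻¹ * x⁻¹ * g * x) ^ j) m =
      m + j • (ρ (g⁻¹ * x⁻¹ * g * x) m - m) := by
    intro j
    induction j with
    | zero =>
      intro m
      rw [pow_zero, map_one, zero_smul, add_zero]
      rfl
    | succ j ih =>
      intro m
      rw [pow_succ', hmul, ih, map_add, map_nsmul, hγ2 _ (hγ1 m), succ_nsmul]
      abel
  apply LinearMap.ext
  intro m
  rw [hpow p m]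
  have h0 : (p : ℕ) • (ρ (g⁻¹ * x⁻¹ * g * x) m - m) = 0 := by
    rw [← Nat.cast_smul_eq_nsmul k, CharP.cast_eq_zero k p, zero_smul]
  rw [h0, add_zero]
  rfl

end chain

theorem exists_pow_mul_of_relIndex {Γ : Type*} [Group Γ] [Finite Γ] {T B : Subgroup Γ}
    (hBT : B ≤ T) (hTc : ∀ a ∈ T, ∀ b ∈ T, a * b = b * a) {p : ℕ} (hp : p.Prime)
    (hidx : B.relIndex T = p) {t : Γ} (htT : t ∈ T) (htB : t ∉ B) :
    ∀ t' ∈ T, ∃ i : ℕ, ∃ b ∈ B, t' = t ^ i * b := by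
  set B' := B ⊔ Subgroup.zpowers t with hB'
  have hB'T : B' ≤ T := sup_le hBT (Subgroup.zpowers_le.2 htT)
  have h1 : B.relIndex B' * B'.relIndex T = B.relIndex T :=
    Subgroup.relIndex_mul_relIndex B B' T le_sup_left hB'T
  have h2 : B.relIndex B' ≠ 1 := by
    rw [Ne, Subgroup.relIndex_eq_one]
    intro hle
    exact htB (hle ((le_sup_right : Subgroup.zpowers t ≤ B') (Subgroup.mem_zpowers t)))
  have h3 : B'.relIndex T = 1 := by
    rw [hidx] at h1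
    have hd : B.relIndex B' ∣ p := ⟨_, h1.symm⟩
    rcases (Nat.dvd_prime hp).1 hd with h | h
    · exact absurd h h2
    · rw [h] at h1
      exact Nat.eq_of_mul_eq_mul_left hp.pos (by rw [h1, mul_one])
  have hTB' : T ≤ B' := Subgroup.relIndex_eq_one.1 h3
  intro t' ht'
  have hzn : Subgroup.zpowers t ≤ Subgroup.normalizer (B : Set Γ) := by
    rw [Subgroup.zpowers_le]
    apply Cfsg.Agent.Lib.H21.NormMax.mem_normalizer_of_forall_conj_mem
    intro b hb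
    rw [hTc t htT b (hBT hb), mul_inv_cancel_right]
    exact hb
  obtain ⟨b, hb, c, hc, hbc⟩ := Cfsg.Agent.Lib.H1.mem_sup_of_le_normalizer hzn (hTB' ht')
  have hc' : c ∈ Submonoid.powers t := (mem_powers_iff_mem_zpowers).2 hc
  obtain ⟨i, rfl⟩ := hc'
  refine ⟨i, b, hb, ?_⟩
  rw [hbc]
  exact hTc b (hBT hb) (t ^ i) (Subgroup.pow_mem _ htT i)

end Cfsg.Agent.Lib.H22.SchAut
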