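import Mathlib
import Cfsg.Agent.Lib.H22.SchAutE

/-!
# A `p`-solvable group with `O_{p'} = 1` and Sylow `p`-subgroup of Schmidt type has a normal
Sylow `p`-subgroup (helper22)
-/

set_option autoImplicit false
set_option maxHeartbeats 1600000
set_option linter.unusedSectionVars false
open scoped commutatorElement

namespace Cfsg.Agent.Lib.H22.SchAut

open Cfsg Cfsg.Agent.Lib.H19.HH

universe u

section main

variable {G : Type u} [Group G] [Finite G] {p : ℕ} [hp : Fact p.Prime] (Q : Sylow p G) {q : ℕ}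
  (ψ : ↥(Q : Subgroup G) ≃* ↥(Q : Subgroup G))

theorem fix_mem_pCore (hcfg : Cfg p q ψ)
    (hCV : Subgroup.centralizer (pCore p G : Set G) ≤ pCore p G) {z : ↥(Q : Subgroup G)}
    (hz : z ∈ fixSub ψ) : (z : G) ∈ pCore p G := by
  apply hCV
  rw [Subgroup.mem_centralizer_iff]
  intro v hv
  have hvQ : v ∈ (Q : Subgroup G) := Cfsg.Agent.Lib.H27.pCore_le_sylow Q hv
  have := hcfg.central z hz ⟨v, hvQ⟩
  exact congrArg Subtype.val this

theorem cmQ_cmQ_eq_one [hVn : (pCore p G).Normal] (hcfg : Cfg p q ψ)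
    (x s : ↥(Q : Subgroup G)) (u : ↥(pCore p G)) :
    cmQ (pCore p G) (x : G) (cmQ (pCore p G) (s : G) u) = 1 := by
  have huQ : (u : G) ∈ (Q : Subgroup G) := Cfsg.Agent.Lib.H27.pCore_le_sylow Q u.2
  have hcZ : ⁅s, (⟨u, huQ⟩ : ↥(Q : Subgroup G))⁆ ∈ fixSub ψ := hcfg.comm_mem _ _
  have h1 := hcfg.central _ hcZ x
  have h2 : (x : G) * ((s : G) * u * (s : G)⁻¹ * (u : G)⁻¹) =
      ((s : G) * u * (s : G)⁻¹ * (u : G)⁻¹) * x := by
    have := congrArg Subtype.val h1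
    simpa [commutatorElement_def] using this
  apply Subtype.ext
  show (x : G) * ((s : G) * u * (s : G)⁻¹ * (u : G)⁻¹) * (x : G)⁻¹ *
    ((s : G) * u * (s : G)⁻¹ * (u : G)⁻¹)⁻¹ = 1
  rw [h2]
  group

theorem cmQ_fix_eq_one [hVn : (pCore p G).Normal] (hcfg : Cfg p q ψ)
    (s : ↥(Q : Subgroup G)) {z : ↥(Q : Subgroup G)} (hz : z ∈ fixSub ψ)
    (hzV : (z : G) ∈ pCore p G) :
    cmQ (pCore p G) (s : G) ⟨z, hzV⟩ = 1 := by
  have h1 := hcfg.central z hz s
  have h2 : (s : G) * z = z * s := congrArg Subtype.val h1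
  apply Subtype.ext
  show (s : G) * z * (s : G)⁻¹ * (z : G)⁻¹ = 1
  rw [h2]
  group

theorem frmk_pow [hVn : (pCore p G).Normal] [hVF : Fact (IsPGroup p ↥(pCore p G))]
    (w : ↥(pCore p G)) (j : ℕ) :
    FrV.mk p (pCore p G) (QuotientGroup.mk (w ^ j)) =
      j • FrV.mk p (pCore p G) (QuotientGroup.mk w) := by
  induction j with
  | zero =>
    rw [pow_zero, zero_smul]
    rfl
  | succ j ih =>
    rw [pow_succ, QuotientGroup.mk_mul, FrV.mk_mul, ih, succ_nsmul]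

theorem frmk_eq_zero_iff [hVn : (pCore p G).Normal] [hVF : Fact (IsPGroup p ↥(pCore p G))]
    (w : ↥(pCore p G)) :
    FrV.mk p (pCore p G) (QuotientGroup.mk w) = 0 ↔ w ∈ frattini ↥(pCore p G) := by
  constructor
  · intro h
    have h1 : (QuotientGroup.mk w : ↥(pCore p G) ⧸ frattini ↥(pCore p G)) = 1 :=
      congrArg FrV.val h
    exact (QuotientGroup.eq_one_iff w).1 h1
  · intro h
    have h1 : (QuotientGroup.mk w : ↥(pCore p G) ⧸ frattini ↥(pCore p G)) = 1 :=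
      (QuotientGroup.eq_one_iff w).2 h
    rw [h1]
    rfl

end main

end Cfsg.Agent.Lib.H22.SchAut
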