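import Mathlib
import Cfsg.Agent.Lib.H22.SchAutF

/-!
# Main theorem: Sylow of Schmidt type in a `p`-solvable group with `O_{p'} = 1` is normal (helper22)
-/

set_option autoImplicit false
set_option maxHeartbeats 3200000
set_option linter.unusedSectionVars false
open scoped commutatorElement

namespace Cfsg.Agent.Lib.H22.SchAut

open Cfsg Cfsg.Agent.Lib.H19.HH

universe u

section main

variable {G : Type u} [Group G] [Finite G] {p : ℕ} [hp : Fact p.Prime] (Q : Sylow p G) {q : ℕ}
  (ψ : ↥(Q : Subgroup G) ≃* ↥(Q : Subgroup G))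

/-- The heart of the argument: an element `g ∈ O_{p'}(G/V)` centralizing a subgroup `B` of
relative index `p` in `T = QV/V` is centralized by every `t ∈ T`. -/
theorem core_commute (hG : IsPSolvable p G) (hO : pPrimeCore p G = ⊥) (hcfg : Cfg p q ψ)
    [hVn : (pCore p G).Normal] [hVF : Fact (IsPGroup p ↥(pCore p G))]
    (hna : ∃ u v : ↥(Q : Subgroup G), u * v ≠ v * u)
    (hp23 : p = 2 ∨ p = 3)
    (hZV : ∀ z ∈ fixSub ψ, ((z : ↥(Q : Subgroup G)) : G) ∈ pCore p G)
    (hTc : ∀ a ∈ (Q : Subgroup G).map (QuotientGroup.mk' (pCore p G)),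
      ∀ b ∈ (Q : Subgroup G).map (QuotientGroup.mk' (pCore p G)), a * b = b * a)
    (B : Subgroup (G ⧸ pCore p G))
    (hBT : B ≤ (Q : Subgroup G).map (QuotientGroup.mk' (pCore p G)))
    (hidx : B.relIndex ((Q : Subgroup G).map (QuotientGroup.mk' (pCore p G))) = p)
    (g : G ⧸ pCore p G) (hgB : ∀ b ∈ B, b * g = g * b)
    (x : ↥(Q : Subgroup G)) (hxB : (QuotientGroup.mk (x : G) : G ⧸ pCore p G) ∉ B) :
    frRep p (pCore p G)
      ((g⁻¹ * (QuotientGroup.mk (x : G) : G ⧸ pCore p G)⁻¹ * g * QuotientGroup.mk (x : G)) ^ p) = 1 := by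
  classical
  have hVQ : pCore p G ≤ Q := Cfsg.Agent.Lib.H27.pCore_le_sylow Q
  have hVp : IsPGroup p ↥(pCore p G) := hVF.out
  have hse := hcfg.se
  have hρinj := frRep_injective hG hO
  set ρ := frRep p (pCore p G) with hρ
  have hρmul : ∀ (a b : G ⧸ pCore p G) (m : FrV p (pCore p G)), ρ (a * b) m = ρ a (ρ b m) := by
    intro a b m
    rw [map_mul]
    rfl
  have hquad : ∀ (y s : ↥(Q : Subgroup G)) (v : FrV p (pCore p G)),
      (ρ (QuotientGroup.mk (y : G)) - 1) ((ρ (QuotientGroup.mk (s : G)) - 1) v) = 0 :=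
    fun y s v => frRep_quad_of_cmQ (pCore p G) (fun u => cmQ_cmQ_eq_one Q ψ hcfg y s u) v
  have hquad' : ∀ (y s : ↥(Q : Subgroup G)) (v : FrV p (pCore p G)),
      ρ (QuotientGroup.mk (y : G)) (ρ (QuotientGroup.mk (s : G)) v - v) =
        ρ (QuotientGroup.mk (s : G)) v - v := by
    intro y s v
    have := hquad y s v
    rw [LinearMap.sub_apply, LinearMap.sub_apply, Module.End.one_apply, Module.End.one_apply,
      sub_eq_zero] at this
    exact this
  set t : G ⧸ pCore p G := QuotientGroup.mk (x : G) with ht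
  have htT : t ∈ (Q : Subgroup G).map (QuotientGroup.mk' (pCore p G)) := ⟨x, x.2, rfl⟩
  have hgenT := exists_pow_mul_of_relIndex hBT hTc hp.out hidx htT hxB
  -- g and g⁻¹ commute with B
  have hgB' : ∀ b ∈ B, b * g⁻¹ = g⁻¹ * b := by
    intro b hb
    have h1 := hgB b hb
    calc b * g⁻¹ = g⁻¹ * (g * b) * g⁻¹ := by group
      _ = g⁻¹ * (b * g) * g⁻¹ := by rw [h1]
      _ = g⁻¹ * b := by group
  have hρcomm : ∀ g₁ : G ⧸ pCore p G, (∀ b ∈ B, b * g₁ = g₁ * b) → ∀ b ∈ B,
      ∀ m, ρ b (ρ g₁ m) = ρ g₁ (ρ b m) := by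
    intro g₁ hg₁ b hb m
    rw [← hρmul, ← hρmul, hg₁ b hb]
  -- pull back to Q
  set V' : Subgroup ↥(Q : Subgroup G) := (pCore p G).subgroupOf Q with hV'
  set S0' : Subgroup ↥(Q : Subgroup G) :=
    (B.comap (QuotientGroup.mk' (pCore p G))).subgroupOf Q with hS0'
  have hgen' : ∀ s : ↥(Q : Subgroup G), ∃ i : ℕ, ∃ s0 ∈ S0', s = x ^ i * s0 := by
    intro s
    obtain ⟨i, b, hb, hsb⟩ := hgenT (QuotientGroup.mk (s : G)) ⟨s, s.2, rfl⟩
    refine ⟨i, (x ^ i)⁻¹ * s, ?_, by group⟩
    rw [hS0', Subgroup.mem_subgroupOf, Subgroup.mem_comap]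
    have h1 : QuotientGroup.mk' (pCore p G) (((x ^ i)⁻¹ * s : ↥(Q : Subgroup G)) : G) =
        (t ^ i)⁻¹ * QuotientGroup.mk (s : G) := by
      simp [ht]
    rw [h1, hsb, inv_mul_cancel_left]
    exact hb
  -- elements of B come from Q
  have hBQ : ∀ b ∈ B, ∃ s : ↥(Q : Subgroup G), b = QuotientGroup.mk (s : G) := by
    intro b hb
    obtain ⟨s, hs, rfl⟩ := hBT hb
    exact ⟨⟨s, hs⟩, rfl⟩
  rcases hse.lemmaK V' S0' x hgen' with hK | ⟨a', ha'V, ha'Z, hexc⟩
  · ------------------------------------------------------------------ generic case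
    set Y1 : Submodule (ZMod p) (FrV p (pCore p G)) :=
      Submodule.span (ZMod p) {m | ∃ b ∈ B, ∃ m' : FrV p (pCore p G), m = ρ b m' - m'} with hY1
    have hinvY : ∀ g₁ : G ⧸ pCore p G, (∀ b ∈ B, b * g₁ = g₁ * b) → ∀ y ∈ Y1, ρ g₁ y ∈ Y1 := by
      intro g₁ hg₁
      have hle : Y1 ≤ Y1.comap (ρ g₁) := by
        rw [hY1, Submodule.span_le]
        rintro _ ⟨b, hb, m', rfl⟩
        show ρ g₁ (ρ b m' - m') ∈ Submodule.span (ZMod p)
          {m | ∃ b ∈ B, ∃ m' : FrV p (pCore p G), m = ρ b m' - m'}
        rw [map_sub, ← hρcomm g₁ hg₁ b hb]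
        exact Submodule.subset_span ⟨b, hb, ρ g₁ m', rfl⟩
      exact fun y hy => hle hy
    have hx2 : ∀ y ∈ Y1, ρ t y = y := by
      have hle : Y1 ≤ LinearMap.ker (ρ t - 1) := by
        rw [hY1, Submodule.span_le]
        rintro _ ⟨b, hb, m', rfl⟩
        obtain ⟨s, rfl⟩ := hBQ b hb
        rw [SetLike.mem_coe, LinearMap.mem_ker, LinearMap.sub_apply, Module.End.one_apply,
          sub_eq_zero]
        exact hquad' x s m'
      intro y hy
      have := hle hy
      rw [LinearMap.mem_ker, LinearMap.sub_apply, Module.End.one_apply, sub_eq_zero] at this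
      exact this
    have hx1 : ∀ m, ρ t m - m ∈ Y1 := by
      intro m
      obtain ⟨u, rfl⟩ := exists_frV_mk (pCore p G) m
      have h1 := frRep_sub_one_apply (p := p) (pCore p G) (x : G) u
      rw [LinearMap.sub_apply, Module.End.one_apply] at h1
      rw [ht, hρ, h1]
      -- the subgroup of V of elements mapping into Y1
      let K1 : Subgroup ↥(pCore p G) :=
        { carrier := {w | FrV.mk p (pCore p G) (QuotientGroup.mk w) ∈ Y1}
          one_mem' := by
            show FrV.mk p (pCore p G) (QuotientGroup.mk 1) ∈ Y1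
            have : FrV.mk p (pCore p G) (QuotientGroup.mk (1 : ↥(pCore p G))) = 0 := rfl
            rw [this]
            exact Y1.zero_mem
          mul_mem' := by
            intro a b ha hb
            show FrV.mk p (pCore p G) (QuotientGroup.mk (a * b)) ∈ Y1
            rw [QuotientGroup.mk_mul, FrV.mk_mul]
            exact Y1.add_mem ha hb
          inv_mem' := by
            intro a ha
            show FrV.mk p (pCore p G) (QuotientGroup.mk a⁻¹) ∈ Y1
            have : FrV.mk p (pCore p G) (QuotientGroup.mk a⁻¹) =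
                -FrV.mk p (pCore p G) (QuotientGroup.mk a) := rfl
            rw [this]
            exact Y1.neg_mem ha }
      have huQ : (u : G) ∈ (Q : Subgroup G) := hVQ u.2
      have hcl : Subgroup.closure {y | ∃ s ∈ S0', ∃ w ∈ V', y = ⁅s, w⁆} ≤
          K1.map (Subgroup.inclusion hVQ) := by
        rw [Subgroup.closure_le]
        rintro _ ⟨s, hs, w, hw, rfl⟩
        rw [hV', Subgroup.mem_subgroupOf] at hw
        rw [hS0', Subgroup.mem_subgroupOf, Subgroup.mem_comap] at hs
        refine ⟨cmQ (pCore p G) (s : G) ⟨w, hw⟩, ?_, ?_⟩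
        · show FrV.mk p (pCore p G) (QuotientGroup.mk (cmQ (pCore p G) (s : G) ⟨w, hw⟩)) ∈ Y1
          have h2 := frRep_sub_one_apply (p := p) (pCore p G) (s : G) ⟨w, hw⟩
          rw [LinearMap.sub_apply, Module.End.one_apply] at h2
          rw [← h2]
          exact Submodule.subset_span ⟨_, hs, _, rfl⟩
        · apply Subtype.ext
          rfl
      have h3 := hcl (hK ⟨u, huQ⟩ (by rw [hV', Subgroup.mem_subgroupOf]; exact u.2))
      obtain ⟨w1, hw1, hw1e⟩ := h3
      have h4 : w1 = cmQ (pCore p G) (x : G) u := by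
        apply Subtype.ext
        have := congrArg (fun c : ↥(Q : Subgroup G) => (c : G)) hw1e
        exact this
      rw [← h4]
      exact hw1
    exact chain_pow_eq_one p ρ Y1 g t (hinvY g hgB) (hinvY g⁻¹ hgB') hx1 hx2
  · ------------------------------------------------------------------ exceptional case
    have ha'V' : (a' : G) ∈ pCore p G := by
      rw [hV', Subgroup.mem_subgroupOf] at ha'V
      exact ha'V
    set aV : ↥(pCore p G) := ⟨a', ha'V'⟩ with haV
    set α : FrV p (pCore p G) := FrV.mk p (pCore p G) (QuotientGroup.mk aV) with hα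
    -- decomposition of module elements
    have hdec : ∀ m : FrV p (pCore p G), ∃ j : ℕ, ∃ ζ : FrV p (pCore p G),
        m = j • α + ζ ∧ ∀ s : ↥(Q : Subgroup G), ρ (QuotientGroup.mk (s : G)) ζ = ζ := by
      intro m
      obtain ⟨u, rfl⟩ := exists_frV_mk (pCore p G) m
      have huQ : (u : G) ∈ (Q : Subgroup G) := hVQ u.2
      obtain ⟨j, z, hz, huz⟩ := hexc ⟨u, huQ⟩ (by rw [hV', Subgroup.mem_subgroupOf]; exact u.2)
      have hzV := hZV z hz
      have hu : u = aV ^ j * ⟨z, hzV⟩ := by
        apply Subtype.ext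
        have := congrArg (fun c : ↥(Q : Subgroup G) => (c : G)) huz
        simpa using this
      refine ⟨j, FrV.mk p (pCore p G) (QuotientGroup.mk (⟨z, hzV⟩ : ↥(pCore p G))), ?_, ?_⟩
      · rw [hu, QuotientGroup.mk_mul, FrV.mk_mul, frmk_pow]
      · intro s
        have h2 := frRep_sub_one_apply (p := p) (pCore p G) (s : G) ⟨z, hzV⟩
        rw [LinearMap.sub_apply, Module.End.one_apply, cmQ_fix_eq_one Q ψ hcfg s hz hzV] at h2
        have h3 : FrV.mk p (pCore p G) (QuotientGroup.mk (1 : ↥(pCore p G))) = 0 := rfl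
        rw [h3, sub_eq_zero] at h2
        exact h2
    by_cases hBbot : B = ⊥
    · ---------------------------------------------------------------- order p^3
      exfalso
      have hgen3 : ∀ s : ↥(Q : Subgroup G), ∃ i j : ℕ, ∃ z ∈ fixSub ψ,
          s = x ^ i * a' ^ j * z := by
        intro s
        obtain ⟨i, s0, hs0, rfl⟩ := hgen' s
        rw [hS0', Subgroup.mem_subgroupOf, Subgroup.mem_comap, hBbot, Subgroup.mem_bot] at hs0
        have hs0V : s0 ∈ V' := by
          rw [hV', Subgroup.mem_subgroupOf]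
          exact (QuotientGroup.eq_one_iff _).1 hs0
        obtain ⟨j, z, hz, rfl⟩ := hexc s0 hs0V
        exact ⟨i, j, z, hz, by rw [mul_assoc]⟩
      rcases hp23 with hp2 | hp3
      · -- p = 2
        have ht1 : t ≠ 1 := by
          intro h1
          apply hxB
          rw [h1]
          exact B.one_mem
        have hρt : ρ t ≠ 1 := by
          intro h1
          apply ht1
          apply hρinj
          rw [h1, map_one]
        obtain ⟨m, hm⟩ : ∃ m, ρ t m ≠ m := by
          by_contra hcon
          push Not at hcon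
          apply hρt
          apply LinearMap.ext
          intro m
          rw [hcon m]
          rfl
        obtain ⟨u, rfl⟩ := exists_frV_mk (pCore p G) m
        have huQ : (u : G) ∈ (Q : Subgroup G) := hVQ u.2
        have h1 := frRep_sub_one_apply (p := p) (pCore p G) (x : G) u
        rw [LinearMap.sub_apply, Module.End.one_apply] at h1
        have hnF : cmQ (pCore p G) (x : G) u ∉ frattini ↥(pCore p G) := by
          intro hmem
          rw [← frmk_eq_zero_iff, ← h1, sub_eq_zero] at hmem
          exact hm hmem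
        obtain ⟨j, z, hz, huz⟩ := hexc ⟨u, huQ⟩ (by rw [hV', Subgroup.mem_subgroupOf]; exact u.2)
        refine hcfg.false_of_two hp2 x a' hgen3 ha'Z
          ((frattini ↥(pCore p G)).map (Subgroup.inclusion hVQ)) ?_ ⟨j, z, hz, ?_⟩
        · refine ⟨aV ^ 2, ?_, ?_⟩
          · have h2p : aV ^ 2 = aV ^ p := congrArg (fun n : ℕ => aV ^ n) hp2.symm
            rw [h2p]
            exact Cfsg.Agent.Lib.H1.isPGroup_pow_mem_frattini hVp aV
          · apply Subtype.ext
            rfl
        · rintro ⟨w, hw, hwe⟩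
          apply hnF
          have h4 : w = cmQ (pCore p G) (x : G) u := by
            apply Subtype.ext
            have := congrArg (fun c : ↥(Q : Subgroup G) => (c : G)) hwe
            rw [← huz] at this
            exact this
          rw [← h4]
          exact hw
      · -- p = 3
        have hq2 := hcfg.q_eq_two_of_three hp3 x a' hgen3
        exact hcfg.false_of_q_two hq2 hna
    · ---------------------------------------------------------------- B ≠ ⊥
      obtain ⟨b₀, hb₀, hb₀1⟩ : ∃ b₀ ∈ B, b₀ ≠ 1 := by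
        by_contra hcon
        push Not at hcon
        apply hBbot
        rw [eq_bot_iff]
        intro b hb
        rw [Subgroup.mem_bot]
        exact hcon b hb
      obtain ⟨s₀, hs₀⟩ := hBQ b₀ hb₀
      have hβ : ρ b₀ α - α ≠ 0 := by
        intro hβ0
        rw [sub_eq_zero] at hβ0
        apply hb₀1
        apply hρinj
        rw [map_one]
        apply LinearMap.ext
        intro m
        obtain ⟨j, ζ, rfl, hζ⟩ := hdec m
        rw [map_add, map_nsmul, hβ0, hs₀, hζ s₀]
        rfl
      let Y2 : Submodule (ZMod p) (FrV p (pCore p G)) :=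
        { carrier := {m | ∀ b ∈ B, ρ b m = m}
          zero_mem' := by
            intro b _
            exact map_zero _
          add_mem' := by
            intro a b ha hb c hc
            rw [map_add, ha c hc, hb c hc]
          smul_mem' := by
            intro c a ha b hb
            rw [map_smul, ha b hb] }
      have hinvY : ∀ g₁ : G ⧸ pCore p G, (∀ b ∈ B, b * g₁ = g₁ * b) → ∀ y ∈ Y2, ρ g₁ y ∈ Y2 := by
        intro g₁ hg₁ y hy b hb
        rw [hρcomm g₁ hg₁ b hb, hy b hb]
      have hx1 : ∀ m, ρ t m - m ∈ Y2 := by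
        intro m b hb
        obtain ⟨s, rfl⟩ := hBQ b hb
        exact hquad' s x m
      have hx2 : ∀ y ∈ Y2, ρ t y = y := by
        intro y hy
        obtain ⟨j, ζ, rfl, hζ⟩ := hdec y
        have h1 := hy b₀ hb₀
        rw [map_add, map_nsmul, hs₀, hζ s₀, ← hs₀] at h1
        have h2 : j • (ρ b₀ α - α) = 0 := by
          rw [smul_sub, sub_eq_zero]
          exact add_right_cancel h1
        rw [← Nat.cast_smul_eq_nsmul (ZMod p), smul_eq_zero] at h2
        have hj : ((j : ℕ) : ZMod p) = 0 := h2.resolve_right hβ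
        have h3 : j • α = 0 := by
          rw [← Nat.cast_smul_eq_nsmul (ZMod p), hj, zero_smul]
        rw [h3, zero_add]
        exact hζ x
      exact chain_pow_eq_one p ρ Y2 g t (hinvY g hgB) (hinvY g⁻¹ hgB') hx1 hx2

end main

end Cfsg.Agent.Lib.H22.SchAut
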