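import Mathlib
import Cfsg.Agent.Lib.H22.SchAutG

/-!
# Sylow of Schmidt type in a `p`-solvable group with `O_{p'} = 1` is normal (helper22)
-/

set_option autoImplicit false
set_option maxHeartbeats 3200000
set_option linter.unusedSectionVars false
open scoped commutatorElement

namespace Cfsg.Agent.Lib.H22.SchAut

open Cfsg Cfsg.Agent.Lib.H19.HH

universe u

section main

variable {G : Type u} [Group G] [Finite G] {p : ℕ} [hp : Fact p.Prime] (Q : Sylow p G) {q : ℕ}
  (ψ : ↥(Q : Subgroup G) ≃* ↥(Q : Subgroup G))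

theorem sylow_le_pCore (hG : IsPSolvable p G) (hO : pPrimeCore p G = ⊥) (hcfg : Cfg p q ψ) :
    (Q : Subgroup G) ≤ pCore p G := by
  classical
  by_contra hQV
  haveI hVn : (pCore p G).Normal := Cfsg.Agent.Lib.H1.pCore_normal p G
  have hVp : IsPGroup p ↥(pCore p G) := Cfsg.Agent.Lib.H1.pCore_isPGroup p G
  haveI hVF : Fact (IsPGroup p ↥(pCore p G)) := ⟨hVp⟩
  have hVQ : pCore p G ≤ Q := Cfsg.Agent.Lib.H27.pCore_le_sylow Q
  have hCV := Cfsg.Agent.Lib.H10.centralizer_pCore_le_of_isPSolvable p hG hO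
  have hZV : ∀ z ∈ fixSub ψ, ((z : ↥(Q : Subgroup G)) : G) ∈ pCore p G :=
    fun z hz => fix_mem_pCore Q ψ hcfg hCV hz
  have hna : ∃ u v : ↥(Q : Subgroup G), u * v ≠ v * u := by
    by_contra hab
    push Not at hab
    apply hQV
    intro s hs
    apply hCV
    rw [Subgroup.mem_centralizer_iff]
    intro v hv
    exact congrArg Subtype.val (hab ⟨v, hVQ hv⟩ ⟨s, hs⟩)
  set T : Subgroup (G ⧸ pCore p G) := (Q : Subgroup G).map (QuotientGroup.mk' (pCore p G)) with hT
  have hTc : ∀ a ∈ T, ∀ b ∈ T, a * b = b * a := by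
    rintro _ ⟨a, ha, rfl⟩ _ ⟨b, hb, rfl⟩
    have h1 : ((⁅(⟨a, ha⟩ : ↥(Q : Subgroup G)), ⟨b, hb⟩⁆ : ↥(Q : Subgroup G)) : G) ∈ pCore p G :=
      hZV _ (hcfg.comm_mem _ _)
    have h2 : QuotientGroup.mk' (pCore p G) ⁅a, b⁆ = 1 := (QuotientGroup.eq_one_iff _).2 h1
    rw [map_commutatorElement, commutatorElement_eq_one_iff_mul_comm] at h2
    exact h2
  have hTp : ∀ a ∈ T, a ^ p = 1 := by
    rintro _ ⟨a, ha, rfl⟩
    rw [← map_pow]
    have h1 : (((⟨a, ha⟩ : ↥(Q : Subgroup G)) ^ p : ↥(Q : Subgroup G)) : G) ∈ pCore p G :=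
      hZV _ (hcfg.pow_mem ⟨a, ha⟩)
    exact (QuotientGroup.eq_one_iff _).2 h1
  have hΓsol : IsPSolvable p (G ⧸ pCore p G) := Cfsg.Agent.Lib.H10.isPSolvable_quotient hG _
  have hΓO : pCore p (G ⧸ pCore p G) = ⊥ :=
    Cfsg.Agent.Lib.H7.InvCent.pCore_quotient_eq_bot' p (pCore p G) rfl
  have hρinj := frRep_injective hG hO
  obtain ⟨x0, hx0Q, hx0V⟩ : ∃ x0 ∈ (Q : Subgroup G), x0 ∉ pCore p G := by
    by_contra hcon
    push Not at hcon
    exact hQV hcon
  -- Hall–Higman Theorem B: p ≤ 3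
  have hp23 : p = 2 ∨ p = 3 := by
    set t0 : G ⧸ pCore p G := QuotientGroup.mk x0 with ht0
    have ht0T : t0 ∈ T := ⟨x0, hx0Q, rfl⟩
    have ht0ne : t0 ≠ 1 := fun h => hx0V ((QuotientGroup.eq_one_iff x0).1 h)
    have ht0p : t0 ^ p = 1 := hTp t0 ht0T
    have hord : orderOf t0 = p ^ 1 := by
      rw [pow_one]
      exact orderOf_eq_prime ht0p ht0ne
    have hsq : (frRep p (pCore p G) t0 - 1) ^ 2 = 0 := by
      apply LinearMap.ext
      intro v
      rw [pow_two]
      exact frRep_quad_of_cmQ (pCore p G)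
        (fun u => cmQ_cmQ_eq_one Q ψ hcfg ⟨x0, hx0Q⟩ ⟨x0, hx0Q⟩ u) v
    have hex : ∃ r, (frRep p (pCore p G) t0 - 1) ^ r = 0 := ⟨2, hsq⟩
    have hr := Nat.find_spec hex
    have hrmin : ∀ t < Nat.find hex, (frRep p (pCore p G) t0 - 1) ^ t ≠ 0 :=
      fun t ht => Nat.find_min hex ht
    have hrle : Nat.find hex ≤ 2 := Nat.find_min' hex hsq
    have hp2 : 2 ≤ p := hp.out.two_le
    rcases thmB_general p (frRep p (pCore p G)) hρinj hΓsol hΓO t0 1 le_rfl hord (Nat.find hex)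
      hr hrmin with h | ⟨n₀, q', m, hn₀, hn₀', -, -, -, -, hle⟩
    · rw [pow_one] at h
      left
      omega
    · have hn1 : n₀ = 1 := by omega
      subst hn1
      rw [Nat.sub_self, pow_zero, one_mul, pow_one] at hle
      have hp3 : p ≤ 3 := by omega
      have hp3' : p = 2 ∨ p = 3 := by omega
      exact hp3'
  set L := pPrimeCore p (G ⧸ pCore p G) with hL
  haveI hLn : L.Normal := Cfsg.Agent.Lib.H22.pPrimeCore_normal p
  have hLc : (Nat.card L).Coprime p := Cfsg.Agent.Lib.H22.card_pPrimeCore_coprime p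
  have hCL : Subgroup.centralizer (L : Set (G ⧸ pCore p G)) ≤ L :=
    Cfsg.Agent.Lib.H1.PSolvDual.centralizer_pPrimeCore_le_of_isPSolvable p hΓsol hΓO
  have hTL : T ≤ Subgroup.normalizer (L : Set (G ⧸ pCore p G)) := by
    rw [Subgroup.normalizer_eq_top_iff.2 hLn]
    exact le_top
  have hgen := Cfsg.Agent.Lib.H7.le_hypGen p hTc hTp hLc hTL
  have hL1 : ∀ l ∈ L, l ^ p = 1 → l = 1 := by
    intro l hl h1
    have h2 : l ^ Nat.card L = 1 := by
      have := pow_card_eq_one' (G := L) (x := ⟨l, hl⟩)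
      exact congrArg Subtype.val this
    have h3 : orderOf l ∣ p := orderOf_dvd_of_pow_eq_one h1
    have h4 : orderOf l ∣ Nat.card L := orderOf_dvd_of_pow_eq_one h2
    have h5 : orderOf l = 1 := Nat.eq_one_of_dvd_coprimes hLc h4 h3
    exact orderOf_eq_one_iff.1 h5
  have hTpg : IsPGroup p T := Q.2.map _
  have hkey : ∀ (B : Subgroup (G ⧸ pCore p G)), B ≤ T → B.relIndex T ≤ p →
      ∀ g ∈ L, g ∈ Subgroup.centralizer (B : Set (G ⧸ pCore p G)) → ∀ t ∈ T, t * g = g * t := by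
    intro B hBT hBi g hgL hgB t htT
    rw [Subgroup.mem_centralizer_iff] at hgB
    by_cases htB : t ∈ B
    · exact hgB t htB
    have hidx : B.relIndex T = p := by
      have hne1 : B.relIndex T ≠ 1 := by
        rw [Ne, Subgroup.relIndex_eq_one]
        exact fun hle => htB (hle htT)
      have hdvd : B.relIndex T ∣ Nat.card T := Subgroup.relIndex_dvd_card B T
      obtain ⟨n, hn⟩ := IsPGroup.iff_card.1 hTpg
      rw [hn] at hdvd
      obtain ⟨m, hm, hmo⟩ := (Nat.dvd_prime_pow hp.out).1 hdvd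
      rw [hmo] at hBi hne1 ⊢
      have hp2 := hp.out.two_le
      have hm1 : m = 1 := by
        rcases m with _ | _ | m
        · exact absurd (pow_zero p) hne1
        · rfl
        · exfalso
          have h4 : p ^ 2 ≤ p ^ (m + 1 + 1) := Nat.pow_le_pow_right hp.out.pos (by omega)
          nlinarith
      rw [hm1, pow_one]
    obtain ⟨x, hxQ, rfl⟩ := htT
    have hcore := core_commute Q ψ hG hO hcfg hna hp23 hZV hTc B hBT hidx g hgB ⟨x, hxQ⟩ htB
    set γ : G ⧸ pCore p G := g⁻¹ * (QuotientGroup.mk x : G ⧸ pCore p G)⁻¹ * g * QuotientGroup.mk x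
      with hγ
    have hγp : γ ^ p = 1 := by
      apply hρinj
      rw [map_one]
      exact hcore
    have hγL : γ ∈ L := by
      have h1 : γ = g⁻¹ * ((QuotientGroup.mk x : G ⧸ pCore p G)⁻¹ * g *
          ((QuotientGroup.mk x : G ⧸ pCore p G)⁻¹)⁻¹) := by
        rw [hγ]
        group
      rw [h1]
      exact L.mul_mem (L.inv_mem hgL) (hLn.conj_mem g hgL _)
    have hγ1 : γ = 1 := hL1 γ hγL hγp
    show (QuotientGroup.mk x : G ⧸ pCore p G) * g = g * QuotientGroup.mk x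
    calc (QuotientGroup.mk x : G ⧸ pCore p G) * g
        = (QuotientGroup.mk x : G ⧸ pCore p G) * g * γ := by rw [hγ1, mul_one]
      _ = g * QuotientGroup.mk x := by rw [hγ]; group
  have hTcent : T ≤ Subgroup.centralizer (L : Set (G ⧸ pCore p G)) := by
    intro t ht
    rw [Subgroup.mem_centralizer_iff]
    intro l hl
    have hl' := hgen hl
    have hle : Cfsg.Agent.Lib.H7.hypGen p T L ≤ Subgroup.centralizer {t} := by
      unfold Cfsg.Agent.Lib.H7.hypGen
      apply iSup_le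
      rintro ⟨B, hBT, hBi⟩
      intro g hg
      rw [Subgroup.mem_centralizer_iff]
      intro t' ht'
      rw [Set.mem_singleton_iff] at ht'
      subst ht'
      exact hkey B hBT hBi g hg.1 hg.2 t' ht
    have h1 := hle hl'
    rw [Subgroup.mem_centralizer_iff] at h1
    exact (h1 t rfl).symm
  have ht0T : (QuotientGroup.mk x0 : G ⧸ pCore p G) ∈ T := ⟨x0, hx0Q, rfl⟩
  have h1 := hL1 _ (hCL (hTcent ht0T)) (hTp _ ht0T)
  exact hx0V ((QuotientGroup.eq_one_iff x0).1 h1)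

end main

end Cfsg.Agent.Lib.H22.SchAut
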