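import Mathlib
import Cfsg.Agent.Lib.H22.SchAutH
import Cfsg.Agent.Lib.H22.SchAutD
import Cfsg.Agent.Lib.H19.PLength
import Cfsg.Agent.Lib.H9.PPrimeCore

/-!
# `p`-length one for `p`-solvable groups with Sylow `p`-subgroup of Schmidt type (helper22)
-/

set_option autoImplicit false
set_option maxHeartbeats 1600000
set_option linter.unusedSectionVars false

namespace Cfsg.Agent.Lib.H22.SchAut

open Cfsg

theorem Cfg.of_equiv {S S' : Type*} [Group S] [Group S'] {p q : ℕ} {ψ : S ≃* S}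
    (h : Cfg p q ψ) (e : S' ≃* S) : Cfg p q ((e.trans ψ).trans e.symm) := by
  have happ : ∀ x : S', ((e.trans ψ).trans e.symm) x = e.symm (ψ (e x)) := fun x => rfl
  refine ⟨h.hp, h.hq, h.hpq, h.pgroup.of_equiv e.symm, ?_, ?_, ?_⟩
  · intro x
    have hit : ∀ n : ℕ, (⇑((e.trans ψ).trans e.symm))^[n] x = e.symm ((⇑ψ)^[n] (e x)) := by
      intro n
      induction n with
      | zero => simp
      | succ n ih =>
        rw [Function.iterate_succ_apply', ih, happ, MulEquiv.apply_symm_apply,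
          Function.iterate_succ_apply']
    rw [hit, h.pow, MulEquiv.symm_apply_apply]
  · intro K' hK' hinv x hx
    have hne : K'.map e.toMonoidHom ≠ ⊤ := by
      intro htop
      apply hK'
      rw [eq_top_iff]
      intro y _
      have : e y ∈ K'.map e.toMonoidHom := htop ▸ Subgroup.mem_top _
      obtain ⟨y', hy', hyy⟩ := this
      have : y' = y := e.injective hyy
      rw [← this]
      exact hy'
    have hinv' : ∀ y ∈ K'.map e.toMonoidHom, ψ y ∈ K'.map e.toMonoidHom := by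
      rintro _ ⟨x', hx', rfl⟩
      refine ⟨((e.trans ψ).trans e.symm) x', hinv x' hx', ?_⟩
      show e (e.symm (ψ (e x'))) = ψ (e x')
      rw [MulEquiv.apply_symm_apply]
    have h1 := h.inv _ hne hinv' (e x) ⟨x, hx, rfl⟩
    rw [happ, h1, MulEquiv.symm_apply_apply]
  · obtain ⟨y, hy⟩ := h.ne
    refine ⟨e.symm y, ?_⟩
    rw [happ, MulEquiv.apply_symm_apply]
    intro hcon
    exact hy (e.symm.injective hcon)

universe u

theorem plengthLE_one_of_cfg {G : Type u} [Group G] [Finite G] {p : ℕ} [hp : Fact p.Prime]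
    (hG : IsPSolvable p G) (Q : Sylow p G) {q : ℕ} (ψ : ↥(Q : Subgroup G) ≃* ↥(Q : Subgroup G))
    (hcfg : Cfg p q ψ) : PLengthLE p 1 G := by
  classical
  haveI hNn : (pPrimeCore p G).Normal := Cfsg.Agent.Lib.H22.pPrimeCore_normal p
  have hNc : (Nat.card (pPrimeCore p G)).Coprime p := Cfsg.Agent.Lib.H22.card_pPrimeCore_coprime p
  have hΓsol : IsPSolvable p (G ⧸ pPrimeCore p G) := Cfsg.Agent.Lib.H10.isPSolvable_quotient hG _
  have hΓO : pPrimeCore p (G ⧸ pPrimeCore p G) = ⊥ :=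
    Cfsg.Agent.Lib.H9.pPrimeCore_quotient_eq_bot p
  have hsurj : Function.Surjective (QuotientGroup.mk' (pPrimeCore p G)) :=
    QuotientGroup.mk'_surjective _
  set Qb : Sylow p (G ⧸ pPrimeCore p G) := Q.mapSurjective hsurj with hQb
  -- the isomorphism Q ≃ Qb
  let f : ↥(Q : Subgroup G) →* ↥(Qb : Subgroup (G ⧸ pPrimeCore p G)) :=
    (QuotientGroup.mk' (pPrimeCore p G)).subgroupMap (Q : Subgroup G)
  have hfsurj : Function.Surjective f :=
    (QuotientGroup.mk' (pPrimeCore p G)).subgroupMap_surjective (Q : Subgroup G)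
  have hfinj : Function.Injective f := by
    rw [injective_iff_map_eq_one]
    intro a ha
    have h1 : (QuotientGroup.mk' (pPrimeCore p G)) (a : G) = 1 := congrArg Subtype.val ha
    have h2 : (a : G) ∈ pPrimeCore p G := (QuotientGroup.eq_one_iff _).1 h1
    -- a is a p-element in a p'-group
    obtain ⟨n, hn⟩ := Q.2 a
    have h3 : (a : G) ^ p ^ n = 1 := by
      have := congrArg Subtype.val hn
      simpa using this
    have h4 : (a : G) ^ Nat.card (pPrimeCore p G) = 1 := by
      have := pow_card_eq_one' (G := pPrimeCore p G) (x := ⟨a, h2⟩)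
      exact congrArg Subtype.val this
    have h5 : orderOf (a : G) ∣ p ^ n := orderOf_dvd_of_pow_eq_one h3
    have h6 : orderOf (a : G) ∣ Nat.card (pPrimeCore p G) := orderOf_dvd_of_pow_eq_one h4
    have h7 : orderOf (a : G) = 1 :=
      Nat.eq_one_of_dvd_coprimes (Nat.Coprime.pow_right n hNc) h6 h5
    exact Subtype.ext (orderOf_eq_one_iff.1 h7)
  let e : ↥(Qb : Subgroup (G ⧸ pPrimeCore p G)) ≃* ↥(Q : Subgroup G) :=
    (MulEquiv.ofBijective f ⟨hfinj, hfsurj⟩).symm
  have hcfg' := hcfg.of_equiv e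
  have hle := sylow_le_pCore Qb _ hΓsol hΓO hcfg'
  -- p-length one of the quotient
  have hΓ1 : PLengthLE p 1 (G ⧸ pPrimeCore p G) := by
    haveI hKn : (pCore p (G ⧸ pPrimeCore p G)).Normal := Cfsg.Agent.Lib.H1.pCore_normal p _
    have hKp : IsPGroup p ↥(pCore p (G ⧸ pPrimeCore p G)) := Cfsg.Agent.Lib.H1.pCore_isPGroup p _
    obtain ⟨m, hm⟩ := IsPGroup.iff_card.1 hKp
    have h1 : PLengthLE p 1 ↥(pCore p (G ⧸ pPrimeCore p G)) :=
      Cfsg.Agent.Lib.H19.plengthLE_one_of_isPGroup hm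
    have h2 : PLengthLE p 0 ((G ⧸ pPrimeCore p G) ⧸ pCore p (G ⧸ pPrimeCore p G)) := by
      apply Cfsg.Agent.Lib.H19.plengthLE_zero_of_coprime
      rw [← Subgroup.index_eq_card, Nat.coprime_comm, Nat.Prime.coprime_iff_not_dvd hp.out]
      intro hdvd
      exact Qb.not_dvd_index (hdvd.trans (Subgroup.index_dvd_of_le hle))
    exact Cfsg.Agent.Lib.H19.plengthLE_of_extension _ h1 h2
  have hN0 : PLengthLE p 0 ↥(pPrimeCore p G) := Cfsg.Agent.Lib.H19.plengthLE_zero_of_coprime hNc
  have := Cfsg.Agent.Lib.H19.plengthLE_of_extension _ hN0 hΓ1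
  simpa using this

end Cfsg.Agent.Lib.H22.SchAut
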