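import Mathlib

set_option autoImplicit false

/-!
# A group of order 6 with a non-normal subgroup of order 2 is `S₃`
(helper22, piece R1 of helper5's S3685/S3385 farm-out #1)
-/

open scoped Pointwise

namespace Cfsg.Agent.Lib.H22.Sims

/-- (R1) order 6, a non-normal subgroup of order 2 -/
theorem s3_of_card_six {K : Type*} [Group K] [Finite K] (hK : Nat.card K = 6) (T : Subgroup K)
    (hT : Nat.card T = 2) (hn : ¬ T.Normal) : Nonempty (K ≃* Equiv.Perm (Fin 3)) := by
  classical
  -- the core of `T` is trivial
  have hcore : T.normalCore = ⊥ := by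
    by_contra hne
    have hle : T.normalCore ≤ T := Subgroup.normalCore_le T
    have hdvd : Nat.card T.normalCore ∣ 2 := hT ▸ Subgroup.card_dvd_of_le hle
    have hcard : Nat.card T.normalCore = 2 := by
      rcases (Nat.dvd_prime Nat.prime_two).1 hdvd with h | h
      · exact absurd (Subgroup.card_eq_one.1 h) hne
      · exact h
    have heq : T.normalCore = T := Subgroup.eq_of_le_of_card_ge hle (by rw [hcard, hT])
    exact hn (heq ▸ Subgroup.normalCore_normal T)
  -- the action on the three cosets
  have hidx : T.index = 3 := by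
    have := T.card_mul_index
    rw [hT, hK] at this
    omega
  have hcard3 : Nat.card (K ⧸ T) = 3 := hidx
  have : Finite (K ⧸ T) := Nat.finite_of_card_ne_zero (by rw [hcard3]; norm_num)
  haveI : Fintype (K ⧸ T) := Fintype.ofFinite _
  let f : K →* Equiv.Perm (K ⧸ T) := MulAction.toPermHom K (K ⧸ T)
  have hker : f.ker = ⊥ := by
    rw [← hcore, Subgroup.normalCore_eq_ker]
  have hinj : Function.Injective f := (MonoidHom.ker_eq_bot_iff f).1 hker
  have hcardP : Nat.card (Equiv.Perm (K ⧸ T)) = 6 := by
    rw [Nat.card_eq_fintype_card, Fintype.card_perm, ← Nat.card_eq_fintype_card, hcard3]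
    rfl
  have hbij : Function.Bijective f := by
    have : Finite (Equiv.Perm (K ⧸ T)) := Nat.finite_of_card_ne_zero (by rw [hcardP]; norm_num)
    exact (Nat.bijective_iff_injective_and_card f).2 ⟨hinj, by rw [hK, hcardP]⟩
  have e1 : K ≃* Equiv.Perm (K ⧸ T) := MulEquiv.ofBijective f hbij
  have e2 : (K ⧸ T) ≃ Fin 3 := Finite.equivFinOfCardEq hcard3
  exact ⟨e1.trans e2.permCongrHom⟩

end Cfsg.Agent.Lib.H22.Sims
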