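import Mathlib

/-!
# S2314 piece StCnt IDX (helper22): `Q ⊔ U = ⊤`, `U` normal, `Q ⊓ U = V` ⇒ `[B:Q]·|V| = |U|`

Architect: helper29 (`tools/blueprints/S2314_sigs.lean`).
-/

set_option autoImplicit false

namespace Cfsg.Agent.Lib.H22.StCnt

/-- IDX. -/
theorem index_mul_card_of_sup_eq_top {B : Type*} [Group B] [Finite B] (Q U V : Subgroup B) [U.Normal]
    (hV : Q ⊓ U = V) (hsup : Q ⊔ U = ⊤) : Q.index * Nat.card V = Nat.card U := by
  -- U.index = U.relIndex Q = V.relIndex Q
  have h1 : U.index = V.relIndex Q := by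
    rw [← Subgroup.relIndex_top_right, ← hsup, Subgroup.relIndex_sup_right, ← hV,
      Subgroup.inf_relIndex_left]
  have hVQ : V ≤ Q := hV ▸ inf_le_left
  -- |V| * [Q:V] = |Q|
  have h2 : Nat.card V * V.relIndex Q = Nat.card Q := by
    have := Subgroup.relIndex_mul_relIndex ⊥ V Q bot_le hVQ
    rwa [Subgroup.relIndex_bot_left, Subgroup.relIndex_bot_left] at this
  have h3 : Nat.card U * U.index = Nat.card B := U.card_mul_index
  have h4 : Q.index * Nat.card Q = Nat.card B := Q.index_mul_card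
  have hQpos : 0 < Nat.card Q := Nat.card_pos
  -- Q.index * |Q| = |U| * U.index = |U| * [Q:V];  |Q| = |V| [Q:V]
  have h5 : Q.index * Nat.card V * V.relIndex Q = Nat.card U * V.relIndex Q := by
    rw [mul_assoc, h2, h4, ← h1, h3]
  have hpos : 0 < V.relIndex Q := by
    rcases Nat.eq_zero_or_pos (V.relIndex Q) with h | h
    · rw [h, mul_zero] at h2; omega
    · exact h
  exact Nat.eq_of_mul_eq_mul_right hpos h5

end Cfsg.Agent.Lib.H22.StCnt
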