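import Mathlib

/-!
# S2314 piece StCnt SYL (helper22): every element of `p`-power order is conjugate into a given Sylow `p`-subgroup

Architect: helper29 (`tools/blueprints/S2314_sigs.lean`).
-/

set_option autoImplicit false

namespace Cfsg.Agent.Lib.H22.StCnt

open scoped Pointwise

/-- SYL. -/
theorem exists_conj_mem_of_orderOf_eq_pow {H : Type*} [Group H] [Finite H] (p : ℕ) [Fact p.Prime] (U : Subgroup H)
    (hU : IsPGroup p U) (hidx : ¬ p ∣ U.index) (x : H) (hx : ∃ k : ℕ, orderOf x = p ^ k) :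
    ∃ g : H, g * x * g⁻¹ ∈ U := by
  obtain ⟨k, hk⟩ := hx
  have hz : IsPGroup p (Subgroup.zpowers x) := by
    apply IsPGroup.of_card (n := k)
    rw [Nat.card_zpowers, hk]
  obtain ⟨Q, hQ⟩ := hz.exists_le_sylow
  obtain ⟨g, hg⟩ := MulAction.exists_smul_eq H Q (hU.toSylow hidx)
  refine ⟨g, ?_⟩
  have hxQ : x ∈ Q := hQ (Subgroup.mem_zpowers x)
  have h1 : g * x * g⁻¹ ∈ g • Q := by
    have h2 : g * x * g⁻¹ ∈ ((g • Q : Sylow p H) : Subgroup H) := by
      rw [Sylow.smul_def, Sylow.pointwise_smul_def]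
      have : MulAut.conj g • x ∈ MulAut.conj g • (Q : Subgroup H) :=
        Subgroup.smul_mem_pointwise_smul x (MulAut.conj g) (Q : Subgroup H) hxQ
      simpa [MulAut.smul_def] using this
    exact h2
  rw [hg] at h1
  exact (IsPGroup.mem_toSylow hU hidx).mp h1

end Cfsg.Agent.Lib.H22.StCnt
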