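import Cfsg.Agent.Lib.H22.LargeExtra3

/-!
helper22 library: pairs `(Q, z)` of "symplectic type and exponent 4" (structure `LXS`): like `LX` but
the centre of `Q` may be cyclic of order 4.  Conjugation and symmetry of orthogonality.
-/

set_option autoImplicit false

namespace Cfsg.Agent.Lib.H22.LargeExtra

open Cfsg.Agent.Lib.H15

variable {G : Type*} [Group G]

/-- `Q` has commutators and squares in `{1,z}`, centre with `c² ∈ {1,z}` and unique involution `z`,
contains its centralizer and is normalized by `C_G(z)`. -/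
structure LXS (Q : Subgroup G) (z : G) : Prop where
  ne_one : z ≠ 1
  sq_one : z * z = 1
  mem : z ∈ Q
  cz : ∀ a ∈ Q, a * z = z * a
  comm : ∀ a ∈ Q, ∀ b ∈ Q, a * b * a⁻¹ * b⁻¹ = 1 ∨ a * b * a⁻¹ * b⁻¹ = z
  sq : ∀ a ∈ Q, a * a = 1 ∨ a * a = z
  center : ∀ c ∈ Q, (∀ a ∈ Q, a * c = c * a) → c = 1 ∨ c = z ∨ c * c = z
  cent : ∀ c : G, (∀ a ∈ Q, a * c = c * a) → c ∈ Q
  normal : ∀ c : G, c * z = z * c → ∀ a ∈ Q, c * a * c⁻¹ ∈ Q

theorem LXS.c2 {Q : Subgroup G} {z : G} (h : LXS Q z) : C2 Q z :=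
  ⟨h.sq_one, h.cz, h.comm⟩

theorem LXS.conj_eq {Q : Subgroup G} {z : G} (h : LXS Q z) {a b : G} (ha : a ∈ Q) (hb : b ∈ Q)
    (hab : a * b ≠ b * a) : a * b * a⁻¹ = z * b := h.c2.conj_eq ha hb hab

/-- an involution of `Q` other than `z` is not central. -/
theorem LXS.not_central {Q : Subgroup G} {u : G} (h : LXS Q u) {v : G} (hv : v ∈ Q)
    (hv1 : v ≠ 1) (hvu : v ≠ u) (hvv : v * v = 1) : ¬ (∀ a ∈ Q, a * v = v * a) := by
  intro hall
  rcases h.center v hv hall with h1 | h1 | h1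
  · exact hv1 h1
  · exact hvu h1
  · rw [hvv] at h1; exact h.ne_one h1.symm

theorem LXS.exists_conj_mul {Q : Subgroup G} {u : G} (h : LXS Q u) {v : G} (hv : v ∈ Q)
    (hnc : ¬ (∀ a ∈ Q, a * v = v * a)) : ∃ q ∈ Q, q * v * q⁻¹ = u * v := by
  by_contra hcon
  apply hnc
  intro a ha
  by_contra hne
  exact hcon ⟨a, ha, h.conj_eq ha hv hne⟩

theorem LXS.conj {Q : Subgroup G} {z : G} (h : LXS Q z) (g : G) : LXS (cj g Q) (g * z * g⁻¹) := by
  have hmem : ∀ a, a ∈ cj g Q ↔ g⁻¹ * a * g ∈ Q := fun a => mem_cj_iff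
  have e1 : ∀ y : G, g * y * g⁻¹ = 1 ↔ y = 1 := by
    intro y
    constructor
    · intro hy
      have := congrArg (fun t => g⁻¹ * t * g) hy
      simpa [mul_assoc] using this
    · rintro rfl; simp
  have e2 : ∀ y w : G, g⁻¹ * y * g = w ↔ y = g * w * g⁻¹ := by
    intro y w
    constructor
    · intro hy; rw [← hy]; group
    · intro hy; rw [hy]; group
  have hback : ∀ a ∈ Q, g * a * g⁻¹ ∈ cj g Q := fun a ha => conj_mem_cj ha
  refine ⟨?_, ?_, ?_, ?_, ?_, ?_, ?_, ?_, ?_⟩
  · intro hz; exact h.ne_one ((e1 z).mp hz)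
  · have : g * z * g⁻¹ * (g * z * g⁻¹) = g * (z * z) * g⁻¹ := by group
    rw [this, h.sq_one]; simp
  · exact hback z h.mem
  · intro a ha
    rw [hmem] at ha
    have := h.cz _ ha
    have e := congrArg (fun t => g * t * g⁻¹) this
    simpa [mul_assoc] using e
  · intro a ha b hb
    rw [hmem] at ha hb
    have := h.comm _ ha _ hb
    have e : g⁻¹ * a * g * (g⁻¹ * b * g) * (g⁻¹ * a * g)⁻¹ * (g⁻¹ * b * g)⁻¹
        = g⁻¹ * (a * b * a⁻¹ * b⁻¹) * g := by group
    rw [e] at this
    rcases this with h1 | h1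
    · left
      rw [e2] at h1
      rw [h1]; group
    · right
      rw [e2] at h1
      exact h1
  · intro a ha
    rw [hmem] at ha
    have := h.sq _ ha
    have e : g⁻¹ * a * g * (g⁻¹ * a * g) = g⁻¹ * (a * a) * g := by group
    rw [e] at this
    rcases this with h1 | h1
    · left
      rw [e2] at h1
      rw [h1]; group
    · right
      rw [e2] at h1
      exact h1
  · intro c hc hcomm
    rw [hmem] at hc
    have hc2 : ∀ a ∈ Q, a * (g⁻¹ * c * g) = (g⁻¹ * c * g) * a := by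
      intro a ha
      have := hcomm _ (hback a ha)
      have e := congrArg (fun t => g⁻¹ * t * g) this
      simpa [mul_assoc] using e
    rcases h.center _ hc hc2 with h1 | h1 | h1
    · left
      rw [e2] at h1
      rw [h1]; group
    · right; left
      rw [e2] at h1
      exact h1
    · right; right
      have e : g⁻¹ * c * g * (g⁻¹ * c * g) = g⁻¹ * (c * c) * g := by group
      rw [e, e2] at h1
      exact h1
  · intro c hcomm
    rw [hmem]
    apply h.cent
    intro a ha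
    have := hcomm _ (hback a ha)
    have e := congrArg (fun t => g⁻¹ * t * g) this
    simpa [mul_assoc] using e
  · intro c hc a ha
    rw [hmem] at ha ⊢
    have hc' : (g⁻¹ * c * g) * z = z * (g⁻¹ * c * g) := by
      have e := congrArg (fun t => g⁻¹ * t * g) hc
      simpa [mul_assoc] using e
    have := h.normal _ hc' _ ha
    have e : g⁻¹ * c * g * (g⁻¹ * a * g) * (g⁻¹ * c * g)⁻¹ = g⁻¹ * (c * a * c⁻¹) * g := by group
    rwa [e] at this

end Cfsg.Agent.Lib.H22.LargeExtra
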