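import Cfsg.Agent.Lib.H22.SympExtra1

/-!
helper22 library: symmetry of orthogonality for `LXS` pairs.
-/

set_option autoImplicit false

namespace Cfsg.Agent.Lib.H22.LargeExtra

open Cfsg.Agent.Lib.H15

set_option maxHeartbeats 1600000 in
/-- Abstract symmetry of orthogonality for pairs of symplectic type and exponent 4. -/
theorem LXS.symm_core {G : Type*} [Group G] {Q Qx : Subgroup G} {z x : G}
    (hL : LXS Q z) (hLx : LXS Qx x) (hx0 : x ∈ Q)
    (hconj : ∀ k : G, k * z * k⁻¹ = x → ∀ a ∈ Q, k * a * k⁻¹ ∈ Qx) : z ∈ Qx := by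
  have hx : x ∈ Q := hx0
  by_cases hxz : x = z
  · rw [← hxz]; exact hLx.mem
  have hx1 : x ≠ 1 := hLx.ne_one
  by_contra hzx
  have hzz := hL.sq_one
  have hxx := hLx.sq_one
  have hzinv : z⁻¹ = z := inv_eq_of_mul_eq_one_right hzz
  have hxinv : x⁻¹ = x := inv_eq_of_mul_eq_one_right hxx
  have hxz_comm : x * z = z * x := hL.cz _ hx
  have hxQx : x ∈ Qx := hLx.mem
  have hxnc : ¬ (∀ a ∈ Q, a * x = x * a) := hL.not_central hx hx1 hxz hxx
  -- Z(Q) ∩ Qx = 1
  have hZ : ∀ d ∈ Q, (∀ a ∈ Q, a * d = d * a) → d ∈ Qx → d = 1 := by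
    intro d hd hdc hdx
    rcases hL.center d hd hdc with h | h | h
    · exact h
    · exfalso; apply hzx; rw [← h]; exact hdx
    · exfalso; apply hzx; rw [← h]; exact Subgroup.mul_mem _ hdx hdx
  -- F3
  have hD : ∀ d ∈ Q, d ∈ Qx → d = 1 ∨ d = x := by
    intro d hdz hdx
    have hcc : ∀ e ∈ Q, e * x = x * e → e * d = d * e := by
      intro e he hex
      rcases hL.comm e he d hdz with h1 | h1
      · have : e * d = (e * d * e⁻¹ * d⁻¹) * (d * e) := by group
        rw [this, h1, one_mul]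
      · exfalso; apply hzx
        rw [← h1]
        have h2 : e * d * e⁻¹ ∈ Qx := hLx.normal _ hex _ hdx
        exact Subgroup.mul_mem _ h2 (Subgroup.inv_mem _ hdx)
    rcases hL.c2.center_centralizer hx hdz hcc with h3 | h3
    · left; exact hZ d hdz h3 hdx
    · right
      have hdx' : d * x⁻¹ ∈ Q := Subgroup.mul_mem _ hdz (Subgroup.inv_mem _ hx)
      have h4 := hZ _ hdx' h3 (Subgroup.mul_mem _ hdx (Subgroup.inv_mem _ hxQx))
      have : d = (d * x⁻¹) * x := by group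
      rw [this, h4, one_mul]
  -- F4
  have hAB : ∀ a ∈ Q, a * x = x * a → ∀ b ∈ Qx, b * z = z * b →
      (a * b * a⁻¹ * b⁻¹ = 1 ∨ a * b * a⁻¹ * b⁻¹ = x) := by
    intro a ha hax b hb hbz
    apply hD
    · have h1 : b * a⁻¹ * b⁻¹ ∈ Q := hL.normal _ hbz _ (Subgroup.inv_mem _ ha)
      have : a * b * a⁻¹ * b⁻¹ = a * (b * a⁻¹ * b⁻¹) := by group
      rw [this]; exact Subgroup.mul_mem _ ha h1
    · have h1 : a * b * a⁻¹ ∈ Qx := hLx.normal _ hax _ hb
      exact Subgroup.mul_mem _ h1 (Subgroup.inv_mem _ hb)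
  by_cases hI : ∃ q' ∈ Qx, q' * z * q'⁻¹ = x * z
  · -- Case I
    obtain ⟨q', hq', hq'z⟩ := hI
    obtain ⟨q, hq, hqx⟩ := hL.exists_conj_mul hx hxnc
    have hqz : q * z * q⁻¹ = z := conj_eq_self_iff.mpr (hL.cz _ hq)
    have hq'x : q' * x * q'⁻¹ = x := conj_eq_self_iff.mpr (hLx.cz _ hq')
    have k1 : (q * q') * z * (q * q')⁻¹ = x := by
      calc (q * q') * z * (q * q')⁻¹ = q * (q' * z * q'⁻¹) * q⁻¹ := by group
        _ = q * (x * z) * q⁻¹ := by rw [hq'z]
        _ = (q * x * q⁻¹) * (q * z * q⁻¹) := by group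
        _ = (z * x) * z := by rw [hqx, hqz]
        _ = x := by rw [← hxz_comm, mul_assoc, hzz, mul_one]
    have k2 : (q * q') * x * (q * q')⁻¹ = z * x := by
      calc (q * q') * x * (q * q')⁻¹ = q * (q' * x * q'⁻¹) * q⁻¹ := by group
        _ = z * x := by rw [hq'x, hqx]
    have k3 : z * x ∈ Qx := by
      rw [← k2]
      exact hconj (q * q') k1 x hx
    apply hzx
    have : z = (z * x) * x⁻¹ := by group
    rw [this]
    exact Subgroup.mul_mem _ k3 (Subgroup.inv_mem _ hxQx)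
  -- Case II
  have hII : ∀ q ∈ Qx, q * z * q⁻¹ * z⁻¹ ≠ x := by
    intro q hq h
    apply hI
    refine ⟨q, hq, ?_⟩
    have : q * z * q⁻¹ = (q * z * q⁻¹ * z⁻¹) * z := by group
    rw [this, h]
  have hcQ : ∀ q ∈ Qx, q * z * q⁻¹ * z⁻¹ ∈ Qx := by
    intro q hq
    have h1 : z * q⁻¹ * z⁻¹ ∈ Qx := hLx.normal _ hxz_comm.symm _ (Subgroup.inv_mem _ hq)
    have : q * z * q⁻¹ * z⁻¹ = q * (z * q⁻¹ * z⁻¹) := by group
    rw [this]; exact Subgroup.mul_mem _ hq h1
  have hstar : ∀ q ∈ Qx, (q * z * q⁻¹ * z⁻¹ = 1 ∨ q * z * q⁻¹ * z⁻¹ = x) → q * z = z * q := by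
    intro q hq h
    rcases h with h | h
    · have : q * z = (q * z * q⁻¹ * z⁻¹) * (z * q) := by group
      rw [this, h, one_mul]
    · exact absurd h (hII q hq)
  -- II.a
  have hIIa0 : ∀ q : G, z * (q * z * q⁻¹ * z⁻¹)⁻¹ * z⁻¹ = q * z * q⁻¹ * z⁻¹ := by
    intro q
    have e : z * (q * z * q⁻¹ * z⁻¹)⁻¹ * z⁻¹ = (z * z) * q * z⁻¹ * q⁻¹ * z⁻¹ := by group
    rw [e, hzz, one_mul, hzinv]
  have hIIa : ∀ q ∈ Qx, (q * z * q⁻¹ * z⁻¹) * z = z * (q * z * q⁻¹ * z⁻¹) := by
    intro q hq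
    obtain ⟨m, hm⟩ : ∃ m, m = q * z * q⁻¹ * z⁻¹ := ⟨_, rfl⟩
    have h0 : z * m⁻¹ * z⁻¹ = m := by rw [hm]; exact hIIa0 q
    rw [← hm]
    have hmQ : m ∈ Qx := by rw [hm]; exact hcQ q hq
    apply hstar m hmQ
    have h1 : m * z * m⁻¹ * z⁻¹ = m * m := by
      calc m * z * m⁻¹ * z⁻¹ = m * (z * m⁻¹ * z⁻¹) := by group
        _ = m * m := by rw [h0]
    rw [h1]
    exact hLx.sq m hmQ
  -- the commutator [q,z] is an involution
  have hIIa2 : ∀ q ∈ Qx, (q * z * q⁻¹ * z⁻¹) * (q * z * q⁻¹ * z⁻¹) = 1 := by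
    intro q hq
    obtain ⟨m, hm⟩ : ∃ m, m = q * z * q⁻¹ * z⁻¹ := ⟨_, rfl⟩
    have h0 : z * m⁻¹ * z⁻¹ = m := by rw [hm]; exact hIIa0 q
    have h1 : m * z = z * m := by rw [hm]; exact hIIa q hq
    rw [← hm]
    have c1 : Commute z m⁻¹ := (show Commute m z from h1).symm.inv_right
    have h2 : z * m⁻¹ * z⁻¹ = m⁻¹ := c1.mul_inv_cancel
    have h3 : m⁻¹ = m := by rw [← h2, h0]
    calc m * m = m * m⁻¹ := by rw [h3]
      _ = 1 := mul_inv_cancel m
  -- II.b
  have hIIb : ∀ a ∈ Q, a * x = x * a → ∀ q ∈ Qx,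
      (a * q * a⁻¹ * q⁻¹) ∈ Qx ∧ (a * q * a⁻¹ * q⁻¹) * z = z * (a * q * a⁻¹ * q⁻¹) := by
    intro a ha hax q hq
    have haz : a * z = z * a := hL.cz _ ha
    obtain ⟨m, hm⟩ : ∃ m, m = a * q * a⁻¹ * q⁻¹ := ⟨_, rfl⟩
    rw [← hm]
    have hmQ : m ∈ Qx := by
      rw [hm]; exact Subgroup.mul_mem _ (hLx.normal _ hax _ hq) (Subgroup.inv_mem _ hq)
    refine ⟨hmQ, ?_⟩
    apply hstar m hmQ
    obtain ⟨c, hc⟩ : ∃ c, c = q * z * q⁻¹ * z⁻¹ := ⟨_, rfl⟩
    have hcQx : c ∈ Qx := by rw [hc]; exact hcQ q hq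
    have hcz : c * z = z * c := by rw [hc]; exact hIIa q hq
    have hcx : c * x = x * c := hLx.cz _ hcQx
    have he1 := hAB a ha hax c hcQx hcz
    have he2 := hLx.comm m hmQ c hcQx
    have h_az1 : a⁻¹ * z * a = z := by
      have : Commute a z := haz
      exact this.inv_mul_cancel
    have h_az2 : a⁻¹ * z⁻¹ * a = z⁻¹ := by
      have : Commute a z⁻¹ := (show Commute a z from haz).inv_right
      exact this.inv_mul_cancel
    have i1 : (a * q * a⁻¹) * z * (a * q * a⁻¹)⁻¹ * z⁻¹ = a * c * a⁻¹ := by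
      calc (a * q * a⁻¹) * z * (a * q * a⁻¹)⁻¹ * z⁻¹
          = a * q * (a⁻¹ * z * a) * q⁻¹ * (a⁻¹ * z⁻¹ * a) * a⁻¹ := by group
        _ = a * q * z * q⁻¹ * z⁻¹ * a⁻¹ := by rw [h_az1, h_az2]
        _ = a * c * a⁻¹ := by rw [hc]; group
    have i3 : a * q * a⁻¹ = m * q := by rw [hm]; group
    have i2 : (m * q) * z * (m * q)⁻¹ * z⁻¹ = (m * c * m⁻¹) * (m * z * m⁻¹ * z⁻¹) := by
      rw [hc]; group
    have i4 : m * z * m⁻¹ * z⁻¹ = (m * c * m⁻¹)⁻¹ * (a * c * a⁻¹) := by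
      rw [← i1, i3, i2]; group
    have f1 : a * c * a⁻¹ = (a * c * a⁻¹ * c⁻¹) * c := by group
    have f2 : m * c * m⁻¹ = (m * c * m⁻¹ * c⁻¹) * c := by group
    have hcxc : c⁻¹ * x * c = x := by
      have : Commute c x := hcx
      exact this.inv_mul_cancel
    rw [i4, f1, f2]
    rcases he1 with h1 | h1 <;> rcases he2 with h2 | h2
    · left; rw [h1, h2]; group
    · right; rw [h1, h2]
      calc (x * c)⁻¹ * (1 * c) = (c⁻¹ * x * c)⁻¹ := by group
        _ = x := by rw [hcxc, hxinv]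
    · right; rw [h1, h2]
      calc (1 * c)⁻¹ * (x * c) = c⁻¹ * x * c := by group
        _ = x := hcxc
    · left; rw [h1, h2]; group
  -- II.c
  have hIIc : ∀ a1 ∈ Q, a1 * x = x * a1 → ∀ a2 ∈ Q, a2 * x = x * a2 →
      a1 * a2 = a2 * a1 := by
    intro a1 h1 h1x a2 h2 h2x
    by_contra hne
    have hz_eq : a1 * a2 * a1⁻¹ * a2⁻¹ = z := by
      rcases hL.comm a1 h1 a2 h2 with h | h
      · exfalso; apply hne
        have : a1 * a2 = (a1 * a2 * a1⁻¹ * a2⁻¹) * (a2 * a1) := by group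
        rw [this, h, one_mul]
      · exact h
    apply hzx
    apply hLx.cent
    intro q hq
    apply hstar q hq
    obtain ⟨p, hp⟩ : ∃ p, p = a1⁻¹ * a2⁻¹ * q * a2 * a1 := ⟨_, rfl⟩
    have hpQ : p ∈ Qx := by
      have hcm : (a1⁻¹ * a2⁻¹) * x = x * (a1⁻¹ * a2⁻¹) := by
        have c1 : Commute a1 x := h1x
        have c2 : Commute a2 x := h2x
        exact (c1.inv_left.mul_left c2.inv_left)
      have := hLx.normal _ hcm _ hq
      have e : a1⁻¹ * a2⁻¹ * q * (a1⁻¹ * a2⁻¹)⁻¹ = a1⁻¹ * a2⁻¹ * q * a2 * a1 := by group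
      rw [e] at this
      rw [hp]; exact this
    obtain ⟨hm1Q, hm1z⟩ := hIIb a1 h1 h1x p hpQ
    obtain ⟨hm2Q, hm2z⟩ := hIIb a2 h2 h2x p hpQ
    have e1 := hAB a1 h1 h1x _ hm2Q hm2z
    have e2 := hAB a2 h2 h2x _ hm1Q hm1z
    have e3 := hLx.comm _ hm2Q _ hm1Q
    have hid : (a1 * a2 * p * a2⁻¹ * a1⁻¹) * (a2 * a1 * p * a1⁻¹ * a2⁻¹)⁻¹
        = (a1 * (a2 * p * a2⁻¹ * p⁻¹) * a1⁻¹ * (a2 * p * a2⁻¹ * p⁻¹)⁻¹)
          * ((a2 * p * a2⁻¹ * p⁻¹) * (a1 * p * a1⁻¹ * p⁻¹) * (a2 * p * a2⁻¹ * p⁻¹)⁻¹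
              * (a1 * p * a1⁻¹ * p⁻¹)⁻¹)
          * (a2 * (a1 * p * a1⁻¹ * p⁻¹) * a2⁻¹ * (a1 * p * a1⁻¹ * p⁻¹)⁻¹)⁻¹ := by group
    have hmemX : (a1 * a2 * p * a2⁻¹ * a1⁻¹) * (a2 * a1 * p * a1⁻¹ * a2⁻¹)⁻¹ ∈ pairSub x hxx := by
      rw [hid]
      exact Subgroup.mul_mem _ (Subgroup.mul_mem _ e1 e3) (Subgroup.inv_mem _ e2)
    have hzq : z * q * z⁻¹ * q⁻¹ = (a1 * a2 * p * a2⁻¹ * a1⁻¹) * (a2 * a1 * p * a1⁻¹ * a2⁻¹)⁻¹ := by
      rw [← hz_eq, hp]; group
    have hfin : q * z * q⁻¹ * z⁻¹ ∈ pairSub x hxx := by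
      have : q * z * q⁻¹ * z⁻¹ = (z * q * z⁻¹ * q⁻¹)⁻¹ := by group
      rw [this, hzq]
      exact Subgroup.inv_mem _ hmemX
    exact hfin
  -- II.d
  have hIId : ∀ a ∈ Q, a * x = x * a →
      (∀ e ∈ Q, e * a = a * e) ∨ (∀ e ∈ Q, e * (a * x⁻¹) = (a * x⁻¹) * e) := by
    intro a ha hax
    have hcc : ∀ e ∈ Q, e * x = x * e → e * a = a * e :=
      fun e he hex => hIIc e he hex a ha hax
    exact hL.c2.center_centralizer hx ha hcc
  -- choose q0
  obtain ⟨q0, hq0, hq0x⟩ : ∃ q0 ∈ Q, q0 * x ≠ x * q0 := by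
    by_contra hcon
    apply hxnc
    intro a ha; by_contra h; exact hcon ⟨a, ha, h⟩
  have hq0c : q0 * x * q0⁻¹ = z * x := hL.conj_eq hq0 hx hq0x
  have hxq0 : x * q0 * x⁻¹ = z * q0 := hL.conj_eq hx hq0 (fun h => hq0x h.symm)
  have hq0z : q0 * z = z * q0 := hL.cz _ hq0
  have hq0i : q0⁻¹ * (z * x) * q0 = x := by
    rw [← hq0c]; group
  have hdec : ∀ q ∈ Q, q * x ≠ x * q → (q0⁻¹ * q) * x = x * (q0⁻¹ * q) := by
    intro q hq hqx
    have hqc : q * x * q⁻¹ = z * x := hL.conj_eq hq hx hqx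
    apply conj_eq_self_iff.mp
    calc (q0⁻¹ * q) * x * (q0⁻¹ * q)⁻¹ = q0⁻¹ * (q * x * q⁻¹) * q0 := by group
      _ = q0⁻¹ * (z * x) * q0 := by rw [hqc]
      _ = x := hq0i
  have hcrit : ∀ y : G, (∀ a ∈ Q, a * x = x * a → a * y = y * a) → q0 * y = y * q0 →
      y ∈ Q := by
    intro y hyA hyq0
    apply hL.cent
    intro q hq
    by_cases hqx : q * x = x * q
    · exact hyA q hq hqx
    · have h1 := hdec q hq hqx
      have h2 : q0⁻¹ * q ∈ Q := Subgroup.mul_mem _ (Subgroup.inv_mem _ hq0) hq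
      have h3 := hyA _ h2 h1
      calc q * y = q0 * ((q0⁻¹ * q) * y) := by group
        _ = q0 * (y * (q0⁻¹ * q)) := by rw [h3]
        _ = (q0 * y) * (q0⁻¹ * q) := by group
        _ = (y * q0) * (q0⁻¹ * q) := by rw [hyq0]
        _ = y * q := by group
  -- elements of B centralize A
  have hbA : ∀ b ∈ Qx, b * z = z * b → ∀ a ∈ Q, a * x = x * a → a * b = b * a := by
    intro b hb hbz
    have hbx : b * x = x * b := hLx.cz _ hb
    have hbZ : ∀ c ∈ Q, (∀ e ∈ Q, e * c = c * e) → c * b = b * c := by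
      intro c hc hcc
      have hcx : c * x = x * c := (hcc x hx).symm
      rcases hAB c hc hcx b hb hbz with h | h
      · have : c * b = (c * b * c⁻¹ * b⁻¹) * (b * c) := by group
        rw [this, h, one_mul]
      · exfalso
        apply hxnc
        intro a ha
        -- x = c * (b c⁻¹ b⁻¹), both central in Q
        have hbi : b⁻¹ * z = z * b⁻¹ := by
          have : Commute b z := hbz
          exact this.inv_left
        have ha' : b⁻¹ * a * b ∈ Q := by
          have := hL.normal _ hbi _ ha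
          rwa [inv_inv] at this
        have hci : Commute (b⁻¹ * a * b) c⁻¹ := (show Commute (b⁻¹ * a * b) c from hcc _ ha').inv_right
        have h1 : a * (b * c⁻¹ * b⁻¹) = (b * c⁻¹ * b⁻¹) * a := by
          calc a * (b * c⁻¹ * b⁻¹) = b * ((b⁻¹ * a * b) * c⁻¹) * b⁻¹ := by group
            _ = b * (c⁻¹ * (b⁻¹ * a * b)) * b⁻¹ := by rw [hci.eq]
            _ = (b * c⁻¹ * b⁻¹) * a := by group
        have h2 : x = c * (b * c⁻¹ * b⁻¹) := by rw [← h]; group
        rw [h2]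
        calc a * (c * (b * c⁻¹ * b⁻¹)) = (a * c) * (b * c⁻¹ * b⁻¹) := by group
          _ = (c * a) * (b * c⁻¹ * b⁻¹) := by rw [hcc a ha]
          _ = c * (a * (b * c⁻¹ * b⁻¹)) := by group
          _ = c * ((b * c⁻¹ * b⁻¹) * a) := by rw [h1]
          _ = c * (b * c⁻¹ * b⁻¹) * a := by group
    intro a ha hax
    rcases hIId a ha hax with h | h
    · exact hbZ a ha h
    · have hax' : a * x⁻¹ ∈ Q := Subgroup.mul_mem _ ha (Subgroup.inv_mem _ hx)
      have c1 : Commute (a * x⁻¹) b := hbZ _ hax' h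
      have c2 : Commute x b := hbx.symm
      have : a = (a * x⁻¹) * x := by group
      rw [this]
      exact (c1.mul_left c2).eq
  -- II.e
  have hIIe : ∀ b ∈ Qx, b * z = z * b → b ∈ Q ∨
      ∃ c ∈ Q, (∀ e ∈ Q, e * c = c * e) ∧ c * c = z ∧ b * q0 * b⁻¹ = q0 * (c * x) := by
    intro b hb hbz
    have hbx : b * x = x * b := hLx.cz _ hb
    have hbA' := hbA b hb hbz
    obtain ⟨r, hr⟩ : ∃ r, r = b * q0 * b⁻¹ := ⟨_, rfl⟩
    have hrQ : r ∈ Q := by rw [hr]; exact hL.normal _ hbz _ hq0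
    have hbxi : b⁻¹ * x * b = x := by
      have : Commute b x := hbx
      exact this.inv_mul_cancel
    have hbzx : b * (z * x) * b⁻¹ = z * x := by
      have c1 : Commute b z := hbz
      have c2 : Commute b x := hbx
      exact (c1.mul_right c2).mul_inv_cancel
    have hrx : r * x * r⁻¹ = z * x := by
      calc r * x * r⁻¹ = b * (q0 * (b⁻¹ * x * b) * q0⁻¹) * b⁻¹ := by rw [hr]; group
        _ = b * (z * x) * b⁻¹ := by rw [hbxi, hq0c]
        _ = z * x := hbzx
    have hrne : r * x ≠ x * r := by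
      intro h
      have h1 := conj_eq_self_iff.mpr h
      rw [hrx] at h1
      have : z = 1 := by
        have e : z = (z * x) * x⁻¹ := by group
        rw [e, h1]; group
      exact hL.ne_one this
    have hmA := hdec r hrQ hrne
    obtain ⟨m, hm⟩ : ∃ m, m = q0⁻¹ * r := ⟨_, rfl⟩
    rw [← hm] at hmA
    have hmQ : m ∈ Q := by rw [hm]; exact Subgroup.mul_mem _ (Subgroup.inv_mem _ hq0) hrQ
    have hrm : r = q0 * m := by rw [hm]; group
    have hq0sq : b * (q0 * q0) * b⁻¹ = q0 * q0 := by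
      rcases hL.sq q0 hq0 with h | h
      · rw [h]; group
      · rw [h]
        have : Commute b z := hbz
        exact this.mul_inv_cancel
    have hrr : r * r = q0 * q0 := by
      calc r * r = b * (q0 * q0) * b⁻¹ := by rw [hr]; group
        _ = q0 * q0 := hq0sq
    have hmq : m * q0 * m = q0 := by
      have h1 : q0 * m * (q0 * m) = q0 * q0 := by rw [← hrm]; exact hrr
      calc m * q0 * m = q0⁻¹ * (q0 * m * (q0 * m)) := by group
        _ = q0⁻¹ * (q0 * q0) := by rw [h1]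
        _ = q0 := by group
    rcases hIId m hmQ hmA with hcen | hcen
    · -- m central
      left
      have hmm : m * m = 1 := by
        have h1 : q0 * m = m * q0 := hcen q0 hq0
        calc m * m = q0⁻¹ * (q0 * m * m) := by group
          _ = q0⁻¹ * (m * q0 * m) := by rw [h1]
          _ = q0⁻¹ * q0 := by rw [hmq]
          _ = 1 := by group
      rcases hL.center m hmQ hcen with h | h | h
      · -- m = 1
        apply hcrit b hbA'
        have : r = q0 := by rw [hrm, h, mul_one]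
        rw [hr] at this
        exact (conj_eq_self_iff.mp this).symm
      · -- m = z
        have hr2 : b * q0 * b⁻¹ = z * q0 := by
          rw [← hr, hrm, h]; exact hq0z
        have hxb : (x * b) ∈ Q := by
          apply hcrit (x * b)
          · intro a ha hax
            have c1 : Commute a x := hax
            have c2 : Commute a b := hbA' a ha hax
            exact c1.mul_right c2
          · apply (conj_eq_self_iff.mp _).symm
            calc (x * b) * q0 * (x * b)⁻¹ = x * (b * q0 * b⁻¹) * x⁻¹ := by group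
              _ = x * (z * q0) * x⁻¹ := by rw [hr2]
              _ = (x * z * x⁻¹) * (x * q0 * x⁻¹) := by group
              _ = z * (z * q0) := by
                  rw [hxq0]
                  have : Commute x z := hxz_comm
                  rw [this.mul_inv_cancel]
              _ = q0 := by rw [← mul_assoc, hzz, one_mul]
        have : b = x⁻¹ * (x * b) := by group
        rw [this]
        exact Subgroup.mul_mem _ (Subgroup.inv_mem _ hx) hxb
      · exfalso
        rw [hmm] at h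
        exact hL.ne_one h.symm
    · -- c = m x⁻¹ central
      right
      obtain ⟨c, hc⟩ : ∃ c, c = m * x⁻¹ := ⟨_, rfl⟩
      rw [← hc] at hcen
      have hcQ' : c ∈ Q := by rw [hc]; exact Subgroup.mul_mem _ hmQ (Subgroup.inv_mem _ hx)
      have hmc : m = c * x := by rw [hc]; group
      refine ⟨c, hcQ', hcen, ?_, ?_⟩
      · -- c * c = z
        have hxq0Q : x * q0 ∈ Q := Subgroup.mul_mem _ hx hq0
        have h1 : (x * q0) * c = c * (x * q0) := hcen _ hxq0Q
        have h2 : x * q0 * x = z * q0 := by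
          have := hxq0
          rw [hxinv] at this
          exact this
        have h3 : c * c * (z * q0) = q0 := by
          calc c * c * (z * q0) = c * c * (x * q0 * x) := by rw [h2]
            _ = c * (c * (x * q0)) * x := by group
            _ = c * ((x * q0) * c) * x := by rw [h1]
            _ = (c * x) * q0 * (c * x) := by group
            _ = q0 := by rw [← hmc]; exact hmq
        have h4 : c * c * z = 1 := by
          calc c * c * z = (c * c * (z * q0)) * q0⁻¹ := by group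
            _ = q0 * q0⁻¹ := by rw [h3]
            _ = 1 := mul_inv_cancel q0
        calc c * c = (c * c * z) * z⁻¹ := by group
          _ = z := by rw [h4, one_mul, hzinv]
      · rw [← hr, hrm, hmc]
  -- II.f
  apply hzx
  apply hLx.cent
  intro q hq
  apply hstar q hq
  obtain ⟨m, hm⟩ : ∃ m, m = q * z * q⁻¹ * z⁻¹ := ⟨_, rfl⟩
  have hmQx : m ∈ Qx := by rw [hm]; exact hcQ q hq
  have hmz : m * z = z * m := by rw [hm]; exact hIIa q hq
  have hmm : m * m = 1 := by rw [hm]; exact hIIa2 q hq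
  rw [← hm]
  rcases hIIe m hmQx hmz with h1 | ⟨c, hcQ', hcen, hcc, hconj'⟩
  · exact hD _ h1 hmQx
  · exfalso
    have hcxA : (c * x) * x = x * (c * x) := by
      have : Commute c x := (hcen x hx).symm
      exact (this.mul_left (Commute.refl x)).eq
    have hcxQ : c * x ∈ Q := Subgroup.mul_mem _ hcQ' hx
    have hcomm1 : (c * x) * m = m * (c * x) := hbA m hmQx hmz _ hcxQ hcxA
    have hcx2 : (c * x) * (c * x) = z := by
      have c1 : Commute c x := (hcen x hx).symm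
      calc (c * x) * (c * x) = c * (x * c) * x := by group
        _ = c * (c * x) * x := by rw [c1.eq]
        _ = (c * c) * (x * x) := by group
        _ = z := by rw [hcc, hxx, mul_one]
    have hminv : m⁻¹ = m := inv_eq_of_mul_eq_one_right hmm
    have h2 : m * (c * x) * m⁻¹ = c * x := by
      have : Commute m (c * x) := hcomm1.symm
      exact this.mul_inv_cancel
    have h3 : m * (m * q0 * m⁻¹) * m⁻¹ = q0 := by
      calc m * (m * q0 * m⁻¹) * m⁻¹ = (m * m) * q0 * (m * m)⁻¹ := by group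
        _ = q0 := by rw [hmm]; group
    have h4 : m * (m * q0 * m⁻¹) * m⁻¹ = q0 * z := by
      calc m * (m * q0 * m⁻¹) * m⁻¹ = m * (q0 * (c * x)) * m⁻¹ := by rw [hconj']
        _ = (m * q0 * m⁻¹) * (m * (c * x) * m⁻¹) := by group
        _ = (q0 * (c * x)) * (c * x) := by rw [hconj', h2]
        _ = q0 * ((c * x) * (c * x)) := by group
        _ = q0 * z := by rw [hcx2]
    have h5 : q0 = q0 * z := h3.symm.trans h4
    apply hL.ne_one
    exact (left_eq_mul.mp h5)
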