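import Cfsg.Agent.Lib.H22.SympExtra2
import Cfsg.Agent.Lib.H22.SympExtra3
import Cfsg.Agent.Lib.H7.FStar
import Cfsg.Prelude.Def_ClassificationK

/-!
helper22 library: `F*(C_G(z))` of symplectic type and exponent 4 gives an `LXS` pair.
-/

set_option autoImplicit false

namespace Cfsg.Agent.Lib.H22.LargeExtra

open Cfsg.Agent.Lib.H15

variable {G : Type*} [Group G]

/-- `F*(C_G(z))` as a subgroup of `G`. -/
abbrev FQ (z : G) : Subgroup G :=
  (Cfsg.generalizedFittingSubgroup ↥(Subgroup.centralizer ({z} : Set G))).map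
    (Subgroup.centralizer ({z} : Set G)).subtype

theorem lxs_of_hyp [Finite G] (z : G) (hz : orderOf z = 2)
    (hQ : Cfsg.IsOfSymplecticType
      ↥(Cfsg.generalizedFittingSubgroup ↥(Subgroup.centralizer ({z} : Set G))))
    (h4 : ∀ q ∈ FQ z, q ^ 4 = 1) : LXS (FQ z) z := by
  obtain ⟨C, hC⟩ : ∃ C : Subgroup G, C = Subgroup.centralizer ({z} : Set G) := ⟨_, rfl⟩
  have hFQ : FQ z = (Cfsg.generalizedFittingSubgroup ↥C).map C.subtype := by subst hC; rfl
  rw [hFQ] at h4 ⊢
  have hQ' : Cfsg.IsOfSymplecticType ↥(Cfsg.generalizedFittingSubgroup ↥C) := by subst hC; exact hQ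
  have hmemC : ∀ c : G, c ∈ C ↔ c * z = z * c := by
    intro c; rw [hC, Subgroup.mem_centralizer_singleton_iff]
  clear hQ hFQ
  obtain ⟨F, hF⟩ : ∃ F : Subgroup ↥C, F = Cfsg.generalizedFittingSubgroup ↥C := ⟨_, rfl⟩
  rw [← hF] at h4 hQ' ⊢
  have hFn : F.Normal := by rw [hF]; infer_instance
  have hFc : Subgroup.centralizer (F : Set ↥C) ≤ F := by
    rw [hF]; exact Cfsg.Agent.Lib.H7.centralizer_generalizedFittingSubgroup_le
  have hz1 : z ≠ 1 := by
    intro h; rw [h, orderOf_one] at hz; omega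
  have hzz : z * z = 1 := by
    have := pow_orderOf_eq_one z
    rw [hz, pow_two] at this; exact this
  have hzC : z ∈ C := (hmemC z).mpr rfl
  have hzF : (⟨z, hzC⟩ : ↥C) ∈ F := by
    have h1 : (⟨z, hzC⟩ : ↥C) ∈ Subgroup.center ↥C := by
      rw [Subgroup.mem_center_iff]
      intro a
      apply Subtype.ext
      exact (hmemC a).mp a.2
    have hnil : Group.IsNilpotent ↥(Subgroup.center ↥C) :=
      ⟨⟨1, Subgroup.upperCentralSeries_one_eq_top_iff.mpr inferInstance⟩⟩
    have h2 : Subgroup.center ↥C ≤ Cfsg.fittingSubgroup ↥C :=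
      Cfsg.Agent.Lib.H7.le_fittingSubgroup inferInstance hnil
    rw [hF]
    exact Cfsg.Agent.Lib.H7.fittingSubgroup_le_generalizedFittingSubgroup (h2 h1)
  -- the embedding
  obtain ⟨φ, hφ⟩ : ∃ φ : ↥F →* G, φ = C.subtype.comp F.subtype := ⟨_, rfl⟩
  have hφv : ∀ a : ↥F, φ a = ((a : ↥C) : G) := by intro a; rw [hφ]; rfl
  have hφinj : Function.Injective φ := by
    intro a b hab
    rw [hφv, hφv] at hab
    exact Subtype.ext (Subtype.ext hab)
  have hφmem : ∀ a : ↥F, φ a ∈ F.map C.subtype := by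
    intro a
    rw [hφv]
    exact Subgroup.mem_map.mpr ⟨a.1, a.2, rfl⟩
  have hφsurj : ∀ a ∈ F.map C.subtype, ∃ a' : ↥F, φ a' = a := by
    intro a ha
    obtain ⟨aC, haF, rfl⟩ := Subgroup.mem_map.mp ha
    exact ⟨⟨aC, haF⟩, by rw [hφv]; rfl⟩
  obtain ⟨zF, hzF'⟩ : ∃ zF : ↥F, zF = ⟨⟨z, hzC⟩, hzF⟩ := ⟨_, rfl⟩
  have hφz : φ zF = z := by rw [hφv, hzF']
  have d_ne : zF ≠ 1 := by
    intro h
    apply hz1
    rw [← hφz, h, map_one]
  have d_sq : zF * zF = 1 := by
    apply hφinj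
    rw [map_mul, hφz, map_one, hzz]
  have d_c : ∀ a : ↥F, a * zF = zF * a := by
    intro a
    apply hφinj
    rw [map_mul, map_mul, hφz, hφv]
    exact (hmemC _).mp a.1.2
  have d_4 : ∀ q : ↥F, q ^ 4 = 1 := by
    intro q
    apply hφinj
    rw [map_pow, map_one]
    exact h4 _ (hφmem q)
  obtain ⟨hcomm, hsq, hcen⟩ := symp_data hQ'.1 hQ'.2 d_4 zF d_ne d_sq d_c
  have hzQ : z ∈ F.map C.subtype := by rw [← hφz]; exact hφmem zF
  refine ⟨hz1, hzz, hzQ, ?_, ?_, ?_, ?_, ?_, ?_⟩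
  · intro a ha
    obtain ⟨a', rfl⟩ := hφsurj a ha
    rw [← hφz, ← map_mul, ← map_mul, d_c]
  · intro a ha b hb
    obtain ⟨a', rfl⟩ := hφsurj a ha
    obtain ⟨b', rfl⟩ := hφsurj b hb
    rcases hcomm a' b' with h | h
    · left
      have := congrArg φ h
      simpa using this
    · right
      have := congrArg φ h
      rw [hφz] at this
      simpa using this
  · intro a ha
    obtain ⟨a', rfl⟩ := hφsurj a ha
    rcases hsq a' with h | h
    · left
      have := congrArg φ h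
      simpa using this
    · right
      have := congrArg φ h
      rw [hφz] at this
      simpa using this
  · intro c hc hcc
    obtain ⟨c', rfl⟩ := hφsurj c hc
    have hc' : ∀ a : ↥F, a * c' = c' * a := by
      intro a
      apply hφinj
      rw [map_mul, map_mul]
      exact hcc _ (hφmem a)
    rcases hcen c' hc' with h | h | h
    · left; rw [h, map_one]
    · right; left; rw [h, hφz]
    · right; right
      rw [← map_mul, h, hφz]
  · intro c hcc
    have hcz : c * z = z * c := (hcc z hzQ).symm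
    have hcC : c ∈ C := (hmemC c).mpr hcz
    have h1 : (⟨c, hcC⟩ : ↥C) ∈ Subgroup.centralizer (F : Set ↥C) := by
      rw [Subgroup.mem_centralizer_iff]
      intro a ha
      apply Subtype.ext
      have := hcc _ (hφmem ⟨a, ha⟩)
      rw [hφv] at this
      exact this
    exact Subgroup.mem_map.mpr ⟨⟨c, hcC⟩, hFc h1, rfl⟩
  · intro c hcz a ha
    have hcC : c ∈ C := (hmemC c).mpr hcz
    obtain ⟨aC, haF, rfl⟩ := Subgroup.mem_map.mp ha
    have h1 : (⟨c, hcC⟩ : ↥C) * aC * (⟨c, hcC⟩ : ↥C)⁻¹ ∈ F := hFn.conj_mem aC haF _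
    exact Subgroup.mem_map.mpr ⟨_, h1, rfl⟩

end Cfsg.Agent.Lib.H22.LargeExtra
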