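import Mathlib
import Cfsg.Agent.Lib.H7.T27Defs
import Cfsg.Agent.Lib.H3.T27CHAR4
import Cfsg.Agent.Lib.H14.T27IND2
import Cfsg.Agent.Lib.L0.CharInner

/-!
# S3701 piece VAL (`Lf_eq`), helper22 twin (architect helper7)

The three linear forms: Frobenius reciprocity (`H14.T27.inner_Ind_class`) + the values of the `S_a`
on the `T`-part (`H3.T27.Sfun_values`).
-/

set_option autoImplicit false
set_option linter.unusedSectionVars false

namespace Cfsg.Agent.Lib.H22.T27

open Cfsg Cfsg.Agent.Lib.H7.K4 Cfsg.Agent.Lib.H3.H108 Cfsg.Agent.Lib.H7.T27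
open scoped ComplexConjugate

variable {G : Type*} [Group G] [Fintype G]

/-- if `S_a` takes the integer values `val (lg3 s)` on the `T`-part, then
`conj ⟨I(a), F⟩ = 108⁻¹ Σ_T val · F` -/
theorem conj_inner_Ind (h : Hyp3 G) (a : V) (F : G → ℂ) (hF : IsClassFunction G F) (val : V → ℤ)
    (hval : ∀ s : ↥M3, (s : S333) ^ 3 = 1 → Sfun a s = ((val (lg3 (s : S333)) : ℤ) : ℂ)) :
    conj (classInner (Ind h a) F) = (108 : ℂ)⁻¹ * h.Lf val F := by
  rw [Cfsg.Agent.Lib.H14.T27.inner_Ind_class h a F hF]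
  unfold classInner Hyp3.Lf
  rw [map_mul, map_inv₀, map_natCast, card_M3, map_sum]
  have h108 : ((108 : ℕ) : ℂ) = 108 := by norm_num
  rw [h108]
  congr 1
  refine Finset.sum_congr rfl fun s _ => ?_
  rw [map_mul, Complex.conj_conj]
  by_cases hs : (s : S333) ^ 3 = 1
  · rw [if_pos hs, hval s hs, map_intCast]
  · rw [if_neg hs, Cfsg.Agent.Lib.H14.T27.Sfun_of_ne a s hs, map_zero, zero_mul]

/-- linear combinations of weights -/
theorem Lf_comb4 (h : Hyp3 G) (F : G → ℂ) (w w0 w1 w2 w3 : V → ℤ) (N c0 c1 c2 c3 : ℤ)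
    (hw : ∀ t, N * w t = c0 * w0 t + c1 * w1 t + c2 * w2 t + c3 * w3 t) :
    (N : ℂ) * h.Lf w F =
      c0 * h.Lf w0 F + c1 * h.Lf w1 F + c2 * h.Lf w2 F + c3 * h.Lf w3 F := by
  unfold Hyp3.Lf
  simp only [Finset.mul_sum, ← Finset.sum_add_distrib]
  refine Finset.sum_congr rfl fun s _ => ?_
  split_ifs
  · have := congrArg (Int.cast : ℤ → ℂ) (hw (lg3 (s : S333)))
    push_cast at this
    linear_combination F (h.el s) * this
  · simp

/-- VAL. -/
theorem Lf_eq (h : Hyp3 G) (F : G → ℂ) (hF : IsClassFunction G F) :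
    h.Lf u0 F = 108 * conj (classInner (Ind h (r 0) - Ind h (r 1)) F) ∧
    h.Lf v0 F = 6 * conj (classInner (Ind h 0 - Ind h (r 0)) F +
      2 * classInner (Ind h e3 - Ind h (r 0)) F - classInner (Ind h e2 - Ind h (r 0)) F) ∧
    h.Lf w0 F = 6 * conj (classInner (Ind h 0 - Ind h (r 0)) F +
      2 * classInner (Ind h e2 - Ind h (r 0)) F - classInner (Ind h e3 - Ind h (r 0)) F) := by
  have hV := fun s hs => Cfsg.Agent.Lib.H3.T27.Sfun_values s hs
  have A0 := conj_inner_Ind h 0 F hF (fun _ => 4) (fun s hs => by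
    rw [(hV s hs).1]; norm_num)
  have A2 := conj_inner_Ind h e2 F hF (fun t => 2 * cc t.2.1) (fun s hs => (hV s hs).2.1)
  have A3 := conj_inner_Ind h e3 F hF (fun t => 2 * cc t.2.2) (fun s hs => (hV s hs).2.2.1)
  have Ar0 := conj_inner_Ind h (r 0) F hF (fun t => cc t.2.1 * cc t.2.2)
    (fun s hs => (hV s hs).2.2.2.1)
  have Ar1 := conj_inner_Ind h (r 1) F hF (fun t => cc t.1 * cc t.2.2)
    (fun s hs => (hV s hs).2.2.2.2)
  simp only [Cfsg.Agent.Lib.L0.classInner_sub_left, map_sub, map_add, map_mul, map_ofNat,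
    A0, A2, A3, Ar0, Ar1]
  refine ⟨?_, ?_, ?_⟩
  · have key := Lf_comb4 h F u0 (fun t => cc t.2.1 * cc t.2.2) (fun t => cc t.1 * cc t.2.2)
      (fun _ => 0) (fun _ => 0) 1 1 (-1) 0 0 (by
        intro t
        unfold u0
        ring)
    push_cast at key
    linear_combination key
  · have key := Lf_comb4 h F v0 (fun _ => 4) (fun t => 2 * cc t.2.2) (fun t => 2 * cc t.2.1)
      (fun t => cc t.2.1 * cc t.2.2) 18 1 2 (-1) (-2) (by decide)
    push_cast at key
    linear_combination (1 / 18 : ℂ) * key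
  · have key := Lf_comb4 h F w0 (fun _ => 4) (fun t => 2 * cc t.2.1) (fun t => 2 * cc t.2.2)
      (fun t => cc t.2.1 * cc t.2.2) 18 1 2 (-1) (-2) (by decide)
    push_cast at key
    linear_combination (1 / 18 : ℂ) * key

end Cfsg.Agent.Lib.H22.T27
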