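import Mathlib

set_option autoImplicit false

namespace Cfsg.Agent.Lib.H22.TransferMod

variable {G : Type*} [Group G]

/-- Sum of the `⟨g⟩`-orbit lengths on `G ⧸ H` is the index. -/
theorem sum_minimalPeriod_eq_index {H : Subgroup G} [H.FiniteIndex] (g : G)
    [Fintype (Quotient (MulAction.orbitRel (Subgroup.zpowers g) (G ⧸ H)))] :
    ∑ q : Quotient (MulAction.orbitRel (Subgroup.zpowers g) (G ⧸ H)),
      Function.minimalPeriod (g • ·) q.out = H.index := by
  classical
  let _ := H.fintypeQuotientOfFiniteIndex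
  rw [Subgroup.index_eq_card, Nat.card_eq_fintype_card,
    Fintype.card_congr (MulAction.selfEquivSigmaOrbits (Subgroup.zpowers g) (G ⧸ H)),
    Fintype.card_sigma]
  refine Finset.sum_congr rfl fun q _ => ?_
  rw [MulAction.minimalPeriod_eq_card]
  rfl

/-- Transfer evaluation modulo a subgroup `B` of the target: if every `H`-conjugate power
`g₀⁻¹ g^k g₀ ∈ H` maps to `a^k` modulo `B`, then the transfer of `g` is `a^|G:H|` modulo `B`. -/
theorem transfer_mul_inv_pow_mem {H : Subgroup G} {A : Type*} [CommGroup A] (ϕ : H →* A)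
    [H.FiniteIndex] (B : Subgroup A) (g : G) (a : A)
    (key : ∀ (k : ℕ) (g₀ : G) (hk : g₀⁻¹ * g ^ k * g₀ ∈ H),
      ϕ ⟨g₀⁻¹ * g ^ k * g₀, hk⟩ * (a ^ k)⁻¹ ∈ B) :
    ϕ.transfer g * (a ^ H.index)⁻¹ ∈ B := by
  classical
  let _ := H.fintypeQuotientOfFiniteIndex
  rw [MonoidHom.transfer_eq_prod_quotient_orbitRel_zpowers_quot, ← sum_minimalPeriod_eq_index g,
    ← Finset.prod_pow_eq_pow_sum, ← Finset.prod_inv_distrib, ← Finset.prod_mul_distrib]
  exact Subgroup.prod_mem B fun q _ => key _ _ _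

/-- Kernel of the abelianization map of a subgroup, seen in the ambient group. -/
theorem abelianization_of_eq_one_iff (P : Subgroup G) (z : ↥P) :
    (Abelianization.of z : Abelianization ↥P) = 1 ↔ (z : G) ∈ ⁅P, P⁆ := by
  rw [← Subgroup.map_subtype_commutator P, ← MonoidHom.mem_ker, Abelianization.ker_of]
  constructor
  · intro h
    exact ⟨z, h, rfl⟩
  · rintro ⟨w, hw, hwz⟩
    have : w = z := Subtype.ext hwz
    subst this
    exact hw

end Cfsg.Agent.Lib.H22.TransferMod
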