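import Mathlib
import Cfsg.Agent.Lib.H26.TwoMinDefs
import Cfsg.Agent.Lib.H20.TwoMinN1
import Cfsg.Agent.Lib.H8.PGroup
import Cfsg.Agent.Lib.H1.PGroupBasic

/-!
# S4409 piece MA2V (helper22): a proper `H`-invariant four-subgroup `Y` of the nonabelian `X` which is not centralized by `H`
is the centre, the derived subgroup and contains all squares: `X` is special with centre `Y`.
-/

set_option autoImplicit false
open scoped commutatorElement

namespace Cfsg.Agent.Lib.H22.TwoMin

open Cfsg.Agent.Lib.H26.TwoMin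

variable {G : Type*} [Group G]

/-- a nontrivial `g`-invariant subgroup of a four-group on which `g` has no fixed point is the whole four-group -/
theorem v4_eq_of_invariant [Finite G] {Y V : Subgroup G} {g : G} (hV : V4Type Y) (hVY : V ≤ Y) (hne : V ≠ ⊥)
    (hgV : g ∈ Subgroup.normalizer (V : Set G)) (hfix : ∀ y ∈ Y, g * y * g⁻¹ = y → y = 1) : V = Y := by
  obtain ⟨⟨v, hvV⟩, hv1⟩ := (Subgroup.ne_bot_iff_exists_ne_one).mp hne
  have hv1' : v ≠ 1 := fun e => hv1 (Subtype.ext e)
  have hv' : g * v * g⁻¹ ∈ V := (Subgroup.mem_normalizer_iff.mp hgV v).mp hvV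
  have hne' : g * v * g⁻¹ ≠ v := fun e => hv1' (hfix v (hVY hvV) e)
  have hne1 : g * v * g⁻¹ ≠ 1 := by
    intro e
    apply hv1'
    have : v = g⁻¹ * (g * v * g⁻¹) * g := by group
    rw [this, e]
    group
  have hdvd : Nat.card ↥V ∣ 2 ^ 2 := by
    have := Subgroup.card_dvd_of_le hVY
    rw [hV.1] at this
    exact this
  obtain ⟨k, hk, hcard⟩ := (Nat.dvd_prime_pow Nat.prime_two).mp hdvd
  have h4 : Nat.card ↥V = 4 := by
    interval_cases k
    · exfalso
      rw [pow_zero] at hcard
      exact hne (Subgroup.card_eq_one.mp hcard)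
    · exfalso
      rw [pow_one] at hcard
      obtain ⟨y, -, hy⟩ := (Nat.card_eq_two_iff' (1 : ↥V)).mp hcard
      have e1 := hy ⟨v, hvV⟩ hv1
      have e2 := hy ⟨g * v * g⁻¹, hv'⟩ (fun e => hne1 (congrArg Subtype.val e))
      exact hne' (congrArg Subtype.val (e2.trans e1.symm))
    · rw [hcard]
      norm_num
  exact Subgroup.eq_of_le_of_card_ge hVY (by rw [h4, hV.1])

/-- **MA2V**.  A proper `H`-invariant four-subgroup `Y` not centralized by `H`: `X` is special with centre `Y`. -/
theorem caseA2_v4 [Finite G] (L : Layer1 G) {X H Y : Subgroup G} (h : Setup X H) (hYX : Y < X) (hV : V4Type Y)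
    (hHY : H ≤ Subgroup.normalizer (Y : Set G)) (hnc : ¬ H ≤ Subgroup.centralizer (Y : Set G))
    (hnab : ¬ ∀ a ∈ X, ∀ b ∈ X, a * b = b * a) : SpecialIn X Y := by
  have hXn := h.normal
  have : Fact (Nat.Prime 2) := ⟨Nat.prime_two⟩
  obtain ⟨g, hgH, hgY⟩ := SetLike.not_le_iff_exists.mp hnc
  have hodd : Odd (orderOf g) := Cfsg.Agent.Lib.H20.TwoMin.n1_odd_orderOf h.odd hgH
  have hgN : g ∈ Subgroup.normalizer (Y : Set G) := hHY hgH
  have hgX : g ∈ Subgroup.normalizer (X : Set G) := by
    rw [Subgroup.normalizer_eq_top]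
    trivial
  have hXY : X ≤ Subgroup.normalizer (Y : Set G) :=
    Cfsg.Agent.Lib.H20.TwoMin.normal_of_invariant L h hYX hHY hnc
  have hYc : Y ≤ Subgroup.centralizer (X : Set G) := L.v4_central X Y g h.two hYX.le hV hXY hodd hgX hgN hgY
  have hfix := L.v4_no_fixed Y g hV hodd hgN hgY
  -- an element of `Y` different from `1` and a given `z`
  have hex : ∀ z : G, ∃ y ∈ Y, y ≠ 1 ∧ y ≠ z := by
    intro z
    have hYne : Y ≠ ⊥ := by
      intro e
      have := hV.1
      rw [e, Subgroup.card_bot] at this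
      omega
    obtain ⟨⟨v, hvY⟩, hv1⟩ := (Subgroup.ne_bot_iff_exists_ne_one).mp hYne
    have hv1' : v ≠ 1 := fun e => hv1 (Subtype.ext e)
    by_cases hvz : v = z
    · refine ⟨g * v * g⁻¹, (Subgroup.mem_normalizer_iff.mp hgN v).mp hvY, ?_, ?_⟩
      · intro e
        apply hv1'
        have : v = g⁻¹ * (g * v * g⁻¹) * g := by group
        rw [this, e]
        group
      · rw [← hvz]
        exact fun e => hv1' (hfix v hvY e)
    · exact ⟨v, hvY, hv1', hvz⟩
  -- every proper invariant subgroup containing `Y` is `Y`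
  have key : ∀ U : Subgroup G, U < X → H ≤ Subgroup.normalizer (U : Set G) → Y ≤ U → U = Y := by
    intro U hUX hHU hYU
    have hfree := h.inv U hUX hHU
    have hU2 : IsPGroup 2 ↥U := h.two.to_le hUX.le
    have hgU : g ∉ Subgroup.centralizer (U : Set G) := fun hc => hgY (Subgroup.centralizer_le hYU hc)
    rcases L.lemmaK U g hU2 hfree hodd (hHU hgH) hgU with hU4 | ⟨z, hQ⟩
    · exact (Subgroup.eq_of_le_of_card_ge hYU (by rw [hU4.1, hV.1])).symm
    · exfalso
      obtain ⟨y, hyY, hy1, hyz⟩ := hex z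
      have h1 := hQ.2.2.2.2 y (hYU hyY) hy1 hyz
      rw [hV.2 y hyY] at h1
      exact hQ.2.2.1 h1.symm
  have hnorm : ∀ U : Subgroup G, U.Normal → H ≤ Subgroup.normalizer (U : Set G) := by
    intro U hU
    rw [Subgroup.normalizer_eq_top]
    exact le_top
  -- the centre
  have hZlt : X ⊓ Subgroup.centralizer (X : Set G) < X := by
    refine lt_of_le_of_ne inf_le_left ?_
    intro e
    apply hnab
    intro a ha b hb
    have hb' : b ∈ X ⊓ Subgroup.centralizer (X : Set G) := by
      rw [e]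
      exact hb
    exact Subgroup.mem_centralizer_iff.mp hb'.2 a ha
  have hZ : X ⊓ Subgroup.centralizer (X : Set G) = Y :=
    key _ hZlt (hnorm _ inferInstance) (le_inf hYX.le hYc)
  -- the derived subgroup contains `Y`
  have hXXne : commutator ↥X ≠ ⊥ := by
    intro e
    have h1 := Subgroup.map_subtype_commutator X
    rw [e, Subgroup.map_bot] at h1
    have h2 : X ≤ Subgroup.centralizer (X : Set G) :=
      Subgroup.commutator_eq_bot_iff_le_centralizer.mp h1.symm
    apply hnab
    intro a ha b hb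
    exact Subgroup.mem_centralizer_iff.mp (h2 hb) a ha
  obtain ⟨z, hzC, hzZ, hz1⟩ := Cfsg.Agent.Lib.H8.exists_central_mem_of_normal h.two (commutator ↥X) hXXne
  have hzXX : (z : G) ∈ ⁅X, X⁆ := by
    rw [← Subgroup.map_subtype_commutator X]
    exact Subgroup.mem_map_of_mem X.subtype hzC
  have hzY : (z : G) ∈ Y := by
    rw [← hZ]
    refine Subgroup.mem_inf.mpr ⟨z.2, ?_⟩
    rw [Subgroup.mem_centralizer_iff]
    intro x hx
    have := Subgroup.mem_center_iff.mp hzZ ⟨x, hx⟩
    exact congrArg Subtype.val this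
  have hYXX : Y ≤ ⁅X, X⁆ := by
    have hgV : g ∈ Subgroup.normalizer ((⁅X, X⁆ ⊓ Y : Subgroup G) : Set G) := by
      rw [Subgroup.mem_normalizer_iff]
      intro x
      have hn : (⁅X, X⁆ : Subgroup G).Normal := inferInstance
      have h1 : x ∈ ⁅X, X⁆ ↔ g * x * g⁻¹ ∈ ⁅X, X⁆ := by
        constructor
        · intro hx
          exact hn.conj_mem x hx g
        · intro hx
          have := hn.conj_mem _ hx g⁻¹
          have e : g⁻¹ * (g * x * g⁻¹) * g⁻¹⁻¹ = x := by group
          rwa [e] at this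
      have h2 := Subgroup.mem_normalizer_iff.mp hgN x
      exact ⟨fun hx => ⟨h1.mp hx.1, h2.mp hx.2⟩, fun hx => ⟨h1.mpr hx.1, h2.mpr hx.2⟩⟩
    have hVne : ⁅X, X⁆ ⊓ Y ≠ ⊥ := by
      intro e
      have : (z : G) ∈ ⁅X, X⁆ ⊓ Y := ⟨hzXX, hzY⟩
      rw [e, Subgroup.mem_bot] at this
      exact hz1 (Subtype.ext this)
    have := v4_eq_of_invariant hV inf_le_right hVne hgV hfix
    rw [← this]
    exact inf_le_left
  -- the Frattini subgroup
  have hFn : ((frattini ↥X).map X.subtype).Normal := inferInstance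
  have hFlt : (frattini ↥X).map X.subtype < X := by
    refine lt_of_le_of_ne (Subgroup.map_subtype_le _) ?_
    intro e
    have hnt : Nontrivial ↥X := by
      by_contra hnt
      rw [not_nontrivial_iff_subsingleton] at hnt
      apply hnab
      intro a ha b hb
      have e1 : (⟨a, ha⟩ : ↥X) = ⟨b, hb⟩ := Subsingleton.elim _ _
      have : a = b := congrArg Subtype.val e1
      rw [this]
    have hne : frattini ↥X ≠ ⊤ := by
      obtain ⟨K, hK⟩ := IsCoatomic.exists_coatom (Subgroup ↥X)
      intro e'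
      have := frattini_le_coatom hK
      rw [e'] at this
      exact hK.1 (top_le_iff.mp this)
    apply hne
    rw [eq_top_iff]
    intro x _
    have hx : (x : G) ∈ (frattini ↥X).map X.subtype := by
      rw [e]
      exact x.2
    obtain ⟨x', hx', hxx⟩ := hx
    have : x' = x := Subtype.ext hxx
    rw [← this]
    exact hx'
  have hXXF : ⁅X, X⁆ ≤ (frattini ↥X).map X.subtype := by
    rw [← Subgroup.map_subtype_commutator X]
    exact Subgroup.map_mono (Cfsg.Agent.Lib.H1.isPGroup_commutator_le_frattini h.two)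
  have hF : (frattini ↥X).map X.subtype = Y := key _ hFlt (hnorm _ hFn) (hYXX.trans hXXF)
  refine ⟨hZ.symm, le_antisymm (hF ▸ hXXF) hYXX, ?_⟩
  intro x hx
  rw [← hF]
  have := Cfsg.Agent.Lib.H1.isPGroup_pow_mem_frattini h.two (⟨x, hx⟩ : ↥X)
  exact ⟨_, this, rfl⟩

end Cfsg.Agent.Lib.H22.TwoMin
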