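import Mathlib
import Cfsg.Agent.Lib.H26.TwoMinDefs
import Cfsg.Agent.Lib.H1.CoprimeAction

/-!
# S4409 piece MBV (helper22): the case `[X, H]` a four-group is impossible for nonabelian `X`.
-/

set_option autoImplicit false
open scoped commutatorElement

namespace Cfsg.Agent.Lib.H22.TwoMin

open Cfsg.Agent.Lib.H26.TwoMin Cfsg.Agent.Lib.H1

variable {G : Type*} [Group G]

/-- `|A N| = |A| |N|` for `A ∩ N = 1`, `A` normalizing `N` -/
theorem card_sup_of_inf_eq_bot (A N : Subgroup G) (hd : A ⊓ N = ⊥)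
    (hn : A ≤ Subgroup.normalizer (N : Set G)) :
    Nat.card ↥(A ⊔ N) = Nat.card ↥A * Nat.card ↥N := by
  rw [← Nat.card_prod]
  symm
  apply Nat.card_congr
  refine Equiv.ofBijective
    (fun p : ↥A × ↥N => (⟨(p.1 : G) * (p.2 : G), Subgroup.mul_mem_sup p.1.2 p.2.2⟩ : ↥(A ⊔ N))) ⟨?_, ?_⟩
  · intro p q h
    exact Subgroup.mul_injective_of_disjoint (disjoint_iff.2 hd) (congrArg Subtype.val h)
  · rintro ⟨x, hx⟩
    have hx' : x ∈ ((A ⊔ N : Subgroup G) : Set G) := hx
    rw [Subgroup.coe_mul_of_left_le_normalizer_right A N hn] at hx'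
    obtain ⟨a, ha, n, hn', rfl⟩ := hx'
    exact ⟨(⟨a, ha⟩, ⟨n, hn'⟩), rfl⟩

/-- a subgroup normalizing two subgroups normalizes their join -/
theorem le_normalizer_sup {H W Z : Subgroup G} (hW : H ≤ Subgroup.normalizer (W : Set G))
    (hZ : H ≤ Subgroup.normalizer (Z : Set G)) : H ≤ Subgroup.normalizer ((W ⊔ Z : Subgroup G) : Set G) := by
  have key : ∀ g ∈ H, ∀ x ∈ W ⊔ Z, g * x * g⁻¹ ∈ W ⊔ Z := by
    intro g hg x hx
    have hle : W ⊔ Z ≤ (W ⊔ Z).comap (MulAut.conj g).toMonoidHom := by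
      apply sup_le
      · intro w hw
        exact Subgroup.mem_comap.mpr ((le_sup_left : W ≤ W ⊔ Z) ((Subgroup.mem_normalizer_iff.mp (hW hg) w).mp hw))
      · intro z hz
        exact Subgroup.mem_comap.mpr ((le_sup_right : Z ≤ W ⊔ Z) ((Subgroup.mem_normalizer_iff.mp (hZ hg) z).mp hz))
    exact hle hx
  intro g hg
  rw [Subgroup.mem_normalizer_iff]
  intro x
  constructor
  · exact key g hg x
  · intro hx
    have := key g⁻¹ (H.inv_mem hg) _ hx
    have e : g⁻¹ * (g * x * g⁻¹) * g⁻¹⁻¹ = x := by group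
    rwa [e] at this

/-- elements of a subgroup of order two -/
theorem mem_zpowers_of_sq {c x : G} (hc : c ^ 2 = 1) (hx : x ∈ Subgroup.zpowers c) : x = 1 ∨ x = c := by
  obtain ⟨k, rfl⟩ := Subgroup.mem_zpowers_iff.mp hx
  obtain ⟨m, rfl | rfl⟩ := Int.even_or_odd' k
  · left
    rw [zpow_mul, zpow_ofNat, hc, one_zpow]
  · right
    rw [zpow_add, zpow_mul, zpow_ofNat, hc, one_zpow, one_mul, zpow_one]

/-- **MBV**.  Case `W = [X,H]` a four-group: impossible for nonabelian `X`. -/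
theorem caseB_v4_false [Finite G] (L : Layer1 G) {X H : Subgroup G} (h : Setup X H) (hV : V4Type ⁅X, H⁆)
    (hnab : ¬ ∀ a ∈ X, ∀ b ∈ X, a * b = b * a) : False := by
  have := h.normal
  have : Fact (Nat.Prime 2) := ⟨Nat.prime_two⟩
  -- the coprime action
  have hHX : H ≤ Subgroup.normalizer (X : Set G) := by
    rw [Subgroup.normalizer_eq_top]
    exact le_top
  have hco : CoprimeAction H X := by
    refine ⟨hHX, ?_, Or.inr ?_⟩
    · obtain ⟨k, hk⟩ := IsPGroup.iff_card.mp h.two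
      rw [hk]
      exact Nat.Coprime.pow_right k h.odd.coprime_two_right
    · have : Group.IsNilpotent ↥X := h.two.isNilpotent
      infer_instance
  have hWX : ⁅X, H⁆ ≤ X := hco.commutator_le
  have hXW : X ≤ Subgroup.normalizer ((⁅X, H⁆ : Subgroup G) : Set G) := Subgroup.normalizer_commutator_ge_left X H
  have hHW : H ≤ Subgroup.normalizer ((⁅X, H⁆ : Subgroup G) : Set G) := Subgroup.normalizer_commutator_ge_right X H
  -- an element of `H` not centralizing `W`
  have hnc : ¬ H ≤ Subgroup.centralizer ((⁅X, H⁆ : Subgroup G) : Set G) := by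
    intro hle
    have h1 : ⁅⁅X, H⁆, H⁆ = ⊥ := by
      rw [Subgroup.commutator_comm, Subgroup.commutator_eq_bot_iff_le_centralizer]
      exact hle
    rw [coprime_commutator_commutator hco] at h1
    have h2 := hV.1
    rw [h1, Subgroup.card_bot] at h2
    omega
  obtain ⟨g, hgH, hgW⟩ := SetLike.not_le_iff_exists.mp hnc
  have hodd : Odd (orderOf g) := by
    have hd : orderOf g ∣ Nat.card ↥H := by
      have := orderOf_dvd_natCard (⟨g, hgH⟩ : ↥H)
      rwa [Subgroup.orderOf_mk] at this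
    exact Odd.of_dvd_nat h.odd hd
  have hgN : g ∈ Subgroup.normalizer ((⁅X, H⁆ : Subgroup G) : Set G) := hHW hgH
  -- `W` is central in `X`
  have hWc : ⁅X, H⁆ ≤ Subgroup.centralizer (X : Set G) :=
    L.v4_central X ⁅X, H⁆ g h.two hWX hV hXW hodd (hHX hgH) hgN hgW
  have hsup : ⁅X, H⁆ ⊔ (X ⊓ Subgroup.centralizer (H : Set G)) = X := coprime_commutator_sup_centralizer hco
  -- `C` is not trivial
  have hC : X ⊓ Subgroup.centralizer (H : Set G) ≠ ⊥ := by
    intro hb
    rw [hb, sup_bot_eq] at hsup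
    apply hnab
    intro a ha b hb'
    have hb3 : b ∈ ⁅X, H⁆ := by
      rw [hsup]
      exact hb'
    have hb2 : b ∈ Subgroup.centralizer (X : Set G) := hWc hb3
    exact (Subgroup.mem_centralizer_iff.mp hb2 a ha)
  -- an involution in `C`
  have hC2 : IsPGroup 2 ↥(X ⊓ Subgroup.centralizer (H : Set G)) := h.two.to_le inf_le_left
  have hdvd : 2 ∣ Nat.card ↥(X ⊓ Subgroup.centralizer (H : Set G)) := by
    obtain ⟨k, hk⟩ := IsPGroup.iff_card.mp hC2
    rcases Nat.eq_zero_or_pos k with rfl | hkpos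
    · rw [pow_zero] at hk
      exact absurd (Subgroup.card_eq_one.mp hk) hC
    · rw [hk]
      exact dvd_pow_self 2 hkpos.ne'
  obtain ⟨⟨c, hcC⟩, hc2⟩ := exists_prime_orderOf_dvd_card' (G := ↥(X ⊓ Subgroup.centralizer (H : Set G))) 2 hdvd
  rw [Subgroup.orderOf_mk] at hc2
  have hcX : c ∈ X := hcC.1
  have hcH : c ∈ Subgroup.centralizer (H : Set G) := hcC.2
  have hcsq : c ^ 2 = 1 := by
    rw [← hc2]
    exact pow_orderOf_eq_one c
  have hc1 : c ≠ 1 := by
    intro h1
    rw [h1, orderOf_one] at hc2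
    omega
  have hcW : c ∉ ⁅X, H⁆ := by
    intro hcW
    apply hc1
    apply L.v4_no_fixed ⁅X, H⁆ g hV hodd hgN hgW c hcW
    have := Subgroup.mem_centralizer_iff.mp hcH g hgH
    rw [this, mul_inv_cancel_right]
  -- the elementary abelian subgroup of order 8
  have hZX : Subgroup.zpowers c ≤ X := Subgroup.zpowers_le.mpr hcX
  have hAX : Subgroup.zpowers c ⊔ ⁅X, H⁆ ≤ X := sup_le hZX hWX
  have hdisj : Subgroup.zpowers c ⊓ ⁅X, H⁆ = ⊥ := by
    rw [eq_bot_iff]
    intro x hx
    rw [Subgroup.mem_bot]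
    rcases mem_zpowers_of_sq hcsq hx.1 with h1 | h1
    · exact h1
    · exact absurd (h1 ▸ hx.2) hcW
  have hcard : Nat.card ↥(Subgroup.zpowers c ⊔ ⁅X, H⁆) = 8 := by
    rw [card_sup_of_inf_eq_bot _ _ hdisj (hZX.trans hXW), Nat.card_zpowers, hc2, hV.1]
  -- it is abelian
  have hcomm_c : Subgroup.zpowers c ⊔ ⁅X, H⁆ ≤ Subgroup.centralizer ({c} : Set G) := by
    apply sup_le
    · rw [Subgroup.zpowers_le]
      exact Subgroup.mem_centralizer_iff.mpr (fun y hy => by rw [Set.mem_singleton_iff.mp hy])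
    · intro w hw
      rw [Subgroup.mem_centralizer_iff]
      intro y hy
      rw [Set.mem_singleton_iff.mp hy]
      exact Subgroup.mem_centralizer_iff.mp (hWc hw) c hcX
  have hab : ∀ a ∈ Subgroup.zpowers c ⊔ ⁅X, H⁆, ∀ b ∈ Subgroup.zpowers c ⊔ ⁅X, H⁆, a * b = b * a := by
    have hle : Subgroup.zpowers c ⊔ ⁅X, H⁆ ≤
        Subgroup.centralizer ((Subgroup.zpowers c ⊔ ⁅X, H⁆ : Subgroup G) : Set G) := by
      apply sup_le
      · rw [Subgroup.zpowers_le, Subgroup.mem_centralizer_iff]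
        intro y hy
        have := Subgroup.mem_centralizer_iff.mp (hcomm_c hy) c (Set.mem_singleton c)
        exact this.symm
      · exact hWc.trans (Subgroup.centralizer_le hAX)
    intro a ha b hb
    exact (Subgroup.mem_centralizer_iff.mp (hle hb) a ha)
  -- it is invariant and proper
  have hHZ : H ≤ Subgroup.normalizer ((Subgroup.zpowers c : Subgroup G) : Set G) := by
    have : H ≤ Subgroup.centralizer ((Subgroup.zpowers c : Subgroup G) : Set G) := by
      rw [Subgroup.le_centralizer_iff, Subgroup.zpowers_le]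
      exact hcH
    exact this.trans (Subgroup.centralizer_le_normalizer _)
  have hHA : H ≤ Subgroup.normalizer ((Subgroup.zpowers c ⊔ ⁅X, H⁆ : Subgroup G) : Set G) :=
    le_normalizer_sup hHZ hHW
  have hlt : Subgroup.zpowers c ⊔ ⁅X, H⁆ < X := by
    refine lt_of_le_of_ne hAX ?_
    intro he
    apply hnab
    rw [← he]
    exact hab
  have hfree := h.inv _ hlt hHA
  have hcyc := hfree _ le_rfl hab hcard
  -- exponent two, so not cyclic
  have hexp : ∀ a ∈ Subgroup.zpowers c ⊔ ⁅X, H⁆, a ^ 2 = 1 := by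
    intro a ha
    have ha' : a ∈ ((Subgroup.zpowers c ⊔ ⁅X, H⁆ : Subgroup G) : Set G) := ha
    rw [Subgroup.coe_mul_of_left_le_normalizer_right _ _ (hZX.trans hXW)] at ha'
    obtain ⟨z, hz, w, hw, rfl⟩ := ha'
    have hz2 : z ^ 2 = 1 := by
      rcases mem_zpowers_of_sq hcsq hz with h1 | h1
      · rw [h1, one_pow]
      · rw [h1, hcsq]
    have hw2 : w ^ 2 = 1 := hV.2 w hw
    have hzw : z * w = w * z :=
      hab z ((le_sup_left : Subgroup.zpowers c ≤ _) hz) w ((le_sup_right : ⁅X, H⁆ ≤ Subgroup.zpowers c ⊔ ⁅X, H⁆) hw)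
    calc (z * w) ^ 2 = z * (w * z) * w := by rw [pow_two]; group
      _ = z * (z * w) * w := by rw [hzw]
      _ = z ^ 2 * w ^ 2 := by rw [pow_two, pow_two]; group
      _ = 1 := by rw [hz2, hw2, one_mul]
  obtain ⟨⟨a, ha⟩, hgen⟩ := hcyc.exists_generator
  have hord := orderOf_eq_card_of_forall_mem_zpowers hgen
  rw [Subgroup.orderOf_mk, hcard] at hord
  have hd : orderOf a ∣ 2 := orderOf_dvd_of_pow_eq_one (hexp a ha)
  rw [hord] at hd
  omega

end Cfsg.Agent.Lib.H22.TwoMin
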