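import Cfsg.Agent.S0719
import Cfsg.Agent.Lib.L0.FrobTIAbelian
import Cfsg.Agent.Lib.H21.W2P.Defs

/-!
# S0720 piece EXC (helper22): exceptional characters give the degrees of the members of `X`
-/

set_option autoImplicit false

namespace Cfsg.Agent.Lib.H22.W2P

open Cfsg Cfsg.Agent.Lib.H4.CentRing Cfsg.Agent.Lib.H21.W2P Cfsg.Agent.Lib.L0
open scoped ComplexConjugate

section group

variable {L : Type*} [Group L] [Finite L] {p : ℕ} (hp : p.Prime) (x : L) (hox : orderOf x = p)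

include hp hox in
/-- a non-trivial element of `⟨x⟩` generates it -/
theorem x_mem_zpowers_of_ne_one {k : L} (hk : k ∈ Subgroup.zpowers x) (hk1 : k ≠ 1) :
    x ∈ Subgroup.zpowers k := by
  have : Fact p.Prime := ⟨hp⟩
  have hcard : Nat.card (Subgroup.zpowers x) = p := by rw [Nat.card_zpowers, hox]
  have hle : Subgroup.zpowers k ≤ Subgroup.zpowers x := Subgroup.zpowers_le.2 hk
  have hk' : Nat.card (Subgroup.zpowers k) = p := by
    have h1 : Nat.card (Subgroup.zpowers k) ∣ p := hcard ▸ Subgroup.card_dvd_of_le hle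
    rcases (Nat.dvd_prime hp).1 h1 with h2 | h2
    · exfalso
      apply hk1
      rw [Nat.card_zpowers, orderOf_eq_one_iff] at h2
      exact h2
    · exact h2
  have heq : Subgroup.zpowers k = Subgroup.zpowers x :=
    Subgroup.eq_of_le_of_card_ge hle (by rw [hk', hcard])
  rw [heq]
  exact Subgroup.mem_zpowers x

/-- an element conjugating `x` into `⟨x⟩` normalises `⟨x⟩` -/
theorem mem_normalizer_of_conj_mem {g : L} (h : g * x * g⁻¹ ∈ Subgroup.zpowers x) :
    g ∈ Subgroup.normalizer ((Subgroup.zpowers x : Subgroup L) : Set L) := by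
  have hle : (Subgroup.zpowers x).map (MulAut.conj g).toMonoidHom ≤ Subgroup.zpowers x := by
    rw [MonoidHom.map_zpowers, Subgroup.zpowers_le]
    simpa using h
  have hcard : Nat.card ((Subgroup.zpowers x).map (MulAut.conj g).toMonoidHom) =
      Nat.card (Subgroup.zpowers x) :=
    Subgroup.card_map_of_injective (MulAut.conj g).injective
  have heq : (Subgroup.zpowers x).map (MulAut.conj g).toMonoidHom = Subgroup.zpowers x :=
    Subgroup.eq_of_le_of_card_ge hle (by rw [hcard])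
  rw [Subgroup.mem_normalizer_iff]
  intro h'
  constructor
  · intro hh
    rw [← heq]
    exact ⟨h', hh, by simp⟩
  · intro hh
    rw [← heq] at hh
    obtain ⟨y, hy, hyeq⟩ := hh
    have : y = h' := by
      have h2 : g * y * g⁻¹ = g * h' * g⁻¹ := by simpa using hyeq
      have h3 := mul_left_cancel (mul_right_cancel h2)
      exact h3
    rwa [← this]

include hp hox in
theorem frobTI_zpowers (hcent : ∀ c : L, c * x = x * c → c ∈ Subgroup.zpowers x) :
    FrobTI (Subgroup.zpowers x) := by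
  constructor
  · intro g hg k hk hgk
    by_contra hk1
    apply hg
    apply mem_normalizer_of_conj_mem
    obtain ⟨j, hj⟩ := Subgroup.mem_zpowers_iff.1 (x_mem_zpowers_of_ne_one hp x hox hk hk1)
    have : g * x * g⁻¹ = (g * k * g⁻¹) ^ j := by
      rw [conj_zpow, hj]
    rw [this]
    exact Subgroup.zpow_mem _ hgk j
  · intro k hk hk1 c hc
    rw [Subgroup.mem_centralizer_singleton_iff] at hc
    apply hcent
    obtain ⟨j, hj⟩ := Subgroup.mem_zpowers_iff.1 (x_mem_zpowers_of_ne_one hp x hox hk hk1)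
    have hcomm : Commute c k := hc
    have := (hcomm.zpow_right j).eq
    rwa [hj] at this

end group

section comb

/-- the combinatorial core: every member of `X` contains exactly one relevant character -/
theorem comb_core {Ψ R : Type*} [DecidableEq Ψ] [Fintype R] (X : Finset Ψ) (A : Ψ → R → ℕ)
    (f : R → Ψ) (hf : Function.Injective f) (ε : ℤ) (hε : ε = 1 ∨ ε = -1)
    (h1 : ∀ Λ, ∑ ψ ∈ X, A ψ Λ = 1)
    (h3 : ∀ ψ Λ Λ', (A ψ Λ : ℤ) - A ψ Λ' =
      ε * ((if f Λ = ψ then 1 else 0) - (if f Λ' = ψ then 1 else 0)))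
    (hpos : ∀ ψ ∈ X, ∃ Λ, A ψ Λ ≠ 0) (hX : 2 ≤ X.card) : ∀ ψ ∈ X, ∑ Λ, A ψ Λ = 1 := by
  classical
  -- two distinct members of `X` cannot both contain `Λ`
  have hle : ∀ ψ ∈ X, ∀ Λ, A ψ Λ ≤ 1 := by
    intro ψ hψ Λ
    rw [← h1 Λ]
    exact Finset.single_le_sum (f := fun ψ => A ψ Λ) (fun _ _ => Nat.zero_le _) hψ
  have hexcl : ∀ ψ ∈ X, ∀ ψ' ∈ X, ψ' ≠ ψ → ∀ Λ, A ψ Λ ≠ 0 → A ψ' Λ = 0 := by
    intro ψ hψ ψ' hψ' hne Λ hA
    have h2 : A ψ Λ + A ψ' Λ ≤ ∑ ψ ∈ X, A ψ Λ := by
      have hsub : ({ψ, ψ'} : Finset Ψ) ⊆ X := by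
        intro z hz
        rw [Finset.mem_insert, Finset.mem_singleton] at hz
        rcases hz with rfl | rfl <;> assumption
      have := Finset.sum_le_sum_of_subset (f := fun ψ => A ψ Λ) hsub
      rwa [Finset.sum_pair hne.symm] at this
    rw [h1 Λ] at h2
    omega
  intro ψ hψ
  obtain ⟨Λ₁, hΛ₁⟩ := hpos ψ hψ
  have hA1 : A ψ Λ₁ = 1 := by
    have := hle ψ hψ Λ₁
    omega
  rw [Finset.sum_eq_single Λ₁, hA1]
  · intro Λ₂ _ hne
    by_contra hA2
    have hA2' : A ψ Λ₂ = 1 := by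
      have := hle ψ hψ Λ₂
      omega
    obtain ⟨ψ', hψ', hne'⟩ := Finset.exists_mem_ne (by omega : 1 < X.card) ψ
    obtain ⟨Λ', hΛ'⟩ := hpos ψ' hψ'
    have hB : A ψ' Λ' = 1 := by
      have := hle ψ' hψ' Λ'
      omega
    have hz1 : A ψ Λ' = 0 := hexcl ψ' hψ' ψ hψ hne'.symm Λ' hΛ'
    have hz2 : A ψ' Λ₁ = 0 := hexcl ψ hψ ψ' hψ' hne' Λ₁ hΛ₁
    have hz3 : A ψ' Λ₂ = 0 := hexcl ψ hψ ψ' hψ' hne' Λ₂ hA2
    have e1 := h3 ψ Λ₁ Λ'
    have e2 := h3 ψ' Λ₁ Λ'
    have e3 := h3 ψ Λ₂ Λ'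
    have e4 := h3 ψ' Λ₂ Λ'
    rw [hA1, hz1] at e1
    rw [hz2, hB] at e2
    rw [hA2', hz1] at e3
    rw [hz3, hB] at e4
    rcases hε with rfl | rfl
    · have g1 : f Λ₁ = ψ := by
        by_contra hcon
        rw [if_neg hcon] at e1
        split_ifs at e1 <;> omega
      have g2 : f Λ₂ = ψ := by
        by_contra hcon
        rw [if_neg hcon] at e3
        split_ifs at e3 <;> omega
      exact hne (hf (g2.trans g1.symm))
    · have g1 : f Λ₁ = ψ' := by
        by_contra hcon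
        rw [if_neg hcon] at e2
        split_ifs at e2 <;> omega
      have g2 : f Λ₂ = ψ' := by
        by_contra hcon
        rw [if_neg hcon] at e4
        split_ifs at e4 <;> omega
      exact hne (hf (g2.trans g1.symm))
  · intro h
    exact absurd (Finset.mem_univ _) h

end comb

section chars

variable {L : Type*} [Group L] [Fintype L] {K : Subgroup L}
  [Fintype (Subgroup.normalizer (K : Set L))]

/-- inner product of a relevant character of `N(K)` with the restriction of a class function of `L`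
vanishing on `K ∖ 1` -/
theorem classInner_rel_restrict (hFT : FrobTI K) (hab : ∀ a ∈ K, ∀ b ∈ K, a * b = b * a)
    {Λ : Subgroup.normalizer (K : Set L) → ℂ}
    (hΛ : IsIrrCharacter (Subgroup.normalizer (K : Set L)) Λ) (hrel : FrobTI.Rel K Λ)
    (g : L → ℂ) (hg : IsClassFunction L g) (hvan : ∀ y ∈ K, y ≠ 1 → g y = 0) :
    classInner Λ (fun n : Subgroup.normalizer (K : Set L) => g n) =
      (Nat.card K : ℂ)⁻¹ * conj (g 1) := by
  classical
  obtain ⟨φ, hφ, rfl⟩ := hFT.exists_ind hΛ hrel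
  have : Fintype (K.subgroupOf (Subgroup.normalizer (K : Set L))) := Fintype.ofFinite _
  have hcl : IsClassFunction (Subgroup.normalizer (K : Set L))
      (fun n : Subgroup.normalizer (K : Set L) => g n) := by
    intro a b
    exact hg (a : L) (b : L)
  rw [frobenius_reciprocity (K.subgroupOf (Subgroup.normalizer (K : Set L))) φ _ hcl]
  unfold classInner
  have hcomm : ∀ a b : K.subgroupOf (Subgroup.normalizer (K : Set L)), a * b = b * a := by
    intro a b
    apply Subtype.ext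
    apply Subtype.ext
    exact hab _ (Subgroup.mem_subgroupOf.mp a.2) _ (Subgroup.mem_subgroupOf.mp b.2)
  have hφ1 : φ 1 = 1 := irr_apply_one_of_comm hcomm hφ
  rw [Finset.sum_eq_single (1 : K.subgroupOf (Subgroup.normalizer (K : Set L)))]
  · rw [hφ1, one_mul]
    have hcard : Nat.card (K.subgroupOf (Subgroup.normalizer (K : Set L))) = Nat.card K :=
      Nat.card_congr (Subgroup.subgroupOfEquivOfLe Subgroup.le_normalizer).toEquiv
    rw [hcard]
    rfl
  · intro h _ hne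
    have h1 : ((h : Subgroup.normalizer (K : Set L)) : L) ∈ K := Subgroup.mem_subgroupOf.mp h.2
    have h2 : ((h : Subgroup.normalizer (K : Set L)) : L) ≠ 1 := by
      intro h3
      apply hne
      apply Subtype.ext
      apply Subtype.ext
      exact h3
    show φ h * conj (g ((h : Subgroup.normalizer (K : Set L)) : L)) = 0
    rw [hvan _ h1 h2, map_zero, mul_zero]
  · intro h
    exact absurd (Finset.mem_univ _) h

end chars

/-- the normaliser of `⟨x⟩` -/
abbrev NZ {L : Type*} [Group L] (x : L) : Subgroup L :=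
  Subgroup.normalizer ((Subgroup.zpowers x : Subgroup L) : Set L)

/-- the relevant irreducible characters of the normaliser of `⟨x⟩` -/
abbrev TZ {L : Type*} [Group L] (x : L) : Type _ :=
  {χ : IrrCharacter (NZ x) // ∃ k : NZ x, (k : L) ∈ Subgroup.zpowers x ∧
    (χ : NZ x → ℂ) k ≠ (χ : NZ x → ℂ) 1}

section main

variable {L : Type*} [Group L] [Fintype L] {Ω : Type*} [Fintype Ω] [DecidableEq Ω]
  [MulAction L Ω] {p : ℕ}

omit [Fintype Ω] [DecidableEq Ω] in
/-- a non-trivial element of `⟨x⟩` has no fixed point -/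
theorem permCh_eq_zero_of_mem (hp : p.Prime) (x : L) (hox : orderOf x = p)
    (hfpf : ∀ a : Ω, x • a ≠ a) {y : L} (hy : y ∈ Subgroup.zpowers x) (hy1 : y ≠ 1) :
    permCh L Ω y = 0 := by
  unfold permCh
  have hx := x_mem_zpowers_of_ne_one hp x hox hy hy1
  obtain ⟨j, hj⟩ := Subgroup.mem_zpowers_iff.1 hx
  have hemp : IsEmpty (MulAction.fixedBy Ω y) := by
    constructor
    rintro ⟨a, ha⟩
    apply hfpf a
    rw [← hj]
    exact MulAction.mem_fixedBy_zpow ha j
  rw [Nat.card_of_isEmpty]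
  simp

theorem chi_one_eq_zero_of_mem (x : L) [Fact p.Prime] (hox : orderOf x = p) (χ₁ : L → ℂ)
    (hvan : ∀ k : ℕ, ¬ p ∣ k → χ₁ (x ^ k) = 0) {y : L} (hy : y ∈ Subgroup.zpowers x)
    (hy1 : y ≠ 1) : χ₁ y = 0 := by
  obtain ⟨k, rfl⟩ := mem_powers_iff_mem_zpowers.2 hy
  apply hvan
  intro hdvd
  apply hy1
  rw [← hox] at hdvd
  exact orderOf_dvd_iff_pow_eq_one.1 hdvd

/-- EXC -/
theorem exc_degree {L : Type*} [Group L] [Fintype L] {Ω : Type*} [Fintype Ω] [DecidableEq Ω]
    [MulAction L Ω] {p : ℕ} (hp : p.Prime) (hΩ : Fintype.card Ω = 2 * p) (x : L)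
    (hox : orderOf x = p) (hfpf : ∀ a : Ω, x • a ≠ a)
    (hcent : ∀ c : L, c * x = x * c → c ∈ Subgroup.zpowers x)
    (hN : ∃ n : L, n * x * n⁻¹ ∈ Subgroup.zpowers x ∧ n ∉ Subgroup.zpowers x) (e : ℕ)
    (he : Nat.card (Subgroup.normalizer ((Subgroup.zpowers x : Subgroup L) : Set L)) = p * e)
    (χ₁ : L → ℂ) (X : Finset (IrrCharacter L)) (hD : Dec L Ω p x χ₁ X) (hX : 2 ≤ X.card) :
    ∀ ψ ∈ X, (ψ : L → ℂ) 1 = (e : ℂ) := by
  classical
  have : Fact p.Prime := ⟨hp⟩
  have hp0 : (p : ℂ) ≠ 0 := by exact_mod_cast hp.ne_zero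
  have hFT : FrobTI (Subgroup.zpowers x) := frobTI_zpowers hp x hox hcent
  have hab : ∀ a ∈ Subgroup.zpowers x, ∀ b ∈ Subgroup.zpowers x, a * b = b * a := by
    intro a ha b hb
    obtain ⟨i, rfl⟩ := Subgroup.mem_zpowers_iff.1 ha
    obtain ⟨j, rfl⟩ := Subgroup.mem_zpowers_iff.1 hb
    rw [← zpow_add, ← zpow_add, add_comm]
  have hKcard : Nat.card (Subgroup.zpowers x) = p := by rw [Nat.card_zpowers, hox]
  have hlt : Subgroup.zpowers x < Subgroup.normalizer ((Subgroup.zpowers x : Subgroup L) : Set L) := by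
    obtain ⟨n, hn1, hn2⟩ := hN
    refine lt_of_le_of_ne Subgroup.le_normalizer ?_
    intro heq
    apply hn2
    rw [heq]
    exact mem_normalizer_of_conj_mem x hn1
  have : Fintype (Subgroup.normalizer ((Subgroup.zpowers x : Subgroup L) : Set L)) :=
    Fintype.ofFinite _
  have : Fintype (IrrCharacter (Subgroup.normalizer ((Subgroup.zpowers x : Subgroup L) : Set L))) :=
    Fintype.ofFinite _
  obtain ⟨ε, f, hε, hfinj, hind⟩ := hFT.exists_exceptional hlt hab
  -- vanishing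
  have hvθ : ∀ y ∈ Subgroup.zpowers x, y ≠ 1 → permCh L Ω y = 0 :=
    fun y hy hy1 => permCh_eq_zero_of_mem hp x hox hfpf hy hy1
  have hvχ : ∀ y ∈ Subgroup.zpowers x, y ≠ 1 → χ₁ y = 0 :=
    fun y hy hy1 => chi_one_eq_zero_of_mem x hox χ₁ hD.van₁ hy hy1
  have hθ1 : permCh L Ω 1 = 2 * (p : ℂ) := by
    unfold permCh
    have : MulAction.fixedBy Ω (1 : L) = Set.univ := by
      ext a
      simp
    rw [this, Nat.card_coe_set_eq, Set.ncard_univ, Nat.card_eq_fintype_card, hΩ]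
    push_cast
    ring
  -- restriction to the normaliser
  set res : (L → ℂ) → (NZ x → ℂ) := fun g n => g n with hres
  -- (i) each relevant character occurs in exactly one member of `X`
  have hsum1 : ∀ Λ : TZ x, ∑ ψ ∈ X, classInner (Λ.1 : NZ x → ℂ) (res (ψ : L → ℂ)) = 1 := by
    intro Λ
    have h1 := classInner_rel_restrict hFT hab Λ.1.2 Λ.2 (permCh L Ω) permCh_isClassFunction hvθ
    have h2 := classInner_rel_restrict hFT hab Λ.1.2 Λ.2 χ₁
      (isClassFunction_of_isCharacter (isCharacter_of_irr hD.irr₁)) hvχ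
    rw [hKcard, hθ1] at h1
    rw [hKcard, hD.deg₁] at h2
    have h3 : classInner (Λ.1 : NZ x → ℂ) (1 : NZ x → ℂ) = 0 := by
      apply irr_classInner_ne Λ.1.2 isIrrCharacter_one
      intro h
      obtain ⟨k, -, hk⟩ := Λ.2
      apply hk
      rw [h]
      rfl
    have hdec : res (permCh L Ω) = (1 : NZ x → ℂ) + res χ₁ + ∑ ψ ∈ X, res (ψ : L → ℂ) := by
      funext n
      rw [hres]
      simp only [Pi.add_apply, Pi.one_apply, Finset.sum_apply]
      rw [hD.eq]
    have h4 : classInner (Λ.1 : NZ x → ℂ) (res (permCh L Ω)) =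
        classInner (Λ.1 : NZ x → ℂ) (1 : NZ x → ℂ) + classInner (Λ.1 : NZ x → ℂ) (res χ₁) +
          ∑ ψ ∈ X, classInner (Λ.1 : NZ x → ℂ) (res (ψ : L → ℂ)) := by
      rw [hdec, classInner_add_right, classInner_add_right, classInner_sum_right]
    have h1' : classInner (Λ.1 : NZ x → ℂ) (res (permCh L Ω)) = 2 := by
      rw [hres]
      rw [h1]
      simp only [map_mul, map_ofNat, Complex.conj_natCast]
      field_simp
    have h2' : classInner (Λ.1 : NZ x → ℂ) (res χ₁) = 1 := by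
      rw [hres]
      rw [h2]
      simp only [Complex.conj_natCast]
      field_simp
    rw [h1', h3, h2'] at h4
    linear_combination -h4
  -- natural coefficients
  have hresch : ∀ ψ : IrrCharacter L, IsCharacter (NZ x) (res (ψ : L → ℂ)) :=
    fun ψ => isCharacter_restrict (NZ x) (isCharacter_of_irr ψ.2)
  choose A hA using fun (ψ : IrrCharacter L) (Λ : TZ x) =>
    classInner_irr_char_nat (hresch ψ) Λ.1.2
  choose B hB using fun (ψ : IrrCharacter L) (ζ : IrrCharacter (NZ x)) =>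
    classInner_char_irr_nat (hresch ψ) ζ.2
  have hAB : ∀ ψ (Λ : TZ x), B ψ Λ.1 = A ψ Λ := by
    intro ψ Λ
    have h1 := classInner_conj_symm (res (ψ : L → ℂ)) (Λ.1 : NZ x → ℂ)
    rw [hB, hA, Complex.conj_natCast] at h1
    exact_mod_cast h1
  -- (i) in natural numbers
  have h1nat : ∀ Λ : TZ x, ∑ ψ ∈ X, A ψ Λ = 1 := by
    intro Λ
    have := hsum1 Λ
    simp only [hA] at this
    exact_mod_cast this
  -- (iii)
  have h3int : ∀ (ψ : IrrCharacter L) (Λ Λ' : TZ x), (A ψ Λ : ℂ) - A ψ Λ' =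
      ε * ((if f Λ = ψ then 1 else 0) - (if f Λ' = ψ then 1 else 0)) := by
    intro ψ Λ Λ'
    have h : classInner (indFun (NZ x) ((Λ.1 : NZ x → ℂ) - (Λ'.1 : NZ x → ℂ))) (ψ : L → ℂ) =
        classInner (ε • ((f Λ : L → ℂ) - (f Λ' : L → ℂ))) (ψ : L → ℂ) := by
      rw [hind Λ Λ']
    rw [frobenius_reciprocity (NZ x) _ _ (Cfsg.Agent.Lib.H24.isClassFunction_irr ψ),
      classInner_sub_left, classInner_smul_left, classInner_sub_left] at h
    have e1 : classInner (Λ.1 : NZ x → ℂ) (fun h : NZ x => (ψ : L → ℂ) h) = A ψ Λ := hA ψ Λ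
    have e2 : classInner (Λ'.1 : NZ x → ℂ) (fun h : NZ x => (ψ : L → ℂ) h) = A ψ Λ' := hA ψ Λ'
    rw [e1, e2] at h
    rw [h]
    have e3 : ∀ Λ₀ : TZ x, classInner (f Λ₀ : L → ℂ) (ψ : L → ℂ) = if f Λ₀ = ψ then 1 else 0 := by
      intro Λ₀
      by_cases hc : f Λ₀ = ψ
      · rw [if_pos hc, hc]
        exact irr_classInner_self ψ.2
      · rw [if_neg hc]
        apply irr_classInner_ne (f Λ₀).2 ψ.2
        intro h'
        exact hc (Subtype.ext h')
    rw [e3, e3]
  -- expansion of the restrictions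
  have hval : ∀ (ψ : IrrCharacter L) (n : NZ x), (ψ : L → ℂ) n =
      ∑ ζ : IrrCharacter (NZ x), (B ψ ζ : ℂ) * (ζ : NZ x → ℂ) n := by
    intro ψ n
    have hexp := Cfsg.Agent.Lib.H24.classFunction_expansion (res (ψ : L → ℂ))
      (isClassFunction_of_isCharacter (hresch ψ))
    have := congrFun hexp n
    simp only [Finset.sum_apply, Pi.smul_apply, smul_eq_mul, hB] at this
    exact this
  -- (pos)
  have hpos : ∀ ψ ∈ X, ∃ Λ : TZ x, A ψ Λ ≠ 0 := by
    intro ψ hψ
    by_contra hcon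
    push Not at hcon
    have hconst : ∀ n : NZ x, (n : L) ∈ Subgroup.zpowers x → (ψ : L → ℂ) n = (ψ : L → ℂ) 1 := by
      intro n hn
      have h1 := hval ψ n
      have h2 := hval ψ 1
      rw [h1]
      have h2' : (ψ : L → ℂ) 1 = ∑ ζ : IrrCharacter (NZ x), (B ψ ζ : ℂ) * (ζ : NZ x → ℂ) 1 := h2
      rw [h2']
      apply Finset.sum_congr rfl
      intro ζ _
      by_cases hrel : FrobTI.Rel (Subgroup.zpowers x) (ζ : NZ x → ℂ)
      · have : B ψ ζ = 0 := by
          have := hAB ψ ⟨ζ, hrel⟩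
          rw [hcon] at this
          exact this
        rw [this]
        simp
      · rw [FrobTI.not_rel_apply hrel n hn]
    have hsum := hD.sumP ψ hψ
    have hall : ∀ k ∈ Finset.range p, (ψ : L → ℂ) (x ^ k) = (ψ : L → ℂ) 1 := by
      intro k _
      have hmem : x ^ k ∈ NZ x := Subgroup.le_normalizer (Subgroup.pow_mem _ (Subgroup.mem_zpowers x) k)
      exact hconst ⟨x ^ k, hmem⟩ (Subgroup.pow_mem _ (Subgroup.mem_zpowers x) k)
    rw [Finset.sum_congr rfl hall, Finset.sum_const, Finset.card_range, nsmul_eq_mul] at hsum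
    rcases mul_eq_zero.1 hsum with h | h
    · exact hp0 h
    · exact Cfsg.Agent.Lib.H24.irr_one_ne_zero ψ h
  -- the combinatorial core
  have hεint : ∃ εi : ℤ, (εi = 1 ∨ εi = -1) ∧ ε = (εi : ℂ) := by
    rcases hε with rfl | rfl
    · exact ⟨1, Or.inl rfl, by simp⟩
    · exact ⟨-1, Or.inr rfl, by simp⟩
  obtain ⟨εi, hεi, rfl⟩ := hεint
  have h3' : ∀ (ψ : IrrCharacter L) (Λ Λ' : TZ x), (A ψ Λ : ℤ) - A ψ Λ' =
      εi * ((if f Λ = ψ then 1 else 0) - (if f Λ' = ψ then 1 else 0)) := by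
    intro ψ Λ Λ'
    have := h3int ψ Λ Λ'
    have hc : (((A ψ Λ : ℤ) - A ψ Λ' : ℤ) : ℂ) =
        ((εi * ((if f Λ = ψ then 1 else 0) - (if f Λ' = ψ then 1 else 0)) : ℤ) : ℂ) := by
      push_cast
      rw [this]
    exact_mod_cast hc
  have : Fintype (TZ x) := Fintype.ofFinite _
  have hm := comb_core X A f hfinj εi hεi h1nat h3' hpos hX
  -- `|X| = |T|`
  have hXT : X.card = Fintype.card (TZ x) := by
    have h1 : ∑ ψ ∈ X, ∑ Λ : TZ x, A ψ Λ = X.card := by
      rw [Finset.sum_congr rfl hm]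
      simp
    have h2 : ∑ ψ ∈ X, ∑ Λ : TZ x, A ψ Λ = Fintype.card (TZ x) := by
      rw [Finset.sum_comm, Finset.sum_congr rfl (fun Λ _ => h1nat Λ)]
      simp
    rw [← h1, h2]
  -- the index of `⟨x⟩` in its normaliser
  have hpe : 0 < p * e := by
    rw [← he]
    exact Nat.card_pos
  have he0 : 0 < e := Nat.pos_of_mul_pos_left hpe
  have hidx : ((Subgroup.zpowers x).subgroupOf (NZ x)).index = e := by
    have h1 := Subgroup.card_mul_index ((Subgroup.zpowers x).subgroupOf (NZ x))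
    have hcard : Nat.card ((Subgroup.zpowers x).subgroupOf (NZ x)) = p := by
      rw [← hKcard]
      exact Nat.card_congr (Subgroup.subgroupOfEquivOfLe Subgroup.le_normalizer).toEquiv
    rw [hcard, he] at h1
    exact Nat.eq_of_mul_eq_mul_left hp.pos h1
  have hdegrel : ∀ ζ : IrrCharacter (NZ x), FrobTI.Rel (Subgroup.zpowers x) (ζ : NZ x → ℂ) →
      (ζ : NZ x → ℂ) 1 = (e : ℂ) := by
    intro ζ hrel
    rw [hFT.rel_degree hab ζ.2 hrel, hidx]
  -- the number of relevant characters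
  have hcount : Fintype.card (TZ x) * e + 1 = p := by
    have h1 := FrobTI.sum_rel_sq (K := Subgroup.zpowers x)
    rw [Finset.sum_congr rfl (fun ζ hζ => by
      rw [hdegrel ζ (Finset.mem_filter.1 hζ).2]), Finset.sum_const, nsmul_eq_mul, hidx, he] at h1
    have h2 : (Finset.univ.filter (fun ζ : IrrCharacter (NZ x) =>
        FrobTI.Rel (Subgroup.zpowers x) (ζ : NZ x → ℂ))).card = Fintype.card (TZ x) := by
      rw [Fintype.card_subtype]
      apply congrArg Finset.card
      ext ζ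
      simp only [Finset.mem_filter, Finset.mem_univ, true_and]
      rfl
    rw [h2] at h1
    have h3 : (Fintype.card (TZ x) * e + 1) * e = p * e := by
      have : ((Fintype.card (TZ x) * e + 1) * e : ℂ) = (p * e : ℂ) := by
        push_cast at h1 ⊢
        linear_combination h1
      exact_mod_cast this
    exact Nat.eq_of_mul_eq_mul_right he0 h3
  -- degrees
  choose d hd0 hd using fun ψ : IrrCharacter L => Cfsg.Agent.Lib.H24.irr_one_eq ψ
  have hdge : ∀ ψ ∈ X, e ≤ d ψ := by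
    intro ψ hψ
    obtain ⟨Λ, hΛ⟩ := hpos ψ hψ
    have hne : classInner (res (ψ : L → ℂ)) (Λ.1 : NZ x → ℂ) ≠ 0 := by
      rw [hB, hAB]
      exact_mod_cast hΛ
    obtain ⟨a, b, ha, hb, hab'⟩ := degree_le_of_classInner_ne_zero Λ.1.2 (hresch ψ) hne
    have ha' : a = e := by
      have := hdegrel Λ.1 Λ.2
      rw [ha] at this
      exact_mod_cast this
    have hb' : b = d ψ := by
      have h1 : res (ψ : L → ℂ) 1 = (ψ : L → ℂ) 1 := rfl
      rw [h1, hd ψ] at hb
      exact_mod_cast hb.symm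
    omega
  have hsumd : ∑ ψ ∈ X, d ψ + 1 = p := by
    have h1 := congrFun hD.eq 1
    rw [hθ1, hD.deg₁] at h1
    have h2 : ∑ ψ ∈ X, (ψ : L → ℂ) 1 = ((∑ ψ ∈ X, d ψ : ℕ) : ℂ) := by
      push_cast
      exact Finset.sum_congr rfl (fun ψ _ => hd ψ)
    rw [h2] at h1
    have : ((∑ ψ ∈ X, d ψ + 1 : ℕ) : ℂ) = (p : ℂ) := by
      push_cast at h1 ⊢
      linear_combination -h1
    exact_mod_cast this
  have hsumeq : ∑ ψ ∈ X, e = ∑ ψ ∈ X, d ψ := by
    rw [Finset.sum_const, smul_eq_mul, hXT]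
    omega
  have hall := (Finset.sum_eq_sum_iff_of_le hdge).1 hsumeq
  intro ψ hψ
  rw [hd ψ, ← hall ψ hψ]

end main

end Cfsg.Agent.Lib.H22.W2P
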