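import Mathlib
import Cfsg.Agent.Lib.H25.ZasE4a

/-!
# Zassenhaus, H-level: block E8 (`8 ≤ n`): `C_{K_t}(u) = 1`
-/

set_option autoImplicit false
set_option linter.style.haveILetI false

namespace Cfsg.Agent.Lib.H25.Zas

open Subgroup

section frame

variable {H : Type*} [Group H] [Finite H] {S : Sylow 2 H} {t : H} {A : Subgroup H} {n : ℕ}

/-- an element of a 2-subgroup and of a subgroup of odd order is trivial -/
theorem eq_one_of_mem_two_of_mem_odd {P Z : Subgroup H} (hP : IsPGroup 2 P)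
    (hZ : Odd (Nat.card Z)) {z : H} (h1 : z ∈ P) (h2 : z ∈ Z) : z = 1 := by
  obtain ⟨k, hk⟩ := hP ⟨z, h1⟩
  have hk' : z ^ (2 ^ k) = 1 := by
    have := congrArg Subtype.val hk
    simpa using this
  have d1 : orderOf z ∣ 2 ^ k := orderOf_dvd_of_pow_eq_one hk'
  have d2 : orderOf z ∣ Nat.card Z := Subgroup.orderOf_dvd_natCard Z h2
  have hcop : Nat.Coprime (2 ^ k) (Nat.card Z) := Nat.Coprime.pow_left k hZ.coprime_two_left
  have := Nat.eq_one_of_dvd_coprimes hcop d1 d2
  exact orderOf_eq_one_iff.mp this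

/-- in a frame with `8 ∣ n` there is `x ∈ A` with `x ^ 4 = t` -/
theorem DFrame.exists_pow_four (F : DFrame S t A n) (h8 : 8 ∣ n) (hn : 0 < n) :
    ∃ x ∈ A, x * x * (x * x) = t := by
  haveI := F.hAc
  obtain ⟨g, hg⟩ := IsCyclic.exists_generator (α := A)
  have h3 : orderOf g = n := by
    rw [orderOf_eq_card_of_forall_mem_zpowers hg, F.cardA]
  obtain ⟨m, hm⟩ := h8
  refine ⟨((g ^ m : A) : H), (g ^ m : A).2, ?_⟩
  have h4 : ((g ^ m : A) : H) * ((g ^ m : A) : H) * (((g ^ m : A) : H) * ((g ^ m : A) : H))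
      = ((g ^ (4 * m) : A) : H) := by
    have : (g ^ (4 * m) : A) = g ^ m * g ^ m * (g ^ m * g ^ m) := by
      rw [← pow_add, ← pow_add]
      congr 1
      ring
    rw [this]
    rfl
  rw [h4]
  apply F.eq_of_mem_of_sq (g ^ (4 * m) : A).2
  · have h5 : (g ^ (4 * m) : A) * (g ^ (4 * m) : A) = 1 := by
      rw [← pow_add]
      have : 4 * m + 4 * m = orderOf g := by rw [h3, hm]; ring
      rw [this, pow_orderOf_eq_one]
    have := congrArg Subtype.val h5
    simpa using this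
  · intro h1
    have h5 : (g ^ (4 * m) : A) = 1 := Subtype.ext h1
    have h6 := orderOf_dvd_of_pow_eq_one h5
    rw [h3, hm] at h6
    have := Nat.le_of_dvd (by omega) h6
    omega

/-- if an element `v` of `S` outside `A` lies in a subgroup `Q` normalized by `A`, then `Q`
contains the squares of `A` -/
theorem DFrame.sq_mem_of_out (F : DFrame S t A n) {N Q : Subgroup H} (hnQ : NormBy N Q)
    (hAN : A ≤ N) {v : H} (hvS : v ∈ (S : Subgroup H)) (hvA : v ∉ A) (hvQ : v ∈ Q) {x : H}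
    (hx : x ∈ A) : x * x ∈ Q := by
  have h1 := (F.hout v hvS hvA).2 x⁻¹ (A.inv_mem hx)
  rw [inv_inv] at h1
  have h2 : x * v * x⁻¹ ∈ Q := hnQ x (hAN hx) v hvQ
  have h3 : x * v * x⁻¹ * v⁻¹ ∈ Q := Q.mul_mem h2 (Q.inv_mem hvQ)
  have e : x * v * x⁻¹ * v⁻¹ = x * x := by
    calc x * v * x⁻¹ * v⁻¹ = x * (v * x⁻¹ * v⁻¹) := by group
      _ = x * x := by rw [h1]
  rwa [e] at h3

/-- a nontrivial subgroup of `A` contains `t` -/
theorem DFrame.mem_of_ne_one (F : DFrame S t A n) {Q : Subgroup H} {q : H} (hqA : q ∈ A)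
    (hqQ : q ∈ Q) (hq1 : q ≠ 1) : t ∈ Q := by
  haveI : Fact (Nat.Prime 2) := ⟨Nat.prime_two⟩
  obtain ⟨k, hk⟩ := (IsPGroup.iff_orderOf.mp S.isPGroup') ⟨q, F.hAS hqA⟩
  rw [Subgroup.orderOf_mk] at hk
  rcases k with _ | k
  · exfalso
    rw [pow_zero, orderOf_eq_one_iff] at hk
    exact hq1 hk
  · have hw : q ^ (2 ^ k) * q ^ (2 ^ k) = 1 := by
      rw [← pow_add]
      have : 2 ^ k + 2 ^ k = orderOf q := by rw [hk, pow_succ]; ring
      rw [this, pow_orderOf_eq_one]
    have hw1 : q ^ (2 ^ k) ≠ 1 := by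
      apply pow_ne_one_of_lt_orderOf (by positivity)
      rw [hk, pow_succ]
      have : 0 < 2 ^ k := by positivity
      omega
    have := F.eq_of_mem_of_sq (A.pow_mem hqA _) hw hw1
    rw [← this]
    exact Q.pow_mem hqQ _

end frame

namespace HCtx

variable {H : Type*} [Group H] [Finite H] {n : ℕ} (h : HCtx H n)

include h

/-- `n` is a power of two, so `8 ≤ n` gives `8 ∣ n` -/
theorem eight_dvd (hn : 8 ≤ n) : 8 ∣ n := by
  haveI : Fact (Nat.Prime 2) := ⟨Nat.prime_two⟩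
  obtain ⟨S⟩ : Nonempty (Sylow 2 H) := inferInstance
  have hc := h.dih.card_sylow S
  obtain ⟨k, hk⟩ := S.isPGroup'.exists_card_eq
  rw [hc] at hk
  have hk4 : 4 ≤ k := by
    by_contra hlt
    push Not at hlt
    have : 2 ^ k ≤ 2 ^ 3 := Nat.pow_le_pow_right (by norm_num) (by omega)
    omega
  obtain ⟨j, rfl⟩ : ∃ j, k = j + 4 := ⟨k - 4, by omega⟩
  refine ⟨2 ^ j, ?_⟩
  have : 2 ^ (j + 4) = 16 * 2 ^ j := by rw [pow_add]; ring
  omega

/-- block E8 for elements of prime order: distinct involutions `t ≠ u` have no common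
element of prime order in `K_t ∩ C_H(u)` when `8 ≤ n` -/
theorem part_E_big_prime (hn : 8 ≤ n) {t u : H}
    (ht : orderOf t = 2) (hu : orderOf u = 2) (hne : t ≠ u)
    {y : H} (hy : y ∈ Kc t) (hyu : u * y = y * u) (hp : (orderOf y).Prime) : False := by
  have h8 := h.eight_dvd hn
  have hyodd : Odd (orderOf y) := ((h.mem_Kc_iff ht).mp hy).2
  have hyKu : y ∈ Kc u := (h.mem_Kc_iff hu).mpr ⟨hyu.symm, hyodd⟩
  have hy1 : y ≠ 1 := by
    intro h1
    rw [h1, orderOf_one] at hp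
    exact Nat.not_prime_one hp
  have hNtop := h.normalizer_zpowers_ne_top hy1 hyodd
  have hCt := h.centralizer_le_normalizer_zpowers ht hy hp
  have hCu := h.centralizer_le_normalizer_zpowers hu hyKu hp
  obtain ⟨S, A, F⟩ := h.exists_frame ht
  obtain ⟨S', A', F'⟩ := h.exists_frame hu
  have hSN : (S : Subgroup H) ≤ normalizer ((zpowers y : Subgroup H) : Set H) :=
    fun s hs => hCt (mem_centralizer_singleton_iff.mpr (F.htZ s hs))
  have hS'N : (S' : Subgroup H) ≤ normalizer ((zpowers y : Subgroup H) : Set H) :=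
    fun s hs => hCu (mem_centralizer_singleton_iff.mpr (F'.htZ s hs))
  obtain ⟨g, hgN, hg⟩ := exists_conj_sylow_of_le _ S S' hSN hS'N
  -- `g t g⁻¹ = u`
  have hgt : g * t * g⁻¹ = u := by
    apply F'.central_unique (by omega)
    · rw [Cfsg.Agent.Lib.H4.DihBSW.orderOf_conj' g t]; exact ht
    · exact (hg t).mp F.htS
    · intro s hs
      have hs0 : g⁻¹ * s * g ∈ (S : Subgroup H) := by
        rw [hg]
        have e : g * (g⁻¹ * s * g) * g⁻¹ = s := by group
        rw [e]; exact hs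
      have hc := F.htZ _ hs0
      calc s * (g * t * g⁻¹) = g * ((g⁻¹ * s * g) * t) * g⁻¹ := by group
        _ = g * (t * (g⁻¹ * s * g)) * g⁻¹ := by rw [hc]
        _ = g * t * g⁻¹ * s := by group
  have h16 : 16 ∣ Nat.card (normalizer ((zpowers y : Subgroup H) : Set H)) := by
    have h1 : Nat.card (S : Subgroup H) ∣ Nat.card (normalizer ((zpowers y : Subgroup H) : Set H)) :=
      Subgroup.card_dvd_of_le hSN
    rw [F.cardS] at h1
    obtain ⟨m, hm⟩ := h8
    exact dvd_trans ⟨m, by rw [hm]; ring⟩ h1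
  by_cases hsolv : Group.IsSolvable (normalizer ((zpowers y : Subgroup H) : Set H))
  swap
  · obtain ⟨L, C, -, -, -, -, -, -, -, -, hCodd, -, hcard, -⟩ :=
      nonsolvable_structure h.dih h.oddFPF h.hyp.perf _ hNtop hsolv
    obtain ⟨c, hc⟩ := hCodd
    obtain ⟨d, hd⟩ := h16
    rcases hcard with h1 | h1
    · rw [h1, hc] at hd; omega
    · rw [h1, hc] at hd; omega
  obtain ⟨Q, Z, hQN, hZN, hnQ, hnZ, hQ2, hZodd, hZc, hQZ, hkey, hQmax, hZmax⟩ :=
    sol_structure_sub h.oddFPF _ hsolv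
  have hQS : Q ≤ (S : Subgroup H) := le_sylow_of_normBy _ Q hQN hnQ hQ2 S hSN
  obtain ⟨x, hxA, hx4⟩ := F.exists_pow_four h8 (by omega)
  obtain ⟨v, hvS, hvA⟩ := F.exists_out
  have hAN : A ≤ normalizer ((zpowers y : Subgroup H) : Set H) := le_trans F.hAS hSN
  have ht1 := F.ht1
  have ht2 := F.ht2
  by_cases hQ : Q = ⊥
  · -- `S` would be abelian
    have hcomm : ∀ a ∈ (S : Subgroup H), ∀ b ∈ (S : Subgroup H), a * b * a⁻¹ * b⁻¹ = 1 := by
      intro a ha b hb
      have h1 := commutator_mem_centralizer_of_cyclic Z hZc (hnZ.le_normalizer (hSN ha))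
        (hnZ.le_normalizer (hSN hb))
      have h2 : a * b * a⁻¹ * b⁻¹ ∈ normalizer ((zpowers y : Subgroup H) : Set H) :=
        Subgroup.mul_mem _ (Subgroup.mul_mem _ (Subgroup.mul_mem _ (hSN ha) (hSN hb))
          (Subgroup.inv_mem _ (hSN ha))) (Subgroup.inv_mem _ (hSN hb))
      have h3 : a * b * a⁻¹ * b⁻¹ ∈ Q ⊔ Z := by
        apply hkey _ h2
        · intro q hq
          rw [hQ, mem_bot] at hq
          rw [hq]; simp
        · intro z hz
          exact (mem_centralizer_iff.mp h1 z hz).symm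
      rw [hQ, bot_sup_eq] at h3
      have h4 : a * b * a⁻¹ * b⁻¹ ∈ (S : Subgroup H) :=
        Subgroup.mul_mem _ (Subgroup.mul_mem _ (Subgroup.mul_mem _ ha hb)
          (Subgroup.inv_mem _ ha)) (Subgroup.inv_mem _ hb)
      exact eq_one_of_mem_two_of_mem_odd S.isPGroup' hZodd h4 h3
    have h1 := hcomm v hvS x (F.hAS hxA)
    have h2 := (F.hout v hvS hvA).2 x hxA
    have h3 : x⁻¹ * x⁻¹ = 1 := by
      calc x⁻¹ * x⁻¹ = (v * x * v⁻¹) * x⁻¹ := by rw [h2]
        _ = 1 := h1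
    have h4 : x * x = 1 := by
      have := congrArg (fun w => w⁻¹) h3
      simpa using this
    rw [h4, one_mul] at hx4
    exact ht1 hx4.symm
  · -- `t ∈ Q`
    obtain ⟨⟨q, hqQ⟩, hq⟩ := Subgroup.ne_bot_iff_exists_ne_one.mp hQ
    have hq1 : q ≠ 1 := fun h1 => hq (Subtype.ext h1)
    have htQ : t ∈ Q := by
      by_cases hqA : q ∈ A
      · exact F.mem_of_ne_one hqA hqQ hq1
      · have h1 := F.sq_mem_of_out hnQ hAN (hQS hqQ) hqA hqQ hxA
        rw [← hx4]
        exact Q.mul_mem h1 h1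
    have huQ : u ∈ Q := by
      rw [← hgt]
      exact hnQ g hgN t htQ
    have hu2 : u * u = 1 := F'.ht2
    have hu1 : u ≠ 1 := F'.ht1
    have huA : u ∉ A := fun huA => hne (F.eq_of_mem_of_sq huA hu2 hu1).symm
    have hzQ : x * x ∈ Q := F.sq_mem_of_out hnQ hAN (hQS huQ) huA huQ hxA
    -- every element of `N` centralizes `t`
    have hcent : ∀ g' ∈ normalizer ((zpowers y : Subgroup H) : Set H), g' * t * g'⁻¹ = t := by
      intro g' hg'
      have h1 : g' * (x * x) * g'⁻¹ ∈ Q := hnQ g' hg' _ hzQ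
      have h2 : g' * (x * x) * g'⁻¹ * (g' * (x * x) * g'⁻¹) = g' * t * g'⁻¹ := by
        rw [← hx4]; group
      have h3 : g' * t * g'⁻¹ ≠ 1 := by
        intro h4
        apply ht1
        calc t = g'⁻¹ * (g' * t * g'⁻¹) * g' := by group
          _ = 1 := by rw [h4]; group
      have h4 : g' * (x * x) * g'⁻¹ ∈ A := by
        by_contra hnA
        have := (F.hout _ (hQS h1) hnA).1
        rw [h2] at this
        exact h3 this
      have h5 : g' * t * g'⁻¹ ∈ A := by
        rw [← h2]; exact A.mul_mem h4 h4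
      have h6 : g' * t * g'⁻¹ * (g' * t * g'⁻¹) = 1 := by
        calc g' * t * g'⁻¹ * (g' * t * g'⁻¹) = g' * (t * t) * g'⁻¹ := by group
          _ = 1 := by rw [ht2]; group
      exact F.eq_of_mem_of_sq h5 h6 h3
    have := hcent g hgN
    rw [hgt] at this
    exact hne this.symm

set_option linter.unusedVariables false in
/-- BLOCK E8: for `8 ≤ n`, `C_{K_t}(u) = 1` -/
theorem part_E_big (hn : 8 ≤ n) (t u : H)
    (ht : orderOf t = 2) (hu : orderOf u = 2) (htu : t * u = u * t) (hne : t ≠ u) :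
    ∀ y ∈ Kc t, u * y = y * u → y = 1 := by
  intro y hy hyu
  by_contra hy1
  have ho : orderOf y ≠ 1 := fun h1 => hy1 (orderOf_eq_one_iff.mp h1)
  obtain ⟨p, hp, hpd⟩ := Nat.exists_prime_and_dvd ho
  have hpos : orderOf y ≠ 0 := (orderOf_pos y).ne'
  have h1 := orderOf_pow_orderOf_div hpos hpd
  have hc : Commute u y := hyu
  exact h.part_E_big_prime hn ht hu hne ((Kc t).pow_mem hy (orderOf y / p))
    (hc.pow_right _).eq (by rw [h1]; exact hp)

end HCtx

end Cfsg.Agent.Lib.H25.Zas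

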