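import Mathlib
import Cfsg.Agent.Lib.H25.ZasE4a

/-!
# Zassenhaus, H-level, block F (helper22), part 1: general lemmas

Lemmas used for `HCtx.part_F`: uniqueness of subgroups of prime order inside odd order subgroups,
normalizers of cyclic subgroups of prime order are solvable (given the inversion hypothesis `hB`),
normal 2-subgroups lie in Sylow 2-subgroups.
-/

set_option autoImplicit false
set_option linter.style.haveILetI false

namespace Cfsg.Agent.Lib.H25.Zas

open Subgroup

section general

variable {H : Type*} [Group H]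

/-- criterion for membership in the normalizer of a cyclic subgroup -/
theorem mem_normalizer_zpowers {g y : H} (h1 : g * y * g⁻¹ ∈ zpowers y)
    (h2 : g⁻¹ * y * g ∈ zpowers y) : g ∈ normalizer ((zpowers y : Subgroup H) : Set H) := by
  rw [mem_normalizer_iff]
  intro x
  constructor
  · intro hx
    obtain ⟨k, rfl⟩ := mem_zpowers_iff.mp hx
    have : g * y ^ k * g⁻¹ = (g * y * g⁻¹) ^ k := by
      rw [conj_zpow]
    rw [this]
    exact (zpowers y).zpow_mem h1 k
  · intro hx
    obtain ⟨k, hk⟩ := mem_zpowers_iff.mp hx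
    have : x = (g⁻¹ * y * g) ^ k := by
      have e : (g⁻¹ * y * g) ^ k = g⁻¹ * y ^ k * g := by
        have := conj_zpow (a := g⁻¹) (b := y) (i := k)
        rw [inv_inv] at this
        exact this
      rw [e, hk]; group
    rw [this]
    exact (zpowers y).zpow_mem h2 k

/-- an element of odd order which is its own inverse is trivial -/
theorem eq_one_of_odd_of_eq_inv {y : H} (hodd : Odd (orderOf y)) (h : y = y⁻¹) : y = 1 := by
  have h2 : y ^ 2 = 1 := by
    rw [pow_two]
    nth_rewrite 2 [h]
    exact mul_inv_cancel y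
  have h3 : orderOf y ∣ 2 := orderOf_dvd_of_pow_eq_one h2
  have h4 : orderOf y = 1 := by
    rcases (Nat.dvd_prime Nat.prime_two).mp h3 with h5 | h5
    · exact h5
    · rw [h5] at hodd; exact absurd hodd (by decide)
  exact orderOf_eq_one_iff.mp h4

/-- an element commuting with and inverted by `u` is trivial if it has odd order -/
theorem eq_one_of_commute_of_inverted {u y : H} (hodd : Odd (orderOf y)) (hc : u * y = y * u)
    (hi : u * y * u⁻¹ = y⁻¹) : y = 1 := by
  apply eq_one_of_odd_of_eq_inv hodd
  rw [← hi, hc, mul_inv_cancel_right]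

end general

section finite

variable {H : Type*} [Group H] [Finite H]

/-- inside a subgroup of odd order, a conjugate of an element of prime order which stays in the
subgroup lies in the cyclic group generated by the element -/
theorem OddFPF.conj_mem_zpowers (hH : OddFPF H) (R : Subgroup H) (hR : Odd (Nat.card R))
    {p : ℕ} (hp : p.Prime) {y z : H} (hy : y ∈ R) (hz : z ∈ R) (hyo : orderOf y = p)
    (hzo : orderOf z = p) : z ∈ zpowers y := by
  have hf := hH R hR
  have h1 : orderOf (⟨y, hy⟩ : R) = p := by rw [Subgroup.orderOf_mk]; exact hyo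
  have h2 : orderOf (⟨z, hz⟩ : R) = p := by rw [Subgroup.orderOf_mk]; exact hzo
  have h3 := hf.zpowers_eq_of_orderOf_eq hR hp h1 h2
  have h4 : (⟨z, hz⟩ : R) ∈ zpowers (⟨y, hy⟩ : R) := by
    rw [h3]; exact mem_zpowers _
  obtain ⟨k, hk⟩ := mem_zpowers_iff.mp h4
  rw [mem_zpowers_iff]
  refine ⟨k, ?_⟩
  have := congrArg Subtype.val hk
  simpa using this

/-- an element `g` such that both `g y g⁻¹` and `g⁻¹ y g` lie in a subgroup `R` of odd order
containing the element `y` of prime order normalizes `⟨y⟩` -/
theorem OddFPF.mem_normalizer_zpowers (hH : OddFPF H) (R : Subgroup H) (hR : Odd (Nat.card R))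
    {p : ℕ} (hp : p.Prime) {y g : H} (hy : y ∈ R) (hyo : orderOf y = p)
    (h1 : g * y * g⁻¹ ∈ R) (h2 : g⁻¹ * y * g ∈ R) :
    g ∈ normalizer ((zpowers y : Subgroup H) : Set H) := by
  apply Cfsg.Agent.Lib.H25.Zas.mem_normalizer_zpowers
  · apply hH.conj_mem_zpowers R hR hp hy h1 hyo
    rw [← hyo]
    exact Cfsg.Agent.Lib.H4.DihBSW.orderOf_conj' g y
  · apply hH.conj_mem_zpowers R hR hp hy h2 hyo
    rw [← hyo]
    have := Cfsg.Agent.Lib.H4.DihBSW.orderOf_conj' g⁻¹ y
    rwa [inv_inv] at this

end finite

end Cfsg.Agent.Lib.H25.Zas
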