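import Mathlib
import Cfsg.Agent.Lib.H22.ZasF1

/-!
# Zassenhaus, H-level, block F (helper22), part 2: normalizers of subgroups of prime order are
solvable (given the inversion hypothesis of block E)
-/

set_option autoImplicit false
set_option linter.style.haveILetI false

namespace Cfsg.Agent.Lib.H25.Zas

open Subgroup Equiv
open scoped commutatorElement

/-- `A₅` is perfect -/
theorem commutator_A5 : commutator (alternatingGroup (Fin 5)) = ⊤ := by
  haveI : IsSimpleGroup (alternatingGroup (Fin 5)) := alternatingGroup.isSimpleGroup (by simp)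
  haveI hn : (commutator (alternatingGroup (Fin 5))).Normal := inferInstance
  rcases hn.eq_bot_or_eq_top with h | h
  · exfalso
    obtain ⟨τ₁, τ₂, h1, h2, -, -, -, -, -, -⟩ := a5_two_invs
    -- A5 is not abelian: use two explicit non-commuting elements
    have hab : ∀ a b : alternatingGroup (Fin 5), a * b = b * a := by
      intro a b
      have : ⁅a, b⁆ ∈ commutator (alternatingGroup (Fin 5)) := by
        rw [_root_.commutator_def]
        exact commutator_mem_commutator (mem_top a) (mem_top b)
      rw [h, mem_bot, commutatorElement_eq_one_iff_mul_comm] at this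
      exact this
    have hc := hab ⟨swap 0 1 * swap 1 2, by rw [Equiv.Perm.mem_alternatingGroup]; decide⟩
      ⟨swap 0 1 * swap 2 3, by rw [Equiv.Perm.mem_alternatingGroup]; decide⟩
    have := congrArg Subtype.val hc
    revert this
    decide
  · exact h

/-- a subgroup isomorphic to `A₅` is perfect -/
theorem commutator_eq_self_of_equiv_A5 {H : Type*} [Group H] (L : Subgroup H)
    (e : L ≃* alternatingGroup (Fin 5)) : ⁅L, L⁆ = L := by
  have h1 : commutator L = ⊤ := by
    apply Subgroup.map_injective (f := e.toMonoidHom) e.injective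
    rw [_root_.commutator_def, Subgroup.map_commutator,
      Subgroup.map_top_of_surjective _ e.surjective, ← _root_.commutator_def, commutator_A5]
  rw [← Subgroup.map_subtype_commutator, h1, ← MonoidHom.range_eq_map, Subgroup.range_subtype]

/-- a subgroup `L ≅ A₅` normalizing a cyclic subgroup centralizes it -/
theorem le_centralizer_of_equiv_A5 {H : Type*} [Group H] (L : Subgroup H)
    (e : L ≃* alternatingGroup (Fin 5)) (Z : Subgroup H) (hZ : IsCyclic Z)
    (hL : L ≤ normalizer (Z : Set H)) : L ≤ centralizer (Z : Set H) := by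
  rw [← commutator_eq_self_of_equiv_A5 L e, Subgroup.commutator_le]
  intro a ha b hb
  rw [commutatorElement_def]
  exact commutator_mem_centralizer_of_cyclic Z hZ (hL ha) (hL hb)

/-- two distinct commuting involutions in a subgroup isomorphic to `A₅` -/
theorem exists_two_invs_of_equiv_A5 {H : Type*} [Group H] (L : Subgroup H)
    (e : L ≃* alternatingGroup (Fin 5)) :
    ∃ x₁ ∈ L, ∃ x₂ ∈ L, orderOf x₁ = 2 ∧ orderOf x₂ = 2 ∧ x₁ * x₂ = x₂ * x₁ ∧ x₁ ≠ x₂ := by
  obtain ⟨τ₁, τ₂, s1, s2, q1, q2, n1, n2, hne, hc⟩ := a5_two_invs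
  set a₁ : alternatingGroup (Fin 5) := ⟨τ₁, Equiv.Perm.mem_alternatingGroup.mpr s1⟩ with ha₁
  set a₂ : alternatingGroup (Fin 5) := ⟨τ₂, Equiv.Perm.mem_alternatingGroup.mpr s2⟩ with ha₂
  have o1 : orderOf a₁ = 2 := by
    apply orderOf_eq_prime
    · rw [pow_two]; apply Subtype.ext; exact q1
    · intro h; exact n1 (congrArg Subtype.val h)
  have o2 : orderOf a₂ = 2 := by
    apply orderOf_eq_prime
    · rw [pow_two]; apply Subtype.ext; exact q2
    · intro h; exact n2 (congrArg Subtype.val h)
  refine ⟨(e.symm a₁ : H), (e.symm a₁).2, (e.symm a₂ : H), (e.symm a₂).2, ?_, ?_, ?_, ?_⟩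
  · rw [Subgroup.orderOf_coe, MulEquiv.orderOf_eq]; exact o1
  · rw [Subgroup.orderOf_coe, MulEquiv.orderOf_eq]; exact o2
  · have : e.symm a₁ * e.symm a₂ = e.symm a₂ * e.symm a₁ := by
      rw [← map_mul, ← map_mul]
      congr 1
      apply Subtype.ext
      exact hc
    exact congrArg Subtype.val this
  · intro h
    have h' : e.symm a₁ = e.symm a₂ := Subtype.ext h
    have := e.symm.injective h'
    exact hne (congrArg Subtype.val this)

namespace HCtx

variable {H : Type*} [Group H] [Finite H] {n : ℕ} (h : HCtx H n)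

include h

/-- there is an involution -/
theorem exists_inv : ∃ t : H, orderOf t = 2 := by
  haveI : Fact (Nat.Prime 2) := ⟨Nat.prime_two⟩
  obtain ⟨S⟩ : Nonempty (Sylow 2 H) := inferInstance
  obtain ⟨t, -, ht, -⟩ := h.exists_central_inv S
  exact ⟨t, ht⟩

/-- given the inversion property, the normalizer of a subgroup of odd prime order is solvable -/
theorem normalizer_zpowers_solvable
    (hB : ∀ t u : H, orderOf t = 2 → orderOf u = 2 → t * u = u * t → t ≠ u →
      ∀ y ∈ Kc t, u * y * u⁻¹ = y⁻¹)
    {y : H} {p : ℕ} (hp : p.Prime) (hp2 : Odd p) (hy : orderOf y = p) :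
    Group.IsSolvable (normalizer ((zpowers y : Subgroup H) : Set H)) := by
  by_contra hns
  have hy1 : y ≠ 1 := by
    intro h1
    rw [h1, orderOf_one] at hy
    exact hp.one_lt.ne hy
  have hN := h.normalizer_zpowers_ne_top hy1 (by rw [hy]; exact hp2)
  obtain ⟨L, C, hLN, -, -, -, ⟨eL⟩, -⟩ :=
    nonsolvable_structure h.dih h.oddFPF h.hyp.perf _ hN hns
  have hcyc : IsCyclic (zpowers y) := inferInstance
  have hLc := le_centralizer_of_equiv_A5 L eL (zpowers y) hcyc hLN
  obtain ⟨x₁, hx₁, x₂, hx₂, o1, o2, hc, hne⟩ := exists_two_invs_of_equiv_A5 L eL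
  have c1 : x₁ * y = y * x₁ := by
    have := mem_centralizer_iff.mp (hLc hx₁) y (mem_zpowers y)
    exact this.symm
  have c2 : x₂ * y = y * x₂ := by
    have := mem_centralizer_iff.mp (hLc hx₂) y (mem_zpowers y)
    exact this.symm
  have hyodd : Odd (orderOf y) := by rw [hy]; exact hp2
  have hyK : y ∈ Kc x₁ := (h.mem_Kc_iff o1).mpr ⟨c1.symm, hyodd⟩
  have hinv := hB x₁ x₂ o1 o2 hc hne y hyK
  have := eq_one_of_commute_of_inverted hyodd c2 hinv
  rw [this, orderOf_one] at hy
  exact hp.one_lt.ne hy

end HCtx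

end Cfsg.Agent.Lib.H25.Zas
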